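import Cfsg.Agent.Lib.Helper36.ChevHU

/-! # B ∩ V = 1 and UH ∩ VH = H (helper36) -/

set_option autoImplicit false

namespace Cfsg.Agent.Lib.Helper36

open Cfsg Cfsg.Lie

theorem Raises.of_isDiag {ι R : Type*} [Fintype ι] [DecidableEq ι] [CommRing R] {lv : ι → ℤ}
    {A : Matrix ι ι R} (hd : A.IsDiag) : Raises lv 0 A := by
  intro row col hne
  by_cases h : row = col
  · subst h; omega
  · exact absurd (hd h) hne

/-- uniqueness in the triangular decomposition: upper unitriangular times diagonal equal to lower unitriangular -/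
theorem lu_unique {ι R : Type*} [Fintype ι] [DecidableEq ι] [CommRing R] {lv : ι → ℤ}
    (U V Dg Dg' : Matrix ι ι R) (hu : Raises lv 1 (U - 1)) (hv : Raises (fun x => - lv x) 1 (V - 1))
    (hd : Dg.IsDiag) (hinv : Dg * Dg' = 1) (h : U * Dg = V) : U = 1 ∧ V = 1 ∧ Dg = 1 := by
  have hM : (U - 1) * Dg = 0 := by
    have hr : Raises lv 1 ((U - 1) * Dg) := by
      have := hu.mul (Raises.of_isDiag (lv := lv) hd)
      simpa using this
    ext row col
    by_contra hne
    have h1 := hr row col hne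
    have hrc : row ≠ col := by
      intro e; subst e; omega
    apply hne
    have e : (U - 1) * Dg = (V - 1) + (1 - Dg) := by
      rw [sub_mul, h, one_mul]; abel
    rw [e, Matrix.add_apply, Matrix.sub_apply 1 Dg, Matrix.one_apply_ne hrc, hd hrc, sub_zero, add_zero]
    by_contra hne2
    have h2 := hv row col hne2
    simp only at h2
    omega
  have hU : U = 1 := by
    have : (U - 1) * Dg * Dg' = 0 := by rw [hM, Matrix.zero_mul]
    rw [mul_assoc, hinv, mul_one] at this
    exact sub_eq_zero.1 this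
  rw [hU, one_mul] at h
  have hV : V = 1 := eq_one_of_isDiag_of_raises V (h ▸ hd) hv
  exact ⟨hU, hV, by rw [h, hV]⟩

variable (D : ChevalleyDatum) (hD : D ∈ [chevG2, chevB2, chevD4, chevF4, chevE6, chevE7, chevE8])

include hD in
theorem mem_borel_iff (F : Type*) [Field F] (g : GL D.Idx F) :
    g ∈ D.borelSubgroup F ↔ ∃ u ∈ D.posUnipotent F, ∃ h ∈ D.diagonalSubgroup F, u * h = g := by
  have := Subgroup.coe_mul_of_right_le_normalizer_left (D.posUnipotent F) (D.diagonalSubgroup F)
    (diagonal_le_normalizer_pos D hD F)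
  unfold ChevalleyDatum.borelSubgroup
  rw [← SetLike.mem_coe, this, Set.mem_mul]
  simp only [SetLike.mem_coe]

include hD in
theorem mem_neg_sup_diagonal_iff (F : Type*) [Field F] (g : GL D.Idx F) :
    g ∈ D.negUnipotent F ⊔ D.diagonalSubgroup F ↔
      ∃ v ∈ D.negUnipotent F, ∃ h ∈ D.diagonalSubgroup F, v * h = g := by
  have := Subgroup.coe_mul_of_right_le_normalizer_left (D.negUnipotent F) (D.diagonalSubgroup F)
    (diagonal_le_normalizer_neg D hD F)
  rw [← SetLike.mem_coe, this, Set.mem_mul]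
  simp only [SetLike.mem_coe]

include hD in
/-- `u h = v` with `u ∈ U`, `h ∈ H`, `v ∈ V` forces `u = h = v = 1` -/
theorem uhv_unique (F : Type*) [Field F] (u h v : GL D.Idx F) (hu : u ∈ D.posUnipotent F)
    (hh : h ∈ D.diagonalSubgroup F) (hv : v ∈ D.negUnipotent F) (e : u * h = v) : u = 1 ∧ h = 1 ∧ v = 1 := by
  have h1 := lu_unique (lv := lvI D) (u : Matrix D.Idx D.Idx F) v h ((h⁻¹ : GL D.Idx F) : Matrix D.Idx D.Idx F)
    (posUnipotent_le_raises D hD F hu) (negUnipotent_le_raises D hD F hv)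
    (isDiag_of_mem_diagonal D hD F h hh) (by rw [← Units.val_mul, mul_inv_cancel, Units.val_one])
    (by rw [← Units.val_mul, e])
  exact ⟨Units.ext h1.1, Units.ext h1.2.2, Units.ext h1.2.1⟩

include hD in
theorem borel_inf_neg (F : Type*) [Field F] : D.borelSubgroup F ⊓ D.negUnipotent F = ⊥ := by
  rw [eq_bot_iff]
  rintro g ⟨hb, hv⟩
  obtain ⟨u, hu, h, hh, e⟩ := (mem_borel_iff D hD F g).1 hb
  rw [Subgroup.mem_bot]
  exact (uhv_unique D hD F u h g hu hh hv e).2.2

include hD in
theorem borel_inf_neg_sup_diagonal (F : Type*) [Field F] :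
    D.borelSubgroup F ⊓ (D.negUnipotent F ⊔ D.diagonalSubgroup F) = D.diagonalSubgroup F := by
  apply le_antisymm
  · rintro g ⟨hb, hv⟩
    obtain ⟨u, hu, h, hh, e⟩ := (mem_borel_iff D hD F g).1 hb
    obtain ⟨v, hv', h', hh', e'⟩ := (mem_neg_sup_diagonal_iff D hD F g).1 hv
    have e2 : u * (h * h'⁻¹) = v := by
      rw [← mul_assoc, e, ← e', mul_assoc, mul_inv_cancel, mul_one]
    have := (uhv_unique D hD F u (h * h'⁻¹) v hu (mul_mem hh (inv_mem hh')) hv' e2).1
    rw [this, one_mul] at e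
    rw [← e]
    exact hh
  · exact le_inf (le_sup_right : _ ≤ D.borelSubgroup F) le_sup_right

end Cfsg.Agent.Lib.Helper36
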