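import Cfsg.Agent.Lib.Helper36.ChevW0d
import Cfsg.Agent.Lib.Helper36.ChevBV

/-! # H acts on root elements through characters; roots are positive or negative (helper36) -/

set_option autoImplicit false
set_option maxRecDepth 100000

namespace Cfsg.Agent.Lib.Helper36

open Cfsg Cfsg.Lie

/-- every root is positive or negative -/
def chkPN (D : ChevalleyDatum) : Bool :=
  (List.range D.nroots).all fun r => decide (D.IsPosRoot r) || decide (D.IsNegRoot r)

theorem chkPN_G2 : chkPN chevG2 = true := by decide +kernel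
theorem chkPN_B2 : chkPN chevB2 = true := by decide +kernel
theorem chkPN_D4 : chkPN chevD4 = true := by decide +kernel
theorem chkPN_F4 : chkPN chevF4 = true := by decide +kernel
theorem chkPN_E6 : chkPN chevE6 = true := by decide +kernel
theorem chkPN_E7 : chkPN chevE7 = true := by decide +kernel
theorem chkPN_E8 : chkPN chevE8 = true := by decide +kernel

variable (D : ChevalleyDatum) (hD : D ∈ [chevG2, chevB2, chevD4, chevF4, chevE6, chevE7, chevE8])

include hD in
theorem pos_or_neg (r : ℕ) (hr : r < D.nroots) : D.IsPosRoot r ∨ D.IsNegRoot r := by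
  have h : chkPN D = true :=
    seven_cases (P := fun D => chkPN D = true) D hD chkPN_G2 chkPN_B2 chkPN_D4 chkPN_F4 chkPN_E6 chkPN_E7 chkPN_E8
  unfold chkPN at h
  rw [List.all_eq_true] at h
  have := h r (List.mem_range.2 hr)
  simpa using this

include hD in
theorem neg_inf_diagonal (F : Type*) [Field F] : D.negUnipotent F ⊓ D.diagonalSubgroup F = ⊥ := by
  rw [eq_bot_iff]
  rintro g ⟨hu, hh⟩
  rw [Subgroup.mem_bot]
  apply Units.ext
  exact eq_one_of_isDiag_of_raises _ (isDiag_of_mem_diagonal D hD F g hh) (negUnipotent_le_raises D hD F hu)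

include hD in
/-- `x_r(u) = 1` only for `u = 0` -/
theorem x_eq_one_iff (F : Type*) [Field F] (r : ℕ) (hr : r < D.nroots) (u : F) (h : D.x F r u = 1) : u = 0 := by
  have hne : D.neg r ≠ r := (wf2_spec D (wf2_all D hD) r hr).1
  have hnr : D.neg r < D.nroots := wf_neg D (wf_all D hD) r hr
  have := congrFun (congrFun h (Sum.inr ⟨r, hr⟩)) (Sum.inr ⟨D.neg r, hnr⟩)
  unfold ChevalleyDatum.x at this
  rw [dif_pos hr] at this
  have hne' : (⟨D.neg r, hnr⟩ : Fin D.nroots) ≠ ⟨r, hr⟩ := fun e => hne (Fin.mk.inj_iff.1 e)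
  rw [Matrix.one_apply_ne (by simpa using hne'.symm)] at this
  simp only [ChevalleyDatum.xMat, Matrix.of_apply, if_neg hne'] at this
  have e1 : D.neg r = D.negIdx.getD r 0 := rfl
  rw [if_pos e1] at this
  rw [if_neg hne'.symm, if_pos trivial] at this
  simpa using this

/-- products and inverses of root characters -/
theorem isRootCharacter_mul {F : Type*} [Field F] (χ χ' : ℕ → Fˣ) (h : D.IsRootCharacter χ)
    (h' : D.IsRootCharacter χ') : D.IsRootCharacter (fun s => χ s * χ' s) := by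
  refine ⟨fun r hr => ?_, fun r s k hr hs hk => ?_⟩
  · simp only [h.1 r hr, h'.1 r hr, mul_inv]
  · simp only [h.2 r s k hr hs hk, h'.2 r s k hr hs hk]
    exact mul_mul_mul_comm _ _ _ _

theorem isRootCharacter_inv {F : Type*} [Field F] (χ : ℕ → Fˣ) (h : D.IsRootCharacter χ) :
    D.IsRootCharacter (fun s => (χ s)⁻¹) := by
  refine ⟨fun r hr => ?_, fun r s k hr hs hk => ?_⟩
  · simp only [h.1 r hr]
  · simp only [h.2 r s k hr hs hk, mul_inv]

theorem isRootCharacter_one {F : Type*} [Field F] : D.IsRootCharacter (fun _ => (1 : Fˣ)) :=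
  ⟨fun _ _ => by simp, fun _ _ _ _ _ _ => by simp⟩

theorem charDiag_mul (F : Type*) [Field F] (χ χ' : ℕ → Fˣ) :
    D.charDiag F χ * D.charDiag F χ' = D.charDiag F (fun s => χ s * χ' s) := by
  unfold ChevalleyDatum.charDiag
  rw [Matrix.diagonal_mul_diagonal]
  congr 1
  funext x
  rcases x with j | s <;> simp

theorem charDiag_one (F : Type*) [Field F] : D.charDiag F (fun _ => (1 : Fˣ)) = 1 := by
  unfold ChevalleyDatum.charDiag
  rw [← Matrix.diagonal_one]
  congr 1
  funext x
  rcases x with j | s <;> simp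

include hD in
/-- every element of `H` is the diagonal matrix of a character of the root lattice -/
theorem exists_character_of_mem_diagonal (F : Type*) [Field F] (g : GL D.Idx F) (hg : g ∈ D.diagonalSubgroup F) :
    ∃ χ : ℕ → Fˣ, D.IsRootCharacter χ ∧ (g : Matrix D.Idx D.Idx F) = D.charDiag F χ := by
  unfold ChevalleyDatum.diagonalSubgroup at hg
  induction hg using Subgroup.closure_induction'' with
  | one => exact ⟨fun _ => 1, isRootCharacter_one D, by rw [Units.val_one, charDiag_one]⟩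
  | mem x hx =>
    obtain ⟨r, t, hr, ht, hx⟩ := hx
    refine ⟨chiG D r (Units.mk0 t ht), chiG_isRootCharacter D hD r _, ?_⟩
    rw [hx, (hMat_all D hD r hr t ht).1, ← hDiag_eq_charDiag, Units.val_mk0]
  | inv_mem x hx =>
    obtain ⟨r, t, hr, ht, hx⟩ := hx
    have e : x = hGL D hD F r t := Units.ext (by rw [hx, hGL_coe])
    refine ⟨chiG D r (Units.mk0 t⁻¹ (inv_ne_zero ht)), chiG_isRootCharacter D hD r _, ?_⟩
    rw [e, hGL_inv D hD F r hr t ht, hGL_coe, (hMat_all D hD r hr t⁻¹ (inv_ne_zero ht)).1, ← hDiag_eq_charDiag,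
      Units.val_mk0]
  | mul x y _ _ hx hy =>
    obtain ⟨χ, hχ, ex⟩ := hx
    obtain ⟨χ', hχ', ey⟩ := hy
    exact ⟨_, isRootCharacter_mul D χ χ' hχ hχ', by rw [Units.val_mul, ex, ey, charDiag_mul]⟩

include hD in
/-- `k x_r(t) k⁻¹ = x_r(χ(r) t)` for `k ∈ H` with character `χ` -/
theorem diag_conj_xGL (F : Type*) [Field F] (k : GL D.Idx F) (χ : ℕ → Fˣ) (hχ : D.IsRootCharacter χ)
    (hk : (k : Matrix D.Idx D.Idx F) = D.charDiag F χ) (r : ℕ) (hr : r < D.nroots) (t : F) :
    k * xGL D hD F r t * k⁻¹ = xGL D hD F r ((χ r : F) * t) := by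
  have hinv : ((k⁻¹ : GL D.Idx F) : Matrix D.Idx D.Idx F) = D.charDiag F (fun s => (χ s)⁻¹) := by
    have h1 : (k : Matrix D.Idx D.Idx F) * ((k⁻¹ : GL D.Idx F) : Matrix D.Idx D.Idx F) = 1 := by
      rw [← Units.val_mul, mul_inv_cancel, Units.val_one]
    have h2 := charDiag_inv_mul D F χ
    rw [← hk] at h2
    calc ((k⁻¹ : GL D.Idx F) : Matrix D.Idx D.Idx F)
        = (D.charDiag F (fun s => (χ s)⁻¹) * (k : Matrix D.Idx D.Idx F)) * ((k⁻¹ : GL D.Idx F) : Matrix D.Idx D.Idx F) := by
          rw [h2, one_mul]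
      _ = _ := by rw [mul_assoc, h1, mul_one]
  apply Units.ext
  rw [Units.val_mul, Units.val_mul, hk, hinv, xGL_coe, xGL_coe]
  exact Cfsg.Agent.S2157.conj_of_chk D (s2157chk_all D hD) χ hχ r hr t

end Cfsg.Agent.Lib.Helper36
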