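import Cfsg.Agent.Lib.Helper18.ChevKey
import Cfsg.Agent.S1027

/-! # Ordered products of root elements for a general admissible order of the positive roots (helper36) -/

set_option autoImplicit false

namespace Cfsg.Agent.Lib.Helper36

open Cfsg Cfsg.Lie Cfsg.Agent.Lib.Helper18

/-- the list `ord` is an admissible order of the positive roots: commutator terms come later -/
def chkKeyOrd (D : ChevalleyDatum) (ord : List ℕ) : Bool :=
  decide ord.Nodup && decide (ord.length = D.nroots / 2) &&
  ((List.range D.nroots).all fun r => decide (D.IsPosRoot r ↔ r ∈ ord)) &&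
  (ord.all fun r => decide (r < D.nroots)) &&
  (ord.all fun r => ord.all fun s => !(decide (ord.idxOf r < ord.idxOf s)) ||
    (D.commTerms r s).all fun c => decide (c.1 ∈ ord) && decide (ord.idxOf r < ord.idxOf c.1))

section
variable (D : ChevalleyDatum) (hD : D ∈ [chevG2, chevB2, chevD4, chevF4, chevE6, chevE7, chevE8])
variable (F : Type*) [Field F] (ord : List ℕ)

theorem chkKeyOrd_spec (h : chkKeyOrd D ord = true) :
    ord.Nodup ∧ ord.length = D.nroots / 2 ∧ (∀ r, D.IsPosRoot r ↔ r ∈ ord) ∧
    ∀ r ∈ ord, ∀ s ∈ ord, ord.idxOf r < ord.idxOf s → ∀ c ∈ D.commTerms r s, c.1 ∈ ord ∧ ord.idxOf r < ord.idxOf c.1 := by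
  unfold chkKeyOrd at h
  simp only [Bool.and_eq_true, decide_eq_true_eq, List.all_eq_true, List.mem_range, Bool.or_eq_true,
    Bool.not_eq_true', decide_eq_false_iff_not] at h
  obtain ⟨⟨⟨⟨h1, h2⟩, h3⟩, h4⟩, h5⟩ := h
  refine ⟨h1, h2, ?_, ?_⟩
  · intro r
    by_cases hr : r < D.nroots
    · exact h3 r hr
    · constructor
      · intro hp; exact absurd hp.1 hr
      · intro hm; exact absurd (h4 r hm) hr
  · intro r hr s hs hlt c hc
    rcases h5 r hr s hs with h6 | h6
    · exact absurd hlt h6
    · exact h6 c hc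

theorem keyOK_idxOf (h : chkKeyOrd D ord = true) : KeyOK D (fun r => ord.idxOf r) := by
  obtain ⟨h1, -, h3, h5⟩ := chkKeyOrd_spec D ord h
  constructor
  · intro r s hr hs e
    exact (List.idxOf_inj ((h3 r).1 hr)).1 e
  · intro r s hr hs hlt c hc
    obtain ⟨a, b⟩ := h5 r ((h3 r).1 hr) s ((h3 s).1 hs) hlt c hc
    exact ⟨(h3 _).2 a, b⟩

include hD in
/-- every element of `U` is an ordered product along `ord` -/
theorem key_exists_aux (h : chkKeyOrd D ord = true) : ∀ (k m : ℕ), m + k = ord.length →
    ∀ g ∈ Subgroup.closure (keyGens D F (fun r => ord.idxOf r) m), ∃ t : ℕ → F,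
      g = wordGL D hD F ((ord.drop m).map fun r => (r, t r))
  | 0, m, hmk, g, hg => by
    obtain ⟨-, -, h3, -⟩ := chkKeyOrd_spec D ord h
    have hempty : keyGens D F (fun r => ord.idxOf r) m = ∅ := by
      ext x
      constructor
      · rintro ⟨s, t, hs, hge, -⟩
        have := List.idxOf_lt_length_iff.2 ((h3 s).1 hs)
        simp only at hge
        omega
      · intro h'; exact absurd h' (Set.notMem_empty _)
    rw [hempty, Subgroup.closure_empty, Subgroup.mem_bot] at hg
    refine ⟨fun _ => 0, ?_⟩
    have : ord.drop m = [] := List.drop_eq_nil_iff.2 (by omega)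
    rw [hg, this]
    simp [wordGL]
  | k + 1, m, hmk, g, hg => by
    obtain ⟨h1, -, h3, -⟩ := chkKeyOrd_spec D ord h
    have hm : m < ord.length := by omega
    set r := ord[m] with hr
    have hrm : r ∈ ord := List.getElem_mem hm
    have hκ : ord.idxOf r = m := List.Nodup.idxOf_getElem h1 m hm
    have hg' : g ∈ Subgroup.closure (keyGens D F (fun r => ord.idxOf r) ((fun r => ord.idxOf r) r)) := by
      simp only [hκ]; exact hg
    obtain ⟨a, b, hb, rfl⟩ := key_decomp D hD F _ (keyOK_idxOf D ord h) r ((h3 r).2 hrm) g hg'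
    simp only [hκ] at hb
    obtain ⟨t', ht'⟩ := key_exists_aux h k (m + 1) (by omega) b hb
    refine ⟨Function.update t' r a, ?_⟩
    have hdrop : ord.drop m = r :: ord.drop (m + 1) := by
      rw [hr]; exact List.drop_eq_getElem_cons hm
    rw [hdrop, List.map_cons, ht']
    simp only [wordGL, List.map_cons, List.prod_cons, Function.update_self, List.map_map]
    congr 2
    apply List.map_congr_left
    intro r' hr'
    have hne : r' ≠ r := by
      intro e
      rw [e] at hr'
      have hnd : (ord.drop m).Nodup := h1.sublist (List.drop_sublist _ _)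
      rw [hdrop, List.nodup_cons] at hnd
      exact hnd.1 hr'
    simp only [Function.comp_apply, Function.update_of_ne hne]

include hD in
theorem key_exists (h : chkKeyOrd D ord = true) (g : GL D.Idx F) (hg : g ∈ D.posUnipotent F) :
    ∃ t : ℕ → F, g = wordGL D hD F (ord.map fun r => (r, t r)) := by
  rw [← keyGens_zero D F (fun r => ord.idxOf r)] at hg
  obtain ⟨t, ht⟩ := key_exists_aux D hD F ord h ord.length 0 (by omega) g hg
  exact ⟨t, by simpa using ht⟩

include hD in
theorem key_word_mem (h : chkKeyOrd D ord = true) (t : ℕ → F) :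
    wordGL D hD F (ord.map fun r => (r, t r)) ∈ D.posUnipotent F := by
  obtain ⟨-, -, h3, -⟩ := chkKeyOrd_spec D ord h
  apply wordGL_mem
  intro p hp
  obtain ⟨r, hr, rfl⟩ := List.mem_map.1 hp
  unfold ChevalleyDatum.posUnipotent
  exact Subgroup.subset_closure ⟨r, t r, (h3 r).2 hr, xGL_coe D hD F _ _⟩

section unique
variable [Fintype F]

/-- extension of a tuple indexed by positions to a function on root indices -/
def extOrd (f : Fin ord.length → F) (r : ℕ) : F :=
  if h : ord.idxOf r < ord.length then f ⟨ord.idxOf r, h⟩ else 0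

omit [Fintype F] in
theorem extOrd_getElem (h1 : ord.Nodup) (f : Fin ord.length → F) (i : Fin ord.length) :
    extOrd F ord f ord[i] = f i := by
  unfold extOrd
  have : ord.idxOf ord[i] = i := List.Nodup.idxOf_getElem h1 i i.isLt
  rw [dif_pos (by rw [this]; exact i.isLt)]
  congr 1
  exact Fin.ext this

include hD in
/-- over a finite field the ordered product determines its coefficients -/
theorem key_unique (h : chkKeyOrd D ord = true) (t t' : ℕ → F)
    (e : wordGL D hD F (ord.map fun r => (r, t r)) = wordGL D hD F (ord.map fun r => (r, t' r)))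
    (r : ℕ) (hr : r ∈ ord) : t r = t' r := by
  classical
  obtain ⟨h1, h2, h3, -⟩ := chkKeyOrd_spec D ord h
  let Ψ : (Fin ord.length → F) → ↥(D.posUnipotent F) := fun f =>
    ⟨wordGL D hD F (ord.map fun r => (r, extOrd F ord f r)), key_word_mem D hD F ord h _⟩
  have hcongr : ∀ (a b : ℕ → F), (∀ r ∈ ord, a r = b r) →
      wordGL D hD F (ord.map fun r => (r, a r)) = wordGL D hD F (ord.map fun r => (r, b r)) := by
    intro a b hab
    congr 1
    apply List.map_congr_left
    intro r hr
    rw [hab r hr]
  have hext : ∀ (a : ℕ → F), ∀ r ∈ ord, extOrd F ord (fun i => a ord[i]) r = a r := by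
    intro a r hr
    obtain ⟨i, hi, rfl⟩ := List.getElem_of_mem hr
    exact extOrd_getElem F ord h1 _ ⟨i, hi⟩
  have hsurj : Function.Surjective Ψ := by
    rintro ⟨u, hu⟩
    obtain ⟨a, ha⟩ := key_exists D hD F ord h u hu
    refine ⟨fun i => a ord[i], Subtype.ext ?_⟩
    show wordGL D hD F (ord.map fun r => (r, extOrd F ord (fun i => a ord[i]) r)) = u
    rw [ha]
    exact hcongr _ _ (hext a)
  have hcard : Nat.card (Fin ord.length → F) ≤ Nat.card ↥(D.posUnipotent F) := by
    rw [Cfsg.Agent.S1027.result D hD, Nat.card_eq_fintype_card, Fintype.card_fun, Fintype.card_fin, h2]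
  have hbij := hsurj.bijective_of_nat_card_le hcard
  have e2 : Ψ (fun i => t ord[i]) = Ψ (fun i => t' ord[i]) := by
    apply Subtype.ext
    show wordGL D hD F (ord.map fun r => (r, extOrd F ord (fun i => t ord[i]) r)) =
      wordGL D hD F (ord.map fun r => (r, extOrd F ord (fun i => t' ord[i]) r))
    rw [hcongr _ _ (hext t), hcongr _ _ (hext t'), e]
  have e3 := hbij.1 e2
  obtain ⟨i, hi, rfl⟩ := List.getElem_of_mem hr
  exact congrFun e3 ⟨i, hi⟩

end unique

end

end Cfsg.Agent.Lib.Helper36
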