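import Cfsg.Agent.Lib.Helper36.F4Sig
import Cfsg.Agent.Lib.Helper36.F4Lit
import Cfsg.Agent.Lib.Helper36.ChevKeyOrd

/-! # The groups `²F₄`: the generators are fixed by the twisting endomorphism (helper36) -/

set_option autoImplicit false

namespace Cfsg.Agent.Lib.Helper36

open Cfsg Cfsg.Lie Cfsg.Agent.Lib.Helper18

section words
variable {K : Type*} [Field K]

theorem f4_wordGL_cons (p : ℕ × K) (w : List (ℕ × K)) :
    wordGL chevF4 hF4 K (p :: w) = xGL chevF4 hF4 K p.1 p.2 * wordGL chevF4 hF4 K w := by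
  simp [wordGL]

theorem f4_wordGL_nil : wordGL chevF4 hF4 K ([] : List (ℕ × K)) = 1 := by
  simp [wordGL]

theorem f4_wordGL_append (w w' : List (ℕ × K)) :
    wordGL chevF4 hF4 K (w ++ w') = wordGL chevF4 hF4 K w * wordGL chevF4 hF4 K w' := by
  simp [wordGL]

/-- words in commuting letters commute -/
theorem f4_wordGL_comm (w w' : List (ℕ × K))
    (h : ∀ p ∈ w, ∀ q ∈ w', ∀ a b : K,
      xGL chevF4 hF4 K p.1 a * xGL chevF4 hF4 K q.1 b = xGL chevF4 hF4 K q.1 b * xGL chevF4 hF4 K p.1 a) :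
    wordGL chevF4 hF4 K w * wordGL chevF4 hF4 K w' = wordGL chevF4 hF4 K w' * wordGL chevF4 hF4 K w := by
  unfold wordGL
  apply Commute.list_prod_left
  intro x hx
  apply Commute.list_prod_right
  intro y hy
  obtain ⟨p, hp, rfl⟩ := List.mem_map.1 hx
  obtain ⟨q, hq, rfl⟩ := List.mem_map.1 hy
  exact h p hp q hq _ _

theorem f4_pair_mem (θ : ℕ) (t : K) : wordGL chevF4 hF4 K (f4PairWord θ f4p1 f4p4 t) ∈ twistedF4 K θ :=
  Subgroup.subset_closure ⟨_, Or.inl ⟨t, Or.inl rfl⟩, wordGL_coe chevF4 hF4 K _⟩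

theorem f4_pair_neg_mem (θ : ℕ) (t : K) : wordGL chevF4 hF4 K (f4PairWord θ f4m1 f4m4 t) ∈ twistedF4 K θ :=
  Subgroup.subset_closure ⟨_, Or.inl ⟨t, Or.inr rfl⟩, wordGL_coe chevF4 hF4 K _⟩

theorem f4_class_mem (θ : ℕ) (t u : K) :
    wordGL chevF4 hF4 K (b2ClassWord θ f4a f4b f4ab f4aab t u) ∈ twistedF4 K θ :=
  Subgroup.subset_closure ⟨_, Or.inr ⟨t, u, Or.inl rfl⟩, wordGL_coe chevF4 hF4 K _⟩

theorem f4_class_neg_mem (θ : ℕ) (t u : K) :
    wordGL chevF4 hF4 K (b2ClassWord θ f4ma f4mb f4mab f4maab t u) ∈ twistedF4 K θ :=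
  Subgroup.subset_closure ⟨_, Or.inr ⟨t, u, Or.inr rfl⟩, wordGL_coe chevF4 hF4 K _⟩

end words

section comm
variable {K : Type*} [Field K] [CharP K 2]

theorem f4_comm (r s : ℕ) (h : twGood chevF4 2 r s = true) (a b : K) :
    xGL chevF4 hF4 K r a * xGL chevF4 hF4 K s b = xGL chevF4 hF4 K s b * xGL chevF4 hF4 K r a :=
  (tw_commute chevF4 hF4 K 2 r s h a b).eq

/-- the commutator relation of the fundamental class of type `B₂`, in characteristic 2 -/
theorem f4_comm_ab (t u : K) : xGL chevF4 hF4 K 25 u * xGL chevF4 hF4 K 27 t =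
    xGL chevF4 hF4 K 27 t * xGL chevF4 hF4 K 25 u * (xGL chevF4 hF4 K 28 (t * u) * xGL chevF4 hF4 K 30 (t ^ 2 * u)) := by
  have key : xGL chevF4 hF4 K 25 u * xGL chevF4 hF4 K 27 t =
      xGL chevF4 hF4 K 27 t * xGL chevF4 hF4 K 25 u * wordGL chevF4 hF4 K [(28, t * u), (30, t ^ 2 * u)] := by
    apply Units.ext
    simp only [Units.val_mul, xGL_coe, wordGL_coe]
    rw [comm_formula_all chevF4 hF4 27 25 (by decide) (by decide) (by decide) (by decide) t u]
    congr 2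
    unfold ChevalleyDatum.commWord
    have : chevF4.commTerms 27 25 = [(28, -1, 1, 1), (30, -1, 2, 1)] := by decide
    rw [this]
    simp only [List.map_cons, List.map_nil]
    congr 1
    · congr 1; push_cast; simp only [CharTwo.neg_eq]; ring
    congr 1
    · congr 1; push_cast; simp only [CharTwo.neg_eq]; ring
  rw [key, f4_wordGL_cons, f4_wordGL_cons, f4_wordGL_nil, mul_one]

theorem f4_comm_ab_neg (t u : K) : xGL chevF4 hF4 K 22 u * xGL chevF4 hF4 K 20 t =
    xGL chevF4 hF4 K 20 t * xGL chevF4 hF4 K 22 u * (xGL chevF4 hF4 K 19 (t * u) * xGL chevF4 hF4 K 17 (t ^ 2 * u)) := by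
  have key : xGL chevF4 hF4 K 22 u * xGL chevF4 hF4 K 20 t =
      xGL chevF4 hF4 K 20 t * xGL chevF4 hF4 K 22 u * wordGL chevF4 hF4 K [(19, t * u), (17, t ^ 2 * u)] := by
    apply Units.ext
    simp only [Units.val_mul, xGL_coe, wordGL_coe]
    rw [comm_formula_all chevF4 hF4 20 22 (by decide) (by decide) (by decide) (by decide) t u]
    congr 2
    unfold ChevalleyDatum.commWord
    have : chevF4.commTerms 20 22 = [(19, 1, 1, 1), (17, -1, 2, 1)] := by decide
    rw [this]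
    simp only [List.map_cons, List.map_nil]
    congr 1
    · congr 1; push_cast; simp only [CharTwo.neg_eq]; ring
    congr 1
    · congr 1; push_cast; simp only [CharTwo.neg_eq]; ring
  rw [key, f4_wordGL_cons, f4_wordGL_cons, f4_wordGL_nil, mul_one]

/-- collecting the image of a word over a class of type `B₂` -/
theorem b2_rearr {G : Type*} [Group G] (xa xb xab xaab : K → G)
    (hab : ∀ s t, xab s * xab t = xab (s + t)) (haab : ∀ s t, xaab s * xaab t = xaab (s + t))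
    (hc : ∀ s t, xab s * xaab t = xaab t * xab s)
    (hrel : ∀ t u, xb u * xa t = xa t * xb u * (xab (t * u) * xaab (t ^ 2 * u))) (α β γ δ : K) :
    xb α * xa β * xaab γ * xab δ = xa β * xb α * xab (β * α + δ) * xaab (β ^ 2 * α + γ) := by
  rw [hrel, ← hab, ← haab]
  calc xa β * xb α * (xab (β * α) * xaab (β ^ 2 * α)) * xaab γ * xab δ
      = xa β * xb α * xab (β * α) * xaab (β ^ 2 * α) * (xaab γ * xab δ) := by group
    _ = xa β * xb α * xab (β * α) * (xaab (β ^ 2 * α) * xab δ) * xaab γ := by rw [← hc]; group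
    _ = xa β * xb α * (xab (β * α) * xab δ) * (xaab (β ^ 2 * α) * xaab γ) := by rw [← hc]; group

variable {θ : ℕ} {σ : ↥(chevF4.group K) →* ↥(chevF4.group K)} (hσ : IsF4Sig K θ σ)

include hσ in
/-- the twisting endomorphism on the fundamental class of type `B₂` -/
theorem sgf_class (α β γ δ : K) :
    sgf σ (wordGL chevF4 hF4 K [(27, α), (25, β), (28, γ), (30, δ)]) =
      wordGL chevF4 hF4 K [(27, β ^ θ), (25, α ^ (θ * 2)), (28, β ^ θ * α ^ (θ * 2) + δ ^ θ),
        (30, (β ^ θ) ^ 2 * α ^ (θ * 2) + γ ^ (θ * 2))] := by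
  rw [sgf_wordGL hσ _ (by simp)]
  have e : ([(27, α), (25, β), (28, γ), (30, δ)] : List (ℕ × K)).map (f4Let θ) =
      [(25, α ^ (θ * 2)), (27, β ^ θ), (30, γ ^ (θ * 2)), (28, δ ^ θ)] := by
    simp [f4Let, rhoF4, lamF4]
  rw [e]
  simp only [f4_wordGL_cons, f4_wordGL_nil, mul_one, ← mul_assoc]
  exact b2_rearr (xGL chevF4 hF4 K 27) (xGL chevF4 hF4 K 25) (xGL chevF4 hF4 K 28) (xGL chevF4 hF4 K 30)
    (fun s t => (xGL_add chevF4 hF4 K 28 s t).symm) (fun s t => (xGL_add chevF4 hF4 K 30 s t).symm)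
    (fun s t => f4_comm 28 30 (by decide) s t) f4_comm_ab _ _ _ _

include hσ in
theorem sgf_class_neg (α β γ δ : K) :
    sgf σ (wordGL chevF4 hF4 K [(20, α), (22, β), (19, γ), (17, δ)]) =
      wordGL chevF4 hF4 K [(20, β ^ θ), (22, α ^ (θ * 2)), (19, β ^ θ * α ^ (θ * 2) + δ ^ θ),
        (17, (β ^ θ) ^ 2 * α ^ (θ * 2) + γ ^ (θ * 2))] := by
  rw [sgf_wordGL hσ _ (by simp)]
  have e : ([(20, α), (22, β), (19, γ), (17, δ)] : List (ℕ × K)).map (f4Let θ) =
      [(22, α ^ (θ * 2)), (20, β ^ θ), (17, γ ^ (θ * 2)), (19, δ ^ θ)] := by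
    simp [f4Let, rhoF4, lamF4]
  rw [e]
  simp only [f4_wordGL_cons, f4_wordGL_nil, mul_one, ← mul_assoc]
  exact b2_rearr (xGL chevF4 hF4 K 20) (xGL chevF4 hF4 K 22) (xGL chevF4 hF4 K 19) (xGL chevF4 hF4 K 17)
    (fun s t => (xGL_add chevF4 hF4 K 19 s t).symm) (fun s t => (xGL_add chevF4 hF4 K 17 s t).symm)
    (fun s t => f4_comm 19 17 (by decide) s t) f4_comm_ab_neg _ _ _ _

include hσ in
/-- the twisting endomorphism on the fundamental class of type `A₁ × A₁` -/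
theorem sgf_pair (α β : K) :
    sgf σ (wordGL chevF4 hF4 K [(33, α), (24, β)]) = wordGL chevF4 hF4 K [(33, β ^ θ), (24, α ^ (θ * 2))] := by
  rw [sgf_wordGL hσ _ (by simp)]
  have e : ([(33, α), (24, β)] : List (ℕ × K)).map (f4Let θ) = [(24, α ^ (θ * 2)), (33, β ^ θ)] := by
    simp [f4Let, rhoF4, lamF4]
  rw [e]
  simp only [f4_wordGL_cons, f4_wordGL_nil, mul_one]
  exact f4_comm 24 33 (by decide) _ _

include hσ in
theorem sgf_pair_neg (α β : K) :
    sgf σ (wordGL chevF4 hF4 K [(14, α), (23, β)]) = wordGL chevF4 hF4 K [(14, β ^ θ), (23, α ^ (θ * 2))] := by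
  rw [sgf_wordGL hσ _ (by simp)]
  have e : ([(14, α), (23, β)] : List (ℕ × K)).map (f4Let θ) = [(23, α ^ (θ * 2)), (14, β ^ θ)] := by
    simp [f4Let, rhoF4, lamF4]
  rw [e]
  simp only [f4_wordGL_cons, f4_wordGL_nil, mul_one]
  exact f4_comm 23 14 (by decide) _ _

end comm

end Cfsg.Agent.Lib.Helper36
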