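import Cfsg.Agent.Lib.Helper36.F4Order

/-! # The groups `²F₄`: the order (helper36) -/

set_option autoImplicit false

namespace Cfsg.Agent.Lib.Helper36

open Cfsg Cfsg.Lie Cfsg.Agent.Lib.Helper18

section main
variable {K : Type*} [Field K] [Fintype K] {m : ℕ}

/-- the order of the twisted group, from the enumeration of the folded Weyl group -/
theorem f4_card_group (hK : Fintype.card K = 2 ^ (2 * m + 1)) :
    Nat.card ↥(twistedF4 K (2 ^ m)) =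
      Nat.card ↥(chevF4.posUnipotent K ⊓ twistedF4 K (2 ^ m)) *
        Nat.card ↥(chevF4.diagonalSubgroup K ⊓ twistedF4 K (2 ^ m)) *
          (f4W16R.map fun JsR => (2 ^ (2 * m + 1)) ^ f4ExpR JsR).sum := by
  classical
  have hcp := f4_charP hK
  obtain ⟨σ, hσ⟩ := exists_f4Sig hK
  have h45 : ∀ i < chevF4.rank, H45 chevF4 K i := fun i hi => Cfsg.Agent.S1045.result chevF4 hF4 i hi
  set T := twistedF4 K (2 ^ m) with hT
  have hUB := pos_le_borel chevF4 K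
  have hHB := diagonal_le_borel chevF4 K
  have hHN := diagonal_le_monomial chevF4 K
  have hred : ∀ i : Fin f4W16R.length, f4RedR f4W16R[i.1] = true := fun i =>
    f4W16R_red _ (List.getElem_mem i.2)
  have hwl : ∀ i : Fin f4W16R.length, ∀ j ∈ f4WordR f4W16R[i.1], j < chevF4.rank := fun i =>
    f4WordR_lt _ (hred i)
  let nW : Fin f4W16R.length → GL chevF4.Idx K := fun i => nWordGL chevF4 hF4 K (f4WordR f4W16R[i.1])
  have hnN : ∀ i, nW i ∈ chevF4.monomialSubgroup K := fun i => nWordGL_mem chevF4 hF4 K _ (hwl i)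
  let c : Fin f4W16R.length → Set (GL chevF4.Idx K) := fun i => f4Cell K (2 ^ m) (nW i)
  have hG : (T : Set (GL chevF4.Idx K)) = ⋃ i, c i := by
    ext g
    simp only [Set.mem_iUnion, SetLike.mem_coe]
    constructor
    · intro hg
      obtain ⟨l, hl, hrc, u₁, hu₁, h₁, hh₁, u, hu, e, hmT⟩ := f4_tw_descent hK hσ g hg
      obtain ⟨JsR, hmem, hw⟩ := f4_cover K l hl hrc
      obtain ⟨i, hi, rfl⟩ := List.getElem_of_mem hmem
      refine ⟨⟨i, hi⟩, hg, ?_⟩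
      have hc : g ∈ cell chevF4 K (h₁ * nWordGL chevF4 hF4 K l) :=
        ⟨u₁, hUB (Subgroup.mem_inf.1 hu₁).1, u, hUB (sGens_le_pos chevF4 K l (Subgroup.mem_inf.1 hu).1), e⟩
      have hd1 : (nW ⟨i, hi⟩)⁻¹ * nWordGL chevF4 hF4 K l ∈ chevF4.diagonalSubgroup K :=
        mem_diag_of_wRoot_eq chevF4 hF4 K l _ hl (hwl ⟨i, hi⟩) hw
      have hd2 : (nW ⟨i, hi⟩)⁻¹ * h₁ * nW ⟨i, hi⟩ ∈ chevF4.diagonalSubgroup K :=
        conj_mem_diag chevF4 hF4 K _ _ (hnN ⟨i, hi⟩) hh₁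
      have hd : (nW ⟨i, hi⟩)⁻¹ * (h₁ * nWordGL chevF4 hF4 K l) ∈ chevF4.diagonalSubgroup K := by
        have : (nW ⟨i, hi⟩)⁻¹ * (h₁ * nWordGL chevF4 hF4 K l) =
            ((nW ⟨i, hi⟩)⁻¹ * h₁ * nW ⟨i, hi⟩) * ((nW ⟨i, hi⟩)⁻¹ * nWordGL chevF4 hF4 K l) := by group
        rw [this]
        exact mul_mem hd2 hd1
      have e2 : h₁ * nWordGL chevF4 hF4 K l =
          nW ⟨i, hi⟩ * ((nW ⟨i, hi⟩)⁻¹ * (h₁ * nWordGL chevF4 hF4 K l)) := by group
      have := cell_mul_right chevF4 K (nW ⟨i, hi⟩) _ (hHB hd)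
      rw [← e2] at this
      rw [this] at hc
      exact hc
    · rintro ⟨i, hg, -⟩
      exact hg
  have hdisj : ∀ i j : Fin f4W16R.length, i ≠ j → Disjoint (c i) (c j) := by
    intro i j hne
    rw [Set.disjoint_left]
    rintro g ⟨-, hg⟩ ⟨-, hg'⟩
    apply hne
    have h0 := bruhat_unique' chevF4 hF4 K h45 _ _ g (hnN i) (hnN j) hg hg'
    have hperm := wRoot_eq_of_mem_diag chevF4 hF4 K _ _ (hwl i) (hwl j) h0
    have hpw := List.pairwise_iff_getElem.1 f4W16R_distinct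
    by_contra hij
    rcases Nat.lt_or_gt_of_ne (fun h => hij (Fin.ext h)) with hlt | hlt
    · obtain ⟨r, hr, hne'⟩ := hpw i.1 j.1 i.2 j.2 hlt
      exact hne' (hperm r hr)
    · obtain ⟨r, hr, hne'⟩ := hpw j.1 i.1 j.2 i.2 hlt
      exact hne' (hperm r hr).symm
  have hcard : (T : Set (GL chevF4.Idx K)).ncard = ∑ i, (c i).ncard := by
    rw [hG]
    have e1 : (Set.toFinite (⋃ i, c i)).toFinset =
        Finset.univ.biUnion fun i => (Set.toFinite (c i)).toFinset := by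
      ext g
      simp
    rw [Set.ncard_eq_toFinset_card _ (Set.toFinite _), e1, Finset.card_biUnion]
    · apply Finset.sum_congr rfl
      intro w _
      exact (Set.ncard_eq_toFinset_card _ _).symm
    · intro w _ w' _ hne
      show Disjoint _ _
      rw [Finset.disjoint_left]
      intro g hg hg'
      rw [Set.Finite.mem_toFinset] at hg hg'
      exact Set.disjoint_left.1 (hdisj w w' hne) hg hg'
  rw [← Nat.card_coe_set_eq] at hcard
  rw [show Nat.card ↥T = Nat.card ↥(T : Set (GL chevF4.Idx K)) from rfl, hcard]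
  have hci : ∀ i : Fin f4W16R.length, (c i).ncard =
      Nat.card ↥(chevF4.posUnipotent K ⊓ T) * Nat.card ↥(chevF4.diagonalSubgroup K ⊓ T) *
        (fun JsR => (2 ^ (2 * m + 1)) ^ f4ExpR JsR) f4W16R[i.1] := by
    intro i
    exact f4_card_cell hK hσ _ (hred i)
  rw [Finset.sum_congr rfl (fun i _ => hci i), ← Finset.mul_sum,
    Fin.sum_univ_fun_getElem f4W16R (fun JsR => (2 ^ (2 * m + 1)) ^ f4ExpR JsR)]

theorem f4_order_arith (q : ℕ) (hq : 1 ≤ q) :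
    q ^ 12 * (q - 1) ^ 2 * (q ^ 0 + q ^ 1 + q ^ 2 + q ^ 3 + q ^ 3 + q ^ 4 + q ^ 5 + q ^ 6 + q ^ 6 + q ^ 7 + q ^ 8 +
      q ^ 9 + q ^ 9 + q ^ 10 + q ^ 11 + q ^ 12) =
    q ^ 12 * (q - 1) * (q ^ 3 + 1) * (q ^ 4 - 1) * (q ^ 6 + 1) := by
  obtain ⟨p, rfl⟩ : ∃ p, q = p + 1 := ⟨q - 1, by omega⟩
  have h1 : p + 1 - 1 = p := by omega
  have h2 : (p + 1) ^ 4 - 1 = p ^ 4 + 4 * p ^ 3 + 6 * p ^ 2 + 4 * p := by
    have : (p + 1) ^ 4 = (p ^ 4 + 4 * p ^ 3 + 6 * p ^ 2 + 4 * p) + 1 := by ring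
    rw [this, Nat.add_sub_cancel]
  rw [h1, h2]
  ring

theorem f4_exp_list : f4W16R.map f4ExpR = [0, 1, 2, 3, 3, 4, 5, 6, 6, 7, 8, 9, 9, 10, 11, 12] := by decide

theorem f4_exp_sum (q : ℕ) : (f4W16R.map fun JsR => q ^ f4ExpR JsR).sum =
    q ^ 0 + q ^ 1 + q ^ 2 + q ^ 3 + q ^ 3 + q ^ 4 + q ^ 5 + q ^ 6 + q ^ 6 + q ^ 7 + q ^ 8 +
      q ^ 9 + q ^ 9 + q ^ 10 + q ^ 11 + q ^ 12 := by
  have : (f4W16R.map fun JsR => q ^ f4ExpR JsR) = (f4W16R.map f4ExpR).map fun e => q ^ e := by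
    rw [List.map_map]; rfl
  rw [this, f4_exp_list]
  simp only [List.map_cons, List.map_nil, List.sum_cons, List.sum_nil]
  ring

/-- the order of `²F₄(q)` -/
theorem f4_order (hK : Fintype.card K = 2 ^ (2 * m + 1)) :
    Nat.card ↥(twistedF4 K (2 ^ m)) =
      (2 ^ (2 * m + 1)) ^ 12 * (2 ^ (2 * m + 1) - 1) * ((2 ^ (2 * m + 1)) ^ 3 + 1) *
        ((2 ^ (2 * m + 1)) ^ 4 - 1) * ((2 ^ (2 * m + 1)) ^ 6 + 1) := by
  rw [f4_card_group hK, f4_card_pos_inf hK, f4_card_diag_inf hK, f4_exp_sum,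
    ← f4_order_arith (2 ^ (2 * m + 1)) Nat.one_le_two_pow]

end main

end Cfsg.Agent.Lib.Helper36
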