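import Mathlib

/-! # Matrices raising a level function (helper36) -/

set_option autoImplicit false
set_option linter.unusedSectionVars false
set_option linter.unusedVariables false

namespace Cfsg.Agent.Lib.Helper36

section Gen

variable {ι R : Type*} [Fintype ι] [DecidableEq ι] [CommRing R] (lv : ι → ℤ)

/-- `M` maps the basis vector of level `l` into the span of the basis vectors of level at least `l + k` -/
def Raises (k : ℤ) (M : Matrix ι ι R) : Prop := ∀ row col, M row col ≠ 0 → lv col + k ≤ lv row

variable {lv}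

theorem Raises.mono {k k' : ℤ} {M : Matrix ι ι R} (h : Raises lv k M) (hk : k' ≤ k) : Raises lv k' M :=
  fun row col hne => by have := h row col hne; omega

theorem Raises.zero (k : ℤ) : Raises lv k (0 : Matrix ι ι R) := fun row col hne => absurd rfl hne

theorem Raises.one : Raises lv 0 (1 : Matrix ι ι R) := by
  intro row col hne
  rw [Matrix.one_apply] at hne
  split_ifs at hne with h
  · rw [h]; omega
  · exact absurd rfl hne

theorem Raises.add {k : ℤ} {M N : Matrix ι ι R} (hM : Raises lv k M) (hN : Raises lv k N) :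
    Raises lv k (M + N) := by
  intro row col hne
  rw [Matrix.add_apply] at hne
  by_cases h1 : M row col = 0
  · rw [h1, zero_add] at hne; exact hN row col hne
  · exact hM row col h1

theorem Raises.neg {k : ℤ} {M : Matrix ι ι R} (hM : Raises lv k M) : Raises lv k (-M) := by
  intro row col hne
  rw [Matrix.neg_apply, neg_ne_zero] at hne
  exact hM row col hne

theorem Raises.sub {k : ℤ} {M N : Matrix ι ι R} (hM : Raises lv k M) (hN : Raises lv k N) :
    Raises lv k (M - N) := by
  rw [sub_eq_add_neg]; exact hM.add hN.neg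

theorem Raises.smul {k : ℤ} {M : Matrix ι ι R} (hM : Raises lv k M) (c : R) : Raises lv k (c • M) := by
  intro row col hne
  rw [Matrix.smul_apply, smul_eq_mul] at hne
  exact hM row col (right_ne_zero_of_mul hne)

theorem Raises.mul {k l : ℤ} {M N : Matrix ι ι R} (hM : Raises lv k M) (hN : Raises lv l N) :
    Raises lv (k + l) (M * N) := by
  intro row col hne
  rw [Matrix.mul_apply] at hne
  obtain ⟨j, -, hj⟩ := Finset.exists_ne_zero_of_sum_ne_zero hne
  have h1 := hM row j (left_ne_zero_of_mul hj)
  have h2 := hN j col (right_ne_zero_of_mul hj)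
  omega

theorem Raises.sum {α : Type*} (s : Finset α) {k : ℤ} (f : α → Matrix ι ι R) (h : ∀ a ∈ s, Raises lv k (f a)) :
    Raises lv k (∑ a ∈ s, f a) := by
  classical
  induction s using Finset.induction_on with
  | empty => simpa using Raises.zero k
  | insert a s ha ih =>
    rw [Finset.sum_insert ha]
    exact (h a (Finset.mem_insert_self _ _)).add (ih fun b hb => h b (Finset.mem_insert_of_mem hb))

theorem Raises.pow {k : ℤ} {M : Matrix ι ι R} (hM : Raises lv k M) (n : ℕ) : Raises lv (n * k) (M ^ n) := by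
  induction n with
  | zero => simpa using (Raises.one : Raises lv 0 (1 : Matrix ι ι R))
  | succ n ih =>
    rw [pow_succ]
    have := ih.mul hM
    convert this using 1
    push_cast; ring

/-- a matrix raising the level by more than the spread of the levels vanishes -/
theorem Raises.eq_zero {k : ℤ} {M : Matrix ι ι R} (hM : Raises lv k M) (lo hi : ℤ)
    (hlo : ∀ x, lo ≤ lv x) (hhi : ∀ x, lv x ≤ hi) (hk : hi - lo < k) : M = 0 := by
  ext row col
  by_contra hne
  have := hM row col hne
  have h1 := hlo col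
  have h2 := hhi row
  simp only [Matrix.zero_apply] at hne
  omega

/-- the rank of the level of an index -/
def lvRank (lv : ι → ℤ) (x : ι) : ℤ := ((Finset.univ.filter fun y => lv y < lv x).card : ℤ)

theorem lvRank_lt {x y : ι} (h : lv x < lv y) : lvRank lv x < lvRank lv y := by
  unfold lvRank
  have : (Finset.univ.filter fun z => lv z < lv x) ⊂ (Finset.univ.filter fun z => lv z < lv y) := by
    rw [Finset.ssubset_iff_of_subset]
    · exact ⟨x, by simp [h], by simp⟩
    · intro z hz
      simp only [Finset.mem_filter, Finset.mem_univ, true_and] at hz ⊢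
      omega
  exact_mod_cast Finset.card_lt_card this

theorem lvRank_lt_card (x : ι) : lvRank lv x < Fintype.card ι := by
  unfold lvRank
  have : (Finset.univ.filter fun z => lv z < lv x) ⊂ (Finset.univ : Finset ι) := by
    rw [Finset.ssubset_iff_of_subset (Finset.filter_subset _ _)]
    exact ⟨x, Finset.mem_univ _, by simp⟩
  have := Finset.card_lt_card this
  rw [Finset.card_univ] at this
  exact_mod_cast this

theorem lvRank_nonneg (x : ι) : 0 ≤ lvRank lv x := by
  unfold lvRank; positivity

theorem Raises.lvRank {M : Matrix ι ι R} (hM : Raises lv 1 M) : Raises (lvRank lv) 1 M := by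
  intro row col hne
  have := hM row col hne
  have := lvRank_lt (lv := lv) (x := col) (y := row) (by omega)
  omega

/-- a matrix strictly raising the levels is nilpotent of index at most the size -/
theorem Raises.pow_card_eq_zero {M : Matrix ι ι R} (hM : Raises lv 1 M) : M ^ (Fintype.card ι) = 0 := by
  have h := hM.lvRank.pow (Fintype.card ι)
  refine h.eq_zero 0 ((Fintype.card ι : ℤ) - 1) (fun x => lvRank_nonneg x) (fun x => ?_) (by omega)
  have := lvRank_lt_card (lv := lv) x
  omega

end Gen

section Gen2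

variable {ι R : Type*} [Fintype ι] [DecidableEq ι] [CommRing R] {lv : ι → ℤ}

theorem Raises.mul_sub_one {k : ℤ} (hk : 0 ≤ k) {A B : Matrix ι ι R} (hA : Raises lv k (A - 1))
    (hB : Raises lv k (B - 1)) : Raises lv k (A * B - 1) := by
  have e : A * B - 1 = (A - 1) * (B - 1) + (A - 1) + (B - 1) := by noncomm_ring
  rw [e]
  exact (((hA.mul hB).mono (by omega)).add hA).add hB

theorem Raises.of_sub_one {k : ℤ} (hk : 0 ≤ k) {A : Matrix ι ι R} (hA : Raises lv k (A - 1)) : Raises lv 0 A := by
  have e : A = (A - 1) + 1 := by abel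
  rw [e]
  exact (hA.mono hk).add Raises.one

theorem inv_eq_geom_sum {A B : Matrix ι ι R} (hAB : B * A = 1) (n : ℕ) (hn : (A - 1) ^ n = 0) :
    B = ∑ j ∈ Finset.range n, (-(A - 1)) ^ j := by
  have h1 : A * ∑ j ∈ Finset.range n, (-(A - 1)) ^ j = 1 := by
    have := mul_neg_geom_sum (-(A - 1)) n
    rw [neg_pow, hn, mul_zero, sub_zero] at this
    have e : 1 - -(A - 1) = A := by abel
    rw [e] at this
    exact this
  calc B = B * (A * ∑ j ∈ Finset.range n, (-(A - 1)) ^ j) := by rw [h1, mul_one]
    _ = _ := by rw [← mul_assoc, hAB, one_mul]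

theorem Raises.inv_sub_one {k : ℤ} (hk : 1 ≤ k) {A B : Matrix ι ι R} (hAB : B * A = 1)
    (hA : Raises lv k (A - 1)) : Raises lv k (B - 1) := by
  have hn := (hA.mono hk).pow_card_eq_zero
  rw [inv_eq_geom_sum hAB _ hn]
  rcases Nat.eq_zero_or_pos (Fintype.card ι) with h0 | hpos
  · rw [h0]
    simp only [Finset.range_zero, Finset.sum_empty, zero_sub]
    have : IsEmpty ι := Fintype.card_eq_zero_iff.1 h0
    intro row; exact (this.false row).elim
  · obtain ⟨m, hm⟩ := Nat.exists_eq_succ_of_ne_zero (Nat.pos_iff_ne_zero.1 hpos)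
    rw [hm, Finset.sum_range_succ', pow_zero, add_sub_cancel_right]
    apply Raises.sum
    intro j _
    have := (hA.neg).pow (j + 1)
    refine this.mono ?_
    push_cast
    nlinarith

/-- the group of invertible matrices `g` with `g - 1` raising the level by at least `k ≥ 1` -/
def raisesSubgroup (lv : ι → ℤ) (R : Type*) [CommRing R] (k : ℤ) (hk : 1 ≤ k) : Subgroup (GL ι R) where
  carrier := {g | Raises lv k ((g : Matrix ι ι R) - 1)}
  one_mem' := by
    show Raises lv k (((1 : GL ι R) : Matrix ι ι R) - 1)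
    rw [Units.val_one, sub_self]
    exact Raises.zero k
  mul_mem' := by
    intro a b ha hb
    show Raises lv k (((a * b : GL ι R) : Matrix ι ι R) - 1)
    rw [Units.val_mul]
    exact Raises.mul_sub_one (by omega) ha hb
  inv_mem' := by
    intro a ha
    show Raises lv k (((a⁻¹ : GL ι R) : Matrix ι ι R) - 1)
    exact Raises.inv_sub_one hk (by rw [← Units.val_mul, inv_mul_cancel, Units.val_one]) ha

theorem mem_raisesSubgroup (k : ℤ) (hk : 1 ≤ k) (g : GL ι R) :
    g ∈ raisesSubgroup lv R k hk ↔ Raises lv k ((g : Matrix ι ι R) - 1) := Iff.rfl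

theorem comm_mem_raisesSubgroup {k l : ℤ} (hk : 1 ≤ k) (hl : 1 ≤ l) (g h : GL ι R)
    (hg : g ∈ raisesSubgroup lv R k hk) (hh : h ∈ raisesSubgroup lv R l hl) :
    g * h * g⁻¹ * h⁻¹ ∈ raisesSubgroup lv R (k + l) (by omega) := by
  rw [mem_raisesSubgroup] at hg hh ⊢
  have hg' : Raises lv k (((g⁻¹ : GL ι R) : Matrix ι ι R) - 1) :=
    (mem_raisesSubgroup k hk _).1 (inv_mem ((mem_raisesSubgroup k hk g).2 hg))
  have hh' : Raises lv l (((h⁻¹ : GL ι R) : Matrix ι ι R) - 1) :=
    (mem_raisesSubgroup l hl _).1 (inv_mem ((mem_raisesSubgroup l hl h).2 hh))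
  set G := (g : Matrix ι ι R)
  set H := (h : Matrix ι ι R)
  set G' := ((g⁻¹ : GL ι R) : Matrix ι ι R)
  set H' := ((h⁻¹ : GL ι R) : Matrix ι ι R)
  have e1 : G * G' = 1 := by rw [← Units.val_mul, mul_inv_cancel, Units.val_one]
  have e2 : H * H' = 1 := by rw [← Units.val_mul, mul_inv_cancel, Units.val_one]
  have e : ((g * h * g⁻¹ * h⁻¹ : GL ι R) : Matrix ι ι R) - 1 =
      ((G - 1) * (H - 1) - (H - 1) * (G - 1)) * (G' * H') := by
    simp only [Units.val_mul]
    have : H * G * (G' * H') = 1 := by
      calc H * G * (G' * H') = H * (G * G') * H' := by simp only [mul_assoc]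
        _ = 1 := by rw [e1, mul_one, e2]
    calc G * H * G' * H' - 1 = G * H * (G' * H') - H * G * (G' * H') := by rw [this]; simp only [mul_assoc]
      _ = _ := by noncomm_ring
  rw [e]
  have h0 : Raises lv 0 (G' * H') := by
    have := (Raises.of_sub_one (by omega) hg').mul (Raises.of_sub_one (by omega) hh')
    simpa using this
  have h1 : Raises lv (k + l) ((G - 1) * (H - 1) - (H - 1) * (G - 1)) := by
    refine (hg.mul hh).sub ?_
    have := hh.mul hg
    rwa [add_comm] at this
  have := h1.mul h0
  rwa [add_zero] at this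

theorem raisesSubgroup_eq_bot (lo hi k : ℤ) (hk : 1 ≤ k) (hlo : ∀ x, lo ≤ lv x) (hhi : ∀ x, lv x ≤ hi)
    (hkk : hi - lo < k) : raisesSubgroup lv R k hk = ⊥ := by
  rw [eq_bot_iff]
  intro g hg
  rw [mem_raisesSubgroup] at hg
  have := hg.eq_zero lo hi hlo hhi hkk
  rw [Subgroup.mem_bot]
  apply Units.ext
  rw [Units.val_one]
  exact sub_eq_zero.1 this

theorem exists_bounds (lv : ι → ℤ) : ∃ hi : ℤ, 0 ≤ hi ∧ ∀ x, -hi ≤ lv x ∧ lv x ≤ hi := by
  refine ⟨∑ y, |lv y|, Finset.sum_nonneg (fun y _ => abs_nonneg _), fun x => ?_⟩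
  have h1 : |lv x| ≤ ∑ y, |lv y| :=
    Finset.single_le_sum (f := fun y => |lv y|) (fun y _ => abs_nonneg _) (Finset.mem_univ x)
  have h2 := abs_le.1 (le_refl |lv x|)
  constructor <;> omega

/-- a group of matrices that are unitriangular for a level function is nilpotent -/
theorem isNilpotent_of_le_raises (K : Subgroup (GL ι R)) (hK : K ≤ raisesSubgroup lv R 1 le_rfl) :
    Group.IsNilpotent K := by
  obtain ⟨hi, hhi, hb⟩ := exists_bounds lv
  rw [Subgroup.nilpotent_iff_finite_descending_central_series]
  refine ⟨(2 * hi + 1).toNat, fun m => (raisesSubgroup lv R ((m : ℤ) + 1) (by omega)).subgroupOf K, ⟨?_, ?_⟩, ?_⟩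
  · rw [Subgroup.subgroupOf_eq_top]
    simpa using hK
  · intro x m hx g
    rw [Subgroup.mem_subgroupOf] at hx ⊢
    have hg : (g : GL ι R) ∈ raisesSubgroup lv R 1 le_rfl := hK g.2
    have := comm_mem_raisesSubgroup (by omega) le_rfl _ _ hx hg
    rw [commutatorElement_def]
    simp only [Subgroup.coe_mul, Subgroup.coe_inv]
    convert this using 2
    push_cast; ring
  · show (raisesSubgroup lv R (((2 * hi + 1).toNat : ℤ) + 1) (by omega)).subgroupOf K = ⊥
    rw [raisesSubgroup_eq_bot (-hi) hi _ _ (fun x => (hb x).1) (fun x => (hb x).2)]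
    · exact Subgroup.bot_subgroupOf K
    · rw [Int.toNat_of_nonneg (by omega)]; omega

end Gen2

end Cfsg.Agent.Lib.Helper36
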