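import Cfsg.Agent.Lib.Helper36.ChevGL
import Cfsg.Agent.Lib.Helper36.Raises

/-! # Unitriangularity of U and V for the level (height) filtration (helper36) -/

set_option autoImplicit false
set_option maxRecDepth 100000

namespace Cfsg.Agent.Lib.Helper36

open Cfsg Cfsg.Lie

/-- height of a root (fast table) -/
def htF (D : ChevalleyDatum) (s : ℕ) : ℤ := ((List.range D.rank).map fun i => mF D i s).sum

/-- heights are additive along the chains, positive on positive roots, negative on negative roots -/
def chkUp (D : ChevalleyDatum) : Bool :=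
  (List.range D.nroots).all fun r =>
    (!decide (D.IsPosRoot r) || decide (0 < htF D r)) &&
    (!decide (D.IsNegRoot r) || decide (htF D r < 0)) &&
    decide (htF D (D.neg r) = - htF D r) &&
    (D.chain.getD r #[]).toList.all fun e => e.2.toList.zipIdx.all fun q =>
      decide (htF D q.1.1 = htF D e.1 + ((q.2 : ℤ) + 1) * htF D r)

theorem chkUp_G2 : chkUp chevG2 = true := by decide +kernel
theorem chkUp_B2 : chkUp chevB2 = true := by decide +kernel
theorem chkUp_D4 : chkUp chevD4 = true := by decide +kernel
theorem chkUp_F4 : chkUp chevF4 = true := by decide +kernel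
theorem chkUp_E6 : chkUp chevE6 = true := by decide +kernel
theorem chkUp_E7 : chkUp chevE7 = true := by decide +kernel
theorem chkUp_E8 : chkUp chevE8 = true := by decide +kernel

theorem chkUp_all (D : ChevalleyDatum) (hD : D ∈ [chevG2, chevB2, chevD4, chevF4, chevE6, chevE7, chevE8]) :
    chkUp D = true :=
  seven_cases (P := fun D => chkUp D = true) D hD chkUp_G2 chkUp_B2 chkUp_D4 chkUp_F4 chkUp_E6 chkUp_E7 chkUp_E8

variable (D : ChevalleyDatum) (hD : D ∈ [chevG2, chevB2, chevD4, chevF4, chevE6, chevE7, chevE8])

/-- level of a basis vector: the height of the root, `0` for the Cartan part -/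
def lvB : BIdx → ℤ
  | .inl _ => 0
  | .inr s => htF D s

def lvI (x : D.Idx) : ℤ := lvB D (enc D x)

theorem chkUp_spec (h : chkUp D = true) (r : ℕ) (hr : r < D.nroots) :
    (D.IsPosRoot r → 0 < htF D r) ∧ (D.IsNegRoot r → htF D r < 0) ∧ htF D (D.neg r) = - htF D r ∧
    ∀ e ∈ (D.chain.getD r #[]).toList, ∀ (k : ℕ) (q : ℕ × ℤ), e.2.toList[k]? = some q →
      htF D q.1 = htF D e.1 + ((k : ℤ) + 1) * htF D r := by
  unfold chkUp at h
  rw [List.all_eq_true] at h
  have h1 := h r (List.mem_range.2 hr)
  simp only [Bool.and_eq_true, Bool.or_eq_true, Bool.not_eq_true', decide_eq_false_iff_not, decide_eq_true_eq,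
    List.all_eq_true] at h1
  obtain ⟨⟨⟨a, b⟩, c⟩, d⟩ := h1
  refine ⟨fun hp => ?_, fun hn => ?_, c, fun e he k q hq => ?_⟩
  · rcases a with a | a
    · exact absurd hp a
    · exact a
  · rcases b with b | b
    · exact absurd hn b
    · exact b
  · have hmem : (q, k) ∈ e.2.toList.zipIdx := by
      rw [List.mem_zipIdx_iff_getElem?]
      simpa using hq
    exact d e he (q, k) hmem

/-- `E_{r,k}` is homogeneous of degree `k · ht r` -/
theorem E_homog (h : chkUp D = true) (r : ℕ) (hr : r < D.nroots) (k : ℕ) (c : BIdx) :
    ∀ p ∈ E D r k c, lvB D p.1 = lvB D c + (k : ℤ) * htF D r := by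
  obtain ⟨-, -, hneg, hch⟩ := chkUp_spec D h r hr
  intro p hp
  rcases c with i | s
  · simp only [E] at hp
    split_ifs at hp with h1 h2
    · simp only [List.mem_singleton] at hp; rw [hp, h1]; simp [lvB]
    · simp only [List.mem_singleton] at hp; rw [hp, h2]; simp [lvB]
    · simp at hp
  · simp only [E] at hp
    split_ifs at hp with h1 h2 h3 h4 h5 h6 h7
    · simp only [List.mem_singleton] at hp; rw [hp, h1, h2]; simp [lvB]
    · simp at hp
    · simp only [List.mem_singleton] at hp; rw [hp, h4]; simp [lvB]
    · rw [List.mem_map] at hp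
      obtain ⟨i, hi, rfl⟩ := hp
      rw [h3, h5]
      simp only [lvB, hneg]
      ring
    · simp only [List.mem_singleton] at hp; rw [hp, h3, h6]
      simp only [lvB, hneg]
      push_cast; ring
    · simp at hp
    · simp only [List.mem_singleton] at hp; rw [hp, h7]; simp [lvB]
    · unfold chainCol at hp
      rw [List.mem_flatMap] at hp
      obtain ⟨e, he, hp⟩ := hp
      have he' := (List.mem_filter.1 he).1
      have hes : e.1 = s := by
        have := (List.mem_filter.1 he).2
        exact Nat.eq_of_beq_eq_true this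
      unfold entryCol at hp
      cases hq : e.2.toList[k-1]? with
      | none => rw [hq] at hp; simp at hp
      | some q =>
        rw [hq] at hp
        simp only [List.mem_singleton] at hp
        rw [hp]
        have := hch e he' (k - 1) q hq
        simp only [lvB]
        rw [this, hes]
        have hk : 1 ≤ k := Nat.one_le_iff_ne_zero.2 h7
        congr 2
        push_cast [hk]
        ring

theorem coef_ne_zero_mem (v : SVec) (b : BIdx) (h : coef v b ≠ 0) : ∃ p ∈ v, p.1 = b := by
  induction v with
  | nil => simp at h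
  | cons p v ih =>
    rw [coef_cons] at h
    by_cases hp : p.1 = b
    · exact ⟨p, List.mem_cons_self .., hp⟩
    · rw [if_neg hp, zero_add] at h
      obtain ⟨p', hp', hb⟩ := ih h
      exact ⟨p', List.mem_cons_of_mem _ hp', hb⟩

theorem EF_entry_ne_zero (h : chkUp D = true) (F : Type*) [Field F] (r : ℕ) (hr : r < D.nroots) (k : ℕ)
    (row col : D.Idx) (hne : EF D F r k row col ≠ 0) : lvI D row = lvI D col + (k : ℤ) * htF D r := by
  unfold EF at hne
  rw [Matrix.map_apply, toMat_apply] at hne
  have h0 : coef (E D r k (enc D col)) (enc D row) ≠ 0 := by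
    intro h0; rw [h0] at hne; simp at hne
  obtain ⟨p, hp, hb⟩ := coef_ne_zero_mem _ _ h0
  have := E_homog D h r hr k (enc D col) p hp
  unfold lvI
  rw [← hb, this]

include hD in
/-- `x_r(t) - 1` raises the level by at least one, for a positive root `r` -/
theorem x_sub_one_raises (F : Type*) [Field F] (r : ℕ) (hr : D.IsPosRoot r) (t : F) :
    Raises (lvI D) 1 (D.x F r t - 1) := by
  have hr' : r < D.nroots := hr.1
  have hup := chkUp_all D hD
  obtain ⟨hpos, -, -, -⟩ := chkUp_spec D hup r hr'
  have hp := hpos hr
  rw [x_eq_sum D (wf_all D hD) F r hr', Finset.sum_range_succ', pow_zero, one_smul, EF_eq_mapMatrix,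
    toMat_E_zero]
  simp only [map_one, add_sub_cancel_right]
  apply Raises.sum
  intro k _
  apply Raises.smul
  intro row col hne
  have := EF_entry_ne_zero D hup F r hr' (k + 1) row col hne
  rw [this]
  push_cast
  nlinarith

include hD in
/-- `x_r(t) - 1` lowers the level by at least one, for a negative root `r` -/
theorem x_sub_one_lowers (F : Type*) [Field F] (r : ℕ) (hr : D.IsNegRoot r) (t : F) :
    Raises (fun x => - lvI D x) 1 (D.x F r t - 1) := by
  have hr' : r < D.nroots := hr.1
  have hup := chkUp_all D hD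
  obtain ⟨-, hneg, -, -⟩ := chkUp_spec D hup r hr'
  have hp := hneg hr
  rw [x_eq_sum D (wf_all D hD) F r hr', Finset.sum_range_succ', pow_zero, one_smul, EF_eq_mapMatrix,
    toMat_E_zero]
  simp only [map_one, add_sub_cancel_right]
  apply Raises.sum
  intro k _
  apply Raises.smul
  intro row col hne
  have := EF_entry_ne_zero D hup F r hr' (k + 1) row col hne
  show - lvI D col + 1 ≤ - lvI D row
  rw [this]
  push_cast
  nlinarith

include hD in
theorem posUnipotent_le_raises (F : Type*) [Field F] :
    D.posUnipotent F ≤ raisesSubgroup (lvI D) F 1 le_rfl := by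
  unfold ChevalleyDatum.posUnipotent
  rw [Subgroup.closure_le]
  rintro g ⟨r, t, hr, hg⟩
  show Raises (lvI D) 1 ((g : Matrix D.Idx D.Idx F) - 1)
  rw [hg]
  exact x_sub_one_raises D hD F r hr t

include hD in
theorem negUnipotent_le_raises (F : Type*) [Field F] :
    D.negUnipotent F ≤ raisesSubgroup (fun x => - lvI D x) F 1 le_rfl := by
  unfold ChevalleyDatum.negUnipotent
  rw [Subgroup.closure_le]
  rintro g ⟨r, t, hr, hg⟩
  show Raises (fun x => - lvI D x) 1 ((g : Matrix D.Idx D.Idx F) - 1)
  rw [hg]
  exact x_sub_one_lowers D hD F r hr t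

end Cfsg.Agent.Lib.Helper36
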