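import Cfsg.Agent.Lib.Helper36.F4OrderMain
import Cfsg.Agent.Lib.Helper36.ChevTri

/-! # The groups `²F₄`: exponent of the Sylow 2-subgroups (helper36) -/

set_option autoImplicit false

namespace Cfsg.Agent.Lib.Helper36

open Cfsg Cfsg.Lie Cfsg.Agent.Lib.Helper18

set_option maxRecDepth 100000 in
theorem f4_lvI_bounds : ∀ x : chevF4.Idx, -11 ≤ lvI chevF4 x ∧ lvI chevF4 x ≤ 11 := by decide

theorem f4_pos_pow_32 {K : Type*} [Field K] [CharP K 2] (u : GL chevF4.Idx K)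
    (hu : u ∈ chevF4.posUnipotent K) : u ^ 32 = 1 := by
  have h1 : Raises (lvI chevF4) 1 ((u : Matrix chevF4.Idx chevF4.Idx K) - 1) :=
    posUnipotent_le_raises chevF4 hF4 K hu
  have h2 := h1.pow 32
  have h3 : ((u : Matrix chevF4.Idx chevF4.Idx K) - 1) ^ 32 = 0 :=
    h2.eq_zero (-11) 11 (fun x => (f4_lvI_bounds x).1) (fun x => (f4_lvI_bounds x).2) (by norm_num)
  have : Fact (Nat.Prime 2) := ⟨Nat.prime_two⟩
  have : Nonempty chevF4.Idx := ⟨Sum.inr ⟨0, by decide⟩⟩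
  have h4 : ((u : Matrix chevF4.Idx chevF4.Idx K) - 1) ^ 2 ^ 5 =
      (u : Matrix chevF4.Idx chevF4.Idx K) ^ 2 ^ 5 - 1 ^ 2 ^ 5 :=
    sub_pow_char_pow_of_commute _ _ (Commute.one_right _)
  norm_num at h4
  rw [h3] at h4
  apply Units.ext
  rw [Units.val_pow_eq_pow_val, Units.val_one]
  exact (sub_eq_zero.1 h4.symm)

section
variable {K : Type*} [Field K] [Fintype K] {m : ℕ}

/-- the Sylow `2`-subgroup `U ∩ ²F₄(q)` of `²F₄(q)` -/
def f4U (K : Type*) [Field K] (θ : ℕ) : Subgroup ↥(twistedF4 K θ) :=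
  (chevF4.posUnipotent K ⊓ twistedF4 K θ).subgroupOf (twistedF4 K θ)

theorem f4U_card (hK : Fintype.card K = 2 ^ (2 * m + 1)) :
    Nat.card ↥(f4U K (2 ^ m)) = (2 ^ (2 * m + 1)) ^ 12 := by
  rw [← f4_card_pos_inf hK]
  exact Nat.card_congr (Subgroup.subgroupOfEquivOfLe inf_le_right).toEquiv

theorem f4_odd_arith (q : ℕ) (hq : 2 ∣ q) (hq1 : 1 ≤ q) :
    ¬ 2 ∣ (q - 1) * (q ^ 3 + 1) * (q ^ 4 - 1) * (q ^ 6 + 1) := by
  obtain ⟨k, rfl⟩ := hq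
  have hk : 1 ≤ k := by omega
  have e1 : ¬ 2 ∣ 2 * k - 1 := by omega
  have e2 : ¬ 2 ∣ (2 * k) ^ 3 + 1 := by
    have : (2 * k) ^ 3 = 2 * (4 * k ^ 3) := by ring
    omega
  have e3 : ¬ 2 ∣ (2 * k) ^ 4 - 1 := by
    have : (2 * k) ^ 4 = 2 * (8 * k ^ 4) := by ring
    have : 1 ≤ k ^ 4 := Nat.one_le_pow _ _ hk
    omega
  have e4 : ¬ 2 ∣ (2 * k) ^ 6 + 1 := by
    have : (2 * k) ^ 6 = 2 * (32 * k ^ 6) := by ring
    omega
  intro h
  rcases (Nat.Prime.dvd_mul Nat.prime_two).1 h with h | h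
  · rcases (Nat.Prime.dvd_mul Nat.prime_two).1 h with h | h
    · rcases (Nat.Prime.dvd_mul Nat.prime_two).1 h with h | h
      · exact e1 h
      · exact e2 h
    · exact e3 h
  · exact e4 h

theorem f4U_index (hK : Fintype.card K = 2 ^ (2 * m + 1)) : ¬ 2 ∣ (f4U K (2 ^ m)).index := by
  have h1 := (f4U K (2 ^ m)).card_mul_index
  rw [f4U_card hK, f4_order hK] at h1
  have h2 : (f4U K (2 ^ m)).index = (2 ^ (2 * m + 1) - 1) * ((2 ^ (2 * m + 1)) ^ 3 + 1) *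
      ((2 ^ (2 * m + 1)) ^ 4 - 1) * ((2 ^ (2 * m + 1)) ^ 6 + 1) := by
    have hpos : 0 < (2 ^ (2 * m + 1)) ^ 12 := by positivity
    apply Nat.eq_of_mul_eq_mul_left hpos
    rw [h1]; ring
  rw [h2]
  exact f4_odd_arith _ (dvd_pow_self 2 (by omega)) Nat.one_le_two_pow

/-- every `2`-element of `²F₄(q)` has order dividing `32` -/
theorem f4_two_elt_pow (hK : Fintype.card K = 2 ^ (2 * m + 1)) (x : ↥(twistedF4 K (2 ^ m)))
    (hx : ∃ j : ℕ, orderOf x = 2 ^ j) : x ^ 32 = 1 := by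
  classical
  have hcp := f4_charP hK
  have : Fact (Nat.Prime 2) := ⟨Nat.prime_two⟩
  have hP0 : IsPGroup 2 ↥(f4U K (2 ^ m)) := by
    apply IsPGroup.of_card (n := 12 * (2 * m + 1))
    rw [f4U_card hK, ← pow_mul, mul_comm]
  let P0 : Sylow 2 ↥(twistedF4 K (2 ^ m)) := hP0.toSylow (f4U_index hK)
  obtain ⟨j, hj⟩ := hx
  have hZ : IsPGroup 2 ↥(Subgroup.zpowers x) := by
    apply IsPGroup.of_card (n := j)
    rw [Nat.card_zpowers, hj]
  obtain ⟨Q, hQ⟩ := hZ.exists_le_sylow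
  obtain ⟨g, hg⟩ := MulAction.exists_smul_eq ↥(twistedF4 K (2 ^ m)) Q P0
  have hxQ : x ∈ Q := hQ (Subgroup.mem_zpowers x)
  have h1 : g * x * g⁻¹ ∈ (P0 : Subgroup ↥(twistedF4 K (2 ^ m))) := by
    rw [← hg, Sylow.coe_subgroup_smul]
    have := Subgroup.smul_mem_pointwise_smul x (MulAut.conj g) (Q : Subgroup ↥(twistedF4 K (2 ^ m))) hxQ
    simpa [MulAut.smul_def] using this
  have h2 : g * x * g⁻¹ ∈ f4U K (2 ^ m) := h1
  have h3 : ((g * x * g⁻¹ : ↥(twistedF4 K (2 ^ m))) : GL chevF4.Idx K) ∈ chevF4.posUnipotent K :=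
    (Subgroup.mem_subgroupOf.1 h2).1
  have h4 := f4_pos_pow_32 _ h3
  have h5 : (g * x * g⁻¹) ^ 32 = 1 := by
    apply Subtype.ext
    rw [Subgroup.coe_pow, h4]; rfl
  have h6 : (g * x * g⁻¹) ^ 32 = g * x ^ 32 * g⁻¹ := conj_pow
  rw [h6] at h5
  have h7 : x ^ 32 = g⁻¹ * (g * x ^ 32 * g⁻¹) * g := by group
  rw [h7, h5]; group

/-- every `2`-element of `²F₄(q)` has order at most `32` -/
theorem f4_two_elt_order (hK : Fintype.card K = 2 ^ (2 * m + 1)) (x : ↥(twistedF4 K (2 ^ m)))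
    (hx : ∃ j : ℕ, orderOf x = 2 ^ j) : orderOf x ≤ 32 :=
  Nat.le_of_dvd (by norm_num) (orderOf_dvd_of_pow_eq_one (f4_two_elt_pow hK x hx))

end

end Cfsg.Agent.Lib.Helper36
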