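import Cfsg.Agent.Lib.Helper36.F4Bits3
import Cfsg.Agent.Lib.Helper36.F4Exp

/-! # The group `²F₄(2)`: the basic elements and their identities (helper36) -/

set_option autoImplicit false

namespace Cfsg.Agent.Lib.Helper36

open Cfsg Cfsg.Lie Cfsg.Agent.Lib.Helper18

theorem card_zmod2 : Fintype.card (ZMod 2) = 2 ^ (2 * 0 + 1) := by
  rw [ZMod.card]; norm_num

/-- the group element of a word with all parameters `1` -/
def gW (w : List ℕ) : GL chevF4.Idx (ZMod 2) := wordGL chevF4 hF4 (ZMod 2) (f4W1 w)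

/-- the roots used -/
def f4Allowed : List ℕ := [14, 23, 24, 33, 17, 20, 22, 25, 27, 28, 30]

theorem gW_coe (w : List ℕ) (hw : ∀ r ∈ w, r ∈ f4Allowed) :
    ((gW w : GL chevF4.Idx (ZMod 2)) : Matrix chevF4.Idx chevF4.Idx (ZMod 2)) = bitMat (prodBits (w.map f4Tab2)) := by
  rw [gW, wordGL_coe, f4_wordMat_bitsP _ (f4W1_mem w hw), f4W1_tab]

theorem gW_append (w w' : List ℕ) : gW (w ++ w') = gW w * gW w' := by
  rw [gW, f4W1_append, f4_wordGL_append]; rfl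

theorem gW_eq_of_bits (w w' : List ℕ) (hw : ∀ r ∈ w, r ∈ f4Allowed) (hw' : ∀ r ∈ w', r ∈ f4Allowed)
    (h : prodBits (w.map f4Tab2) = prodBits (w'.map f4Tab2)) : gW w = gW w' :=
  Units.ext (by rw [gW_coe w hw, gW_coe w' hw', h])

theorem gW_eq_one (w : List ℕ) (hw : ∀ r ∈ w, r ∈ f4Allowed) (h : prodBits (w.map f4Tab2) = idBits) :
    gW w = 1 :=
  Units.ext (by rw [gW_coe w hw, h, ← bitMat_one]; rfl)

theorem gA_inv : (gW wA)⁻¹ = gW wA' := by
  apply inv_eq_of_mul_eq_one_right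
  rw [← gW_append]
  exact gW_eq_one _ (by decide) bI1

theorem gN1_inv : (gW wN1)⁻¹ = gW wN1 := by
  apply inv_eq_of_mul_eq_one_right
  rw [← gW_append]
  exact gW_eq_one _ (by decide) bI2

theorem gN2_inv : (gW wN2)⁻¹ = gW wN2 := by
  apply inv_eq_of_mul_eq_one_right
  rw [← gW_append]
  exact gW_eq_one _ (by decide) bI3

theorem gX_inv : (gW wX)⁻¹ = gW wX := by
  apply inv_eq_of_mul_eq_one_right
  rw [← gW_append]
  exact gW_eq_one _ (by decide) bI4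

theorem gA_sq : gW wA * gW wA = gW wZ := by
  rw [← gW_append]
  exact gW_eq_of_bits _ _ (by decide) (by decide) bI7

theorem gA_mul_gZ : gW wA * gW wZ = gW wA11 := by
  rw [← gW_append]
  exact gW_eq_of_bits _ _ (by decide) (by decide) bI8

/-- `n₂ x n₂⁻¹ = [a, g a g⁻¹]` with `g = n₂ n₁` -/
theorem gF1 : gW wN2 * gW wX * (gW wN2)⁻¹ =
    gW wA * ((gW wN2 * gW wN1) * gW wA * (gW wN2 * gW wN1)⁻¹) * (gW wA)⁻¹ *
      ((gW wN2 * gW wN1) * gW wA * (gW wN2 * gW wN1)⁻¹)⁻¹ := by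
  simp only [mul_inv_rev, gN2_inv, gN1_inv, gA_inv]
  simp only [← gW_append]
  exact gW_eq_of_bits _ _ (by decide) (by decide) bI5

set_option maxRecDepth 100000 in
/-- `α(0,1) = [g a g⁻¹, n₂ x n₂⁻¹]` with `g = n₁ n₂` -/
theorem gF2 : gW wZ =
    ((gW wN1 * gW wN2) * gW wA * (gW wN1 * gW wN2)⁻¹) * (gW wN2 * gW wX * (gW wN2)⁻¹) *
      ((gW wN1 * gW wN2) * gW wA * (gW wN1 * gW wN2)⁻¹)⁻¹ * (gW wN2 * gW wX * (gW wN2)⁻¹)⁻¹ := by
  simp only [mul_inv_rev, gN2_inv, gN1_inv, gA_inv, gX_inv]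
  simp only [← gW_append]
  exact gW_eq_of_bits _ _ (by decide) (by decide) bI6

end Cfsg.Agent.Lib.Helper36
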