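import Cfsg.Agent.Lib.Helper36.F4Order

/-! # The groups `²F₄`: the (B,N)-pair (helper36) -/

set_option autoImplicit false

namespace Cfsg.Agent.Lib.Helper36

open Cfsg Cfsg.Lie Cfsg.Agent.Lib.Helper18

section weyl

theorem f4RhoComm_of_eq (l₁ l₂ : List ℕ) (hl₁ : ∀ i ∈ l₁, i < chevF4.rank) (hl₂ : ∀ i ∈ l₂, i < chevF4.rank)
    (h : ∀ r < 48, wRoot chevF4 l₁ r = wRoot chevF4 l₂ r) (h2 : F4RhoComm l₂) : F4RhoComm l₁ := by
  intro r hr
  obtain ⟨h3, h4⟩ := f4_rho_invol r hr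
  have e1 := wRoot_swapF l₁ hl₁ _ h4
  have e2 := wRoot_swapF l₂ hl₂ _ h4
  rw [h3] at e1 e2
  rw [e1, h _ h4, ← e2, h2 r hr, h r hr]

theorem f4RhoComm_cancel (J l : List ℕ) (_hl : ∀ i ∈ l, i < chevF4.rank)
    (h : F4RhoComm (J ++ l)) (h2 : F4RhoComm l) : F4RhoComm J := by
  intro r hr
  have hl' := swapF_lt l
  have hlr : ∀ i ∈ (swapF l).reverse, i < chevF4.rank := fun i hi => hl' i (List.mem_reverse.1 hi)
  set r'' := wRoot chevF4 (swapF l).reverse r with hr''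
  have hr''lt : r'' < 48 := wRoot_lt chevF4 hF4 _ hlr r hr
  have e : wRoot chevF4 (swapF l) r'' = r := wRoot_reverse chevF4 hF4 _ hl' r hr
  have h3 := h r'' hr''lt
  rw [swapF_append, wRoot_append, wRoot_append, e] at h3
  rw [h3, ← h2 r'' hr''lt, e]

set_option maxRecDepth 100000 in
theorem f4_sub_cases1 : ∀ J' ∈ [[], [0], [3], [0, 3]],
    (∀ r < 48, wRoot chevF4 (swapF J') r = wRoot chevF4 J' r) →
    (∀ r < 48, wRoot chevF4 J' r = r) ∨ (∀ r < 48, wRoot chevF4 J' r = wRoot chevF4 [0, 3] r) := by decide +kernel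

set_option maxRecDepth 100000 in
theorem f4_sub_cases2 : ∀ J' ∈ [[], [1], [2], [1, 2], [2, 1], [1, 1], [2, 2], [1, 2, 1], [1, 2, 2], [1, 1, 2],
      [2, 1, 2], [1, 2, 1, 2]],
    (∀ r < 48, wRoot chevF4 (swapF J') r = wRoot chevF4 J' r) →
    (∀ r < 48, wRoot chevF4 J' r = r) ∨ (∀ r < 48, wRoot chevF4 J' r = wRoot chevF4 [1, 2, 1, 2] r) := by
  decide +kernel

theorem f4_sublists1 : ∀ J' ∈ [0, 3].sublists, J' ∈ [[], [0], [3], [0, 3]] := by decide

theorem f4_sublists2 : ∀ J' ∈ [1, 2, 1, 2].sublists, J' ∈ [[], [1], [2], [1, 2], [2, 1], [1, 1], [2, 2], [1, 2, 1],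
    [1, 2, 2], [1, 1, 2], [2, 1, 2], [1, 2, 1, 2]] := by decide

theorem f4_sub_cases : ∀ J ∈ f4Fund, ∀ J' ∈ J.sublists, (∀ r < 48, wRoot chevF4 (swapF J') r = wRoot chevF4 J' r) →
    (∀ r < 48, wRoot chevF4 J' r = r) ∨ (∀ r < 48, wRoot chevF4 J' r = wRoot chevF4 J r) := by
  intro J hJ J' hJ'
  simp only [f4Fund, List.mem_cons, List.not_mem_nil, or_false] at hJ
  rcases hJ with rfl | rfl
  · exact f4_sub_cases1 J' (f4_sublists1 J' hJ')
  · exact f4_sub_cases2 J' (f4_sublists2 J' hJ')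

set_option maxRecDepth 100000 in
theorem f4_fund_inj : ∀ J ∈ f4Fund, ∀ J' ∈ f4Fund, J ≠ J' → ∃ r < 48, wRoot chevF4 J r ≠ wRoot chevF4 J' r := by
  decide

end weyl

section bn
variable {K : Type*} [Field K] [Fintype K] {m : ℕ} {σ : ↥(chevF4.group K) →* ↥(chevF4.group K)}

/-- the double coset axiom in the twisted group -/
theorem f4_bn4 (hK : Fintype.card K = 2 ^ (2 * m + 1)) (hσ : IsF4Sig K (2 ^ m) σ) (J : List ℕ) (hJ : J ∈ f4Fund)
    (n : GL chevF4.Idx K) (hn : n ∈ chevF4.monomialSubgroup K) (hnT : n ∈ twistedF4 K (2 ^ m))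
    (b : GL chevF4.Idx K) (hb : b ∈ chevF4.borelSubgroup K) (hbT : b ∈ twistedF4 K (2 ^ m)) :
    ∃ b1 ∈ chevF4.borelSubgroup K ⊓ twistedF4 K (2 ^ m), ∃ b2 ∈ chevF4.borelSubgroup K ⊓ twistedF4 K (2 ^ m),
      nWordGL chevF4 hF4 K J * b * n = b1 * (nWordGL chevF4 hF4 K J * n) * b2 ∨
        nWordGL chevF4 hF4 K J * b * n = b1 * n * b2 := by
  have hcp := f4_charP hK
  have hθ : (2 : ℕ) ^ m ≠ 0 := pow_ne_zero _ (by norm_num)
  have hle := f4_twisted_le_fix hK hσ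
  set T := twistedF4 K (2 ^ m) with hT
  have hJr := f4_fund_lt J hJ
  have hJN : nWordGL chevF4 hF4 K J ∈ chevF4.monomialSubgroup K := nWordGL_mem chevF4 hF4 K J hJr
  have hJT : nWordGL chevF4 hF4 K J ∈ T := f4_fund_mem hθ J hJ
  obtain ⟨l, hl, hrc, h, hh, rfl⟩ := f4_mono hσ n hn (hle hnT)
  obtain ⟨J', hJ's, hcell⟩ := bn4_list chevF4 hF4 K J hJr l hl h hh b hb
  set g := nWordGL chevF4 hF4 K J * b * (nWordGL chevF4 hF4 K l * h) with hg
  have hgT : g ∈ T := mul_mem (mul_mem hJT hbT) hnT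
  obtain ⟨l₂, hl₂, hrc₂, u₁, hu₁, h₁, hh₁, u, hu, e, hmT⟩ := f4_tw_descent hK hσ g hgT
  have hJ'r : ∀ i ∈ J', i < chevF4.rank := fun i hi => hJr i (hJ's.subset hi)
  have hJ'l : ∀ i ∈ J' ++ l, i < chevF4.rank := by
    intro i hi
    rcases List.mem_append.1 hi with h | h
    · exact hJ'r i h
    · exact hl i h
  have huU := sGens_le_pos chevF4 K l₂ hu.1
  obtain ⟨hw, hdiag⟩ := cell_word_eq chevF4 hF4 K (J' ++ l) l₂ hJ'l hl₂ h h₁ hh hh₁ g hcell u₁ u hu₁.1 huU e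
  have hrcJ'l : F4RhoComm (J' ++ l) := f4RhoComm_of_eq _ _ hJ'l hl₂ hw hrc₂
  have hrcJ' : F4RhoComm J' := f4RhoComm_cancel J' l hl hrcJ'l hrc
  have hUB := pos_le_borel chevF4 K
  have hHB := diagonal_le_borel chevF4 K
  have hlN : nWordGL chevF4 hF4 K l ∈ chevF4.monomialSubgroup K := nWordGL_mem chevF4 hF4 K l hl
  have hJ'N : nWordGL chevF4 hF4 K J' ∈ chevF4.monomialSubgroup K := nWordGL_mem chevF4 hF4 K J' hJ'r
  rcases f4_sub_cases J hJ J' (List.mem_sublists.2 hJ's) hrcJ' with hid | hJJ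
  · -- `J'` acts trivially
    have hJ'H : nWordGL chevF4 hF4 K J' ∈ chevF4.diagonalSubgroup K := by
      apply nWord_mem_diag_of_pos chevF4 hF4 K J' hJ'r
      intro s hs
      rw [hid s hs.1]; exact hs
    set h' := (h₁ * nWordGL chevF4 hF4 K l₂) * (nWordGL chevF4 hF4 K l * h)⁻¹ with hh'
    have hh'H : h' ∈ chevF4.diagonalSubgroup K := by
      have : h' = ((h₁ * nWordGL chevF4 hF4 K l₂) * (nWordGL chevF4 hF4 K (J' ++ l) * h)⁻¹) *
          nWordGL chevF4 hF4 K J' := by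
        rw [hh', nWordGL_append]; group
      rw [this]
      exact mul_mem hdiag hJ'H
    have hh'T : h' ∈ T := by
      rw [hh']; exact mul_mem hmT (inv_mem hnT)
    have em : h₁ * nWordGL chevF4 hF4 K l₂ = h' * (nWordGL chevF4 hF4 K l * h) := by rw [hh']; group
    refine ⟨u₁ * h', ⟨mul_mem (hUB hu₁.1) (hHB hh'H), mul_mem hu₁.2 hh'T⟩, u, ⟨hUB huU, hu.2⟩, Or.inr ?_⟩
    rw [e, em]; group
  · -- `J'` acts as `J`
    have hJJ' : (nWordGL chevF4 hF4 K J)⁻¹ * nWordGL chevF4 hF4 K J' ∈ chevF4.diagonalSubgroup K :=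
      mem_diag_of_wRoot_eq chevF4 hF4 K J' J hJ'r hJr hJJ
    have hJJ'' : nWordGL chevF4 hF4 K J' * (nWordGL chevF4 hF4 K J)⁻¹ ∈ chevF4.diagonalSubgroup K := by
      have h3 := conj_mem_diag chevF4 hF4 K (nWordGL chevF4 hF4 K J)⁻¹ _ (inv_mem hJN) hJJ'
      have e3 : (nWordGL chevF4 hF4 K J)⁻¹⁻¹ * ((nWordGL chevF4 hF4 K J)⁻¹ * nWordGL chevF4 hF4 K J') *
          (nWordGL chevF4 hF4 K J)⁻¹ = nWordGL chevF4 hF4 K J' * (nWordGL chevF4 hF4 K J)⁻¹ := by group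
      rw [e3] at h3
      exact h3
    set h' := (h₁ * nWordGL chevF4 hF4 K l₂) * (nWordGL chevF4 hF4 K J * (nWordGL chevF4 hF4 K l * h))⁻¹ with hh'
    have hh'H : h' ∈ chevF4.diagonalSubgroup K := by
      have : h' = ((h₁ * nWordGL chevF4 hF4 K l₂) * (nWordGL chevF4 hF4 K (J' ++ l) * h)⁻¹) *
          (nWordGL chevF4 hF4 K J' * (nWordGL chevF4 hF4 K J)⁻¹) := by
        rw [hh', nWordGL_append]; group
      rw [this]
      exact mul_mem hdiag hJJ''
    have hh'T : h' ∈ T := by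
      rw [hh']; exact mul_mem hmT (inv_mem (mul_mem hJT hnT))
    have em : h₁ * nWordGL chevF4 hF4 K l₂ =
        h' * (nWordGL chevF4 hF4 K J * (nWordGL chevF4 hF4 K l * h)) := by rw [hh']; group
    refine ⟨u₁ * h', ⟨mul_mem (hUB hu₁.1) (hHB hh'H), mul_mem hu₁.2 hh'T⟩, u, ⟨hUB huU, hu.2⟩, Or.inl ?_⟩
    rw [e, em]; group

/-- the folded reflections do not normalise `B` -/
theorem f4_conj_ne (J : List ℕ) (hJ : J ∈ f4Fund) :
    ∃ x ∈ chevF4.borelSubgroup K ⊓ twistedF4 K (2 ^ m),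
      nWordGL chevF4 hF4 K J * x * nWordGL chevF4 hF4 K J ∉ chevF4.borelSubgroup K := by
  have hJsq := f4_nJ_sq (K := K) J hJ
  -- a nontrivial element of `X_J` in the twisted group
  have hex : ∃ x ∈ Subgroup.closure (sGens chevF4 K J) ⊓ twistedF4 K (2 ^ m), x ≠ 1 := by
    simp only [f4Fund, List.mem_cons, List.not_mem_nil, or_false] at hJ
    rcases hJ with rfl | rfl
    · refine ⟨wordGL chevF4 hF4 K (f4PairWord (2 ^ m) f4p1 f4p4 1), ⟨f4_word_mem_XJ _ _ ?_, f4_pair_mem _ _⟩, ?_⟩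
      · intro p hp
        rw [f4_pairWord_eq] at hp
        simp only [List.mem_cons, List.not_mem_nil, or_false] at hp
        rcases hp with rfl | rfl
        · exact f4_blkA_mem 33 (by decide)
        · exact f4_blkA_mem 24 (by decide)
      · intro h1
        have h0 : wordGL chevF4 hF4 K [(33, (0 : K)), (24, 0)] = 1 := by
          simp [wordGL, xGL_zero]
        rw [f4_pairWord_eq, ← h0] at h1
        have := (f4_pair_unique _ _ _ _ h1).2
        exact one_ne_zero this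
    · refine ⟨wordGL chevF4 hF4 K (b2ClassWord (2 ^ m) f4a f4b f4ab f4aab 1 0),
        ⟨f4_word_mem_XJ _ _ ?_, f4_class_mem _ _ _⟩, ?_⟩
      · intro p hp
        rw [f4_classWord_eq] at hp
        simp only [List.mem_cons, List.not_mem_nil, or_false] at hp
        rcases hp with rfl | rfl | rfl | rfl
        · exact f4_blkB_mem 27 (by decide)
        · exact f4_blkB_mem 25 (by decide)
        · exact f4_blkB_mem 28 (by decide)
        · exact f4_blkB_mem 30 (by decide)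
      · intro h1
        have h0 : wordGL chevF4 hF4 K [(27, (0 : K)), (25, 0), (28, 0), (30, 0)] = 1 := by
          simp [wordGL, xGL_zero]
        rw [f4_classWord_eq, ← h0] at h1
        have := (f4_class_unique _ _ _ _ _ _ _ _ h1).2.1
        exact one_ne_zero this
  obtain ⟨x, ⟨hxJ, hxT⟩, hx1⟩ := hex
  have hxU : x ∈ chevF4.posUnipotent K := sGens_le_pos chevF4 K J hxJ
  refine ⟨x, ⟨pos_le_borel chevF4 K hxU, hxT⟩, fun hmem => hx1 ?_⟩
  have hV := f4_conj_XJ_neg (K := K) J hJ x hxJ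
  have hB : nWordGL chevF4 hF4 K J * x * (nWordGL chevF4 hF4 K J)⁻¹ ∈ chevF4.borelSubgroup K := by
    have e : nWordGL chevF4 hF4 K J * x * (nWordGL chevF4 hF4 K J)⁻¹ =
        (nWordGL chevF4 hF4 K J * x * nWordGL chevF4 hF4 K J) *
          (nWordGL chevF4 hF4 K J * nWordGL chevF4 hF4 K J)⁻¹ := by group
    rw [e]
    exact mul_mem hmem (inv_mem (diagonal_le_borel chevF4 K hJsq))
  have h1' : nWordGL chevF4 hF4 K J * x * (nWordGL chevF4 hF4 K J)⁻¹ = 1 := by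
    have : nWordGL chevF4 hF4 K J * x * (nWordGL chevF4 hF4 K J)⁻¹ ∈
        chevF4.borelSubgroup K ⊓ chevF4.negUnipotent K := ⟨hB, hV⟩
    rw [borel_inf_neg chevF4 hF4 K] at this
    exact Subgroup.mem_bot.1 this
  have : x = (nWordGL chevF4 hF4 K J)⁻¹ * (nWordGL chevF4 hF4 K J * x * (nWordGL chevF4 hF4 K J)⁻¹) *
      nWordGL chevF4 hF4 K J := by group
  rw [this, h1']; group

end bn

section pair
variable {K : Type*} [Field K] [Fintype K] {m : ℕ}

/-- the (B,N)-pair of the twisted group -/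
theorem f4_bnPair (hK : Fintype.card K = 2 ^ (2 * m + 1)) :
    ∃ P : Cfsg.BNPair ↥(twistedF4 K (2 ^ m)),
      P.B = (chevF4.borelSubgroup K ⊓ twistedF4 K (2 ^ m)).subgroupOf (twistedF4 K (2 ^ m)) ∧
      P.N = (chevF4.monomialSubgroup K ⊓ twistedF4 K (2 ^ m)).subgroupOf (twistedF4 K (2 ^ m)) ∧
      P.S = {n : ↥(twistedF4 K (2 ^ m)) | ∃ J ∈ f4Fund, (n : GL chevF4.Idx K) = nWordGL chevF4 hF4 K J} := by
  have hcp := f4_charP hK
  obtain ⟨σ, hσ⟩ := exists_f4Sig hK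
  have hle := f4_twisted_le_fix hK hσ
  have hθ : (2 : ℕ) ^ m ≠ 0 := pow_ne_zero _ (by norm_num)
  set T := twistedF4 K (2 ^ m) with hT
  have hmB : ∀ x : ↥T, x ∈ (chevF4.borelSubgroup K ⊓ T).subgroupOf T ↔
      (x : GL chevF4.Idx K) ∈ chevF4.borelSubgroup K := by
    intro x
    rw [Subgroup.mem_subgroupOf, Subgroup.mem_inf]
    exact ⟨fun h => h.1, fun h => ⟨h, x.2⟩⟩
  have hmN : ∀ x : ↥T, x ∈ (chevF4.monomialSubgroup K ⊓ T).subgroupOf T ↔
      (x : GL chevF4.Idx K) ∈ chevF4.monomialSubgroup K := by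
    intro x
    rw [Subgroup.mem_subgroupOf, Subgroup.mem_inf]
    exact ⟨fun h => h.1, fun h => ⟨h, x.2⟩⟩
  have hHB := diagonal_le_borel chevF4 K
  have hHN := diagonal_le_monomial chevF4 K
  have hJN : ∀ J ∈ f4Fund, nWordGL chevF4 hF4 K J ∈ chevF4.monomialSubgroup K := fun J hJ =>
    nWordGL_mem chevF4 hF4 K J (f4_fund_lt J hJ)
  have hJT : ∀ J ∈ f4Fund, nWordGL chevF4 hF4 K J ∈ T := fun J hJ => f4_fund_mem hθ J hJ
  refine ⟨{
    B := (chevF4.borelSubgroup K ⊓ T).subgroupOf T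
    N := (chevF4.monomialSubgroup K ⊓ T).subgroupOf T
    S := {n : ↥T | ∃ J ∈ f4Fund, (n : GL chevF4.Idx K) = nWordGL chevF4 hF4 K J}
    sup_eq_top := ?_
    conj_mem := ?_
    subset := ?_
    sq_mem := ?_
    inj := ?_
    closure_sup := ?_
    mul_mem_union := ?_
    conj_ne := ?_ }, rfl, rfl, rfl⟩
  · -- sup_eq_top
    rw [eq_top_iff]
    intro g _
    obtain ⟨l, hl, -, u₁, hu₁, h₁, hh₁, u, hu, e, hmT⟩ := f4_tw_descent hK hσ g.1 g.2
    have hm : h₁ * nWordGL chevF4 hF4 K l ∈ chevF4.monomialSubgroup K :=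
      mul_mem (hHN hh₁) (nWordGL_mem chevF4 hF4 K l hl)
    have eg : g = (⟨u₁, hu₁.2⟩ : ↥T) * ⟨h₁ * nWordGL chevF4 hF4 K l, hmT⟩ * ⟨u, hu.2⟩ := Subtype.ext e
    rw [eg]
    refine mul_mem (mul_mem (Subgroup.mem_sup_left ?_) (Subgroup.mem_sup_right ?_)) (Subgroup.mem_sup_left ?_)
    · rw [hmB]; exact pos_le_borel chevF4 K hu₁.1
    · rw [hmN]; exact hm
    · rw [hmB]; exact pos_le_borel chevF4 K (sGens_le_pos chevF4 K l hu.1)
  · -- conj_mem
    intro n hn t ht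
    rw [hmN] at hn
    rw [hmB]
    have htH : (t : GL chevF4.Idx K) ∈ chevF4.diagonalSubgroup K := by
      rw [← borel_inf_monomial chevF4 hF4 K]
      exact ⟨(hmB t).1 ht.1, (hmN t).1 ht.2⟩
    have := conj_mem_diag chevF4 hF4 K (n : GL chevF4.Idx K)⁻¹ _ (inv_mem hn) htH
    rw [inv_inv] at this
    exact hHB this
  · -- subset
    rintro s ⟨J, hJ, e⟩
    show s ∈ (chevF4.monomialSubgroup K ⊓ T).subgroupOf T
    rw [hmN, e]
    exact hJN J hJ
  · -- sq_mem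
    rintro s ⟨J, hJ, e⟩
    rw [hmB, Subgroup.coe_mul, e]
    exact hHB (f4_nJ_sq J hJ)
  · -- inj
    rintro s ⟨J, hJ, e⟩ s' ⟨J', hJ', e'⟩ h
    rw [hmB, Subgroup.coe_mul, Subgroup.coe_inv, e, e'] at h
    have hN : (nWordGL chevF4 hF4 K J)⁻¹ * nWordGL chevF4 hF4 K J' ∈ chevF4.monomialSubgroup K :=
      mul_mem (inv_mem (hJN J hJ)) (hJN J' hJ')
    have hH : (nWordGL chevF4 hF4 K J)⁻¹ * nWordGL chevF4 hF4 K J' ∈ chevF4.diagonalSubgroup K := by
      rw [← borel_inf_monomial chevF4 hF4 K]; exact ⟨h, hN⟩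
    have hJJ : J = J' := by
      by_contra hne
      obtain ⟨r, hr, hne'⟩ := f4_fund_inj J hJ J' hJ' hne
      exact hne' (wRoot_eq_of_mem_diag chevF4 hF4 K J J' (f4_fund_lt J hJ) (f4_fund_lt J' hJ') hH r hr)
    apply Subtype.ext
    rw [e, e', hJJ]
  · -- closure_sup
    apply le_antisymm
    · apply sup_le _ inf_le_right
      rw [Subgroup.closure_le]
      rintro s ⟨J, hJ, e⟩
      rw [SetLike.mem_coe, hmN, e]
      exact hJN J hJ
    · intro n hn
      rw [hmN] at hn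
      obtain ⟨Js, hJs, h, hh', e⟩ := f4_mono_folded hσ hθ hle n.1 hn n.2
      have hh := Subgroup.mem_inf.1 hh'
      have hprod : ∀ (Js : List (List ℕ)), (∀ J ∈ Js, J ∈ f4Fund) →
          ∀ hp : (Js.map fun J => nWordGL chevF4 hF4 K J).prod ∈ T,
            (⟨(Js.map fun J => nWordGL chevF4 hF4 K J).prod, hp⟩ : ↥T) ∈
              Subgroup.closure {n : ↥T | ∃ J ∈ f4Fund, (n : GL chevF4.Idx K) = nWordGL chevF4 hF4 K J} := by
        intro Js
        induction Js with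
        | nil => intro _ hp; exact one_mem _
        | cons J Js ih =>
          intro hJs hp
          have hJ := hJs J (List.mem_cons_self ..)
          have hJs' : ∀ J' ∈ Js, J' ∈ f4Fund := fun J' hJ' => hJs J' (List.mem_cons_of_mem _ hJ')
          have hp' : (Js.map fun J => nWordGL chevF4 hF4 K J).prod ∈ T := by
            apply Subgroup.list_prod_mem
            intro x hx
            obtain ⟨J', hJ', rfl⟩ := List.mem_map.1 hx
            exact hJT J' (hJs' J' hJ')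
          have e2 : (⟨((J :: Js).map fun J => nWordGL chevF4 hF4 K J).prod, hp⟩ : ↥T) =
              ⟨nWordGL chevF4 hF4 K J, hJT J hJ⟩ * ⟨(Js.map fun J => nWordGL chevF4 hF4 K J).prod, hp'⟩ := by
            apply Subtype.ext
            simp
          rw [e2]
          exact mul_mem (Subgroup.subset_closure ⟨J, hJ, rfl⟩) (ih hJs' hp')
      have hpT : (Js.map fun J => nWordGL chevF4 hF4 K J).prod ∈ T := by
        apply Subgroup.list_prod_mem
        intro x hx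
        obtain ⟨J', hJ', rfl⟩ := List.mem_map.1 hx
        exact hJT J' (hJs J' hJ')
      have en : n = (⟨(Js.map fun J => nWordGL chevF4 hF4 K J).prod, hpT⟩ : ↥T) * ⟨h, hh.2⟩ := Subtype.ext e
      rw [en]
      refine mul_mem (Subgroup.mem_sup_left (hprod Js hJs hpT))
        (Subgroup.mem_sup_right (Subgroup.mem_inf.2 ⟨?_, ?_⟩))
      · rw [hmB]; exact hHB hh.1
      · rw [hmN]; exact hHN hh.1
  · -- mul_mem_union
    rintro s ⟨J, hJ, e⟩ n hn b hb
    rw [hmN] at hn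
    rw [hmB] at hb
    obtain ⟨b1, hb1, b2, hb2, key⟩ := f4_bn4 hK hσ J hJ n.1 hn n.2 b.1 hb b.2
    rcases key with e1 | e1
    · left
      rw [DoubleCoset.mem_doubleCoset]
      refine ⟨⟨b1, hb1.2⟩, (hmB _).2 hb1.1, ⟨b2, hb2.2⟩, (hmB _).2 hb2.1, ?_⟩
      apply Subtype.ext
      simp only [Subgroup.coe_mul, e]
      exact e1
    · right
      rw [DoubleCoset.mem_doubleCoset]
      refine ⟨⟨b1, hb1.2⟩, (hmB _).2 hb1.1, ⟨b2, hb2.2⟩, (hmB _).2 hb2.1, ?_⟩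
      apply Subtype.ext
      simp only [Subgroup.coe_mul, e]
      exact e1
  · -- conj_ne
    rintro s ⟨J, hJ, e⟩ heq
    obtain ⟨x, hx, hnot⟩ := f4_conj_ne (K := K) (m := m) J hJ
    have hmem : s * ⟨x, hx.2⟩ * s ∈ (((chevF4.borelSubgroup K ⊓ T).subgroupOf T : Subgroup ↥T) : Set ↥T) := by
      rw [← heq]
      exact ⟨⟨x, hx.2⟩, (hmB _).2 hx.1, rfl⟩
    rw [SetLike.mem_coe, hmB, Subgroup.coe_mul, Subgroup.coe_mul, e] at hmem
    exact hnot hmem

end pair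

end Cfsg.Agent.Lib.Helper36
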