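import Cfsg.Agent.Lib.Helper36.F4TitsB
import Cfsg.Agent.Lib.Helper36.F4BN

/-! # The derived subgroup of `²F₄(2)` has index dividing 2 (helper36; ingredient I2 of helper31's Ti hive, S1074) -/

set_option autoImplicit false

namespace Cfsg.Agent.Lib.Helper36

open Cfsg Cfsg.Lie Cfsg.Agent.Lib.Helper18

local notation "𝔾" => twistedF4 (ZMod 2) (2 ^ 0)

/-- the torus over the field with two elements is trivial -/
theorem titsidx_diag_bot : chevF4.diagonalSubgroup (ZMod 2) = ⊥ := by
  rw [← torusHom_range chevF4 hF4 (ZMod 2), eq_bot_iff]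
  rintro _ ⟨t, rfl⟩
  have hs : Subsingleton (ZMod 2)ˣ := ⟨by decide⟩
  have : t = 1 := by
    funext k
    exact Subsingleton.elim _ _
  rw [this, map_one]
  exact Subgroup.mem_bot.2 rfl

/-- the class of `α(1,0)` in the abelianisation -/
noncomputable def titsidx_a : Abelianization ↥𝔾 := f4Ab (gW wA) gA_mem

theorem titsidx_a_sq : titsidx_a ^ 2 = 1 := by
  rw [pow_two]
  exact f4Ab_A_sq

/-- the class of an element of `U¹` -/
theorem titsidx_pos {σ : ↥(chevF4.group (ZMod 2)) →* ↥(chevF4.group (ZMod 2))} (hσ : IsF4Sig (ZMod 2) (2 ^ 0) σ)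
    (u : GL chevF4.Idx (ZMod 2)) (hu : u ∈ chevF4.posUnipotent (ZMod 2) ⊓ 𝔾) :
    ∃ hG : u ∈ 𝔾, f4Ab u hG ∈ Subgroup.zpowers titsidx_a := by
  rw [f4_pos_inf_eq card_zmod2 hσ, ← f4_sGens_w0] at hu
  have hdec := f4_dec hσ f4W0R f4W0R_red _ hu
  obtain ⟨huG, ps, hps, hact, hab⟩ := f4_dec_sound hσ f4W0R (by decide) _ hdec
  refine ⟨huG, ?_⟩
  rw [hab]
  split_ifs
  · exact Subgroup.mem_zpowers _
  · exact one_mem _

/-- every class of the abelianisation of `²F₄(2)` is a power of the class of `α(1,0)` -/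
theorem titsidx_mem (g : ↥𝔾) : Abelianization.of g ∈ Subgroup.zpowers titsidx_a := by
  obtain ⟨σ, hσ⟩ := exists_f4Sig card_zmod2
  obtain ⟨P, hB, hN, hS⟩ := f4_bnPair card_zmod2
  set M : Subgroup ↥𝔾 := (Subgroup.zpowers titsidx_a).comap Abelianization.of with hM
  have hBM : P.B ≤ M := by
    intro x hx
    rw [hB, Subgroup.mem_subgroupOf, Subgroup.mem_inf] at hx
    have h1 : (x : GL chevF4.Idx (ZMod 2)) ∈ chevF4.posUnipotent (ZMod 2) := by
      have := hx.1
      unfold ChevalleyDatum.borelSubgroup at this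
      rw [titsidx_diag_bot, sup_bot_eq] at this
      exact this
    obtain ⟨hG, h2⟩ := titsidx_pos hσ x ⟨h1, hx.2⟩
    exact h2
  have hSM : P.S ⊆ (M : Set ↥𝔾) := by
    intro n hn
    rw [hS] at hn
    obtain ⟨J, hJ, e⟩ := hn
    obtain ⟨-, -, hinv, -⟩ := nJ_facts J hJ
    have hnn : n * n = 1 := by
      apply Subtype.ext
      have : ((n * n : ↥𝔾) : GL chevF4.Idx (ZMod 2)) = nWordGL chevF4 hF4 (ZMod 2) J * nWordGL chevF4 hF4 (ZMod 2) J := by
        rw [Subgroup.coe_mul, e]
      rw [this]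
      nth_rewrite 1 [← hinv]
      rw [inv_mul_cancel]
      rfl
    show Abelianization.of n ∈ Subgroup.zpowers titsidx_a
    by_cases h1 : n = 1
    · rw [h1, map_one]; exact one_mem _
    · have ho : orderOf n = 2 := orderOf_eq_prime (by rw [pow_two]; exact hnn) h1
      have hc := f4_tits_invol n ho
      have : Abelianization.of n = 1 := (QuotientGroup.eq_one_iff n).2 hc
      rw [this]; exact one_mem _
  have htop : M = ⊤ := by
    rw [eq_top_iff, ← P.sup_eq_top, ← P.closure_sup]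
    refine sup_le hBM (sup_le ((Subgroup.closure_le _).2 hSM) (inf_le_left.trans hBM))
  have : g ∈ M := by rw [htop]; trivial
  exact this

/-- the abelianisation of `²F₄(2)` has at most two elements -/
theorem titsidx_card_ab : Nat.card (Abelianization ↥𝔾) ∣ 2 := by
  have htop : Subgroup.zpowers titsidx_a = ⊤ := by
    rw [eq_top_iff]
    intro x _
    obtain ⟨g, rfl⟩ := QuotientGroup.mk_surjective x
    exact titsidx_mem g
  have h1 : Nat.card (Abelianization ↥𝔾) = Nat.card ↥(Subgroup.zpowers titsidx_a) := by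
    rw [htop]
    exact (Nat.card_congr Subgroup.topEquiv.toEquiv).symm
  rw [h1, Nat.card_zpowers]
  exact orderOf_dvd_of_pow_eq_one titsidx_a_sq

/-- **I2**: the derived subgroup of `²F₄(2)` has index dividing 2 -/
theorem tits_index_dvd_two : (commutator ↥(twistedF4 (ZMod 2) 1)).index ∣ 2 := by
  have h : (commutator ↥𝔾).index ∣ 2 := by
    rw [Subgroup.index_eq_card]
    exact titsidx_card_ab
  exact h

theorem tits_index_le_two : (commutator ↥(twistedF4 (ZMod 2) 1)).index ≤ 2 :=
  Nat.le_of_dvd (by norm_num) tits_index_dvd_two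

end Cfsg.Agent.Lib.Helper36
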