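import Cfsg.Agent.Lib.Helper36.F4Simple
import Cfsg.Agent.Lib.Helper36.TitsIdx

/-! # Ti mini-hive (S1074, owner helper31), leaf TI-BN: the BN-pair of `²F₄(2)` is irreducible, has trivial core,
and its `B` is a 2-group (helper36) -/

set_option autoImplicit false

namespace Cfsg.Agent.Lib.Helper31.Ti

open Cfsg Cfsg.Lie Cfsg.Agent.Lib.Helper36 Cfsg.Agent.Lib.Helper18

/-- over the field with two elements the Borel subgroup is the positive unipotent subgroup -/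
theorem tibn_borel_eq : chevF4.borelSubgroup (ZMod 2) = chevF4.posUnipotent (ZMod 2) := by
  unfold ChevalleyDatum.borelSubgroup
  rw [titsidx_diag_bot, sup_bot_eq]

theorem tibn_aux : ∃ P : Cfsg.BNPair ↥(twistedF4 (ZMod 2) (2 ^ 0)),
    P.Irreducible ∧ P.B.normalCore = ⊥ ∧ IsPGroup 2 ↥P.B := by
  obtain ⟨P, hB, hN, hS⟩ := f4_bnPair card_zmod2
  refine ⟨P, ?_, ?_, ?_⟩
  · -- irreducible
    intro Jset hJset hJne hJc
    obtain ⟨s0, hs0⟩ := hJne
    obtain ⟨s1, hs1, hs1'⟩ := hJc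
    have hs0S := hJset hs0
    rw [hS] at hs0S hs1
    obtain ⟨Ja, hJa, ea⟩ := hs0S
    obtain ⟨Jb, hJb, eb⟩ := hs1
    have hne : Ja ≠ Jb := by
      intro h
      apply hs1'
      have : s1 = s0 := Subtype.ext (by rw [ea, eb, h])
      rw [this]; exact hs0
    refine ⟨s0, hs0, s1, ⟨?_, hs1'⟩, ?_⟩
    · rw [hS]; exact ⟨Jb, hJb, eb⟩
    · rw [hB, Subgroup.mem_subgroupOf]
      intro hmem
      have := f4_comm_not_mem_borel (K := ZMod 2) Ja Jb hJa hJb hne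
      apply this
      have e : ((s0 * s1 * s0⁻¹ * s1⁻¹ : ↥(twistedF4 (ZMod 2) (2 ^ 0))) : GL chevF4.Idx (ZMod 2)) =
          nWordGL chevF4 hF4 (ZMod 2) Ja * nWordGL chevF4 hF4 (ZMod 2) Jb * (nWordGL chevF4 hF4 (ZMod 2) Ja)⁻¹ *
            (nWordGL chevF4 hF4 (ZMod 2) Jb)⁻¹ := by
        simp only [Subgroup.coe_mul, Subgroup.coe_inv, ea, eb]
      rw [← e]
      exact hmem.1
  · rw [hB]; exact f4_normalCore card_zmod2
  · rw [hB, tibn_borel_eq]
    have hp : IsPGroup 2 ↥(chevF4.posUnipotent (ZMod 2) ⊓ twistedF4 (ZMod 2) (2 ^ 0)) :=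
      IsPGroup.of_card (n := 12) (by rw [f4_card_pos_inf card_zmod2]; norm_num)
    exact hp.of_equiv (Subgroup.subgroupOfEquivOfLe inf_le_right).symm

theorem ti_bn : ∃ P : Cfsg.BNPair ↥(twistedF4 (ZMod 2) 1), P.Irreducible ∧ P.B.normalCore = ⊥ ∧ IsPGroup 2 ↥P.B :=
  tibn_aux

end Cfsg.Agent.Lib.Helper31.Ti
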