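import Cfsg.Agent.Lib.Helper36.TitsIdx

/-! # Ti mini-hive (S1074, owner helper31), leaf TI-IDX: the derived subgroup of `²F₄(2)` has index dividing 2
(helper36; restatement of `Helper36.tits_index_dvd_two`) -/

set_option autoImplicit false

namespace Cfsg.Agent.Lib.Helper31.Ti

open Cfsg Cfsg.Lie

theorem ti_idx : (commutator ↥(twistedF4 (ZMod 2) 1)).index ∣ 2 :=
  Cfsg.Agent.Lib.Helper36.tits_index_dvd_two

end Cfsg.Agent.Lib.Helper31.Ti
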