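import Cfsg.Agent.Lib.Helper36.ChevH
import Cfsg.Agent.S2157

set_option autoImplicit false

namespace Cfsg.Agent.Lib.Helper36

open Cfsg Cfsg.Lie

variable (D : ChevalleyDatum)

theorem charDiag_blocks (F : Type*) [Field F] (χ : ℕ → Fˣ) :
    D.charDiag F χ = Matrix.fromBlocks 1 0 0 (Matrix.diagonal fun r : Fin D.nroots => ((χ r.val : Fˣ) : F)) := by
  unfold ChevalleyDatum.charDiag
  rw [← Matrix.diagonal_one, Matrix.fromBlocks_diagonal]

theorem charDiag_inv_mul (F : Type*) [Field F] (χ : ℕ → Fˣ) :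
    D.charDiag F (fun s => (χ s)⁻¹) * D.charDiag F χ = 1 := by
  unfold ChevalleyDatum.charDiag
  rw [Matrix.diagonal_mul_diagonal, ← Matrix.diagonal_one]
  congr 1
  ext x
  rcases x with j | s <;> simp

theorem nMat_eq (F : Type*) [Field F] (r : ℕ) (t : F) :
    D.nMat F r t = D.x F r t * (D.x F (D.neg r) (-t⁻¹) * D.x F r t) := by
  simp [ChevalleyDatum.nMat, ChevalleyDatum.wordMat, ChevalleyDatum.nWord]

theorem hMat_eq (F : Type*) [Field F] (r : ℕ) (t : F) :
    D.hMat F r t = D.nMat F r t * D.nMat F r (-1) := by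
  simp [ChevalleyDatum.hMat, ChevalleyDatum.nMat, ChevalleyDatum.wordMat, ChevalleyDatum.hWord,
    ChevalleyDatum.nWord, mul_assoc]

theorem nMat_eq_conj (hwf : wf D = true) (hchk : Cfsg.Agent.S2157.chk D = true) (h2 : chkN2 D = true)
    (hM : MProp D) (F : Type*) [Field F] (i : ℕ) (hi : i < D.rank) (c : Fˣ) :
    D.nMat F (D.simple i) (c : F) =
      D.charDiag F (chi D i c) * D.nMat F (D.simple i) 1 * D.charDiag F (fun s => (chi D i c s)⁻¹) := by
  obtain ⟨hp, -⟩ := chkN2_spec D h2 i hi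
  have hnp := wf_neg D hwf _ hp
  have hχ := chi_isRootCharacter D hM i hi c
  have c1 := Cfsg.Agent.S2157.conj_of_chk D hchk _ hχ (D.simple i) hp (1 : F)
  have c2 := Cfsg.Agent.S2157.conj_of_chk D hchk _ hχ (D.neg (D.simple i)) hnp (-1 : F)
  have e1 : ((chi D i c (D.simple i) : Fˣ) : F) = c := by
    simp [chi, hM.1 i hi]
  have e2 : ((chi D i c (D.neg (D.simple i)) : Fˣ) : F) = (c : F)⁻¹ := by
    simp [chi, hM.2.2.1 i hi _ hp, hM.1 i hi]
  rw [e1, mul_one] at c1
  rw [e2, mul_neg, mul_one] at c2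
  rw [nMat_eq, nMat_eq, ← c1, ← c2]
  have hinv := charDiag_inv_mul D F (chi D i c)
  set d := D.charDiag F (chi D i c)
  set d' := D.charDiag F (fun s => (chi D i c s)⁻¹)
  simp only [inv_one]
  calc d * D.x F (D.simple i) 1 * d' * (d * D.x F (D.neg (D.simple i)) (-1) * d' * (d * D.x F (D.simple i) 1 * d'))
      = d * D.x F (D.simple i) 1 * (d' * d) * D.x F (D.neg (D.simple i)) (-1) * (d' * d) * D.x F (D.simple i) 1 * d' := by
        simp only [mul_assoc]
    _ = d * (D.x F (D.simple i) 1 * (D.x F (D.neg (D.simple i)) (-1) * D.x F (D.simple i) 1)) * d' := by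
        rw [hinv]; simp only [mul_one, mul_assoc]

theorem nMat_c_blocks (hwf : wf D = true) (hchk : Cfsg.Agent.S2157.chk D = true) (hN : NProp D)
    (h2 : chkN2 D = true) (hM : MProp D) (F : Type*) [Field F] (i : ℕ) (hi : i < D.rank) (c : Fˣ) :
    D.nMat F (D.simple i) (c : F) =
      Matrix.fromBlocks (NH D F i) 0 0
        (PM (wFin D i) (fun s => ((nEta D i s : ℤ) : F) * (c : F) ^ (- D.cartan i s))) := by
  rw [nMat_eq_conj D hwf hchk h2 hM F i hi c, charDiag_blocks, charDiag_blocks,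
    nMat_blocks D hwf hN h2 F i hi, Matrix.fromBlocks_multiply, Matrix.fromBlocks_multiply]
  simp only [Matrix.zero_mul, Matrix.mul_zero, add_zero, zero_add, Matrix.one_mul, Matrix.mul_one]
  rw [diagonal_mul_PM, PM_mul_diagonal]
  congr 2
  funext s
  have hw := wFin_val D h2 i hi s
  have hc : (c : F) ≠ 0 := c.ne_zero
  simp only [chi, hw, Units.val_zpow_eq_zpow_val, Units.val_inv_eq_inv_val]
  rw [hM.2.1 i hi s s.isLt, zpow_sub₀ hc, zpow_neg]
  field_simp

theorem NH_mul_NH (h2 : chkN2 D = true) (F : Type*) [Field F] (i : ℕ) (hi : i < D.rank) :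
    NH D F i * NH D F i = 1 := by
  obtain ⟨-, -, -, h22, -⟩ := chkN2_spec D h2 i hi
  set R : Matrix (Fin D.rank) (Fin D.rank) F :=
    Matrix.of fun j' j => if (j' : ℕ) = i then ((D.cartan j (D.simple i) : ℤ) : F) else 0 with hR
  have hNH : NH D F i = 1 - R := by
    ext j' j
    simp [NH, hR, Matrix.one_apply]
  have hRR : R * R = (2 : F) • R := by
    ext j' j
    rw [Matrix.mul_apply, Finset.sum_eq_single (⟨i, hi⟩ : Fin D.rank)]
    · simp only [hR, Matrix.of_apply, Matrix.smul_apply, smul_eq_mul, if_true]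
      rw [h22]
      split_ifs <;> simp
    · intro k _ hk
      have : ¬ (k : ℕ) = i := fun h => hk (Fin.ext h)
      simp [hR, this]
    · intro h; exact absurd (Finset.mem_univ _) h
  rw [hNH, sub_mul, mul_sub, mul_sub, one_mul, mul_one, one_mul, hRR]
  module

theorem neg_one_zpow_mul (F : Type*) [Field F] (z : ℤ) :
    (((-1 : ℤ) ^ z.natAbs : ℤ) : F) * (-1 : F) ^ (-z) = 1 := by
  rcases Int.even_or_odd z with h | h
  · have h1 : Even z.natAbs := Int.natAbs_even.2 h
    rw [h1.neg_one_pow, h.neg.neg_one_zpow]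
    simp
  · have h1 : Odd z.natAbs := Int.natAbs_odd.2 h
    rw [h1.neg_one_pow, h.neg.neg_one_zpow]
    simp


theorem wFin_wFin (h2 : chkN2 D = true) (i : ℕ) (hi : i < D.rank) : wFin D i ∘ wFin D i = id := by
  obtain ⟨-, -, -, -, hs⟩ := chkN2_spec D h2 i hi
  funext s
  apply Fin.ext
  simp only [Function.comp_apply, id_eq]
  rw [wFin_val D h2 i hi, wFin_val D h2 i hi]
  exact (hs s s.isLt).2.2.2.2.2.1

theorem hMat_simple_eq (hwf : wf D = true) (hchk : Cfsg.Agent.S2157.chk D = true) (hN : NProp D)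
    (h2 : chkN2 D = true) (hM : MProp D) (F : Type*) [Field F] (i : ℕ) (hi : i < D.rank) (c : F) (hc : c ≠ 0) :
    D.hMat F (D.simple i) c =
      Matrix.diagonal (Sum.elim (fun _ => (1 : F)) (fun s : Fin D.nroots => c ^ (D.cartan i s))) := by
  obtain ⟨-, -, -, -, hs⟩ := chkN2_spec D h2 i hi
  have h1 := nMat_c_blocks D hwf hchk hN h2 hM F i hi (Units.mk0 c hc)
  have h3 := nMat_c_blocks D hwf hchk hN h2 hM F i hi (-1 : Fˣ)
  simp only [Units.val_mk0, Units.val_neg, Units.val_one] at h1 h3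
  rw [hMat_eq, h1, h3, Matrix.fromBlocks_multiply]
  simp only [Matrix.zero_mul, Matrix.mul_zero, add_zero, zero_add]
  rw [NH_mul_NH D h2 F i hi, PM_mul_PM, wFin_wFin D h2 i hi, PM_id, ← Matrix.diagonal_one,
    Matrix.fromBlocks_diagonal]
  congr 1
  funext x
  rcases x with j | s
  · rfl
  · simp only [Sum.elim_inr]
    have hw := wFin_val D h2 i hi s
    obtain ⟨-, -, -, a4, -, -, a7⟩ := hs s s.isLt
    rw [hw, a7, neg_neg]
    have e : ((nEta D i (nW D i s) : ℤ) : F) * ((nEta D i s : ℤ) : F) = (((-1 : ℤ) ^ (D.cartan i s).natAbs : ℤ) : F) := by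
      rw [← Int.cast_mul, mul_comm, a4]
    calc ((nEta D i (nW D i s) : ℤ) : F) * c ^ D.cartan i s * (((nEta D i s : ℤ) : F) * (-1) ^ (-D.cartan i s))
        = (((nEta D i (nW D i s) : ℤ) : F) * ((nEta D i s : ℤ) : F)) * (-1) ^ (-D.cartan i s) * c ^ D.cartan i s := by
          ring
      _ = c ^ D.cartan i s := by rw [e, neg_one_zpow_mul, one_mul]

end Cfsg.Agent.Lib.Helper36
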