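import Cfsg.Agent.Lib.Helper36.ChevAddF
import Cfsg.Prelude.Def_ChevB2

/-! # Table facts for the datum chevB2 (helper36): well-formedness and additivity identities -/

set_option autoImplicit false
set_option maxRecDepth 100000

namespace Cfsg.Agent.Lib.Helper36

open Cfsg Cfsg.Lie

theorem wf_B2 : wf chevB2 = true := by decide +kernel

theorem wfFast_B2 : wfFast chevB2 = true := by decide +kernel

theorem chkAddF_B2 : chkAddF chevB2 = true := by decide +kernel

theorem addProp_B2 : AddProp chevB2 := addProp_of_chkF _ wf_B2 wfFast_B2 chkAddF_B2

end Cfsg.Agent.Lib.Helper36
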