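import Cfsg.Agent.Lib.Helper36.ChevAddF
import Cfsg.Prelude.Def_ChevD4

/-! # Table facts for the datum chevD4 (helper36): well-formedness and additivity identities -/

set_option autoImplicit false
set_option maxRecDepth 100000

namespace Cfsg.Agent.Lib.Helper36

open Cfsg Cfsg.Lie

theorem wf_D4 : wf chevD4 = true := by decide +kernel

theorem wfFast_D4 : wfFast chevD4 = true := by decide +kernel

theorem chkAddF_D4 : chkAddF chevD4 = true := by decide +kernel

theorem addProp_D4 : AddProp chevD4 := addProp_of_chkF _ wf_D4 wfFast_D4 chkAddF_D4

end Cfsg.Agent.Lib.Helper36
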