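import Cfsg.Agent.Lib.Helper36.ChevM
import Cfsg.Agent.Lib.Helper36.ChevNTabD4

/-! # Table facts for chevD4 (helper36): root coefficients -/

set_option autoImplicit false
set_option maxRecDepth 100000

namespace Cfsg.Agent.Lib.Helper36

open Cfsg Cfsg.Lie

theorem chkM_D4 : chkM chevD4 = true := by decide +kernel

theorem mProp_D4 : MProp chevD4 := mProp_of_chk _ wf_D4 chkN2_D4 chkM_D4

end Cfsg.Agent.Lib.Helper36
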