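import Cfsg.Agent.Lib.Helper36.ChevAddF
import Cfsg.Prelude.Def_ChevE6

/-! # Table facts for the datum chevE6 (helper36): well-formedness and additivity identities -/

set_option autoImplicit false
set_option maxRecDepth 100000

namespace Cfsg.Agent.Lib.Helper36

open Cfsg Cfsg.Lie

theorem wf_E6 : wf chevE6 = true := by decide +kernel

theorem wfFast_E6 : wfFast chevE6 = true := by decide +kernel

theorem chkAddF_E6 : chkAddF chevE6 = true := by decide +kernel

theorem addProp_E6 : AddProp chevE6 := addProp_of_chkF _ wf_E6 wfFast_E6 chkAddF_E6

end Cfsg.Agent.Lib.Helper36
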