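import Cfsg.Agent.Lib.Helper36.ChevAddF
import Cfsg.Prelude.Def_ChevE7

/-! # Table facts for the datum chevE7 (helper36): well-formedness and additivity identities -/

set_option autoImplicit false
set_option maxRecDepth 100000

namespace Cfsg.Agent.Lib.Helper36

open Cfsg Cfsg.Lie

theorem wf_E7 : wf chevE7 = true := by decide +kernel

theorem wfFast_E7 : wfFast chevE7 = true := by decide +kernel

theorem chkAddF_E7 : chkAddF chevE7 = true := by decide +kernel

theorem addProp_E7 : AddProp chevE7 := addProp_of_chkF _ wf_E7 wfFast_E7 chkAddF_E7

end Cfsg.Agent.Lib.Helper36
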