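import Cfsg.Agent.Lib.Helper36.ChevN
import Cfsg.Agent.Lib.Helper36.ChevTabE7

/-! # Table facts for chevE7 (helper36): the monomial matrices n_p(1) -/

set_option autoImplicit false
set_option maxRecDepth 100000

namespace Cfsg.Agent.Lib.Helper36

open Cfsg Cfsg.Lie

theorem chkN1_E7 : chkN1 chevE7 = true := by decide +kernel

theorem chkN2_E7 : chkN2 chevE7 = true := by decide +kernel

theorem nProp_E7 : NProp chevE7 := nProp_of_chk _ wf_E7 wfFast_E7 chkN1_E7 chkN2_E7

end Cfsg.Agent.Lib.Helper36
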