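import Cfsg.Agent.Lib.Helper36.ChevM
import Cfsg.Agent.Lib.Helper36.ChevNTabE7

/-! # Table facts for chevE7 (helper36): root coefficients -/

set_option autoImplicit false
set_option maxRecDepth 100000

namespace Cfsg.Agent.Lib.Helper36

open Cfsg Cfsg.Lie

theorem chkM_E7 : chkM chevE7 = true := by decide +kernel

theorem mProp_E7 : MProp chevE7 := mProp_of_chk _ wf_E7 chkN2_E7 chkM_E7

end Cfsg.Agent.Lib.Helper36
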