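import Cfsg.Agent.Lib.Helper36.ChevAddF
import Cfsg.Prelude.Def_ChevE8

/-! # Table facts for the datum chevE8 (helper36): well-formedness and additivity identities -/

set_option autoImplicit false
set_option maxRecDepth 100000

namespace Cfsg.Agent.Lib.Helper36

open Cfsg Cfsg.Lie

theorem wf_E8 : wf chevE8 = true := by decide +kernel

theorem wfFast_E8 : wfFast chevE8 = true := by decide +kernel

theorem chkAddF_E8 : chkAddF chevE8 = true := by decide +kernel

theorem addProp_E8 : AddProp chevE8 := addProp_of_chkF _ wf_E8 wfFast_E8 chkAddF_E8

end Cfsg.Agent.Lib.Helper36
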