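import Cfsg.Agent.Lib.Helper36.ChevN
import Cfsg.Agent.Lib.Helper36.ChevTabE8

/-! # Table facts for chevE8 (helper36): the monomial matrices n_p(1) -/

set_option autoImplicit false
set_option maxRecDepth 100000

namespace Cfsg.Agent.Lib.Helper36

open Cfsg Cfsg.Lie

theorem chkN1_E8 : chkN1 chevE8 = true := by decide +kernel

theorem chkN2_E8 : chkN2 chevE8 = true := by decide +kernel

theorem nProp_E8 : NProp chevE8 := nProp_of_chk _ wf_E8 wfFast_E8 chkN1_E8 chkN2_E8

end Cfsg.Agent.Lib.Helper36
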