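import Cfsg.Agent.Lib.Helper36.ChevN
import Cfsg.Agent.Lib.Helper36.ChevTabF4

/-! # Table facts for chevF4 (helper36): the monomial matrices n_p(1) -/

set_option autoImplicit false
set_option maxRecDepth 100000

namespace Cfsg.Agent.Lib.Helper36

open Cfsg Cfsg.Lie

theorem chkN1_F4 : chkN1 chevF4 = true := by decide +kernel

theorem chkN2_F4 : chkN2 chevF4 = true := by decide +kernel

theorem nProp_F4 : NProp chevF4 := nProp_of_chk _ wf_F4 wfFast_F4 chkN1_F4 chkN2_F4

end Cfsg.Agent.Lib.Helper36
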