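import Cfsg.Agent.Lib.Helper36.ChevM
import Cfsg.Agent.Lib.Helper36.ChevNTabF4

/-! # Table facts for chevF4 (helper36): root coefficients -/

set_option autoImplicit false
set_option maxRecDepth 100000

namespace Cfsg.Agent.Lib.Helper36

open Cfsg Cfsg.Lie

theorem chkM_F4 : chkM chevF4 = true := by decide +kernel

theorem mProp_F4 : MProp chevF4 := mProp_of_chk _ wf_F4 chkN2_F4 chkM_F4

end Cfsg.Agent.Lib.Helper36
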