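import Cfsg.Agent.Lib.Helper36.ChevM
import Cfsg.Agent.Lib.Helper36.ChevNTabG2

/-! # Table facts for chevG2 (helper36): root coefficients -/

set_option autoImplicit false
set_option maxRecDepth 100000

namespace Cfsg.Agent.Lib.Helper36

open Cfsg Cfsg.Lie

theorem chkM_G2 : chkM chevG2 = true := by decide +kernel

theorem mProp_G2 : MProp chevG2 := mProp_of_chk _ wf_G2 chkN2_G2 chkM_G2

end Cfsg.Agent.Lib.Helper36
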