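import Cfsg.Agent.Lib.Helper36.ChevNAll
import Cfsg.Agent.Lib.Helper36.ChevH2
import Cfsg.Agent.Lib.Helper36.ChevMTabG2
import Cfsg.Agent.Lib.Helper36.ChevMTabB2
import Cfsg.Agent.Lib.Helper36.ChevMTabD4
import Cfsg.Agent.Lib.Helper36.ChevMTabF4
import Cfsg.Agent.Lib.Helper36.ChevMTabE6
import Cfsg.Agent.Lib.Helper36.ChevMTabE7
import Cfsg.Agent.Lib.Helper36.ChevMTabE8

/-! # Root coefficients and the diagonal elements h_p(c) for all seven Chevalley data (helper36) -/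

set_option autoImplicit false

namespace Cfsg.Agent.Lib.Helper36

open Cfsg Cfsg.Lie

theorem mProp_all (D : ChevalleyDatum) (hD : D ∈ [chevG2, chevB2, chevD4, chevF4, chevE6, chevE7, chevE8]) :
    MProp D :=
  seven_cases (P := MProp) D hD mProp_G2 mProp_B2 mProp_D4 mProp_F4 mProp_E6 mProp_E7 mProp_E8

theorem s2157chk_all (D : ChevalleyDatum) (hD : D ∈ [chevG2, chevB2, chevD4, chevF4, chevE6, chevE7, chevE8]) :
    Cfsg.Agent.S2157.chk D = true :=
  seven_cases (P := fun D => Cfsg.Agent.S2157.chk D = true) D hD Cfsg.Agent.S2157.chkG2 Cfsg.Agent.S2157.chkB2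
    Cfsg.Agent.S2157.chkD4 Cfsg.Agent.S2157.chkF4 Cfsg.Agent.S2157.chkE6 Cfsg.Agent.S2157.chkE7
    Cfsg.Agent.S2157.chkE8

/-- `h_p(c)` is diagonal, for a fundamental root `p` -/
theorem hMat_simple (D : ChevalleyDatum) (hD : D ∈ [chevG2, chevB2, chevD4, chevF4, chevE6, chevE7, chevE8])
    {F : Type*} [Field F] (i : ℕ) (hi : i < D.rank) (c : F) (hc : c ≠ 0) :
    D.hMat F (D.simple i) c =
      Matrix.diagonal (Sum.elim (fun _ => (1 : F)) (fun s : Fin D.nroots => c ^ (D.cartan i s))) :=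
  hMat_simple_eq D (wf_all D hD) (s2157chk_all D hD) (nProp_all D hD) (chkN2_all D hD) (mProp_all D hD) F i hi c hc

end Cfsg.Agent.Lib.Helper36
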