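import Cfsg.Agent.Lib.Helper36.ChevLin
import Cfsg.Agent.Lib.Helper36.ChevMAll

/-! # Additivity of the Cartan integers and `h_p(c) x_s(t) h_p(c)⁻¹` for the seven Chevalley data (helper36) -/

set_option autoImplicit false
set_option maxRecDepth 100000

namespace Cfsg.Agent.Lib.Helper36

open Cfsg Cfsg.Lie

theorem chkLin_G2 : chkLin chevG2 = true := by decide +kernel
theorem chkLin_B2 : chkLin chevB2 = true := by decide +kernel
theorem chkLin_D4 : chkLin chevD4 = true := by decide +kernel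
theorem chkLin_F4 : chkLin chevF4 = true := by decide +kernel
theorem chkLin_E6 : chkLin chevE6 = true := by decide +kernel
theorem chkLin_E7 : chkLin chevE7 = true := by decide +kernel
theorem chkLin_E8 : chkLin chevE8 = true := by decide +kernel

theorem cartanAdd_all (D : ChevalleyDatum) (hD : D ∈ [chevG2, chevB2, chevD4, chevF4, chevE6, chevE7, chevE8]) :
    CartanAdd D :=
  seven_cases (P := CartanAdd) D hD
    (cartanAdd_of_chk _ wf_G2 wfFast_G2 chkN2_G2 chkM_G2 chkLin_G2)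
    (cartanAdd_of_chk _ wf_B2 wfFast_B2 chkN2_B2 chkM_B2 chkLin_B2)
    (cartanAdd_of_chk _ wf_D4 wfFast_D4 chkN2_D4 chkM_D4 chkLin_D4)
    (cartanAdd_of_chk _ wf_F4 wfFast_F4 chkN2_F4 chkM_F4 chkLin_F4)
    (cartanAdd_of_chk _ wf_E6 wfFast_E6 chkN2_E6 chkM_E6 chkLin_E6)
    (cartanAdd_of_chk _ wf_E7 wfFast_E7 chkN2_E7 chkM_E7 chkLin_E7)
    (cartanAdd_of_chk _ wf_E8 wfFast_E8 chkN2_E8 chkM_E8 chkLin_E8)

/-- `h_p(c) x_s(t) = x_s(c^{A_{p,s}} t) h_p(c)` for a fundamental root `p` -/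
theorem hMat_simple_mul_x_all (D : ChevalleyDatum)
    (hD : D ∈ [chevG2, chevB2, chevD4, chevF4, chevE6, chevE7, chevE8]) {F : Type*} [Field F] (i s : ℕ)
    (hi : i < D.rank) (hs : s < D.nroots) (c : F) (hc : c ≠ 0) (t : F) :
    D.hMat F (D.simple i) c * D.x F s t = D.x F s (c ^ (D.cartan i s) * t) * D.hMat F (D.simple i) c :=
  hMat_simple_mul_x D (wf_all D hD) (s2157chk_all D hD) (nProp_all D hD) (chkN2_all D hD) (mProp_all D hD)
    (cartanAdd_all D hD) F i s hi hs c hc t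

end Cfsg.Agent.Lib.Helper36
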