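import Cfsg.Agent.Lib.Helper36.ChevGL

/-! # N normalizes H (helper36) -/

set_option autoImplicit false

namespace Cfsg.Agent.Lib.Helper36

open Cfsg Cfsg.Lie

theorem conj_mem_closure {G : Type*} [Group G] (S : Set G) (g : G)
    (h1 : ∀ s ∈ S, g * s * g⁻¹ ∈ Subgroup.closure S) (h : G) (hh : h ∈ Subgroup.closure S) :
    g * h * g⁻¹ ∈ Subgroup.closure S := by
  induction hh using Subgroup.closure_induction with
  | mem x hx => exact h1 x hx
  | one => simp
  | mul x y _ _ ihx ihy =>
    have : g * (x * y) * g⁻¹ = (g * x * g⁻¹) * (g * y * g⁻¹) := by group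
    rw [this]; exact mul_mem ihx ihy
  | inv x _ ihx =>
    have : g * x⁻¹ * g⁻¹ = (g * x * g⁻¹)⁻¹ := by group
    rw [this]; exact inv_mem ihx

theorem mem_normalizer_closure {G : Type*} [Group G] (S : Set G) (g : G)
    (h1 : ∀ s ∈ S, g * s * g⁻¹ ∈ Subgroup.closure S)
    (h2 : ∀ s ∈ S, g⁻¹ * s * g ∈ Subgroup.closure S) : g ∈ Subgroup.normalizer (Subgroup.closure S : Set G) := by
  rw [Subgroup.mem_normalizer_iff]
  intro h
  constructor
  · exact conj_mem_closure S g h1 h
  · intro hh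
    have := conj_mem_closure S g⁻¹ (by simpa using h2) _ hh
    have e : g⁻¹ * (g * h * g⁻¹) * g⁻¹⁻¹ = h := by group
    rw [e] at this
    exact this

variable (D : ChevalleyDatum) (hD : D ∈ [chevG2, chevB2, chevD4, chevF4, chevE6, chevE7, chevE8])

include hD in
theorem reflectRoot_lt (i r : ℕ) (hi : i < D.rank) (hr : r < D.nroots) : D.reflectRoot i r < D.nroots := by
  obtain ⟨-, -, -, -, hs'⟩ := chkN2_spec D (chkN2_all D hD) i hi
  exact (hs' r hr).2.1 ▸ (hs' r hr).1

include hD in
theorem reflectRoot_reflectRoot (i r : ℕ) (hi : i < D.rank) (hr : r < D.nroots) :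
    D.reflectRoot i (D.reflectRoot i r) = r := by
  obtain ⟨-, -, -, -, hs'⟩ := chkN2_spec D (chkN2_all D hD) i hi
  have h1 := (hs' r hr).2.1
  have h2 := (hs' _ (hs' r hr).1).2.1
  rw [← h1, ← h2]
  exact (hs' r hr).2.2.2.2.2.1

include hD in
theorem nGL_simple_mem_normalizer (F : Type*) [Field F] (i : ℕ) (hi : i < D.rank) :
    nGL D hD F (D.simple i) 1 ∈ Subgroup.normalizer (D.diagonalSubgroup F : Set (GL D.Idx F)) := by
  unfold ChevalleyDatum.diagonalSubgroup
  apply mem_normalizer_closure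
  · rintro g ⟨r, t, hr, ht, hg⟩
    have e : g = hGL D hD F r t := Units.ext (by rw [hg, hGL_coe])
    rw [e, ← hGL_reflect D hD F i r hi hr t ht]
    exact hGL_mem_diag D hD F _ (reflectRoot_lt D hD i r hi hr) t ht
  · rintro g ⟨r, t, hr, ht, hg⟩
    have e : g = hGL D hD F r t := Units.ext (by rw [hg, hGL_coe])
    have hw := reflectRoot_lt D hD i r hi hr
    have := hGL_reflect D hD F i _ hi hw t ht
    rw [reflectRoot_reflectRoot D hD i r hi hr] at this
    rw [e, this]
    have e2 : (nGL D hD F (D.simple i) 1)⁻¹ * (nGL D hD F (D.simple i) 1 * hGL D hD F (D.reflectRoot i r) t *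
        (nGL D hD F (D.simple i) 1)⁻¹) * nGL D hD F (D.simple i) 1 = hGL D hD F (D.reflectRoot i r) t := by group
    rw [e2]
    exact hGL_mem_diag D hD F _ hw t ht

include hD in
theorem nGL_mem_normalizer (F : Type*) [Field F] (r : ℕ) (hr : r < D.nroots) :
    ∀ t : F, t ≠ 0 → nGL D hD F r t ∈ Subgroup.normalizer (D.diagonalSubgroup F : Set (GL D.Idx F)) := by
  refine root_induction D hD (fun r => ∀ t : F, t ≠ 0 → nGL D hD F r t ∈ Subgroup.normalizer (D.diagonalSubgroup F : Set (GL D.Idx F)))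
    ?_ ?_ r hr
  · intro i hi t ht
    obtain ⟨hp, -⟩ := chkN2_spec D (chkN2_all D hD) i hi
    have e : nGL D hD F (D.simple i) t = hGL D hD F (D.simple i) t * nGL D hD F (D.simple i) 1 := by
      rw [hGL_eq, ← nGL_inv D hD F i hi]
      group
    rw [e]
    exact mul_mem (Subgroup.le_normalizer (hGL_mem_diag D hD F _ hp t ht))
      (nGL_simple_mem_normalizer D hD F i hi)
  · intro i hi r hr ih t ht
    obtain ⟨-, -, -, -, hs'⟩ := chkN2_spec D (chkN2_all D hD) i hi
    obtain ⟨-, -, h3, -, -, -, -⟩ := hs' r hr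
    rw [nGL_reflect D hD F i r hi hr t]
    have hn := nGL_simple_mem_normalizer D hD F i hi
    have hne : ((nEta D i r : ℤ) : F) * t ≠ 0 := by
      rcases h3 with h | h <;> rw [h] <;> simpa using ht
    exact mul_mem (mul_mem hn (ih _ hne)) (inv_mem hn)

include hD in
theorem monomial_le_normalizer (F : Type*) [Field F] :
    D.monomialSubgroup F ≤ Subgroup.normalizer (D.diagonalSubgroup F : Set (GL D.Idx F)) := by
  unfold ChevalleyDatum.monomialSubgroup
  apply sup_le Subgroup.le_normalizer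
  rw [Subgroup.closure_le]
  rintro g ⟨r, hr, hg⟩
  have e : g = nGL D hD F r 1 := Units.ext (by rw [hg, nGL_coe])
  rw [e]
  exact nGL_mem_normalizer D hD F r hr 1 one_ne_zero

end Cfsg.Agent.Lib.Helper36
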