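import Cfsg.Agent.Lib.Helper36.ChevTri
import Cfsg.Agent.Lib.Helper36.ChevNorm
import Cfsg.Agent.Lib.Helper36.ChevLinAll

/-! # H normalizes U and V; U ∩ H = 1 (helper36) -/

set_option autoImplicit false

namespace Cfsg.Agent.Lib.Helper36

open Cfsg Cfsg.Lie

variable (D : ChevalleyDatum) (hD : D ∈ [chevG2, chevB2, chevD4, chevF4, chevE6, chevE7, chevE8])

include hD in
theorem gc_neg (r s : ℕ) (hs : s < D.nroots) : gc D r (D.neg s) = - gc D r s := by
  have hC := cartanAdd_all D hD
  unfold gc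
  rw [← list_sum_map_neg]
  congr 1
  apply List.map_congr_left
  intro j hj
  rw [hC.1 j (List.mem_range.1 hj) s hs]
  ring

include hD in
theorem gc_add (r r' s' k : ℕ) (hr' : r' < D.nroots) (hk : D.chainRoot r' s' 1 = some k) :
    gc D r k = gc D r r' + gc D r s' := by
  have hC := cartanAdd_all D hD
  unfold gc
  rw [← List.sum_map_add]
  congr 1
  apply List.map_congr_left
  intro j hj
  rw [hC.2 j (List.mem_range.1 hj) r' s' k hr' hk]
  ring

/-- the character `s ↦ c ^ ⟨s, r^∨⟩` -/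
noncomputable def chiG {F : Type*} [Field F] (r : ℕ) (c : Fˣ) : ℕ → Fˣ := fun s => c ^ gc D r s

include hD in
theorem chiG_isRootCharacter {F : Type*} [Field F] (r : ℕ) (c : Fˣ) : D.IsRootCharacter (chiG D r c) := by
  refine ⟨fun s hs => ?_, fun r' s' k hr' _ hk => ?_⟩
  · simp only [chiG]
    rw [gc_neg D hD r s hs, zpow_neg]
  · simp only [chiG]
    rw [gc_add D hD r r' s' k hr' hk, zpow_add]

theorem hDiag_eq_charDiag {F : Type*} [Field F] (r : ℕ) (c : Fˣ) :
    hDiag D F r (c : F) = D.charDiag F (chiG D r c) := by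
  unfold hDiag ChevalleyDatum.charDiag
  congr 1
  funext x
  rcases x with j | s
  · rfl
  · simp [chiG]

include hD in
/-- `h_r(c) x_s(t) = x_s(c^{⟨s, r^∨⟩} t) h_r(c)` for all roots `r`, `s` -/
theorem hMat_mul_x_all {F : Type*} [Field F] (r s : ℕ) (hr : r < D.nroots) (hs : s < D.nroots) (c : F)
    (hc : c ≠ 0) (t : F) :
    D.hMat F r c * D.x F s t = D.x F s (c ^ (gc D r s) * t) * D.hMat F r c := by
  rw [(hMat_all D hD r hr c hc).1]
  have h1 := hDiag_eq_charDiag D (F := F) r (Units.mk0 c hc)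
  rw [Units.val_mk0] at h1
  rw [h1]
  have hχ := chiG_isRootCharacter D hD (F := F) r (Units.mk0 c hc)
  have h3 := Cfsg.Agent.S2157.conj_of_chk D (s2157chk_all D hD) _ hχ s hs t
  have e : ((chiG D r (Units.mk0 c hc) s : Fˣ) : F) = c ^ gc D r s := by simp [chiG]
  rw [e] at h3
  rw [← h3]
  rw [mul_assoc (D.charDiag F (chiG D r (Units.mk0 c hc)) * D.x F s t), charDiag_inv_mul, mul_one]

theorem hDiag_mul (F : Type*) [Field F] (r : ℕ) (a b : F) :
    hDiag D F r a * hDiag D F r b = hDiag D F r (a * b) := by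
  unfold hDiag
  rw [Matrix.diagonal_mul_diagonal]
  congr 1
  funext x
  rcases x with j | s
  · simp
  · simp [mul_zpow]

theorem hDiag_one (F : Type*) [Field F] (r : ℕ) : hDiag D F r 1 = 1 := by
  unfold hDiag
  rw [← Matrix.diagonal_one]
  congr 1
  funext x
  rcases x with j | s <;> simp

include hD in
theorem hGL_inv (F : Type*) [Field F] (r : ℕ) (hr : r < D.nroots) (c : F) (hc : c ≠ 0) :
    (hGL D hD F r c)⁻¹ = hGL D hD F r c⁻¹ := by
  rw [inv_eq_iff_mul_eq_one]
  apply Units.ext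
  rw [Units.val_mul, hGL_coe, hGL_coe, (hMat_all D hD r hr c hc).1, (hMat_all D hD r hr c⁻¹ (inv_ne_zero hc)).1,
    hDiag_mul D, mul_inv_cancel₀ hc, hDiag_one]
  rfl

include hD in
/-- `h_r(c) x_s(t) h_r(c)⁻¹ = x_s(c^{⟨s, r^∨⟩} t)` in the general linear group -/
theorem hGL_conj_xGL (F : Type*) [Field F] (r s : ℕ) (hr : r < D.nroots) (hs : s < D.nroots) (c : F)
    (hc : c ≠ 0) (t : F) :
    hGL D hD F r c * xGL D hD F s t * (hGL D hD F r c)⁻¹ = xGL D hD F s (c ^ (gc D r s) * t) := by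
  rw [mul_inv_eq_iff_eq_mul]
  apply Units.ext
  rw [Units.val_mul, Units.val_mul, hGL_coe, xGL_coe, xGL_coe, hMat_mul_x_all D hD r s hr hs c hc t]

include hD in
/-- every element of `H` is a diagonal matrix -/
theorem isDiag_of_mem_diagonal (F : Type*) [Field F] (g : GL D.Idx F) (hg : g ∈ D.diagonalSubgroup F) :
    (g : Matrix D.Idx D.Idx F).IsDiag := by
  unfold ChevalleyDatum.diagonalSubgroup at hg
  induction hg using Subgroup.closure_induction'' with
  | one => rw [Units.val_one]; exact Matrix.isDiag_one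
  | mem x hx =>
    obtain ⟨r, t, hr, ht, hx⟩ := hx
    rw [hx, (hMat_all D hD r hr t ht).1]
    exact Matrix.isDiag_diagonal _
  | inv_mem x hx =>
    obtain ⟨r, t, hr, ht, hx⟩ := hx
    have e : x = hGL D hD F r t := Units.ext (by rw [hx, hGL_coe])
    rw [e, hGL_inv D hD F r hr t ht, hGL_coe, (hMat_all D hD r hr t⁻¹ (inv_ne_zero ht)).1]
    exact Matrix.isDiag_diagonal _
  | mul x y _ _ hx hy =>
    rw [Units.val_mul]
    have h1 := (Matrix.isDiag_iff_diagonal_diag _).1 hx
    have h2 := (Matrix.isDiag_iff_diagonal_diag _).1 hy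
    rw [← h1, ← h2, Matrix.diagonal_mul_diagonal]
    exact Matrix.isDiag_diagonal _

include hD in
theorem diagonal_le_normalizer_pos (F : Type*) [Field F] :
    D.diagonalSubgroup F ≤ Subgroup.normalizer (D.posUnipotent F : Set (GL D.Idx F)) := by
  unfold ChevalleyDatum.diagonalSubgroup
  rw [Subgroup.closure_le]
  rintro g ⟨r, c, hr, hc, hg⟩
  have e : g = hGL D hD F r c := Units.ext (by rw [hg, hGL_coe])
  rw [e]
  unfold ChevalleyDatum.posUnipotent
  apply mem_normalizer_closure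
  · rintro x ⟨s, t, hs, hx⟩
    have ex : x = xGL D hD F s t := Units.ext (by rw [hx, xGL_coe])
    rw [ex, hGL_conj_xGL D hD F r s hr hs.1 c hc t]
    exact Subgroup.subset_closure ⟨s, _, hs, xGL_coe D hD F s _⟩
  · rintro x ⟨s, t, hs, hx⟩
    have ex : x = xGL D hD F s t := Units.ext (by rw [hx, xGL_coe])
    have := hGL_conj_xGL D hD F r s hr hs.1 c⁻¹ (inv_ne_zero hc) t
    rw [← hGL_inv D hD F r hr c hc, inv_inv] at this
    rw [ex, this]
    exact Subgroup.subset_closure ⟨s, _, hs, xGL_coe D hD F s _⟩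

include hD in
theorem diagonal_le_normalizer_neg (F : Type*) [Field F] :
    D.diagonalSubgroup F ≤ Subgroup.normalizer (D.negUnipotent F : Set (GL D.Idx F)) := by
  unfold ChevalleyDatum.diagonalSubgroup
  rw [Subgroup.closure_le]
  rintro g ⟨r, c, hr, hc, hg⟩
  have e : g = hGL D hD F r c := Units.ext (by rw [hg, hGL_coe])
  rw [e]
  unfold ChevalleyDatum.negUnipotent
  apply mem_normalizer_closure
  · rintro x ⟨s, t, hs, hx⟩
    have ex : x = xGL D hD F s t := Units.ext (by rw [hx, xGL_coe])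
    rw [ex, hGL_conj_xGL D hD F r s hr hs.1 c hc t]
    exact Subgroup.subset_closure ⟨s, _, hs, xGL_coe D hD F s _⟩
  · rintro x ⟨s, t, hs, hx⟩
    have ex : x = xGL D hD F s t := Units.ext (by rw [hx, xGL_coe])
    have := hGL_conj_xGL D hD F r s hr hs.1 c⁻¹ (inv_ne_zero hc) t
    rw [← hGL_inv D hD F r hr c hc, inv_inv] at this
    rw [ex, this]
    exact Subgroup.subset_closure ⟨s, _, hs, xGL_coe D hD F s _⟩

/-- a diagonal matrix `g` with `g - 1` strictly raising a level function is the identity -/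
theorem eq_one_of_isDiag_of_raises {ι R : Type*} [Fintype ι] [DecidableEq ι] [CommRing R] {lv : ι → ℤ}
    (A : Matrix ι ι R) (hd : A.IsDiag) (hr : Raises lv 1 (A - 1)) : A = 1 := by
  rw [← sub_eq_zero]
  ext row col
  by_contra hne
  have h1 := hr row col hne
  by_cases h : row = col
  · subst h; omega
  · apply hne
    rw [Matrix.sub_apply, hd h, Matrix.one_apply_ne h, sub_zero]
    rfl

include hD in
theorem pos_inf_diagonal (F : Type*) [Field F] : D.posUnipotent F ⊓ D.diagonalSubgroup F = ⊥ := by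
  rw [eq_bot_iff]
  rintro g ⟨hu, hh⟩
  rw [Subgroup.mem_bot]
  apply Units.ext
  exact eq_one_of_isDiag_of_raises _ (isDiag_of_mem_diagonal D hD F g hh) (posUnipotent_le_raises D hD F hu)

end Cfsg.Agent.Lib.Helper36
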