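import Cfsg.Agent.Lib.Helper36.ChevTwW

/-! # Tables for the twisted groups `³D₄` and `²E₆` (helper36) -/

set_option autoImplicit false
set_option maxRecDepth 100000

namespace Cfsg.Agent.Lib.Helper36

open Cfsg Cfsg.Lie

def fundD4 : List (List ℕ) := [[0, 2, 3], [1]]
def fundE6 : List (List ℕ) := [[1], [3], [0, 5], [2, 4]]

def orbsD4 : List (List ℕ) := [[18, 13, 12], [14], [15, 19, 16], [17, 20, 21], [22], [23]]
def orbsE6 : List (List ℕ) :=
  [[46], [39], [56, 36], [42, 37], [38, 57], [40, 43], [47], [41, 58], [44], [48, 50], [45, 59], [49, 61], [51],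
    [52, 62], [53], [60], [54, 64], [63], [55, 67], [65], [66, 68], [69], [70], [71]]

def stepsD4 : List (List ℕ × List ℕ × List ℕ) :=
  [([1], ([18, 13, 12], [15, 19, 16])), ([0, 2, 3], ([14], [22])), ([0, 2, 3], ([15, 19, 16], [17, 20, 21])),
    ([1], ([22], [23]))]
def stepsE6 : List (List ℕ × List ℕ × List ℕ) :=
  [([3], ([46], [47])), ([2, 4], ([39], [44])), ([2, 4], ([56, 36], [38, 57])), ([3], ([42, 37], [40, 43])),
    ([2, 4], ([47], [51])), ([0, 5], ([44], [60])), ([3], ([38, 57], [41, 58])), ([1], ([40, 43], [48, 50])),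
    ([3], ([51], [53])), ([0, 5], ([51], [63])), ([1], ([41, 58], [49, 61])), ([2, 4], ([41, 58], [45, 59])),
    ([0, 5], ([53], [65])), ([2, 4], ([49, 61], [52, 62])), ([2, 4], ([65], [69])), ([3], ([52, 62], [54, 64])),
    ([3], ([69], [70])), ([2, 4], ([54, 64], [55, 67])), ([1], ([70], [71])), ([0, 5], ([55, 67], [66, 68]))]

theorem chkOrb_D4 : chkOrb chevD4 graphD4 orbsD4 = true := by decide +kernel
theorem chkOrb_E6 : chkOrb chevE6 graphE6 orbsE6 = true := by decide +kernel
theorem chkFund_D4 : chkFund chevD4 graphD4 orbsD4 fundD4 = true := by decide +kernel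
theorem chkFund_E6 : chkFund chevE6 graphE6 orbsE6 fundE6 = true := by decide +kernel
theorem chkReach2_D4 : chkReach2 chevD4 orbsD4 fundD4 stepsD4 = true := by decide +kernel
theorem chkReach2_E6 : chkReach2 chevE6 orbsE6 fundE6 stepsE6 = true := by decide +kernel
theorem chkFundW_D4 : chkFundW chevD4 graphD4 fundD4 = true := by decide +kernel
theorem chkFundW_E6 : chkFundW chevE6 graphE6 fundE6 = true := by decide +kernel

end Cfsg.Agent.Lib.Helper36
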