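import Cfsg.Agent.Lib.Helper36.ChevTwBN
import Cfsg.Agent.Lib.Helper36.ChevTwTab

/-! # The group `³D₄(q)` as a twisted group (helper36) -/

set_option autoImplicit false
set_option maxRecDepth 100000

namespace Cfsg.Agent.Lib.Helper36

open Cfsg Cfsg.Lie

/-- the `q`-power map of a finite field of characteristic dividing `q` -/
theorem exists_frob {K : Type*} [Field K] [Fintype K] {q : ℕ} (hq : IsPrimePow q) (d : ℕ)
    (hK : Fintype.card K = q ^ d) : ∃ φ : K →+* K, ∀ t : K, φ t = t ^ q := by
  obtain ⟨p, k, hp, hk, rfl⟩ := hq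
  have hp' : p.Prime := Nat.prime_iff.2 hp
  have hd : d ≠ 0 := by
    rintro rfl
    rw [pow_zero] at hK
    have := Fintype.one_lt_card (α := K)
    omega
  have hpK : (p : K) = 0 := by
    have h0 : ((Fintype.card K : ℕ) : K) = 0 := Nat.cast_card_eq_zero K
    rw [hK, Nat.cast_pow, Nat.cast_pow] at h0
    exact pow_eq_zero_iff (by omega) |>.1 (pow_eq_zero_iff hd |>.1 h0)
  have : CharP K p := (CharP.charP_iff_prime_eq_zero hp').2 hpK
  have : ExpChar K p := ExpChar.prime hp'
  exact ⟨iterateFrobenius K p k, fun t => iterateFrobenius_def p k t⟩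

theorem hD4 : chevD4 ∈ [chevG2, chevB2, chevD4, chevF4, chevE6, chevE7, chevE8] := by simp

theorem twOK_D4 : TwOK chevD4 graphD4 orbsD4 fundD4 stepsD4 :=
  ⟨graphOK_D4, chkOrb_D4, chkFund_D4, chkReach2_D4, chkFundW_D4⟩

theorem twistedD4_eq (K : Type*) [Field K] [Fintype K] (q : ℕ) (φ : K →+* K) (hφ : ∀ t, φ t = t ^ q)
    (hK : Fintype.card K = q ^ 3) :
    Cfsg.Lie.twistedD4 K q = twGroup chevD4 hD4 graphD4 K φ fundD4 := by
  have hq3 : ∀ t : K, t ^ (q ^ 3) = t := by
    intro t; rw [← hK]; exact FiniteField.pow_card t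
  have hq3' : ∀ t : K, ((t ^ q) ^ q) ^ q = t := by
    intro t
    have : q * (q * q) = q ^ 3 := by ring
    rw [← pow_mul, ← pow_mul, this, hq3]
  have eρ : ∀ r, r ∈ [18, 13, 12, 14, 5, 10, 11, 9] → graphD4.ε (graphD4.ρi r) = 1 := by decide
  have e1 : graphD4.ρi 18 = 12 := by decide
  have e2 : graphD4.ρi 13 = 18 := by decide
  have e3 : graphD4.ρi 12 = 13 := by decide
  have e4 : graphD4.ρi 14 = 14 := by decide
  have e5 : graphD4.ρi 5 = 11 := by decide
  have e6 : graphD4.ρi 10 = 5 := by decide
  have e7 : graphD4.ρi 11 = 10 := by decide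
  have e8 : graphD4.ρi 9 = 9 := by decide
  have hp1 : pBlock chevD4 [0, 2, 3] = [18, 13, 12] := by decide
  have hp2 : pBlock chevD4 [1] = [14] := by decide
  have hn1 : nBlock chevD4 [0, 2, 3] = [5, 10, 11] := by decide
  have hn2 : nBlock chevD4 [1] = [9] := by decide
  have htw : ∀ (a : ℕ → K) (r : ℕ), r ∈ [18, 13, 12, 14, 5, 10, 11, 9] →
      tw graphD4 K φ a r = (a (graphD4.ρi r)) ^ q := by
    intro a r hr
    unfold tw
    rw [eρ r hr, hφ]
    simp
  unfold Cfsg.Lie.twistedD4 ChevalleyDatum.genSubgroup twGroup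
  congr 1
  ext g
  constructor
  · rintro ⟨w, hw, e⟩
    have eg : g = wordGL chevD4 hD4 K w := Units.ext (by rw [e, wordGL_coe])
    rcases hw with ⟨t, ht, r, hr, rfl⟩ | ⟨t, rs, hrs, rfl⟩
    · refine ⟨[1], by simp [fundD4], ?_⟩
      simp only [List.mem_cons, List.not_mem_nil, or_false] at hr
      rcases hr with rfl | rfl
      · refine ⟨[14], by simp [hp2], fun _ => t, ?_, by rw [eg]; rfl⟩
        intro r hr
        rw [List.mem_singleton] at hr
        rw [hr, htw _ 14 (by simp), ht]
      · refine ⟨[9], by simp [hn2], fun _ => t, ?_, by rw [eg]; rfl⟩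
        intro r hr
        rw [List.mem_singleton] at hr
        rw [hr, htw _ 9 (by simp), ht]
    · refine ⟨[0, 2, 3], by simp [fundD4], ?_⟩
      simp only [List.mem_cons, List.not_mem_nil, or_false] at hrs
      rcases hrs with rfl | rfl
      · refine ⟨[18, 13, 12], by simp [hp1],
          fun r => if r = 18 then t else if r = 13 then t ^ q else t ^ (q ^ 2), ?_, ?_⟩
        · intro r hr
          simp only [List.mem_cons, List.not_mem_nil, or_false] at hr
          rcases hr with rfl | rfl | rfl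
          · rw [htw _ 18 (by simp), e1]; simp [← pow_mul, ← pow_succ, hq3]
          · rw [htw _ 13 (by simp), e2]; simp
          · rw [htw _ 12 (by simp), e3]; simp [← pow_mul, sq]
        · rw [eg]; simp [d4p1, d4p3, d4p4]
      · refine ⟨[5, 10, 11], by simp [hn1],
          fun r => if r = 5 then t else if r = 10 then t ^ q else t ^ (q ^ 2), ?_, ?_⟩
        · intro r hr
          simp only [List.mem_cons, List.not_mem_nil, or_false] at hr
          rcases hr with rfl | rfl | rfl
          · rw [htw _ 5 (by simp), e5]; simp [← pow_mul, ← pow_succ, hq3]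
          · rw [htw _ 10 (by simp), e6]; simp
          · rw [htw _ 11 (by simp), e7]; simp [← pow_mul, sq]
        · rw [eg]; simp [d4m1, d4m3, d4m4]
  · rintro ⟨J, hJ, B, hB, a, ha, rfl⟩
    simp only [fundD4, List.mem_cons, List.not_mem_nil, or_false] at hJ
    rcases hJ with rfl | rfl
    · rw [hp1, hn1] at hB
      simp only [List.mem_cons, List.not_mem_nil, or_false] at hB
      rcases hB with rfl | rfl
      · have a13 := ha 13 (by simp)
        have a12 := ha 12 (by simp)
        rw [htw _ 13 (by simp), e2] at a13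
        rw [htw _ 12 (by simp), e3, a13] at a12
        refine ⟨[(18, a 18), (13, a 18 ^ q), (12, a 18 ^ (q ^ 2))],
          Or.inr ⟨a 18, (d4p1, d4p3, d4p4), by simp, rfl⟩, ?_⟩
        rw [wordGL_coe]
        congr 1
        simp [a13, a12, ← pow_mul, sq]
      · have a10 := ha 10 (by simp)
        have a11 := ha 11 (by simp)
        rw [htw _ 10 (by simp), e6] at a10
        rw [htw _ 11 (by simp), e7, a10] at a11
        refine ⟨[(5, a 5), (10, a 5 ^ q), (11, a 5 ^ (q ^ 2))],
          Or.inr ⟨a 5, (d4m1, d4m3, d4m4), by simp, rfl⟩, ?_⟩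
        rw [wordGL_coe]
        congr 1
        simp [a10, a11, ← pow_mul, sq]
    · rw [hp2, hn2] at hB
      simp only [List.mem_cons, List.not_mem_nil, or_false] at hB
      rcases hB with rfl | rfl
      · have a14 := ha 14 (by simp)
        rw [htw _ 14 (by simp), e4] at a14
        refine ⟨[(14, a 14)], Or.inl ⟨a 14, a14.symm, d4p2, by simp, rfl⟩, ?_⟩
        rw [wordGL_coe]
        rfl
      · have a9 := ha 9 (by simp)
        rw [htw _ 9 (by simp), e8] at a9
        refine ⟨[(9, a 9)], Or.inl ⟨a 9, a9.symm, d4m2, by simp, rfl⟩, ?_⟩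
        rw [wordGL_coe]
        rfl

end Cfsg.Agent.Lib.Helper36
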