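import Cfsg.Agent.Lib.Helper36.ChevTwD4

/-! # The group `²E₆(q)` as a twisted group (helper36) -/

set_option autoImplicit false
set_option maxRecDepth 100000

namespace Cfsg.Agent.Lib.Helper36

open Cfsg Cfsg.Lie

theorem hE6 : chevE6 ∈ [chevG2, chevB2, chevD4, chevF4, chevE6, chevE7, chevE8] := by simp

theorem twOK_E6 : TwOK chevE6 graphE6 orbsE6 fundE6 stepsE6 :=
  ⟨graphOK_E6, chkOrb_E6, chkFund_E6, chkReach2_E6, chkFundW_E6⟩

theorem twistedE6_eq (K : Type*) [Field K] [Fintype K] (q : ℕ) (φ : K →+* K) (hφ : ∀ t, φ t = t ^ q)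
    (hK : Fintype.card K = q ^ 2) :
    Cfsg.Lie.twistedE6 K q = twGroup chevE6 hE6 graphE6 K φ fundE6 := by
  have hq2 : ∀ t : K, t ^ (q ^ 2) = t := by
    intro t; rw [← hK]; exact FiniteField.pow_card t
  have hq2' : ∀ t : K, (t ^ q) ^ q = t := by
    intro t
    have : q * q = q ^ 2 := by ring
    rw [← pow_mul, this, hq2]
  have eρ : ∀ r, r ∈ [46, 39, 56, 36, 42, 37, 25, 32, 15, 35, 29, 34] → graphE6.ε (graphE6.ρi r) = 1 := by decide
  have e46 : graphE6.ρi 46 = 46 := by decide
  have e39 : graphE6.ρi 39 = 39 := by decide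
  have e56 : graphE6.ρi 56 = 36 := by decide
  have e36 : graphE6.ρi 36 = 56 := by decide
  have e42 : graphE6.ρi 42 = 37 := by decide
  have e37 : graphE6.ρi 37 = 42 := by decide
  have e25 : graphE6.ρi 25 = 25 := by decide
  have e32 : graphE6.ρi 32 = 32 := by decide
  have e15 : graphE6.ρi 15 = 35 := by decide
  have e35 : graphE6.ρi 35 = 15 := by decide
  have e29 : graphE6.ρi 29 = 34 := by decide
  have e34 : graphE6.ρi 34 = 29 := by decide
  have hp1 : pBlock chevE6 [1] = [46] := by decide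
  have hp2 : pBlock chevE6 [3] = [39] := by decide
  have hp3 : pBlock chevE6 [0, 5] = [56, 36] := by decide
  have hp4 : pBlock chevE6 [2, 4] = [42, 37] := by decide
  have hn1 : nBlock chevE6 [1] = [25] := by decide
  have hn2 : nBlock chevE6 [3] = [32] := by decide
  have hn3 : nBlock chevE6 [0, 5] = [15, 35] := by decide
  have hn4 : nBlock chevE6 [2, 4] = [29, 34] := by decide
  have htw : ∀ (a : ℕ → K) (r : ℕ), r ∈ [46, 39, 56, 36, 42, 37, 25, 32, 15, 35, 29, 34] →
      tw graphE6 K φ a r = (a (graphE6.ρi r)) ^ q := by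
    intro a r hr
    unfold tw
    rw [eρ r hr, hφ]
    simp
  -- singletons
  have single : ∀ (J : List ℕ) (r : ℕ), J ∈ fundE6 → (pBlock chevE6 J = [r] ∨ nBlock chevE6 J = [r]) →
      r ∈ [46, 39, 56, 36, 42, 37, 25, 32, 15, 35, 29, 34] → graphE6.ρi r = r → ∀ (g : GL chevE6.Idx K) (t : K),
      t ^ q = t → g = wordGL chevE6 hE6 K [(r, t)] → g ∈ twGens chevE6 hE6 graphE6 K φ fundE6 := by
    intro J r hJ hB hr hρ g t ht eg
    refine ⟨J, hJ, [r], ?_, fun _ => t, ?_, by rw [eg]; rfl⟩
    · rcases hB with h | h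
      · rw [h]; simp
      · rw [h]; simp
    · intro r' hr'
      rw [List.mem_singleton] at hr'
      rw [hr', htw _ r hr, ht]
  have pair : ∀ (J : List ℕ) (r s : ℕ), J ∈ fundE6 → (pBlock chevE6 J = [r, s] ∨ nBlock chevE6 J = [r, s]) →
      r ∈ [46, 39, 56, 36, 42, 37, 25, 32, 15, 35, 29, 34] → s ∈ [46, 39, 56, 36, 42, 37, 25, 32, 15, 35, 29, 34] →
      r ≠ s → graphE6.ρi r = s → graphE6.ρi s = r → ∀ (g : GL chevE6.Idx K) (t : K),
      g = wordGL chevE6 hE6 K [(r, t), (s, t ^ q)] → g ∈ twGens chevE6 hE6 graphE6 K φ fundE6 := by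
    intro J r s hJ hB hr hs hne hρr hρs g t eg
    refine ⟨J, hJ, [r, s], ?_, fun r' => if r' = r then t else t ^ q, ?_, ?_⟩
    · rcases hB with h | h
      · rw [h]; simp
      · rw [h]; simp
    · intro r' hr'
      simp only [List.mem_cons, List.not_mem_nil, or_false] at hr'
      rcases hr' with rfl | rfl
      · rw [htw _ _ hr, hρr]; simp [hne.symm, hq2']
      · rw [htw _ _ hs, hρs]; simp [hne.symm]
    · rw [eg]; simp [hne.symm]
  unfold Cfsg.Lie.twistedE6 ChevalleyDatum.genSubgroup twGroup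
  congr 1
  ext g
  constructor
  · rintro ⟨w, hw, e⟩
    have eg : g = wordGL chevE6 hE6 K w := Units.ext (by rw [e, wordGL_coe])
    rcases hw with ⟨t, ht, r, hr, rfl⟩ | ⟨t, rs, hrs, rfl⟩
    · simp only [List.mem_cons, List.not_mem_nil, or_false] at hr
      rcases hr with rfl | rfl | rfl | rfl
      · exact single [1] 46 (by simp [fundE6]) (Or.inl hp1) (by simp) e46 g t ht eg
      · exact single [1] 25 (by simp [fundE6]) (Or.inr hn1) (by simp) e25 g t ht eg
      · exact single [3] 39 (by simp [fundE6]) (Or.inl hp2) (by simp) e39 g t ht eg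
      · exact single [3] 32 (by simp [fundE6]) (Or.inr hn2) (by simp) e32 g t ht eg
    · simp only [List.mem_cons, List.not_mem_nil, or_false] at hrs
      rcases hrs with rfl | rfl | rfl | rfl
      · exact pair [0, 5] 56 36 (by simp [fundE6]) (Or.inl hp3) (by simp) (by simp) (by decide) e56 e36 g t eg
      · exact pair [0, 5] 15 35 (by simp [fundE6]) (Or.inr hn3) (by simp) (by simp) (by decide) e15 e35 g t eg
      · exact pair [2, 4] 42 37 (by simp [fundE6]) (Or.inl hp4) (by simp) (by simp) (by decide) e42 e37 g t eg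
      · exact pair [2, 4] 29 34 (by simp [fundE6]) (Or.inr hn4) (by simp) (by simp) (by decide) e29 e34 g t eg
  · rintro ⟨J, hJ, B, hB, a, ha, rfl⟩
    have single' : ∀ (r : ℕ), r ∈ [46, 39, 56, 36, 42, 37, 25, 32, 15, 35, 29, 34] → graphE6.ρi r = r →
        r ∈ [e6p2, e6m2, e6p4, e6m4] → (∀ r' ∈ [r], a r' = tw graphE6 K φ a r') →
        ∃ w ∈ e6Words K q, ((wordGL chevE6 hE6 K ([r].map fun r => (r, a r)) : GL chevE6.Idx K) :
          Matrix chevE6.Idx chevE6.Idx K) = chevE6.wordMat K w := by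
      intro r hr hρ hmem ha'
      have ar := ha' r (by simp)
      rw [htw _ r hr, hρ] at ar
      exact ⟨[(r, a r)], Or.inl ⟨a r, ar.symm, r, hmem, rfl⟩, by rw [wordGL_coe]; rfl⟩
    have pair' : ∀ (r s : ℕ), s ∈ [46, 39, 56, 36, 42, 37, 25, 32, 15, 35, 29, 34] → graphE6.ρi s = r →
        (r, s) ∈ [(e6p1, e6p6), (e6m1, e6m6), (e6p3, e6p5), (e6m3, e6m5)] →
        (∀ r' ∈ [r, s], a r' = tw graphE6 K φ a r') →
        ∃ w ∈ e6Words K q, ((wordGL chevE6 hE6 K ([r, s].map fun r => (r, a r)) : GL chevE6.Idx K) :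
          Matrix chevE6.Idx chevE6.Idx K) = chevE6.wordMat K w := by
      intro r s hs hρ hmem ha'
      have as := ha' s (by simp)
      rw [htw _ s hs, hρ] at as
      refine ⟨[(r, a r), (s, a r ^ q)], Or.inr ⟨a r, (r, s), hmem, rfl⟩, ?_⟩
      rw [wordGL_coe]
      congr 1
      simp [as]
    simp only [fundE6, List.mem_cons, List.not_mem_nil, or_false] at hJ
    rcases hJ with rfl | rfl | rfl | rfl
    · rw [hp1, hn1] at hB
      simp only [List.mem_cons, List.not_mem_nil, or_false] at hB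
      rcases hB with rfl | rfl
      · exact single' 46 (by simp) e46 (by simp [e6p2]) ha
      · exact single' 25 (by simp) e25 (by simp [e6m2]) ha
    · rw [hp2, hn2] at hB
      simp only [List.mem_cons, List.not_mem_nil, or_false] at hB
      rcases hB with rfl | rfl
      · exact single' 39 (by simp) e39 (by simp [e6p4]) ha
      · exact single' 32 (by simp) e32 (by simp [e6m4]) ha
    · rw [hp3, hn3] at hB
      simp only [List.mem_cons, List.not_mem_nil, or_false] at hB
      rcases hB with rfl | rfl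
      · exact pair' 56 36 (by simp) e36 (by simp [e6p1, e6p6]) ha
      · exact pair' 15 35 (by simp) e35 (by simp [e6m1, e6m6]) ha
    · rw [hp4, hn4] at hB
      simp only [List.mem_cons, List.not_mem_nil, or_false] at hB
      rcases hB with rfl | rfl
      · exact pair' 42 37 (by simp) e37 (by simp [e6p3, e6p5]) ha
      · exact pair' 29 34 (by simp) e34 (by simp [e6m3, e6m5]) ha

end Cfsg.Agent.Lib.Helper36
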