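import Cfsg.Agent.Lib.Helper36.ChevTwCore
import Cfsg.Agent.Lib.Helper36.ChevTwE6

/-! # Further tables for the twisted groups `³D₄` and `²E₆` (helper36) -/

set_option autoImplicit false
set_option maxRecDepth 100000

namespace Cfsg.Agent.Lib.Helper36

open Cfsg Cfsg.Lie

theorem chkSgn_D4 : chkSgn chevD4 graphD4 orbsD4 = true := by decide +kernel
theorem chkSgn_E6 : chkSgn chevE6 graphE6 orbsE6 = true := by decide +kernel

end Cfsg.Agent.Lib.Helper36
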