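import Cfsg.Agent.Lib.Helper36.ChevTwSimple
import Cfsg.Agent.Lib.Helper36.ChevTwTab2

/-! # Connectivity tables for the twisted groups `³D₄` and `²E₆` (helper36) -/

set_option autoImplicit false
set_option maxRecDepth 100000

namespace Cfsg.Agent.Lib.Helper36

open Cfsg Cfsg.Lie

theorem chkConnT_D4 : chkConnT chevD4 fundD4 [0, 1] = true := by decide +kernel
theorem chkConnT_E6 : chkConnT chevE6 fundE6 [0, 1, 3, 2] = true := by decide +kernel

end Cfsg.Agent.Lib.Helper36
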