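import Cfsg.Agent.Lib.Helper36.ChevTwCount
import Cfsg.Agent.Lib.Helper36.ChevTwTab3

/-! # Counting in the twisted groups `³D₄` and `²E₆` (helper36) -/

set_option autoImplicit false
set_option maxRecDepth 100000

namespace Cfsg.Agent.Lib.Helper36

open Cfsg Cfsg.Lie

/-- the `q`-power map of a finite field of order `q ^ d` and its basic properties -/
theorem frob_facts {K : Type*} [Field K] [Fintype K] {q : ℕ} (hq : IsPrimePow q) (d : ℕ)
    (hK : Fintype.card K = q ^ d) :
    ∃ φ : K →+* K, (∀ t : K, φ t = t ^ q) ∧ Nat.card {t : K // φ t = t} = q ∧ ∀ t : K, φ^[d] t = t := by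
  obtain ⟨φ, hφ⟩ := exists_frob hq d hK
  have hq1 : 1 < q := hq.one_lt
  have hd : 0 < d := by
    rcases Nat.eq_zero_or_pos d with rfl | h
    · rw [pow_zero] at hK
      have := Fintype.one_lt_card (α := K)
      omega
    · exact h
  refine ⟨φ, hφ, ?_, ?_⟩
  · rw [← card_fix_frob K q d hq1 hd hK]
    exact Nat.card_congr (Equiv.subtypeEquivRight (fun t => by rw [hφ]))
  · have hit : ∀ n : ℕ, ∀ t : K, φ^[n] t = t ^ (q ^ n) := by
      intro n
      induction n with
      | zero => intro t; simp
      | succ n ih =>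
        intro t
        rw [Function.iterate_succ_apply', ih, hφ, ← pow_mul, pow_succ]
    intro t
    rw [hit, ← hK]
    exact FiniteField.pow_card t

theorem chkFundC_D4 : chkFundC chevD4 fundD4 3 = true := by decide +kernel
theorem chkFundC_E6 : chkFundC chevE6 fundE6 2 = true := by decide +kernel

end Cfsg.Agent.Lib.Helper36
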