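import Cfsg.Agent.Lib.Helper36.ChevTwHCard

/-! # The order of `H ∩ ³D₄(q)` (helper36) -/


set_option autoImplicit false
set_option linter.unusedSectionVars false
namespace Cfsg.Agent.Lib.Helper36
open Cfsg Cfsg.Lie Cfsg.Agent.Lib.Helper18

section
variable (K : Type*) [Field K] [Fintype K] (φ : K →+* K)

theorem twDiag_D4_eq : chevD4.diagonalSubgroup K ⊓ twGroup chevD4 hD4 graphD4 K φ fundD4 =
    twDiag chevD4 graphD4 orbsD4 fundD4 stepsD4 twOK_D4 K φ :=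
  tw_diag_eq_twDiag chevD4 hD4 graphD4 orbsD4 fundD4 stepsD4 twOK_D4 3 chkFundC_D4 chkFundH_D4 K φ
    CoxG2.M CoxG2.A CoxG2.hA CoxG2.rho_ker genD4 genD4_mem genD4_cov
    (chkBraidF_spec chevD4 2 _ genD4 chkBraidF_D4) (foldP chevD4 genD4) (foldS chevD4 genD4)
    foldSP_D4 foldEqui_D4 relE_D4 chkRel_D4

/-- reindexing by `Fin 4` -/
def ofF4 {α : Type*} (t : Fin 4 → α) : Fin chevD4.rank → α := t

/-- reindexing by `Fin 4` -/
def toF4 {α : Type*} (t : Fin chevD4.rank → α) : Fin 4 → α := t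

theorem cartanMat_D4 : (fun j k : Fin 4 => cartanMat chevD4 j k) =
    !![2, -1, 0, 0; -1, 2, -1, -1; 0, -1, 2, 0; 0, -1, 0, 2] := by
  funext j k
  fin_cases j <;> fin_cases k <;> rfl

theorem mem_Lam_D4 (t : Fin 4 → Kˣ) : ofF4 t ∈ Lam chevD4 graphD4 twOK_D4.hG K φ ↔
    t 2 = phiU K φ (t 0) ∧ t 1 = phiU K φ (t 1) ∧ t 3 = phiU K φ (t 2) ∧ t 0 = phiU K φ (t 3) := by
  constructor
  · intro h
    exact ⟨h (0 : Fin 4), h (1 : Fin 4), h (2 : Fin 4), h (3 : Fin 4)⟩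
  · rintro ⟨h0, h1, h2, h3⟩ i
    have : ∀ i : Fin 4, t (rhoE chevD4 graphD4 twOK_D4.hG i) = phiU K φ (t i) := by
      intro i
      fin_cases i
      · exact h0
      · exact h1
      · exact h2
      · exact h3
    exact this i

/-- the twisted fixed points of the torus of `D₄` -/
def lamEquivD4 (h3 : ∀ a : Kˣ, phiU K φ (phiU K φ (phiU K φ a)) = a) :
    Lam chevD4 graphD4 twOK_D4.hG K φ ≃ {a : Kˣ // phiU K φ a = a} × Kˣ where
  toFun t := (⟨toF4 t.1 1, (((mem_Lam_D4 K φ (toF4 t.1)).1 t.2).2.1).symm⟩, toF4 t.1 0)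
  invFun p := ⟨ofF4 ![p.2, p.1.1, phiU K φ p.2, phiU K φ (phiU K φ p.2)],
    (mem_Lam_D4 K φ _).2 ⟨rfl, p.1.2.symm, rfl, (h3 p.2).symm⟩⟩
  left_inv t := by
    obtain ⟨h0, h1, h2, h3'⟩ := (mem_Lam_D4 K φ (toF4 t.1)).1 t.2
    apply Subtype.ext
    have : ∀ i : Fin 4, ![toF4 t.1 0, toF4 t.1 1, phiU K φ (toF4 t.1 0), phiU K φ (phiU K φ (toF4 t.1 0))] i
        = toF4 t.1 i := by
      intro i
      fin_cases i
      · rfl
      · rfl
      · exact h0.symm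
      · show phiU K φ (phiU K φ (toF4 t.1 0)) = toF4 t.1 3
        rw [← h0, ← h2]
    exact funext this
  right_inv p := rfl

theorem card_Lam_D4 (q : ℕ) (hK : Fintype.card K = q ^ 3) (hq : Nat.card {t : K // φ t = t} = q)
    (h3 : ∀ t : K, φ^[3] t = t) :
    Nat.card (Lam chevD4 graphD4 twOK_D4.hG K φ) = (q - 1) * (q ^ 3 - 1) := by
  have h3' : ∀ a : Kˣ, phiU K φ (phiU K φ (phiU K φ a)) = a := by
    intro a
    apply Units.ext
    have := phiU_iter K φ 3 a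
    simpa [h3] using this
  rw [Nat.card_congr (lamEquivD4 K φ h3'), Nat.card_prod, card_fixU φ q hq, Nat.card_units,
    Nat.card_eq_fintype_card, hK]

theorem Lam_ker_D4 (t : Fin 4 → Kˣ) (ht : ofF4 t ∈ Lam chevD4 graphD4 twOK_D4.hG K φ)
    (hk : monoMap (cartanMat chevD4) (ofF4 t) = 1) : t = 1 := by
  obtain ⟨h0, h1, h2, h3⟩ := (mem_Lam_D4 K φ t).1 ht
  have e : ∀ k : Fin 4, ∏ j : Fin 4, t j ^ ((fun j k : Fin 4 => cartanMat chevD4 j k) j k) = 1 :=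
    fun k => congrFun hk k
  rw [cartanMat_D4] at e
  have e0 := e 0
  have e1 := e 1
  have e2 := e 2
  have e3 := e 3
  simp [Fin.prod_univ_four] at e0 e1 e2 e3
  have f0 : t 0 ^ 2 = t 1 := by rw [← mul_inv_eq_one]; exact e0
  have f2 : t 2 ^ 2 = t 1 := by rw [← mul_inv_eq_one, mul_comm]; exact e2
  have f3 : t 3 ^ 2 = t 1 := by rw [← mul_inv_eq_one, mul_comm]; exact e3
  have f1 : t 1 ^ 2 = t 0 * t 2 * t 3 := by
    have : t 1 ^ 2 * (t 0 * t 2 * t 3)⁻¹ = 1 := by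
      rw [← e1]; simp only [mul_inv_rev]; ac_rfl
    exact mul_inv_eq_one.1 this
  have g1 : t 1 = 1 := by
    have h4 : t 1 ^ 4 = t 1 ^ 3 := by
      calc t 1 ^ 4 = (t 1 ^ 2) ^ 2 := by rw [← pow_mul]
        _ = t 0 ^ 2 * t 2 ^ 2 * t 3 ^ 2 := by rw [f1, mul_pow, mul_pow]
        _ = t 1 ^ 3 := by rw [f0, f2, f3]; simp only [pow_succ, pow_zero, one_mul]
    have : t 1 ^ 3 * t 1 = t 1 ^ 3 * 1 := by rw [mul_one, ← pow_succ]; exact h4
    exact mul_left_cancel this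
  rw [g1] at f0 f2 f3 f1
  have hφ0 : phiU K φ (t 0) = t 0 := by
    apply Units.ext
    have h5 : ((t 0 : Kˣ) : K) ^ 2 = 1 := by
      have := congrArg (fun u : Kˣ => (u : K)) f0
      simpa using this
    show φ ((t 0 : Kˣ) : K) = ((t 0 : Kˣ) : K)
    rcases sq_eq_one_iff.1 h5 with h | h
    · rw [h, map_one]
    · rw [h, map_neg, map_one]
  have g2 : t 2 = t 0 := by rw [h0, hφ0]
  have g3 : t 3 = t 0 := by rw [h2, g2, hφ0]
  have g0 : t 0 = 1 := by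
    rw [g2, g3, one_pow] at f1
    have : t 0 ^ 2 * t 0 = 1 := by rw [pow_two]; exact f1.symm
    rw [f0, one_mul] at this
    exact this
  funext i
  fin_cases i
  · exact g0
  · exact g1
  · show t 2 = 1
    rw [g2, g0]
  · show t 3 = 1
    rw [g3, g0]

theorem Lam_inf_ker_D4 : Lam chevD4 graphD4 twOK_D4.hG K φ ⊓ (torusHom chevD4 K).ker = ⊥ := by
  rw [eq_bot_iff]
  intro t htk
  obtain ⟨ht, hk⟩ := Subgroup.mem_inf.1 htk
  rw [torusHom_ker chevD4 hD4 K, MonoidHom.mem_ker] at hk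
  rw [Subgroup.mem_bot]
  exact Lam_ker_D4 K φ (toF4 t) ht hk

theorem card_twDiag_D4 (q : ℕ) (hK : Fintype.card K = q ^ 3) (hq : Nat.card {t : K // φ t = t} = q)
    (h3 : ∀ t : K, φ^[3] t = t) :
    Nat.card (twDiag chevD4 graphD4 orbsD4 fundD4 stepsD4 twOK_D4 K φ) = (q - 1) * (q ^ 3 - 1) := by
  have h := card_map_mul_card_inf_ker (torusHom chevD4 K) (Lam chevD4 graphD4 twOK_D4.hG K φ)
  rw [Lam_inf_ker_D4, Subgroup.card_bot, mul_one, card_Lam_D4 K φ q hK hq h3] at h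
  exact h
end
end Cfsg.Agent.Lib.Helper36
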