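import Cfsg.Agent.Lib.Helper36.ChevTwEnumD4
import Cfsg.Agent.Lib.Helper36.ChevTwD4H
import Cfsg.Agent.Lib.Helper36.ChevTwCard

/-! # The order of `³D₄(q)` (helper36) -/

set_option autoImplicit false

namespace Cfsg.Agent.Lib.Helper36

open Cfsg Cfsg.Lie Cfsg.Agent.Lib.Helper18

theorem finite_CoxG2 : Finite CoxG2.M.Group := by
  apply Nat.finite_of_card_ne_zero
  have := CoxG2.card_eq
  unfold CoxG2.W at this
  rw [this]
  decide

theorem card_twGroup_D4 (K : Type*) [Field K] [Fintype K] (φ : K →+* K) (q : ℕ)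
    (hK : Fintype.card K = q ^ 3) (hfix : Nat.card {t : K // φ t = t} = q) (h3 : ∀ t : K, φ^[3] t = t) :
    Nat.card ↥(twGroup chevD4 hD4 graphD4 K φ fundD4) =
      q ^ 12 * ((q - 1) * (q ^ 3 - 1)) * (expsD4.map fun e => q ^ e).sum := by
  have h := card_twGroup_tab chevD4 hD4 graphD4 orbsD4 fundD4 stepsD4 twOK_D4 K φ 3 chkFundC_D4
    CoxG2.M CoxG2.A CoxG2.hA CoxG2.rho_ker genD4 genD4_mem genD4_cov
    (chkBraidF_spec chevD4 2 _ genD4 chkBraidF_D4) (foldP chevD4 genD4) (foldS chevD4 genD4)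
    foldSP_D4 foldEqui_D4 tabD4 negTD4 posLD4 keyLD4 chkTabs_D4 keyLD4_lt wordsD4
    (chkInc_nodup _ wordsD4_inc) finite_CoxG2 (by rw [wordsD4_length]; exact CoxG2.card_eq)
    expsD4 wordsD4_exps q hfix hK h3
  rw [h, twDiag_D4_eq, card_twDiag_D4 K φ q hK hfix h3,
    card_pos_tw chevD4 hD4 graphD4 orbsD4 fundD4 stepsD4 twOK_D4 3 chkFundC_D4 K φ chkSgn_D4 q hfix hK h3]
  rfl

end Cfsg.Agent.Lib.Helper36
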