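import Cfsg.Agent.Lib.Helper36.ChevHU

/-! # Induction over root subsystems; generation of parabolic subgroups (helper36) -/

set_option autoImplicit false
set_option maxRecDepth 100000

namespace Cfsg.Agent.Lib.Helper36

open Cfsg Cfsg.Lie

/-- every root is fundamental, the negative of a fundamental root, or a fundamental reflection in its support lowers
its coheight -/
def chkReachJ (D : ChevalleyDatum) : Bool :=
  (List.range D.nroots).all fun r =>
    (List.range D.rank).any fun i =>
      Nat.beq r (D.simple i) || Nat.beq r (D.neg (D.simple i)) ||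
        (!(corF D r i == 0) && decide ((corSumF D r - corTF D i r).natAbs < (corSumF D r).natAbs))

theorem chkReachJ_G2 : chkReachJ chevG2 = true := by decide +kernel
theorem chkReachJ_B2 : chkReachJ chevB2 = true := by decide +kernel
theorem chkReachJ_D4 : chkReachJ chevD4 = true := by decide +kernel
theorem chkReachJ_F4 : chkReachJ chevF4 = true := by decide +kernel
theorem chkReachJ_E6 : chkReachJ chevE6 = true := by decide +kernel
theorem chkReachJ_E7 : chkReachJ chevE7 = true := by decide +kernel
theorem chkReachJ_E8 : chkReachJ chevE8 = true := by decide +kernel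

theorem chkReachJ_all (D : ChevalleyDatum) (hD : D ∈ [chevG2, chevB2, chevD4, chevF4, chevE6, chevE7, chevE8]) :
    chkReachJ D = true :=
  seven_cases (P := fun D => chkReachJ D = true) D hD chkReachJ_G2 chkReachJ_B2 chkReachJ_D4 chkReachJ_F4
    chkReachJ_E6 chkReachJ_E7 chkReachJ_E8

variable (D : ChevalleyDatum) (hD : D ∈ [chevG2, chevB2, chevD4, chevF4, chevE6, chevE7, chevE8])

theorem inRootSub_iff (J : Set ℕ) (r : ℕ) :
    D.InRootSub J r ↔ r < D.nroots ∧ ∀ i < D.rank, i ∉ J → cor D r i = 0 := Iff.rfl

include hD in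
theorem cor_neg_simple (i j : ℕ) (hi : i < D.rank) (hj : j < D.rank) :
    cor D (D.neg (D.simple i)) j = if j = i then -1 else 0 := by
  obtain ⟨hp, -, -, h22, -⟩ := chkN2_spec D (chkN2_all D hD) i hi
  have e : D.reflectRoot i (D.simple i) = D.neg (D.simple i) := by
    unfold ChevalleyDatum.reflectRoot
    simp
  rw [← e, cor_reflect D hD i _ j hi hp hj, cor_simple D hD i j hi hj]
  split_ifs with h
  · unfold corT
    have : ((List.range D.rank).map fun j' => D.cartan j' (D.simple i) * cor D (D.simple i) j') =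
        (List.range D.rank).map fun j' => if j' = i then D.cartan j' (D.simple i) else 0 := by
      apply List.map_congr_left
      intro j' hj'
      rw [cor_simple D hD i j' hi (List.mem_range.1 hj')]
      split_ifs <;> simp
    rw [this, sum_range_ite, if_pos hi, h22]
    norm_num
  · simp

include hD in
theorem inRootSub_reflect (J : Set ℕ) (i r : ℕ) (hi : i < D.rank) (hiJ : i ∈ J) (hr : D.InRootSub J r) :
    D.InRootSub J (D.reflectRoot i r) := by
  refine ⟨reflectRoot_lt D hD i r hi hr.1, fun j hj hjJ => ?_⟩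
  show cor D (D.reflectRoot i r) j = 0
  rw [cor_reflect D hD i r j hi hr.1 hj]
  have hne : j ≠ i := fun e => hjJ (e ▸ hiJ)
  rw [if_neg hne, sub_zero]
  exact hr.2 j hj hjJ

include hD in
/-- induction over the roots of the subsystem `Φ_J` along the fundamental reflections in `J` -/
theorem root_induction_sub (J : Set ℕ) (P : ℕ → Prop) (hbase : ∀ i < D.rank, i ∈ J → P (D.simple i))
    (hstep : ∀ i < D.rank, i ∈ J → ∀ r, D.InRootSub J r → P r → P (D.reflectRoot i r)) :
    ∀ r, D.InRootSub J r → P r := by
  have h := chkReachJ_all D hD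
  unfold chkReachJ at h
  simp only [List.all_eq_true, List.any_eq_true, Bool.or_eq_true, Bool.and_eq_true, Bool.not_eq_true',
    decide_eq_true_eq, beq_eq_false_iff_ne] at h
  intro r hrJ
  have hr := hrJ.1
  induction' hm : mu D r using Nat.strong_induction_on with m ih generalizing r
  obtain ⟨i, hi, hcase⟩ := h r (List.mem_range.2 hr)
  have hi := List.mem_range.1 hi
  obtain ⟨hp, -, -, -, hs'⟩ := chkN2_spec D (chkN2_all D hD) i hi
  rcases hcase with (hc | hc) | ⟨hc0, hc⟩
  · have e : r = D.simple i := Nat.eq_of_beq_eq_true hc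
    have hiJ : i ∈ J := by
      by_contra hn
      have := hrJ.2 i hi hn
      rw [e] at this
      have h1 := cor_simple D hD i i hi hi
      rw [if_pos rfl] at h1
      unfold cor at h1
      omega
    rw [e]; exact hbase i hi hiJ
  · have e : r = D.neg (D.simple i) := Nat.eq_of_beq_eq_true hc
    have hiJ : i ∈ J := by
      by_contra hn
      have := hrJ.2 i hi hn
      rw [e] at this
      have h1 := cor_neg_simple D hD i i hi hi
      rw [if_pos rfl] at h1
      unfold cor at h1
      omega
    have e2 : D.reflectRoot i (D.simple i) = D.neg (D.simple i) := by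
      unfold ChevalleyDatum.reflectRoot
      simp
    have hsJ : D.InRootSub J (D.simple i) := by
      refine ⟨hp, fun j hj hjJ => ?_⟩
      show cor D (D.simple i) j = 0
      rw [cor_simple D hD i j hi hj, if_neg (fun (e : j = i) => hjJ (e ▸ hiJ))]
    rw [e, ← e2]
    exact hstep i hi hiJ _ hsJ (hbase i hi hiJ)
  · have hiJ : i ∈ J := by
      by_contra hn
      have := hrJ.2 i hi hn
      apply hc0
      unfold corF
      rw [fast_coroot D (wfFast_all D hD) r i hr hi]
      exact this
    obtain ⟨h1', h2', -, -, -, h6', -⟩ := hs' r hr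
    have hlt : mu D (D.reflectRoot i r) < m := by
      rw [mu_reflect D hD i r hi hr, ← hm]
      unfold mu
      rw [← corSumF_eq D hD r hr]
      exact hc
    have hwJ := inRootSub_reflect D hD J i r hi hiJ hrJ
    have := ih _ hlt _ hwJ hwJ.1 rfl
    have h3 := hstep i hi hiJ _ hwJ this
    rw [reflectRoot_reflectRoot D hD i r hi hr] at h3
    exact h3

include hD in
theorem inRootSub_simple (J : Set ℕ) (i : ℕ) (hi : i < D.rank) (hiJ : i ∈ J) : D.InRootSub J (D.simple i) := by
  obtain ⟨hp, -⟩ := chkN2_spec D (chkN2_all D hD) i hi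
  refine ⟨hp, fun j hj hjJ => ?_⟩
  show cor D (D.simple i) j = 0
  rw [cor_simple D hD i j hi hj, if_neg (fun (e : j = i) => hjJ (e ▸ hiJ))]

include hD in
theorem inRootSub_neg_simple (J : Set ℕ) (i : ℕ) (hi : i < D.rank) (hiJ : i ∈ J) :
    D.InRootSub J (D.neg (D.simple i)) := by
  obtain ⟨hp, -⟩ := chkN2_spec D (chkN2_all D hD) i hi
  refine ⟨wf_neg D (wf_all D hD) _ hp, fun j hj hjJ => ?_⟩
  show cor D (D.neg (D.simple i)) j = 0
  rw [cor_neg_simple D hD i j hi hj, if_neg (fun (e : j = i) => hjJ (e ▸ hiJ))]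

include hD in
theorem parabolic_eq (F : Type*) [Field F] (J : Set ℕ) :
    D.parabolicSubgroup F J = D.diagonalSubgroup F ⊔
      Subgroup.closure {g : GL D.Idx F | ∃ (r : ℕ) (t : F), (D.IsPosRoot r ∨ D.InRootSub J r) ∧
        (g : Matrix D.Idx D.Idx F) = D.x F r t} := by
  set X := Subgroup.closure {g : GL D.Idx F | ∃ (r : ℕ) (t : F), (D.IsPosRoot r ∨ D.InRootSub J r) ∧
        (g : Matrix D.Idx D.Idx F) = D.x F r t} with hX
  unfold ChevalleyDatum.parabolicSubgroup
  apply le_antisymm
  · refine sup_le (sup_le ?_ le_sup_left) ?_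
    · refine le_trans ?_ (le_sup_right : X ≤ _)
      unfold ChevalleyDatum.posUnipotent
      apply Subgroup.closure_mono
      rintro g ⟨r, t, hr, hg⟩
      exact ⟨r, t, Or.inl hr, hg⟩
    · refine le_trans ?_ (le_sup_right : X ≤ _)
      rw [Subgroup.closure_le]
      rintro g ⟨j, hjJ, hj, hg⟩
      refine mem_of_coe_eq_wordMat D hD F X (D.nWord (D.simple j) 1) ?_ g hg
      intro p hp
      simp only [ChevalleyDatum.nWord, List.mem_cons, List.mem_nil_iff, or_false] at hp
      rcases hp with rfl | rfl | rfl
      · exact Subgroup.subset_closure ⟨_, _, Or.inr (inRootSub_simple D hD J j hj hjJ), xGL_coe D hD F _ _⟩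
      · exact Subgroup.subset_closure ⟨_, _, Or.inr (inRootSub_neg_simple D hD J j hj hjJ), xGL_coe D hD F _ _⟩
      · exact Subgroup.subset_closure ⟨_, _, Or.inr (inRootSub_simple D hD J j hj hjJ), xGL_coe D hD F _ _⟩
  · set P := D.borelSubgroup F ⊔ Subgroup.closure {g : GL D.Idx F | ∃ j ∈ J, j < D.rank ∧
        (g : Matrix D.Idx D.Idx F) = D.nMat F (D.simple j) 1} with hP
    have hUP : D.posUnipotent F ≤ P := le_trans (le_sup_left : _ ≤ D.borelSubgroup F) le_sup_left
    have hHP : D.diagonalSubgroup F ≤ P := le_trans (le_sup_right : _ ≤ D.borelSubgroup F) le_sup_left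
    refine sup_le hHP ?_
    rw [hX, Subgroup.closure_le]
    rintro g ⟨r, t, hr, hg⟩
    have eg : g = xGL D hD F r t := Units.ext (by rw [hg, xGL_coe])
    rw [SetLike.mem_coe, eg]
    rcases hr with hr | hr
    · exact hUP (Subgroup.subset_closure ⟨r, t, hr, xGL_coe D hD F r t⟩)
    · have key : ∀ r, D.InRootSub J r → ∀ t : F, xGL D hD F r t ∈ P := by
        refine root_induction_sub D hD J (fun r => ∀ t : F, xGL D hD F r t ∈ P) ?_ ?_
        · intro i hi _ t
          exact hUP (Subgroup.subset_closure ⟨_, t, isPosRoot_simple D hD i hi, xGL_coe D hD F _ t⟩)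
        · intro i hi hiJ r hrJ ih t
          rw [xGL_reflect D hD F i r hi hrJ.1 t]
          have hn : nGL D hD F (D.simple i) 1 ∈ P :=
            (le_sup_right : _ ≤ P) (Subgroup.subset_closure ⟨i, hiJ, hi, nGL_coe D hD F _ 1⟩)
          exact mul_mem (mul_mem hn (ih _)) (inv_mem hn)
      exact key r hr t

end Cfsg.Agent.Lib.Helper36
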