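import Cfsg.Agent.Lib.Helper36.ChevBV

/-! # U ∩ N = 1 and B ∩ N = H (helper36) -/

set_option autoImplicit false

namespace Cfsg.Agent.Lib.Helper36

open Cfsg Cfsg.Lie

variable (D : ChevalleyDatum) (hD : D ∈ [chevG2, chevB2, chevD4, chevF4, chevE6, chevE7, chevE8])

/-- block matrices `diag(A, P)` with `P` a generalized permutation matrix on the root vectors -/
def BlockMono (F : Type*) [Field F] (M : Matrix D.Idx D.Idx F) : Prop :=
  ∃ (A : Matrix (Fin D.rank) (Fin D.rank) F) (π : Fin D.nroots → Fin D.nroots) (a : Fin D.nroots → F),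
    M = Matrix.fromBlocks A 0 0 (PM π a)

theorem BlockMono.mul {F : Type*} [Field F] {M N : Matrix D.Idx D.Idx F} (hM : BlockMono D F M)
    (hN : BlockMono D F N) : BlockMono D F (M * N) := by
  obtain ⟨A, π, a, rfl⟩ := hM
  obtain ⟨A', π', a', rfl⟩ := hN
  refine ⟨A * A', π ∘ π', fun s => a (π' s) * a' s, ?_⟩
  rw [Matrix.fromBlocks_multiply, PM_mul_PM]
  simp

theorem BlockMono.one (F : Type*) [Field F] : BlockMono D F (1 : Matrix D.Idx D.Idx F) := by
  refine ⟨1, id, fun _ => 1, ?_⟩
  rw [PM_id]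
  show 1 = Matrix.fromBlocks 1 0 0 (Matrix.diagonal fun _ => (1 : F))
  rw [Matrix.diagonal_one, Matrix.fromBlocks_one]

theorem BlockMono.diagonal (F : Type*) [Field F] (d : D.Idx → F) (hd : ∀ j, d (Sum.inl j) = 1) :
    BlockMono D F (Matrix.diagonal d) := by
  refine ⟨1, id, fun s => d (Sum.inr s), ?_⟩
  rw [PM_id, ← Matrix.diagonal_one, Matrix.fromBlocks_diagonal]
  congr 1
  funext x
  rcases x with j | s
  · simp [hd j]
  · rfl

include hD in
theorem nGL_inv' (F : Type*) [Field F] (r : ℕ) (t : F) : (nGL D hD F r t)⁻¹ = nGL D hD F r (-t) := by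
  rw [inv_eq_iff_mul_eq_one]
  apply Units.ext
  rw [Units.val_mul, nGL_coe, nGL_coe, nMat_eq, nMat_eq, Units.val_one]
  have h1 := x_add' D hD (F := F) r t (-t)
  rw [add_neg_cancel, x_zero D hD] at h1
  have h2 := x_add' D hD (F := F) (D.neg r) (-t⁻¹) (-(-t)⁻¹)
  have e : -t⁻¹ + -(-t)⁻¹ = 0 := by rw [inv_neg]; ring
  rw [e, x_zero D hD] at h2
  calc D.x F r t * (D.x F (D.neg r) (-t⁻¹) * D.x F r t) * (D.x F r (-t) * (D.x F (D.neg r) (-(-t)⁻¹) * D.x F r (-t)))
      = D.x F r t * (D.x F (D.neg r) (-t⁻¹) * (D.x F r t * D.x F r (-t)) * D.x F (D.neg r) (-(-t)⁻¹)) * D.x F r (-t) := by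
        simp only [mul_assoc]
    _ = 1 := by rw [h1, mul_one, h2, mul_one, h1]

include hD in
theorem blockMono_nGL (F : Type*) [Field F] (r : ℕ) (hr : r < D.nroots) :
    ∀ t : F, t ≠ 0 → BlockMono D F (D.nMat F r t) := by
  refine root_induction D hD (fun r => ∀ t : F, t ≠ 0 → BlockMono D F (D.nMat F r t)) ?_ ?_ r hr
  · intro i hi t ht
    have := nMat_c_blocks D (wf_all D hD) (s2157chk_all D hD) (nProp_all D hD) (chkN2_all D hD) (mProp_all D hD)
      F i hi (Units.mk0 t ht)
    rw [Units.val_mk0] at this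
    exact ⟨_, _, _, this⟩
  · intro i hi r hr ih t ht
    obtain ⟨-, -, -, -, hs'⟩ := chkN2_spec D (chkN2_all D hD) i hi
    obtain ⟨-, -, h3, -, -, -, -⟩ := hs' r hr
    have hne : ((nEta D i r : ℤ) : F) * t ≠ 0 := by
      rcases h3 with h | h <;> rw [h] <;> simpa using ht
    have e := nGL_reflect D hD F i r hi hr t
    rw [nGL_inv' D hD F] at e
    have e' := congrArg (fun g : GL D.Idx F => (g : Matrix D.Idx D.Idx F)) e
    simp only [Units.val_mul, nGL_coe] at e'
    rw [e']
    have hN1 : BlockMono D F (D.nMat F (D.simple i) 1) := by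
      have := nMat_c_blocks D (wf_all D hD) (s2157chk_all D hD) (nProp_all D hD) (chkN2_all D hD)
        (mProp_all D hD) F i hi (1 : Fˣ)
      rw [Units.val_one] at this
      exact ⟨_, _, _, this⟩
    have hN2 : BlockMono D F (D.nMat F (D.simple i) (-1)) := by
      have := nMat_c_blocks D (wf_all D hD) (s2157chk_all D hD) (nProp_all D hD) (chkN2_all D hD)
        (mProp_all D hD) F i hi (-1 : Fˣ)
      rw [Units.val_neg, Units.val_one] at this
      exact ⟨_, _, _, this⟩
    exact (hN1.mul D (ih _ hne)).mul D hN2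

include hD in
theorem blockMono_of_mem_monomial (F : Type*) [Field F] (g : GL D.Idx F) (hg : g ∈ D.monomialSubgroup F) :
    BlockMono D F (g : Matrix D.Idx D.Idx F) := by
  unfold ChevalleyDatum.monomialSubgroup ChevalleyDatum.diagonalSubgroup at hg
  rw [← Subgroup.closure_union] at hg
  induction hg using Subgroup.closure_induction'' with
  | one => rw [Units.val_one]; exact BlockMono.one D F
  | mem x hx =>
    rcases hx with ⟨r, t, hr, ht, hx⟩ | ⟨r, hr, hx⟩
    · rw [hx, (hMat_all D hD r hr t ht).1]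
      exact BlockMono.diagonal D F _ (fun j => rfl)
    · rw [hx]
      exact blockMono_nGL D hD F r hr 1 one_ne_zero
  | inv_mem x hx =>
    rcases hx with ⟨r, t, hr, ht, hx⟩ | ⟨r, hr, hx⟩
    · have e : x = hGL D hD F r t := Units.ext (by rw [hx, hGL_coe])
      rw [e, hGL_inv D hD F r hr t ht, hGL_coe, (hMat_all D hD r hr t⁻¹ (inv_ne_zero ht)).1]
      exact BlockMono.diagonal D F _ (fun j => rfl)
    · have e : x = nGL D hD F r 1 := Units.ext (by rw [hx, nGL_coe])
      rw [e, nGL_inv' D hD F, nGL_coe]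
      exact blockMono_nGL D hD F r hr (-1) (by simp)
  | mul x y _ _ hx hy =>
    rw [Units.val_mul]
    exact hx.mul D hy

/-- a block-monomial matrix that is unitriangular for the level filtration is the identity -/
theorem eq_one_of_blockMono_of_raises (F : Type*) [Field F] (M : Matrix D.Idx D.Idx F) (hM : BlockMono D F M)
    (hr : Raises (lvI D) 1 (M - 1)) : M = 1 := by
  obtain ⟨A, π, a, rfl⟩ := hM
  have hA : A = 1 := by
    ext j' j
    by_contra hne
    have : (Matrix.fromBlocks A 0 0 (PM π a) - 1) (Sum.inl j') (Sum.inl j) ≠ 0 := by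
      rw [Matrix.sub_apply, Matrix.fromBlocks_apply₁₁]
      intro h0
      apply hne
      rw [sub_eq_zero] at h0
      rw [h0]
      by_cases hj : j' = j
      · subst hj; simp
      · rw [Matrix.one_apply_ne hj, Matrix.one_apply_ne (by simpa using hj)]
    have := hr _ _ this
    simp [lvI, lvB, enc] at this
  have hdiag : ∀ s, PM π a s s = 1 := by
    intro s
    by_contra hne
    have : (Matrix.fromBlocks A 0 0 (PM π a) - 1) (Sum.inr s) (Sum.inr s) ≠ 0 := by
      rw [Matrix.sub_apply, Matrix.fromBlocks_apply₂₂, Matrix.one_apply_eq]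
      intro h0
      exact hne (sub_eq_zero.1 h0)
    have := hr _ _ this
    omega
  have hP : PM π a = 1 := by
    ext s' s
    have h1 := hdiag s
    rw [PM_apply] at h1 ⊢
    split_ifs at h1 with h
    · by_cases hs : s' = s
      · subst hs; rw [if_pos h, h1, Matrix.one_apply_eq]
      · rw [Matrix.one_apply_ne hs, if_neg (by rw [← h]; exact hs)]
    · exact absurd h1 zero_ne_one
  rw [hA, hP, Matrix.fromBlocks_one]

include hD in
theorem pos_inf_monomial (F : Type*) [Field F] : D.posUnipotent F ⊓ D.monomialSubgroup F = ⊥ := by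
  rw [eq_bot_iff]
  rintro g ⟨hu, hn⟩
  rw [Subgroup.mem_bot]
  apply Units.ext
  exact eq_one_of_blockMono_of_raises D F _ (blockMono_of_mem_monomial D hD F g hn)
    (posUnipotent_le_raises D hD F hu)

include hD in
theorem borel_inf_monomial (F : Type*) [Field F] :
    D.borelSubgroup F ⊓ D.monomialSubgroup F = D.diagonalSubgroup F := by
  have hHN : D.diagonalSubgroup F ≤ D.monomialSubgroup F := by
    unfold ChevalleyDatum.monomialSubgroup
    exact le_sup_left
  apply le_antisymm
  · rintro g ⟨hb, hn⟩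
    obtain ⟨u, hu, h, hh, e⟩ := (mem_borel_iff D hD F g).1 hb
    have hun : u ∈ D.monomialSubgroup F := by
      have : u = g * h⁻¹ := by rw [← e]; group
      rw [this]
      exact mul_mem hn (inv_mem (hHN hh))
    have hu1 : u ∈ D.posUnipotent F ⊓ D.monomialSubgroup F := ⟨hu, hun⟩
    rw [pos_inf_monomial D hD F, Subgroup.mem_bot] at hu1
    rw [← e, hu1, one_mul]
    exact hh
  · exact le_inf (le_sup_right : _ ≤ D.borelSubgroup F) hHN

end Cfsg.Agent.Lib.Helper36
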