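import Cfsg.Agent.Lib.Helper36.SL2Data

/-! # The homomorphism SL₂(F) → G attached to rank one data (helper36) -/

set_option autoImplicit false

namespace Cfsg.Agent.Lib.Helper36

open Matrix

namespace SL2Data

variable {F : Type*} [Field F] {G : Type*} [Group G] (S : SL2Data F G)

def sU (t : F) : SpecialLinearGroup (Fin 2) F := ⟨!![1, t; 0, 1], by simp [Matrix.det_fin_two]⟩
def sV (t : F) : SpecialLinearGroup (Fin 2) F := ⟨!![1, 0; t, 1], by simp [Matrix.det_fin_two]⟩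
def sD (s : F) (hs : s ≠ 0) : SpecialLinearGroup (Fin 2) F :=
  ⟨!![s, 0; 0, s⁻¹], by simp [Matrix.det_fin_two, hs]⟩
def sW : SpecialLinearGroup (Fin 2) F := ⟨!![0, 1; -1, 0], by simp [Matrix.det_fin_two]⟩

theorem det_eq (g : SpecialLinearGroup (Fin 2) F) : g.1 0 0 * g.1 1 1 - g.1 0 1 * g.1 1 0 = 1 := by
  have := g.2
  rw [Matrix.det_fin_two] at this
  exact this

/-- the homomorphism on Bruhat normal forms -/
noncomputable def phi (g : SpecialLinearGroup (Fin 2) F) : G := by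
  classical
  exact if g.1 1 0 = 0 then S.x (g.1 0 0 * g.1 0 1) * S.h (g.1 0 0)
    else S.x (g.1 0 0 / g.1 1 0) * S.n (-(g.1 1 0)⁻¹) * S.x (g.1 1 1 / g.1 1 0)

theorem phi_of_eq_zero (g : SpecialLinearGroup (Fin 2) F) (h : g.1 1 0 = 0) :
    S.phi g = S.x (g.1 0 0 * g.1 0 1) * S.h (g.1 0 0) := by
  unfold phi; rw [if_pos h]

theorem phi_of_ne_zero (g : SpecialLinearGroup (Fin 2) F) (h : g.1 1 0 ≠ 0) :
    S.phi g = S.x (g.1 0 0 / g.1 1 0) * S.n (-(g.1 1 0)⁻¹) * S.x (g.1 1 1 / g.1 1 0) := by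
  unfold phi; rw [if_neg h]

theorem mul_sU (g : SpecialLinearGroup (Fin 2) F) (t : F) :
    (g * sU t).1 0 0 = g.1 0 0 ∧ (g * sU t).1 0 1 = g.1 0 0 * t + g.1 0 1 ∧
    (g * sU t).1 1 0 = g.1 1 0 ∧ (g * sU t).1 1 1 = g.1 1 0 * t + g.1 1 1 := by
  have h : (g * sU t).1 = g.1 * (sU t).1 := rfl
  have h2 : (sU t).1 = !![1, t; 0, 1] := rfl
  rw [h, h2]
  simp [Matrix.mul_apply, Fin.sum_univ_two]

theorem mul_sD (g : SpecialLinearGroup (Fin 2) F) (s : F) (hs : s ≠ 0) :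
    (g * sD s hs).1 0 0 = g.1 0 0 * s ∧ (g * sD s hs).1 0 1 = g.1 0 1 * s⁻¹ ∧
    (g * sD s hs).1 1 0 = g.1 1 0 * s ∧ (g * sD s hs).1 1 1 = g.1 1 1 * s⁻¹ := by
  have h : (g * sD s hs).1 = g.1 * (sD s hs).1 := rfl
  have h2 : (sD s hs).1 = !![s, 0; 0, s⁻¹] := rfl
  rw [h, h2]
  simp [Matrix.mul_apply, Fin.sum_univ_two]

theorem mul_sW (g : SpecialLinearGroup (Fin 2) F) :
    (g * sW).1 0 0 = - g.1 0 1 ∧ (g * sW).1 0 1 = g.1 0 0 ∧
    (g * sW).1 1 0 = - g.1 1 1 ∧ (g * sW).1 1 1 = g.1 1 0 := by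
  have h : (g * sW).1 = g.1 * (sW : SpecialLinearGroup (Fin 2) F).1 := rfl
  have h2 : (sW : SpecialLinearGroup (Fin 2) F).1 = !![0, 1; -1, 0] := rfl
  rw [h, h2]
  simp [Matrix.mul_apply, Fin.sum_univ_two]

theorem phi_mul_sU (g : SpecialLinearGroup (Fin 2) F) (t : F) : S.phi (g * sU t) = S.phi g * S.x t := by
  obtain ⟨e00, e01, e10, e11⟩ := mul_sU g t
  have hdet := det_eq g
  by_cases hc : g.1 1 0 = 0
  · have hc' : (g * sU t).1 1 0 = 0 := by rw [e10, hc]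
    rw [S.phi_of_eq_zero _ hc', S.phi_of_eq_zero _ hc, e00, e01]
    have ha : g.1 0 0 ≠ 0 := by
      intro h0; rw [h0, hc] at hdet; simp at hdet
    rw [mul_assoc, S.hx _ _ ha, ← mul_assoc, S.x_add]
    congr 2
    ring
  · have hc' : (g * sU t).1 1 0 ≠ 0 := by rw [e10]; exact hc
    rw [S.phi_of_ne_zero _ hc', S.phi_of_ne_zero _ hc, e00, e10, e11, mul_assoc _ _ (S.x t), S.x_add]
    congr 2
    field_simp
    ring

theorem phi_mul_sD (g : SpecialLinearGroup (Fin 2) F) (s : F) (hs : s ≠ 0) :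
    S.phi (g * sD s hs) = S.phi g * S.h s := by
  obtain ⟨e00, e01, e10, e11⟩ := mul_sD g s hs
  have hdet := det_eq g
  by_cases hc : g.1 1 0 = 0
  · have hc' : (g * sD s hs).1 1 0 = 0 := by rw [e10, hc, zero_mul]
    have ha : g.1 0 0 ≠ 0 := by
      intro h0; rw [h0, hc] at hdet; simp at hdet
    rw [S.phi_of_eq_zero _ hc', S.phi_of_eq_zero _ hc, e00, e01, mul_assoc (S.x _) (S.h _) (S.h s),
      S.hmul _ _ ha hs]
    congr 2
    field_simp
  · have hc' : (g * sD s hs).1 1 0 ≠ 0 := by rw [e10]; exact mul_ne_zero hc hs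
    rw [S.phi_of_ne_zero _ hc', S.phi_of_ne_zero _ hc, e00, e10, e11]
    have hk : -(g.1 1 0)⁻¹ ≠ 0 := neg_ne_zero.2 (inv_ne_zero hc)
    rw [mul_assoc _ _ (S.h s), S.xh s _ hs, ← mul_assoc, mul_assoc (S.x _) (S.n _) (S.h s), S.n_mul_h _ _ hk hs]
    congr 2
    · congr 1
      field_simp
    · congr 1
      field_simp
    · field_simp

theorem phi_sW_aux : S.phi sW = S.n 1 := by
  have h10 : (sW : SpecialLinearGroup (Fin 2) F).1 1 0 = -1 := by simp [sW]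
  have h00 : (sW : SpecialLinearGroup (Fin 2) F).1 0 0 = 0 := by simp [sW]
  have h11 : (sW : SpecialLinearGroup (Fin 2) F).1 1 1 = 0 := by simp [sW]
  rw [S.phi_of_ne_zero _ (by rw [h10]; simp), h10, h00, h11]
  simp [S.x_zero]

theorem phi_mul_sW (g : SpecialLinearGroup (Fin 2) F) : S.phi (g * sW) = S.phi g * S.n 1 := by
  obtain ⟨e00, e01, e10, e11⟩ := mul_sW g
  have hdet := det_eq g
  by_cases hc : g.1 1 0 = 0
  · -- upper triangular
    have ha : g.1 0 0 ≠ 0 := by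
      intro h0; rw [h0, hc] at hdet; simp at hdet
    have hd : g.1 1 1 ≠ 0 := by
      intro h0; rw [h0, hc] at hdet; simp at hdet
    have hd' : g.1 1 1 = (g.1 0 0)⁻¹ := by
      rw [hc] at hdet
      field_simp
      linear_combination hdet
    have hc' : (g * sW).1 1 0 ≠ 0 := by rw [e10]; exact neg_ne_zero.2 hd
    rw [S.phi_of_ne_zero _ hc', S.phi_of_eq_zero _ hc, e00, e10, e11, hc, zero_div, S.x_zero, mul_one,
      mul_assoc, S.h_mul_n _ _ one_ne_zero ha, mul_one]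
    congr 2
    · rw [hd']; field_simp
    · rw [hd']; simp
  · by_cases hd : g.1 1 1 = 0
    · have hc' : (g * sW).1 1 0 = 0 := by rw [e10, hd, neg_zero]
      have hb : g.1 0 1 = -(g.1 1 0)⁻¹ := by
        rw [hd] at hdet
        field_simp
        linear_combination -hdet
      rw [S.phi_of_eq_zero _ hc', S.phi_of_ne_zero _ hc, e00, e01, hd, zero_div, S.x_zero, mul_one]
      have hk : -(g.1 1 0)⁻¹ ≠ 0 := neg_ne_zero.2 (inv_ne_zero hc)
      rw [S.n_eq (-(g.1 1 0)⁻¹), mul_assoc, mul_assoc, S.n_one_sq, S.hmul _ _ hk (by simp)]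
      congr 2
      · rw [hb]; field_simp
      · rw [hb]; ring
    · have hc' : (g * sW).1 1 0 ≠ 0 := by rw [e10]; exact neg_ne_zero.2 hd
      rw [S.phi_of_ne_zero _ hc', S.phi_of_ne_zero _ hc, e00, e10, e11]
      have hg : g.1 1 1 / g.1 1 0 ≠ 0 := div_ne_zero hd hc
      have hk : -(g.1 1 0)⁻¹ ≠ 0 := neg_ne_zero.2 (inv_ne_zero hc)
      rw [mul_assoc _ (S.x _) (S.n 1), S.x_mul_n_one _ hg]
      -- x(a/c) n(κ) n(1) x(-γ⁻¹) n(γ⁻¹) x(-γ⁻¹)
      rw [S.n_eq (-(g.1 1 0)⁻¹)]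
      simp only [mul_assoc]
      rw [← mul_assoc (S.n 1) (S.n 1), S.n_one_sq, ← mul_assoc (S.h _) (S.h (-1)), S.hmul _ _ hk (by simp),
        ← mul_assoc (S.h _) (S.x _), S.hx _ _ (by simpa using hk), mul_assoc (S.x _) (S.h _),
        ← mul_assoc (S.h _) (S.n _), S.h_mul_n _ _ (inv_ne_zero hg) (by simpa using hk), ← mul_assoc (S.x _) (S.x _),
        S.x_add]
      have hdet' : g.1 0 0 * g.1 1 1 = 1 + g.1 0 1 * g.1 1 0 := by linear_combination hdet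
      have a1 : g.1 0 0 / g.1 1 0 + (-(g.1 1 0)⁻¹ * -1) ^ 2 * -(g.1 1 1 / g.1 1 0)⁻¹ = -g.1 0 1 / -g.1 1 1 := by
        field_simp
        linear_combination hdet'
      have a2 : -(g.1 1 0)⁻¹ * -1 * (g.1 1 1 / g.1 1 0)⁻¹ = -(-g.1 1 1)⁻¹ := by
        field_simp
      have a3 : -(g.1 1 1 / g.1 1 0)⁻¹ = g.1 1 0 / -g.1 1 1 := by
        field_simp
      rw [a1, a2, a3]


theorem phi_one : S.phi 1 = 1 := by
  have h10 : (1 : SpecialLinearGroup (Fin 2) F).1 1 0 = 0 := by simp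
  have h00 : (1 : SpecialLinearGroup (Fin 2) F).1 0 0 = 1 := by simp
  have h01 : (1 : SpecialLinearGroup (Fin 2) F).1 0 1 = 0 := by simp
  rw [S.phi_of_eq_zero _ h10, h00, h01, mul_zero, S.x_zero, S.h_one, mul_one]

theorem eq_of_eq_zero (g : SpecialLinearGroup (Fin 2) F) (hc : g.1 1 0 = 0) :
    ∃ (ha : g.1 0 0 ≠ 0), g = sU (g.1 0 0 * g.1 0 1) * sD (g.1 0 0) ha := by
  have hdet := det_eq g
  have ha : g.1 0 0 ≠ 0 := by
    intro h0; rw [h0, hc] at hdet; simp at hdet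
  refine ⟨ha, ?_⟩
  have hd' : g.1 1 1 = (g.1 0 0)⁻¹ := by
    rw [hc] at hdet
    field_simp
    linear_combination hdet
  obtain ⟨e00, e01, e10, e11⟩ := mul_sD (sU (g.1 0 0 * g.1 0 1)) (g.1 0 0) ha
  have u00 : (sU (g.1 0 0 * g.1 0 1)).1 0 0 = 1 := by simp [sU]
  have u01 : (sU (g.1 0 0 * g.1 0 1)).1 0 1 = g.1 0 0 * g.1 0 1 := by simp [sU]
  have u10 : (sU (g.1 0 0 * g.1 0 1)).1 1 0 = 0 := by simp [sU]
  have u11 : (sU (g.1 0 0 * g.1 0 1)).1 1 1 = 1 := by simp [sU]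
  have h00 : g.1 0 0 = (sU (g.1 0 0 * g.1 0 1) * sD (g.1 0 0) ha).1 0 0 := by
    rw [e00, u00, one_mul]
  have h01 : g.1 0 1 = (sU (g.1 0 0 * g.1 0 1) * sD (g.1 0 0) ha).1 0 1 := by
    rw [e01, u01]; field_simp
  have h10 : g.1 1 0 = (sU (g.1 0 0 * g.1 0 1) * sD (g.1 0 0) ha).1 1 0 := by
    rw [e10, u10, hc, zero_mul]
  have h11 : g.1 1 1 = (sU (g.1 0 0 * g.1 0 1) * sD (g.1 0 0) ha).1 1 1 := by
    rw [e11, u11, hd', one_mul]
  apply Matrix.SpecialLinearGroup.ext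
  intro i j
  fin_cases i <;> fin_cases j
  · exact h00
  · exact h01
  · exact h10
  · exact h11

theorem eq_of_ne_zero (g : SpecialLinearGroup (Fin 2) F) (hc : g.1 1 0 ≠ 0) :
    g = sU (g.1 0 0 / g.1 1 0) * sD (-(g.1 1 0)⁻¹) (neg_ne_zero.2 (inv_ne_zero hc)) * sW *
      sU (g.1 1 1 / g.1 1 0) := by
  have hdet := det_eq g
  have hk : -(g.1 1 0)⁻¹ ≠ 0 := neg_ne_zero.2 (inv_ne_zero hc)
  set A := sU (g.1 0 0 / g.1 1 0) with hA
  obtain ⟨d00, d01, d10, d11⟩ := mul_sD A (-(g.1 1 0)⁻¹) hk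
  obtain ⟨w00, w01, w10, w11⟩ := mul_sW (A * sD (-(g.1 1 0)⁻¹) hk)
  obtain ⟨e00, e01, e10, e11⟩ := mul_sU (A * sD (-(g.1 1 0)⁻¹) hk * sW) (g.1 1 1 / g.1 1 0)
  have u00 : A.1 0 0 = 1 := by simp [hA, sU]
  have u01 : A.1 0 1 = g.1 0 0 / g.1 1 0 := by simp [hA, sU]
  have u10 : A.1 1 0 = 0 := by simp [hA, sU]
  have u11 : A.1 1 1 = 1 := by simp [hA, sU]
  have hdet' : g.1 0 0 * g.1 1 1 = 1 + g.1 0 1 * g.1 1 0 := by linear_combination hdet
  have h00 : g.1 0 0 = (A * sD (-(g.1 1 0)⁻¹) hk * sW * sU (g.1 1 1 / g.1 1 0)).1 0 0 := by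
    rw [e00, w00, d01, u01]; field_simp
  have h01 : g.1 0 1 = (A * sD (-(g.1 1 0)⁻¹) hk * sW * sU (g.1 1 1 / g.1 1 0)).1 0 1 := by
    rw [e01, w00, w01, d01, d00, u01, u00]; field_simp; linear_combination -hdet'
  have h10 : g.1 1 0 = (A * sD (-(g.1 1 0)⁻¹) hk * sW * sU (g.1 1 1 / g.1 1 0)).1 1 0 := by
    rw [e10, w10, d11, u11]; field_simp
  have h11 : g.1 1 1 = (A * sD (-(g.1 1 0)⁻¹) hk * sW * sU (g.1 1 1 / g.1 1 0)).1 1 1 := by
    rw [e11, w10, w11, d11, d10, u11, u10]; field_simp; ring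
  apply Matrix.SpecialLinearGroup.ext
  intro i j
  fin_cases i <;> fin_cases j
  · exact h00
  · exact h01
  · exact h10
  · exact h11

theorem phi_mul (g g' : SpecialLinearGroup (Fin 2) F) : S.phi (g * g') = S.phi g * S.phi g' := by
  have key1 : ∀ (g : SpecialLinearGroup (Fin 2) F) (α κ : F) (hκ : κ ≠ 0),
      S.phi (g * (sU α * sD κ hκ)) = S.phi g * (S.x α * S.h κ) := by
    intro g α κ hκ
    rw [← mul_assoc, S.phi_mul_sD, S.phi_mul_sU, mul_assoc]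
  have key2 : ∀ (g : SpecialLinearGroup (Fin 2) F) (α κ γ : F) (hκ : κ ≠ 0),
      S.phi (g * (sU α * sD κ hκ * sW * sU γ)) = S.phi g * (S.x α * S.h κ * S.n 1 * S.x γ) := by
    intro g α κ γ hκ
    rw [← mul_assoc, ← mul_assoc, ← mul_assoc, S.phi_mul_sU, S.phi_mul_sW, S.phi_mul_sD, S.phi_mul_sU]
    simp only [mul_assoc]
  by_cases hc : g'.1 1 0 = 0
  · obtain ⟨ha, e⟩ := eq_of_eq_zero g' hc
    have h1 := key1 g (g'.1 0 0 * g'.1 0 1) _ ha
    have h2 := key1 1 (g'.1 0 0 * g'.1 0 1) _ ha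
    rw [one_mul, S.phi_one, one_mul] at h2
    rw [← e] at h1 h2
    rw [h1, h2]
  · have e := eq_of_ne_zero g' hc
    have h1 := key2 g (g'.1 0 0 / g'.1 1 0) _ (g'.1 1 1 / g'.1 1 0) (neg_ne_zero.2 (inv_ne_zero hc))
    have h2 := key2 1 (g'.1 0 0 / g'.1 1 0) _ (g'.1 1 1 / g'.1 1 0) (neg_ne_zero.2 (inv_ne_zero hc))
    rw [one_mul, S.phi_one, one_mul] at h2
    rw [← e] at h1 h2
    rw [h1, h2]

/-- the homomorphism `SL₂(F) → G` attached to rank one data -/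
noncomputable def hom : SpecialLinearGroup (Fin 2) F →* G := MonoidHom.mk' S.phi S.phi_mul

theorem hom_sU (t : F) : S.hom (sU t) = S.x t := by
  show S.phi (sU t) = S.x t
  have := S.phi_mul_sU 1 t
  rwa [one_mul, S.phi_one, one_mul] at this

theorem hom_sV (t : F) : S.hom (sV t) = S.y t := by
  show S.phi (sV t) = S.y t
  have v10 : (sV t).1 1 0 = t := by simp [sV]
  have v00 : (sV t).1 0 0 = 1 := by simp [sV]
  have v01 : (sV t).1 0 1 = 0 := by simp [sV]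
  have v11 : (sV t).1 1 1 = 1 := by simp [sV]
  by_cases ht : t = 0
  · rw [S.phi_of_eq_zero _ (by rw [v10, ht]), v00, v01, mul_zero, S.x_zero, S.h_one, mul_one, ht, S.y_zero]
  · rw [S.phi_of_ne_zero _ (by rw [v10]; exact ht), v00, v10, v11]
    unfold n
    rw [inv_neg, inv_inv, neg_neg]
    simp only [mul_assoc]
    rw [S.x_add, ← mul_assoc (S.x _) (S.x _), S.x_add]
    have e1 : (1 : F) / t + -t⁻¹ = 0 := by field_simp; ring
    have e2 : -t⁻¹ + (1 : F) / t = 0 := by field_simp; ring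
    rw [e1, e2, S.x_zero, one_mul, mul_one]

theorem phi_mem (K : Subgroup G) (hx : ∀ t, S.x t ∈ K) (hy : ∀ t, S.y t ∈ K)
    (g : SpecialLinearGroup (Fin 2) F) : S.phi g ∈ K := by
  have hn : ∀ t, S.n t ∈ K := fun t => mul_mem (mul_mem (hx _) (hy _)) (hx _)
  have hh : ∀ t, S.h t ∈ K := fun t => mul_mem (hn _) (hn _)
  unfold phi
  split_ifs
  · exact mul_mem (hx _) (hh _)
  · exact mul_mem (mul_mem (hx _) (hn _)) (hx _)

theorem hom_range : S.hom.range = Subgroup.closure (Set.range S.x ∪ Set.range S.y) := by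
  apply le_antisymm
  · rintro _ ⟨g, rfl⟩
    exact S.phi_mem _ (fun t => Subgroup.subset_closure (Or.inl ⟨t, rfl⟩))
      (fun t => Subgroup.subset_closure (Or.inr ⟨t, rfl⟩)) g
  · rw [Subgroup.closure_le]
    rintro _ (⟨t, rfl⟩ | ⟨t, rfl⟩)
    · exact ⟨sU t, S.hom_sU t⟩
    · exact ⟨sV t, S.hom_sV t⟩

end SL2Data

end Cfsg.Agent.Lib.Helper36
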