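import Cfsg.Agent.Lib.Helper36.ChevHU
import Cfsg.Agent.Lib.Helper36.ChevPara
import Cfsg.Agent.Lib.Helper36.ChevUN
import Cfsg.Agent.Lib.Helper36.SL2Hom

/-! # Rank one relations for every root; the homomorphism from SL₂ (helper36) -/

set_option autoImplicit false

namespace Cfsg.Agent.Lib.Helper36

open Cfsg Cfsg.Lie

variable (D : ChevalleyDatum) (hD : D ∈ [chevG2, chevB2, chevD4, chevF4, chevE6, chevE7, chevE8])

include hD in
/-- the coroot coordinates of `-r` are the negatives of those of `r` -/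
theorem cor_neg (r : ℕ) (hr : r < D.nroots) : ∀ j < D.rank, cor D (D.neg r) j = - cor D r j := by
  refine root_induction D hD (fun r => ∀ j < D.rank, cor D (D.neg r) j = - cor D r j) ?_ ?_ r hr
  · intro i hi j hj
    rw [cor_neg_simple D hD i j hi hj, cor_simple D hD i j hi hj]
    split_ifs <;> simp
  · intro i hi r hr ih j hj
    have hnr : D.neg r < D.nroots := wf_neg D (wf_all D hD) r hr
    rw [← reflectRoot_neg D hD i r hi hr, cor_reflect D hD i _ j hi hnr hj, cor_reflect D hD i r j hi hr hj, ih j hj]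
    have hT : corT D i (D.neg r) = - corT D i r := by
      unfold corT
      rw [← list_sum_map_neg]
      congr 1
      apply List.map_congr_left
      intro j' hj'
      rw [ih j' (List.mem_range.1 hj')]
      ring
    rw [hT]
    split_ifs <;> ring

include hD in
theorem gc_neg_left (r s : ℕ) (hr : r < D.nroots) : gc D (D.neg r) s = - gc D r s := by
  unfold gc
  rw [← list_sum_map_neg]
  congr 1
  apply List.map_congr_left
  intro j hj
  rw [cor_neg D hD r hr j (List.mem_range.1 hj)]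
  ring

include hD in
theorem gc_self (r : ℕ) (hr : r < D.nroots) : gc D r r = 2 := by
  refine root_induction D hD (fun r => gc D r r = 2) ?_ ?_ r hr
  · intro i hi
    rw [gc_simple D hD i _ hi]
    exact (chkN2_spec D (chkN2_all D hD) i hi).2.2.2.1
  · intro i hi r hr ih
    rw [gc_reflect D hD i r _ hi hr (reflectRoot_lt D hD i r hi hr), reflectRoot_reflectRoot D hD i r hi hr]
    exact ih

include hD in
theorem hDiag_neg (F : Type*) [Field F] (r : ℕ) (hr : r < D.nroots) (s : F) :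
    hDiag D F (D.neg r) s = hDiag D F r s⁻¹ := by
  unfold hDiag
  congr 1
  funext x
  rcases x with j | u
  · rfl
  · simp only [Sum.elim_inr]
    rw [gc_neg_left D hD r _ hr, zpow_neg, inv_zpow]

theorem nGL_eq (F : Type*) [Field F] (r : ℕ) (t : F) :
    nGL D hD F r t = xGL D hD F r t * xGL D hD F (D.neg r) (-t⁻¹) * xGL D hD F r t := by
  simp [nGL, wordGL, ChevalleyDatum.nWord, mul_assoc]

/-- the rank one relations for the root `r` -/
def Rank1Rel (F : Type*) [Field F] (r : ℕ) : Prop :=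
  (∀ u : F, nGL D hD F r 1 * xGL D hD F r u = xGL D hD F (D.neg r) (-u) * nGL D hD F r 1) ∧
  (∀ u : F, nGL D hD F r 1 * xGL D hD F (D.neg r) u = xGL D hD F r (-u) * nGL D hD F r 1) ∧
  (∀ s : F, s ≠ 0 → nGL D hD F r 1 * hGL D hD F r s = hGL D hD F r s⁻¹ * nGL D hD F r 1)

theorem rank1Rel_simple (F : Type*) [Field F] (i : ℕ) (hi : i < D.rank) : Rank1Rel D hD F (D.simple i) := by
  obtain ⟨hp, e1, e2, -, -⟩ := chkN2_spec D (chkN2_all D hD) i hi
  have hnp : D.neg (D.simple i) < D.nroots := wf_neg D (wf_all D hD) _ hp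
  have hne : D.neg (D.simple i) ≠ D.simple i := (wf2_spec D (wf2_all D hD) _ hp).1
  have r1 : D.reflectRoot i (D.simple i) = D.neg (D.simple i) := by
    unfold ChevalleyDatum.reflectRoot; simp
  have r2 : D.reflectRoot i (D.neg (D.simple i)) = D.simple i := by
    unfold ChevalleyDatum.reflectRoot; simp [hne]
  refine ⟨fun u => ?_, fun u => ?_, fun s hs => ?_⟩
  · apply Units.ext
    rw [Units.val_mul, Units.val_mul, nGL_coe, xGL_coe, xGL_coe, nMat_mul_x_all D hD i _ hi hp, r1, e1]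
    simp
  · apply Units.ext
    rw [Units.val_mul, Units.val_mul, nGL_coe, xGL_coe, xGL_coe, nMat_mul_x_all D hD i _ hi hnp, r2, e2]
    simp
  · apply Units.ext
    rw [Units.val_mul, Units.val_mul, nGL_coe, hGL_coe, hGL_coe]
    have := nMat_mul_hMat_of D hD i (D.simple i) hi hp s
      (by rw [(hMat_all D hD _ hp s hs).1, (hMat_all D hD _ hp s hs).2])
    rw [this, r1, (hMat_all D hD _ hnp s hs).1, (hMat_all D hD _ hp s⁻¹ (inv_ne_zero hs)).1, hDiag_neg D hD F _ hp]

theorem rank1Rel_reflect (F : Type*) [Field F] (i r : ℕ) (hi : i < D.rank) (hr : r < D.nroots)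
    (h : Rank1Rel D hD F r) : Rank1Rel D hD F (D.reflectRoot i r) := by
  obtain ⟨-, -, -, -, hs'⟩ := chkN2_spec D (chkN2_all D hD) i hi
  obtain ⟨-, -, h3, -, -, -, -⟩ := hs' r hr
  have hnr : D.neg r < D.nroots := wf_neg D (wf_all D hD) r hr
  obtain ⟨a1, a2, a3⟩ := h
  set N := nGL D hD F (D.simple i) 1 with hN
  have ex : ∀ u : F, xGL D hD F (D.reflectRoot i r) u = N * xGL D hD F r (((nEta D i r : ℤ) : F) * u) * N⁻¹ :=
    fun u => xGL_reflect D hD F i r hi hr u
  have ey : ∀ u : F, xGL D hD F (D.neg (D.reflectRoot i r)) u =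
      N * xGL D hD F (D.neg r) (((nEta D i r : ℤ) : F) * u) * N⁻¹ := by
    intro u
    rw [← reflectRoot_neg D hD i r hi hr, xGL_reflect D hD F i _ hi hnr u, nEta_neg D hD i r hi hr]
  have en : nGL D hD F (D.reflectRoot i r) 1 = N * nGL D hD F r (((nEta D i r : ℤ) : F) * 1) * N⁻¹ :=
    nGL_reflect D hD F i r hi hr 1
  have eh : ∀ s : F, s ≠ 0 → hGL D hD F (D.reflectRoot i r) s = N * hGL D hD F r s * N⁻¹ :=
    fun s hs => hGL_reflect D hD F i r hi hr s hs
  -- relations for the inverse of `n_r(1)`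
  have b1 : ∀ u : F, (nGL D hD F r 1)⁻¹ * xGL D hD F r u = xGL D hD F (D.neg r) (-u) * (nGL D hD F r 1)⁻¹ := by
    intro u
    have := a2 (-u)
    rw [neg_neg] at this
    rw [inv_mul_eq_iff_eq_mul, ← mul_assoc, this, mul_assoc, mul_inv_cancel, mul_one]
  have b2 : ∀ u : F, (nGL D hD F r 1)⁻¹ * xGL D hD F (D.neg r) u = xGL D hD F r (-u) * (nGL D hD F r 1)⁻¹ := by
    intro u
    have := a1 (-u)
    rw [neg_neg] at this
    rw [inv_mul_eq_iff_eq_mul, ← mul_assoc, this, mul_assoc, mul_inv_cancel, mul_one]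
  have b3 : ∀ s : F, s ≠ 0 → (nGL D hD F r 1)⁻¹ * hGL D hD F r s = hGL D hD F r s⁻¹ * (nGL D hD F r 1)⁻¹ := by
    intro s hs
    have := a3 s⁻¹ (inv_ne_zero hs)
    rw [inv_inv] at this
    rw [inv_mul_eq_iff_eq_mul, ← mul_assoc, this, mul_assoc, mul_inv_cancel, mul_one]
  rcases h3 with h1 | h1
  · rw [h1] at ex ey en
    simp only [Int.cast_one, one_mul] at ex ey en
    refine ⟨fun u => ?_, fun u => ?_, fun s hs => ?_⟩
    · rw [en, ex, ey]
      calc N * nGL D hD F r 1 * N⁻¹ * (N * xGL D hD F r u * N⁻¹)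
          = N * (nGL D hD F r 1 * xGL D hD F r u) * N⁻¹ := by group
        _ = N * (xGL D hD F (D.neg r) (-u) * nGL D hD F r 1) * N⁻¹ := by rw [a1]
        _ = _ := by group
    · rw [en, ex, ey]
      calc N * nGL D hD F r 1 * N⁻¹ * (N * xGL D hD F (D.neg r) u * N⁻¹)
          = N * (nGL D hD F r 1 * xGL D hD F (D.neg r) u) * N⁻¹ := by group
        _ = N * (xGL D hD F r (-u) * nGL D hD F r 1) * N⁻¹ := by rw [a2]
        _ = _ := by group
    · rw [en, eh s hs, eh s⁻¹ (inv_ne_zero hs)]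
      calc N * nGL D hD F r 1 * N⁻¹ * (N * hGL D hD F r s * N⁻¹)
          = N * (nGL D hD F r 1 * hGL D hD F r s) * N⁻¹ := by group
        _ = N * (hGL D hD F r s⁻¹ * nGL D hD F r 1) * N⁻¹ := by rw [a3 s hs]
        _ = _ := by group
  · rw [h1] at ex ey en
    simp only [Int.cast_neg, Int.cast_one, neg_mul, one_mul] at ex ey en
    rw [← nGL_inv' D hD F r 1] at en
    refine ⟨fun u => ?_, fun u => ?_, fun s hs => ?_⟩
    · rw [en, ex, ey, neg_neg]
      calc N * (nGL D hD F r 1)⁻¹ * N⁻¹ * (N * xGL D hD F r (-u) * N⁻¹)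
          = N * ((nGL D hD F r 1)⁻¹ * xGL D hD F r (-u)) * N⁻¹ := by group
        _ = N * (xGL D hD F (D.neg r) (- -u) * (nGL D hD F r 1)⁻¹) * N⁻¹ := by rw [b1]
        _ = _ := by rw [neg_neg]; group
    · rw [en, ex, ey, neg_neg]
      calc N * (nGL D hD F r 1)⁻¹ * N⁻¹ * (N * xGL D hD F (D.neg r) (-u) * N⁻¹)
          = N * ((nGL D hD F r 1)⁻¹ * xGL D hD F (D.neg r) (-u)) * N⁻¹ := by group
        _ = N * (xGL D hD F r (- -u) * (nGL D hD F r 1)⁻¹) * N⁻¹ := by rw [b2]
        _ = _ := by rw [neg_neg]; group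
    · rw [en, eh s hs, eh s⁻¹ (inv_ne_zero hs)]
      calc N * (nGL D hD F r 1)⁻¹ * N⁻¹ * (N * hGL D hD F r s * N⁻¹)
          = N * ((nGL D hD F r 1)⁻¹ * hGL D hD F r s) * N⁻¹ := by group
        _ = N * (hGL D hD F r s⁻¹ * (nGL D hD F r 1)⁻¹) * N⁻¹ := by rw [b3 s hs]
        _ = _ := by group

theorem rank1Rel_all (F : Type*) [Field F] (r : ℕ) (hr : r < D.nroots) : Rank1Rel D hD F r :=
  root_induction D hD (fun r => Rank1Rel D hD F r) (fun i hi => rank1Rel_simple D hD F i hi)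
    (fun i hi r hr h => rank1Rel_reflect D hD F i r hi hr h) r hr

/-- the rank one data `(x_r, x_{-r})` -/
def rank1Data (F : Type*) [Field F] (r : ℕ) (hr : r < D.nroots) : SL2Data F (GL D.Idx F) where
  x := xGL D hD F r
  y := xGL D hD F (D.neg r)
  x_add := fun s t => Units.ext (by rw [Units.val_mul, xGL_coe, xGL_coe, xGL_coe, x_add' D hD])
  y_add := fun s t => Units.ext (by rw [Units.val_mul, xGL_coe, xGL_coe, xGL_coe, x_add' D hD])
  h_mul := by
    intro s t hs ht
    rw [← nGL_eq, ← nGL_eq, ← nGL_eq, ← nGL_eq, ← hGL_eq, ← hGL_eq, ← hGL_eq]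
    apply Units.ext
    rw [Units.val_mul, hGL_coe, hGL_coe, hGL_coe, (hMat_all D hD r hr s hs).1, (hMat_all D hD r hr t ht).1,
      (hMat_all D hD r hr (s * t) (mul_ne_zero hs ht)).1, hDiag_mul]
  h_x := by
    intro t u ht
    rw [← nGL_eq, ← nGL_eq, ← hGL_eq]
    have := hGL_conj_xGL D hD F r r hr hr t ht u
    rw [gc_self D hD r hr] at this
    have e : t ^ (2 : ℤ) = t ^ 2 := zpow_ofNat t 2
    rw [e] at this
    rw [← this]
    group
  h_y := by
    intro t u ht
    rw [← nGL_eq, ← nGL_eq, ← hGL_eq]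
    have := hGL_conj_xGL D hD F r (D.neg r) hr (wf_neg D (wf_all D hD) r hr) t ht u
    rw [gc_neg D hD r r hr, gc_self D hD r hr] at this
    have e : t ^ (-2 : ℤ) = (t ^ 2)⁻¹ := by
      rw [zpow_neg, zpow_ofNat]
    rw [e] at this
    rw [← this]
    group
  n_x := by
    intro u
    rw [← nGL_eq]
    exact (rank1Rel_all D hD F r hr).1 u
  n_y := by
    intro u
    rw [← nGL_eq]
    exact (rank1Rel_all D hD F r hr).2.1 u
  n_h := by
    intro s hs
    rw [← nGL_eq, ← nGL_eq, ← nGL_eq, ← nGL_eq, ← hGL_eq, ← hGL_eq]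
    exact (rank1Rel_all D hD F r hr).2.2 s hs

theorem rootSubgroup_eq (F : Type*) [Field F] (r : ℕ) :
    D.rootSubgroup F r = Subgroup.closure (Set.range (xGL D hD F r)) := by
  unfold ChevalleyDatum.rootSubgroup
  congr 1
  ext g
  constructor
  · rintro ⟨t, hg⟩
    exact ⟨t, (Units.ext (by rw [hg, xGL_coe])).symm⟩
  · rintro ⟨t, rfl⟩
    exact ⟨t, xGL_coe D hD F r t⟩

include hD in
/-- the homomorphism `SL₂(F) → GL` with image `⟨X_r, X_{-r}⟩` -/
theorem exists_sl2_hom (F : Type*) [Field F] (r : ℕ) (hr : r < D.nroots) :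
    ∃ φ : Matrix.SpecialLinearGroup (Fin 2) F →* GL D.Idx F,
      φ.range = D.rootSubgroup F r ⊔ D.rootSubgroup F (D.neg r) ∧
      ∀ (g : Matrix.SpecialLinearGroup (Fin 2) F) (t : F),
        ((g : Matrix (Fin 2) (Fin 2) F) = !![1, t; 0, 1] →
          ((φ g : GL D.Idx F) : Matrix D.Idx D.Idx F) = D.x F r t) ∧
        ((g : Matrix (Fin 2) (Fin 2) F) = !![1, 0; t, 1] →
          ((φ g : GL D.Idx F) : Matrix D.Idx D.Idx F) = D.x F (D.neg r) t) := by
  refine ⟨(rank1Data D hD F r hr).hom, ?_, fun g t => ⟨fun hg => ?_, fun hg => ?_⟩⟩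
  · rw [SL2Data.hom_range, Subgroup.closure_union, rootSubgroup_eq D hD, rootSubgroup_eq D hD]
    rfl
  · have : g = SL2Data.sU t := Subtype.ext hg
    rw [this, SL2Data.hom_sU]
    rfl
  · have : g = SL2Data.sV t := Subtype.ext hg
    rw [this, SL2Data.hom_sV]
    rfl

end Cfsg.Agent.Lib.Helper36
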