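import Cfsg.Agent.Lib.Helper36.ChevW0c

/-! # n₀ U n₀⁻¹ = V (helper36) -/

set_option autoImplicit false

namespace Cfsg.Agent.Lib.Helper36

open Cfsg Cfsg.Lie

variable (D : ChevalleyDatum) (hD : D ∈ [chevG2, chevB2, chevD4, chevF4, chevE6, chevE7, chevE8])

/-- the element of `N` attached to a word in the fundamental reflections -/
def nWordGL (F : Type*) [Field F] (l : List ℕ) : GL D.Idx F :=
  (l.map fun i => nGL D hD F (D.simple i) 1).prod

theorem nWordGL_mem (F : Type*) [Field F] (l : List ℕ) (hl : ∀ i ∈ l, i < D.rank) :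
    nWordGL D hD F l ∈ D.monomialSubgroup F := by
  unfold nWordGL
  apply Subgroup.list_prod_mem
  intro g hg
  obtain ⟨i, hi, rfl⟩ := List.mem_map.1 hg
  obtain ⟨hp, -⟩ := chkN2_spec D (chkN2_all D hD) i (hl i hi)
  exact nGL_mem_mono D hD F _ hp

/-- `n_w x_r(t) n_w⁻¹ = x_{w r}(ε t)` with `ε = ±1` -/
theorem nWordGL_conj (F : Type*) [Field F] (l : List ℕ) (hl : ∀ i ∈ l, i < D.rank) (r : ℕ) (hr : r < D.nroots) :
    ∃ ε : F, ε * ε = 1 ∧ ∀ t : F,
      nWordGL D hD F l * xGL D hD F r t * (nWordGL D hD F l)⁻¹ = xGL D hD F (wRoot D l r) (ε * t) := by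
  induction l with
  | nil =>
    refine ⟨1, by simp, fun t => ?_⟩
    simp [nWordGL, wRoot]
  | cons i l ih =>
    have hl' : ∀ i' ∈ l, i' < D.rank := fun i' hi' => hl i' (List.mem_cons_of_mem _ hi')
    have hi := hl i (List.mem_cons_self ..)
    obtain ⟨ε, hε, hc⟩ := ih hl'
    have hlt := wRoot_lt D hD l hl' r hr
    obtain ⟨-, -, -, -, hs'⟩ := chkN2_spec D (chkN2_all D hD) i hi
    obtain ⟨-, -, h3, -, -, -, -⟩ := hs' _ hlt
    set η : F := ((nEta D i (wRoot D l r) : ℤ) : F) with hη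
    have hηη : η * η = 1 := by
      rcases h3 with h | h <;> rw [hη, h] <;> simp
    refine ⟨η * ε, by rw [mul_mul_mul_comm, hηη, hε, one_mul], fun t => ?_⟩
    have e1 : nWordGL D hD F (i :: l) = nGL D hD F (D.simple i) 1 * nWordGL D hD F l := by
      simp [nWordGL]
    have e2 := xGL_reflect D hD F i _ hi hlt (η * ε * t)
    rw [← hη, ← mul_assoc, ← mul_assoc, hηη, one_mul] at e2
    show _ = xGL D hD F (D.reflectRoot i (wRoot D l r)) (η * ε * t)
    rw [e2, ← hc t, e1]
    group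

theorem posUnipotent_map_conj (F : Type*) [Field F] :
    (D.posUnipotent F).map (MulAut.conj (nWordGL D hD F (w0word D))).toMonoidHom = D.negUnipotent F := by
  obtain ⟨h1, -, -⟩ := chkW0_spec D hD
  have h1r : ∀ i ∈ (w0word D).reverse, i < D.rank := fun i hi => h1 i (List.mem_reverse.1 hi)
  apply le_antisymm
  · unfold ChevalleyDatum.posUnipotent
    rw [MonoidHom.map_closure, Subgroup.closure_le]
    rintro g ⟨x, ⟨r, t, hr, hx⟩, rfl⟩
    have ex : x = xGL D hD F r t := Units.ext (by rw [hx, xGL_coe])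
    obtain ⟨ε, -, hc⟩ := nWordGL_conj D hD F (w0word D) h1 r hr.1
    have : (MulAut.conj (nWordGL D hD F (w0word D))).toMonoidHom x =
        xGL D hD F (wRoot D (w0word D) r) (ε * t) := by
      rw [ex, ← hc t]
      rfl
    rw [SetLike.mem_coe, this]
    exact Subgroup.subset_closure ⟨_, _, wRoot_w0_neg D hD r hr, xGL_coe D hD F _ _⟩
  · unfold ChevalleyDatum.negUnipotent
    rw [Subgroup.closure_le]
    rintro g ⟨s, t, hs, hg⟩
    have eg : g = xGL D hD F s t := Units.ext (by rw [hg, xGL_coe])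
    have hpos := wRoot_w0_rev_pos D hD s hs
    obtain ⟨ε, hε, hc⟩ := nWordGL_conj D hD F (w0word D) h1 _ hpos.1
    rw [wRoot_reverse D hD _ h1 s hs.1] at hc
    have := hc (ε * t)
    rw [← mul_assoc, hε, one_mul] at this
    rw [SetLike.mem_coe, eg, ← this]
    refine Subgroup.mem_map.2 ⟨xGL D hD F (wRoot D (w0word D).reverse s) (ε * t), ?_, rfl⟩
    exact Subgroup.subset_closure ⟨_, _, hpos, xGL_coe D hD F _ _⟩

end Cfsg.Agent.Lib.Helper36
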