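import Cfsg.Agent.Lib.Helper36.ChevConjS
import Cfsg.Agent.Lib.Helper36.ChevNTabD4

/-! # Table facts for chevD4 (helper36): conjugation of root elements by n_p -/

set_option autoImplicit false
set_option maxRecDepth 100000

namespace Cfsg.Agent.Lib.Helper36

open Cfsg Cfsg.Lie

theorem wf2_D4 : wf2 chevD4 = true := by decide +kernel

theorem chkConjSAll_D4 : chkConjSAll chevD4 = true := by decide +kernel

theorem conjProp_D4 : ConjProp chevD4 :=
  conjProp_of_chkS _ wf_D4 wfFast_D4 wf2_D4 chkN2_D4 (fun i hi => chkConjS_of_all _ chkConjSAll_D4 i hi)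

end Cfsg.Agent.Lib.Helper36
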