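import Cfsg.Agent.Lib.Helper36.ChevConjS
import Cfsg.Prelude.Def_ChevE8

/-! # Table facts for chevE8 (helper36): conjugation of root elements by n_p, fundamental root 1 -/

set_option autoImplicit false
set_option maxRecDepth 100000

namespace Cfsg.Agent.Lib.Helper36

open Cfsg Cfsg.Lie

theorem chkConjS_E8_1 : chkConjS chevE8 1 = true := by decide +kernel

end Cfsg.Agent.Lib.Helper36
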