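import Cfsg.Agent.Lib.Helper36.ChevNTabE8
import Cfsg.Agent.Lib.Helper36.ChevConjTabE8_0
import Cfsg.Agent.Lib.Helper36.ChevConjTabE8_1
import Cfsg.Agent.Lib.Helper36.ChevConjTabE8_2
import Cfsg.Agent.Lib.Helper36.ChevConjTabE8_3
import Cfsg.Agent.Lib.Helper36.ChevConjTabE8_4
import Cfsg.Agent.Lib.Helper36.ChevConjTabE8_5
import Cfsg.Agent.Lib.Helper36.ChevConjTabE8_6
import Cfsg.Agent.Lib.Helper36.ChevConjTabE8_7

/-! # Table facts for chevE8 (helper36): conjugation of root elements by n_p -/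

set_option autoImplicit false
set_option maxRecDepth 100000

namespace Cfsg.Agent.Lib.Helper36

open Cfsg Cfsg.Lie

theorem wf2_E8 : wf2 chevE8 = true := by decide +kernel

theorem conjProp_E8 : ConjProp chevE8 :=
  conjProp_of_chkS _ wf_E8 wfFast_E8 wf2_E8 chkN2_E8 (fun i hi => by
    have hi' : i < 8 := hi
    interval_cases i
    · exact chkConjS_E8_0
    · exact chkConjS_E8_1
    · exact chkConjS_E8_2
    · exact chkConjS_E8_3
    · exact chkConjS_E8_4
    · exact chkConjS_E8_5
    · exact chkConjS_E8_6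
    · exact chkConjS_E8_7)

end Cfsg.Agent.Lib.Helper36
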