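import Cfsg.Agent.Lib.Helper36.ChevNAll
import Cfsg.Agent.Lib.Helper36.ChevConjTabG2
import Cfsg.Agent.Lib.Helper36.ChevConjTabB2
import Cfsg.Agent.Lib.Helper36.ChevConjTabD4
import Cfsg.Agent.Lib.Helper36.ChevConjTabF4
import Cfsg.Agent.Lib.Helper36.ChevConjTabE6
import Cfsg.Agent.Lib.Helper36.ChevConjTabE7
import Cfsg.Agent.Lib.Helper36.ChevConjTabE8

/-! # Conjugation of root elements by n_p for all seven Chevalley data (helper36) -/

set_option autoImplicit false

namespace Cfsg.Agent.Lib.Helper36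

open Cfsg Cfsg.Lie

theorem conjProp_all (D : ChevalleyDatum) (hD : D ∈ [chevG2, chevB2, chevD4, chevF4, chevE6, chevE7, chevE8]) :
    ConjProp D :=
  seven_cases (P := ConjProp) D hD conjProp_G2 conjProp_B2 conjProp_D4 conjProp_F4 conjProp_E6 conjProp_E7
    conjProp_E8

theorem wf2_all (D : ChevalleyDatum) (hD : D ∈ [chevG2, chevB2, chevD4, chevF4, chevE6, chevE7, chevE8]) :
    wf2 D = true :=
  seven_cases (P := fun D => wf2 D = true) D hD wf2_G2 wf2_B2 wf2_D4 wf2_F4 wf2_E6 wf2_E7 wf2_E8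

/-- `n_p x_s(t) = x_{w_p s}(η t) n_p` for a fundamental root `p` -/
theorem nMat_mul_x_all (D : ChevalleyDatum) (hD : D ∈ [chevG2, chevB2, chevD4, chevF4, chevE6, chevE7, chevE8])
    {F : Type*} [Field F] (i s : ℕ) (hi : i < D.rank) (hs : s < D.nroots) (t : F) :
    D.nMat F (D.simple i) 1 * D.x F s t =
      D.x F (D.reflectRoot i s) (((nEta D i s : ℤ) : F) * t) * D.nMat F (D.simple i) 1 :=
  nMat_mul_x D (wf_all D hD) (addProp_all D hD) (nProp_all D hD) (chkN2_all D hD) (conjProp_all D hD) F i s hi hs t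

end Cfsg.Agent.Lib.Helper36
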