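import Cfsg.Agent.Lib.Helper36.ChevPerf
import Cfsg.Agent.Lib.Helper36.ChevRank1
import Cfsg.Agent.Lib.Helper36.ChevW0d
import Cfsg.Agent.S1025

/-! # Orbit root elements of twisted groups lie in the derived group (helper36) -/

set_option autoImplicit false

namespace Cfsg.Agent.Lib.Helper36

open Cfsg Cfsg.Lie
open scoped commutatorElement

variable (D : ChevalleyDatum) (hD : D ∈ [chevG2, chevB2, chevD4, chevF4, chevE6, chevE7, chevE8])
variable (F : Type*) [Field F]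

include hD in
theorem hcomm_all : HComm D F :=
  fun r s hr hs hrs hneg t u => Cfsg.Agent.S1025.result D hD r s hr hs hrs hneg t u

include hD in
/-- root elements commute when the commutator formula has no terms -/
theorem xGL_commute_of_nil (r s : ℕ) (hr : r < D.nroots) (hs : s < D.nroots) (hrs : s ≠ r) (hneg : s ≠ D.neg r)
    (hterms : D.commTerms r s = []) (t u : F) : Commute (xGL D hD F r t) (xGL D hD F s u) := by
  have h := hcomm_all D hD F r s hr hs hrs hneg t u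
  unfold ChevalleyDatum.commWord at h
  rw [hterms] at h
  simp only [List.map_nil, ChevalleyDatum.wordMat, List.prod_nil, mul_one] at h
  show xGL D hD F r t * xGL D hD F s u = xGL D hD F s u * xGL D hD F r t
  apply Units.ext
  rw [Units.val_mul, Units.val_mul, xGL_coe, xGL_coe]
  exact h.symm

/-- table check: the roots `r`, `s` are strongly orthogonal -/
def chkSO (r s : ℕ) : Bool :=
  decide (r < D.nroots) && decide (s < D.nroots) &&
  ([r, D.neg r].all fun a => [s, D.neg s].all fun b =>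
    decide (a < D.nroots) && decide (b < D.nroots) && (b != a) && (b != D.neg a) && (D.commTerms a b == [])) &&
  (gc D r s == 0) && (gc D r (D.neg s) == 0) && (gc D s r == 0) && (gc D s (D.neg r) == 0)

/-- strongly orthogonal roots: everything commutes -/
structure SO (r s : ℕ) : Prop where
  xx : ∀ t u : F, Commute (xGL D hD F r t) (xGL D hD F s u)
  xy : ∀ t u : F, Commute (xGL D hD F r t) (xGL D hD F (D.neg s) u)
  yx : ∀ t u : F, Commute (xGL D hD F (D.neg r) t) (xGL D hD F s u)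
  yy : ∀ t u : F, Commute (xGL D hD F (D.neg r) t) (xGL D hD F (D.neg s) u)
  hx : ∀ c : F, c ≠ 0 → ∀ u : F, Commute (hGL D hD F r c) (xGL D hD F s u)
  hy : ∀ c : F, c ≠ 0 → ∀ u : F, Commute (hGL D hD F r c) (xGL D hD F (D.neg s) u)
  xh : ∀ c : F, c ≠ 0 → ∀ u : F, Commute (xGL D hD F r u) (hGL D hD F s c)
  yh : ∀ c : F, c ≠ 0 → ∀ u : F, Commute (xGL D hD F (D.neg r) u) (hGL D hD F s c)

include hD in
theorem hGL_commute_of_gc (r s : ℕ) (hr : r < D.nroots) (hs : s < D.nroots) (hg : gc D r s = 0) (c : F) (hc : c ≠ 0)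
    (u : F) : Commute (hGL D hD F r c) (xGL D hD F s u) := by
  have h := hGL_conj_xGL D hD F r s hr hs c hc u
  rw [hg, zpow_zero, one_mul] at h
  show hGL D hD F r c * xGL D hD F s u = xGL D hD F s u * hGL D hD F r c
  exact mul_inv_eq_iff_eq_mul.1 h

include hD in
theorem so_of_chk (r s : ℕ) (h : chkSO D r s = true) : SO D hD F r s := by
  unfold chkSO at h
  simp only [Bool.and_eq_true, decide_eq_true_eq, List.all_cons, List.all_nil, Bool.and_true, bne_iff_ne, ne_eq,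
    beq_iff_eq] at h
  obtain ⟨⟨⟨⟨⟨⟨hr, hs⟩, ⟨⟨⟨⟨⟨-, -⟩, a1⟩, a2⟩, a3⟩, ⟨⟨⟨⟨-, hns⟩, b1⟩, b2⟩, b3⟩⟩,
    ⟨⟨⟨⟨hnr, -⟩, c1⟩, c2⟩, c3⟩, ⟨⟨⟨⟨-, -⟩, d1⟩, d2⟩, d3⟩⟩, g1⟩, g2⟩, g3⟩, g4⟩ := h
  exact
    { xx := xGL_commute_of_nil D hD F r s hr hs a1 a2 a3
      xy := xGL_commute_of_nil D hD F r (D.neg s) hr hns b1 b2 b3
      yx := xGL_commute_of_nil D hD F (D.neg r) s hnr hs c1 c2 c3
      yy := xGL_commute_of_nil D hD F (D.neg r) (D.neg s) hnr hns d1 d2 d3
      hx := hGL_commute_of_gc D hD F r s hr hs g1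
      hy := hGL_commute_of_gc D hD F r (D.neg s) hr hns g2
      xh := fun c hc u => (hGL_commute_of_gc D hD F s r hs hr g3 c hc u).symm
      yh := fun c hc u => (hGL_commute_of_gc D hD F s (D.neg r) hs hnr g4 c hc u).symm }

theorem mul3_comm {G : Type*} [Group G] (x₁ x₂ x₃ y₁ y₂ y₃ : G)
    (h12 : Commute y₁ x₂) (h13 : Commute y₁ x₃) (h23 : Commute y₂ x₃) :
    (x₁ * y₁) * (x₂ * y₂) * (x₃ * y₃) = (x₁ * x₂ * x₃) * (y₁ * y₂ * y₃) := by
  have e1 : y₁ * x₂ = x₂ * y₁ := h12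
  have e2 : y₁ * x₃ = x₃ * y₁ := h13
  have e3 : y₂ * x₃ = x₃ * y₂ := h23
  calc (x₁ * y₁) * (x₂ * y₂) * (x₃ * y₃) = x₁ * (y₁ * x₂) * y₂ * x₃ * y₃ := by group
    _ = x₁ * x₂ * y₁ * (y₂ * x₃) * y₃ := by rw [e1]; group
    _ = x₁ * x₂ * (y₁ * x₃) * y₂ * y₃ := by rw [e3]; group
    _ = (x₁ * x₂ * x₃) * (y₁ * y₂ * y₃) := by rw [e2]; group

section lists
variable (L : List (ℕ × (F →+* F)))

/-- the orbit element `∏ x_{r_j}(ψ_j t)` -/
def bw (t : F) : GL D.Idx F := (L.map fun p => xGL D hD F p.1 (p.2 t)).prod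
/-- the orbit element `∏ x_{-r_j}(ψ_j t)` -/
def bwN (t : F) : GL D.Idx F := (L.map fun p => xGL D hD F (D.neg p.1) (p.2 t)).prod
/-- `∏ n_{r_j}(ψ_j s)` -/
def nw (s : F) : GL D.Idx F := (L.map fun p => nGL D hD F p.1 (p.2 s)).prod
/-- `∏ h_{r_j}(ψ_j s)` -/
def hw (s : F) : GL D.Idx F := (L.map fun p => hGL D hD F p.1 (p.2 s)).prod

variable {D hD F L}

theorem commute_bw {g : GL D.Idx F} (h : ∀ p ∈ L, ∀ u, Commute g (xGL D hD F p.1 u)) (t : F) :
    Commute g (bw D hD F L t) := by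
  unfold bw
  apply Commute.list_prod_right
  intro x hx
  obtain ⟨p, hp, rfl⟩ := List.mem_map.1 hx
  exact h p hp _

theorem commute_bwN {g : GL D.Idx F} (h : ∀ p ∈ L, ∀ u, Commute g (xGL D hD F (D.neg p.1) u)) (t : F) :
    Commute g (bwN D hD F L t) := by
  unfold bwN
  apply Commute.list_prod_right
  intro x hx
  obtain ⟨p, hp, rfl⟩ := List.mem_map.1 hx
  exact h p hp _

theorem commute_nw {g : GL D.Idx F} (h1 : ∀ p ∈ L, ∀ u, Commute g (xGL D hD F p.1 u))
    (h2 : ∀ p ∈ L, ∀ u, Commute g (xGL D hD F (D.neg p.1) u)) (s : F) :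
    Commute g (nw D hD F L s) := by
  unfold nw
  apply Commute.list_prod_right
  intro x hx
  obtain ⟨p, hp, rfl⟩ := List.mem_map.1 hx
  rw [nGL_eq]
  exact ((h1 p hp _).mul_right (h2 p hp _)).mul_right (h1 p hp _)

theorem commute_hw {g : GL D.Idx F} (s : F) (hs : s ≠ 0) (h : ∀ p ∈ L, ∀ c : F, c ≠ 0 → Commute g (hGL D hD F p.1 c)) :
    Commute g (hw D hD F L s) := by
  unfold hw
  apply Commute.list_prod_right
  intro x hx
  obtain ⟨p, hp, rfl⟩ := List.mem_map.1 hx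
  exact h p hp _ ((map_ne_zero p.2).2 hs)

variable (D hD F L)

include hD in
theorem bw_triple (hL : L.Pairwise fun p p' => SO D hD F p.1 p'.1) (s : F) :
    bw D hD F L s * bwN D hD F L (-s⁻¹) * bw D hD F L s = nw D hD F L s := by
  induction L with
  | nil => simp [bw, bwN, nw]
  | cons p L ih =>
    rw [List.pairwise_cons] at hL
    obtain ⟨hp, hL'⟩ := hL
    have e1 : bw D hD F (p :: L) s = xGL D hD F p.1 (p.2 s) * bw D hD F L s := by simp [bw]
    have e2 : bwN D hD F (p :: L) (-s⁻¹) = xGL D hD F (D.neg p.1) (p.2 (-s⁻¹)) * bwN D hD F L (-s⁻¹) := by simp [bwN]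
    have e3 : nw D hD F (p :: L) s = nGL D hD F p.1 (p.2 s) * nw D hD F L s := by simp [nw]
    rw [e1, e2, e3, ← ih hL', nGL_eq, map_neg, map_inv₀]
    apply mul3_comm
    · exact (commute_bw (fun p' hp' u => (hp p' hp').yx _ u) s).symm
    · exact (commute_bw (fun p' hp' u => (hp p' hp').xx _ u) s).symm
    · exact (commute_bwN (fun p' hp' u => (hp p' hp').xy _ u) _).symm

include hD in
theorem nw_mul_nw (hL : L.Pairwise fun p p' => SO D hD F p.1 p'.1) (s : F) :
    nw D hD F L s * nw D hD F L (-1) = hw D hD F L s := by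
  induction L with
  | nil => simp [nw, hw]
  | cons p L ih =>
    rw [List.pairwise_cons] at hL
    obtain ⟨hp, hL'⟩ := hL
    have e1 : ∀ a, nw D hD F (p :: L) a = nGL D hD F p.1 (p.2 a) * nw D hD F L a := by intro a; simp [nw]
    have e3 : hw D hD F (p :: L) s = hGL D hD F p.1 (p.2 s) * hw D hD F L s := by simp [hw]
    rw [e1, e1, e3, ← ih hL', hGL_eq, map_neg, map_one]
    have hc : Commute (nw D hD F L s) (nGL D hD F p.1 (-1)) := by
      apply Commute.symm
      rw [nGL_eq]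
      have a1 : ∀ t, Commute (xGL D hD F p.1 t) (nw D hD F L s) := fun t =>
        commute_nw (fun p' hp' u => (hp p' hp').xx _ u) (fun p' hp' u => (hp p' hp').xy _ u) s
      have a2 : ∀ t, Commute (xGL D hD F (D.neg p.1) t) (nw D hD F L s) := fun t =>
        commute_nw (fun p' hp' u => (hp p' hp').yx _ u) (fun p' hp' u => (hp p' hp').yy _ u) s
      exact ((a1 _).mul_left (a2 _)).mul_left (a1 _)
    exact hc.mul_mul_mul_comm _ _

include hD in
theorem bw_add (hL : L.Pairwise fun p p' => SO D hD F p.1 p'.1) (t u : F) :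
    bw D hD F L (t + u) = bw D hD F L t * bw D hD F L u := by
  induction L with
  | nil => simp [bw]
  | cons p L ih =>
    rw [List.pairwise_cons] at hL
    obtain ⟨hp, hL'⟩ := hL
    have e1 : ∀ a, bw D hD F (p :: L) a = xGL D hD F p.1 (p.2 a) * bw D hD F L a := by intro a; simp [bw]
    rw [e1, e1, e1, ih hL', map_add, xGL_add]
    have hc : Commute (bw D hD F L t) (xGL D hD F p.1 (p.2 u)) :=
      (commute_bw (fun p' hp' u => (hp p' hp').xx _ u) t).symm
    exact (hc.mul_mul_mul_comm _ _).symm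

include hD in
theorem bwN_add (hL : L.Pairwise fun p p' => SO D hD F p.1 p'.1) (t u : F) :
    bwN D hD F L (t + u) = bwN D hD F L t * bwN D hD F L u := by
  induction L with
  | nil => simp [bwN]
  | cons p L ih =>
    rw [List.pairwise_cons] at hL
    obtain ⟨hp, hL'⟩ := hL
    have e1 : ∀ a, bwN D hD F (p :: L) a = xGL D hD F (D.neg p.1) (p.2 a) * bwN D hD F L a := by intro a; simp [bwN]
    rw [e1, e1, e1, ih hL', map_add, xGL_add]
    have hc : Commute (bwN D hD F L t) (xGL D hD F (D.neg p.1) (p.2 u)) :=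
      (commute_bwN (fun p' hp' u => (hp p' hp').yy _ u) t).symm
    exact (hc.mul_mul_mul_comm _ _).symm

include hD in
theorem hw_conj_bw (hL : L.Pairwise fun p p' => SO D hD F p.1 p'.1) (hr : ∀ p ∈ L, p.1 < D.nroots)
    (s : F) (hs : s ≠ 0) (u : F) :
    hw D hD F L s * bw D hD F L u * (hw D hD F L s)⁻¹ = bw D hD F L (s ^ 2 * u) := by
  induction L with
  | nil => simp [bw, hw]
  | cons p L ih =>
    rw [List.pairwise_cons] at hL
    obtain ⟨hp, hL'⟩ := hL
    have hr' : ∀ p' ∈ L, p'.1 < D.nroots := fun p' hp' => hr p' (List.mem_cons_of_mem _ hp')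
    have hpr := hr p (List.mem_cons_self ..)
    have e1 : ∀ a, bw D hD F (p :: L) a = xGL D hD F p.1 (p.2 a) * bw D hD F L a := by intro a; simp [bw]
    have e3 : hw D hD F (p :: L) s = hGL D hD F p.1 (p.2 s) * hw D hD F L s := by simp [hw]
    have hps : p.2 s ≠ 0 := (map_ne_zero p.2).2 hs
    have c1 : Commute (hw D hD F L s) (xGL D hD F p.1 (p.2 u)) :=
      (commute_hw s hs (fun p' hp' c hc => (hp p' hp').xh c hc _)).symm
    have c2 : Commute (hGL D hD F p.1 (p.2 s)) (bw D hD F L (s ^ 2 * u)) :=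
      commute_bw (fun p' hp' u => (hp p' hp').hx _ hps u) _
    have h1 := hGL_conj_xGL D hD F p.1 p.1 hpr hpr (p.2 s) hps (p.2 u)
    rw [gc_self D hD p.1 hpr] at h1
    have h1' : (p.2 s) ^ (2 : ℤ) = (p.2 s) ^ (2 : ℕ) := zpow_ofNat _ 2
    rw [h1'] at h1
    have h2 := ih hL' hr'
    rw [e1, e1, e3]
    calc hGL D hD F p.1 (p.2 s) * hw D hD F L s * (xGL D hD F p.1 (p.2 u) * bw D hD F L u) *
          (hGL D hD F p.1 (p.2 s) * hw D hD F L s)⁻¹
        = hGL D hD F p.1 (p.2 s) * (hw D hD F L s * xGL D hD F p.1 (p.2 u)) * bw D hD F L u * (hw D hD F L s)⁻¹ *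
            (hGL D hD F p.1 (p.2 s))⁻¹ := by group
      _ = (hGL D hD F p.1 (p.2 s) * xGL D hD F p.1 (p.2 u) * (hGL D hD F p.1 (p.2 s))⁻¹) *
            (hGL D hD F p.1 (p.2 s) * (hw D hD F L s * bw D hD F L u * (hw D hD F L s)⁻¹) *
              (hGL D hD F p.1 (p.2 s))⁻¹) := by rw [c1.eq]; group
      _ = xGL D hD F p.1 (p.2 (s ^ 2 * u)) * bw D hD F L (s ^ 2 * u) := by
        rw [h1, h2, c2.eq, mul_inv_cancel_right, map_mul, map_pow]

include hD in
theorem hw_conj_bwN (hL : L.Pairwise fun p p' => SO D hD F p.1 p'.1) (hr : ∀ p ∈ L, p.1 < D.nroots)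
    (s : F) (hs : s ≠ 0) (u : F) :
    hw D hD F L s * bwN D hD F L u * (hw D hD F L s)⁻¹ = bwN D hD F L ((s ^ 2)⁻¹ * u) := by
  induction L with
  | nil => simp [bwN, hw]
  | cons p L ih =>
    rw [List.pairwise_cons] at hL
    obtain ⟨hp, hL'⟩ := hL
    have hr' : ∀ p' ∈ L, p'.1 < D.nroots := fun p' hp' => hr p' (List.mem_cons_of_mem _ hp')
    have hpr := hr p (List.mem_cons_self ..)
    have hnpr : D.neg p.1 < D.nroots := wf_neg D (wf_all D hD) p.1 hpr
    have e1 : ∀ a, bwN D hD F (p :: L) a = xGL D hD F (D.neg p.1) (p.2 a) * bwN D hD F L a := by intro a; simp [bwN]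
    have e3 : hw D hD F (p :: L) s = hGL D hD F p.1 (p.2 s) * hw D hD F L s := by simp [hw]
    have hps : p.2 s ≠ 0 := (map_ne_zero p.2).2 hs
    have c1 : Commute (hw D hD F L s) (xGL D hD F (D.neg p.1) (p.2 u)) :=
      (commute_hw s hs (fun p' hp' c hc => (hp p' hp').yh c hc _)).symm
    have c2 : Commute (hGL D hD F p.1 (p.2 s)) (bwN D hD F L ((s ^ 2)⁻¹ * u)) :=
      commute_bwN (fun p' hp' u => (hp p' hp').hy _ hps u) _
    have h1 := hGL_conj_xGL D hD F p.1 (D.neg p.1) hpr hnpr (p.2 s) hps (p.2 u)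
    rw [gc_neg D hD p.1 p.1 hpr, gc_self D hD p.1 hpr] at h1
    have h1' : (p.2 s) ^ (-2 : ℤ) = ((p.2 s) ^ (2 : ℕ))⁻¹ := by
      rw [zpow_neg]; congr 1; exact zpow_ofNat _ 2
    rw [h1'] at h1
    have h2 := ih hL' hr'
    rw [e1, e1, e3]
    calc hGL D hD F p.1 (p.2 s) * hw D hD F L s * (xGL D hD F (D.neg p.1) (p.2 u) * bwN D hD F L u) *
          (hGL D hD F p.1 (p.2 s) * hw D hD F L s)⁻¹
        = hGL D hD F p.1 (p.2 s) * (hw D hD F L s * xGL D hD F (D.neg p.1) (p.2 u)) * bwN D hD F L u *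
            (hw D hD F L s)⁻¹ * (hGL D hD F p.1 (p.2 s))⁻¹ := by group
      _ = (hGL D hD F p.1 (p.2 s) * xGL D hD F (D.neg p.1) (p.2 u) * (hGL D hD F p.1 (p.2 s))⁻¹) *
            (hGL D hD F p.1 (p.2 s) * (hw D hD F L s * bwN D hD F L u * (hw D hD F L s)⁻¹) *
              (hGL D hD F p.1 (p.2 s))⁻¹) := by rw [c1.eq]; group
      _ = xGL D hD F (D.neg p.1) (p.2 ((s ^ 2)⁻¹ * u)) * bwN D hD F L ((s ^ 2)⁻¹ * u) := by
        rw [h1, h2, c2.eq, mul_inv_cancel_right, map_mul, map_inv₀, map_pow]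

include hD in
/-- the orbit elements lie in the derived group of any subgroup containing them, if the field has an element
`s ≠ 0` with `s² ≠ 1` -/
theorem orbit_mem_commutator (hL : L.Pairwise fun p p' => SO D hD F p.1 p'.1) (hr : ∀ p ∈ L, p.1 < D.nroots)
    (T : Subgroup (GL D.Idx F)) (hT1 : ∀ t, bw D hD F L t ∈ T) (hT2 : ∀ t, bwN D hD F L t ∈ T)
    (s : F) (hs : s ≠ 0) (hs2 : s ^ 2 ≠ 1) (t : F) :
    bw D hD F L t ∈ ⁅T, T⁆ ∧ bwN D hD F L t ∈ ⁅T, T⁆ := by
  have hη : hw D hD F L s ∈ T := by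
    rw [← nw_mul_nw D hD F L hL, ← bw_triple D hD F L hL, ← bw_triple D hD F L hL]
    exact mul_mem (mul_mem (mul_mem (hT1 _) (hT2 _)) (hT1 _)) (mul_mem (mul_mem (hT1 _) (hT2 _)) (hT1 _))
  have hne : s ^ 2 - 1 ≠ 0 := sub_ne_zero.2 hs2
  have hs2' : s ^ 2 ≠ 0 := pow_ne_zero 2 hs
  have hne' : (s ^ 2)⁻¹ - 1 ≠ 0 := by
    rw [sub_ne_zero]
    intro e
    exact hs2 (inv_eq_one.1 e)
  constructor
  · have hmem : ⁅hw D hD F L s, bw D hD F L (t / (s ^ 2 - 1))⁆ ∈ ⁅T, T⁆ :=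
      Subgroup.commutator_mem_commutator hη (hT1 _)
    rw [commutatorElement_def, hw_conj_bw D hD F L hL hr s hs] at hmem
    have e0 : bw D hD F L (t / (s ^ 2 - 1)) * bw D hD F L (-(t / (s ^ 2 - 1))) = 1 := by
      rw [← bw_add D hD F L hL, add_neg_cancel]
      have := bw_add D hD F L hL 0 0
      rw [add_zero] at this
      exact (mul_eq_left.1 this.symm)
    rw [inv_eq_of_mul_eq_one_right e0, ← bw_add D hD F L hL] at hmem
    have e : s ^ 2 * (t / (s ^ 2 - 1)) + -(t / (s ^ 2 - 1)) = t := by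
      field_simp
      ring
    rwa [e] at hmem
  · have hmem : ⁅hw D hD F L s, bwN D hD F L (t / ((s ^ 2)⁻¹ - 1))⁆ ∈ ⁅T, T⁆ :=
      Subgroup.commutator_mem_commutator hη (hT2 _)
    rw [commutatorElement_def, hw_conj_bwN D hD F L hL hr s hs] at hmem
    have e0 : bwN D hD F L (t / ((s ^ 2)⁻¹ - 1)) * bwN D hD F L (-(t / ((s ^ 2)⁻¹ - 1))) = 1 := by
      rw [← bwN_add D hD F L hL, add_neg_cancel]
      have := bwN_add D hD F L hL 0 0
      rw [add_zero] at this
      exact (mul_eq_left.1 this.symm)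
    rw [inv_eq_of_mul_eq_one_right e0, ← bwN_add D hD F L hL] at hmem
    have e : (s ^ 2)⁻¹ * (t / ((s ^ 2)⁻¹ - 1)) + -(t / ((s ^ 2)⁻¹ - 1)) = t := by
      field_simp
      ring
    rwa [e] at hmem

end lists

section gen
variable (T : Subgroup (GL D.Idx F))

theorem comm_le_self : ⁅T, T⁆ ≤ T := by
  rw [Subgroup.commutator_le]
  intro g₁ h₁ g₂ h₂
  exact mul_mem (mul_mem (mul_mem h₁ h₂) (inv_mem h₁)) (inv_mem h₂)

theorem conj_mem_comm (g c : GL D.Idx F) (hg : g ∈ T) (hc : c ∈ ⁅T, T⁆) : g * c * g⁻¹ ∈ ⁅T, T⁆ := by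
  have h1 : ⁅g, c⁆ ∈ ⁅T, T⁆ := Subgroup.commutator_mem_commutator hg (comm_le_self D F T hc)
  have e : g * c * g⁻¹ = ⁅g, c⁆ * c := by
    rw [commutatorElement_def]; group
  rw [e]
  exact mul_mem h1 hc

include hD in
/-- a commutator with a single term -/
theorem comm_single_mem (r s γ : ℕ) (c : ℤ) (hr : r < D.nroots) (hs : s < D.nroots) (hrs : s ≠ r)
    (hneg : s ≠ D.neg r) (hterms : D.commTerms r s = [(γ, c, 1, 1)]) (t u : F)
    (hrT : xGL D hD F r t ∈ T) (hsT : xGL D hD F s u ∈ T) :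
    xGL D hD F γ ((c : F) * (-t) * u) ∈ ⁅T, T⁆ := by
  have h := hcomm_all D hD F r s hr hs hrs hneg t u
  have e : xGL D hD F s u * xGL D hD F r t =
      xGL D hD F r t * xGL D hD F s u * wordGL D hD F (D.commWord F r s t u) := by
    apply Units.ext
    rw [Units.val_mul, Units.val_mul, Units.val_mul, xGL_coe, xGL_coe, wordGL_coe]
    exact h
  have e2 : wordGL D hD F (D.commWord F r s t u) = ⁅(xGL D hD F s u)⁻¹, (xGL D hD F r t)⁻¹⁆ := by
    rw [commutatorElement_def, inv_inv, inv_inv]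
    have : wordGL D hD F (D.commWord F r s t u) =
        (xGL D hD F r t * xGL D hD F s u)⁻¹ * (xGL D hD F s u * xGL D hD F r t) := by
      rw [e]; group
    rw [this]; group
  have h3 : wordGL D hD F (D.commWord F r s t u) ∈ ⁅T, T⁆ := by
    rw [e2]
    exact Subgroup.commutator_mem_commutator (inv_mem hsT) (inv_mem hrT)
  unfold ChevalleyDatum.commWord at h3
  rw [hterms] at h3
  simpa only [List.map_cons, List.map_nil, wordGL, List.prod_cons, List.prod_nil, mul_one, pow_one] using h3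

/-- a subgroup generated by elements of its own derived group is perfect -/
theorem perfect_of_gens (S : Set (GL D.Idx F)) (hT : T = Subgroup.closure S) (hS : ∀ g ∈ S, g ∈ ⁅T, T⁆) :
    commutator ↥T = ⊤ := by
  have hle : T ≤ ⁅T, T⁆ := by
    conv_lhs => rw [hT]
    rw [Subgroup.closure_le]
    exact hS
  have heq : ⁅T, T⁆ = T := le_antisymm (comm_le_self D F T) hle
  apply Subgroup.map_injective T.subtype_injective
  rw [commutator_def, Subgroup.map_commutator, ← MonoidHom.range_eq_map, Subgroup.range_subtype]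
  exact heq

include hD in
/-- transport of fixed-field root subgroups along a Weyl word lying in `T` -/
theorem conj_word_mem (M : Subgroup (GL D.Idx F)) (hM : ∀ g ∈ T, ∀ c ∈ M, g * c * g⁻¹ ∈ M)
    (φ : F →+* F) (l : List ℕ) (hl : ∀ i ∈ l, i < D.rank) (hn : nWordGL D hD F l ∈ T) (r : ℕ) (hr : r < D.nroots)
    (h : ∀ t, φ t = t → xGL D hD F r t ∈ M) (t : F) (ht : φ t = t) : xGL D hD F (wRoot D l r) t ∈ M := by
  obtain ⟨ε, hε, hconj⟩ := nWordGL_conj D hD F l hl r hr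
  have hφε : φ ε = ε := by
    have : (ε - 1) * (ε + 1) = 0 := by ring_nf; rw [← pow_two] at *; linear_combination hε
    rcases mul_eq_zero.1 this with h | h
    · rw [sub_eq_zero.1 h, map_one]
    · rw [eq_neg_of_add_eq_zero_left h, map_neg, map_one]
  have h1 := hconj (ε * t)
  rw [← mul_assoc, hε, one_mul] at h1
  rw [← h1]
  exact hM _ hn _ (h _ (by rw [map_mul, hφε, ht]))

end gen

end Cfsg.Agent.Lib.Helper36
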