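import Cfsg.Agent.S1067
import Cfsg.Agent.S1088

/-! # `³D₄(q)`, `q` even: every involution is conjugate into `U¹ = U ∩ ³D₄(q)` (helper36; for helper12's D3 hive, S2183) -/

set_option autoImplicit false

namespace Cfsg.Agent.Lib.Helper36

open Cfsg Cfsg.Lie

/-- a subgroup of prime power order `p ^ k` in a group of order `p ^ k * m`, `p ∤ m`, contains a conjugate of every
`p`-element -/
theorem twd4syl_conj_of_card {G : Type*} [Group G] [Finite G] (p : ℕ) [Fact p.Prime] (H : Subgroup G) (k m : ℕ)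
    (hH : Nat.card H = p ^ k) (hG : Nat.card G = p ^ k * m) (hm : ¬ p ∣ m) (g : G) (j : ℕ)
    (hg : orderOf g = p ^ j) : ∃ x : G, x * g * x⁻¹ ∈ H := by
  classical
  have hp := (Fact.out : p.Prime)
  have hm0 : m ≠ 0 := by
    intro h
    rw [h, mul_zero] at hG
    exact Nat.card_pos.ne' hG
  have hfac : (Nat.card G).factorization p = k := by
    rw [hG, Nat.factorization_mul (pow_ne_zero _ hp.ne_zero) hm0, Nat.factorization_pow]
    simp only [Finsupp.coe_add, Finsupp.coe_smul, Pi.add_apply, Pi.smul_apply, smul_eq_mul]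
    rw [hp.factorization_self, Nat.factorization_eq_zero_of_not_dvd hm]
    simp
  let P : Sylow p G := Sylow.ofCard H (by rw [hH, hfac])
  have hpg : IsPGroup p (Subgroup.zpowers g) := by
    apply IsPGroup.of_card (n := j)
    rw [Nat.card_zpowers, hg]
  obtain ⟨Q, hQ⟩ := hpg.exists_le_sylow
  obtain ⟨x, hx⟩ := MulAction.exists_smul_eq G Q P
  refine ⟨x, ?_⟩
  have hmem : x * g * x⁻¹ ∈ (P : Subgroup G) := by
    rw [← hx, Sylow.coe_subgroup_smul, Subgroup.mem_pointwise_smul_iff_inv_smul_mem]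
    apply hQ
    have : (MulAut.conj x)⁻¹ • (x * g * x⁻¹) = g := by
      rw [MulAut.smul_def, ← map_inv, MulAut.conj_apply]
      group
    rw [this]
    exact Subgroup.mem_zpowers g
  exact hmem

/-- `q` is a power of two when the field with `q ^ 3` elements has characteristic two -/
theorem twd4syl_q_pow {K : Type*} [Field K] [Fintype K] [CharP K 2] (q : ℕ) (hK : Fintype.card K = q ^ 3) :
    ∃ e : ℕ, 0 < e ∧ q = 2 ^ e := by
  obtain ⟨n, hn⟩ := FiniteField.card K 2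
  obtain ⟨hprime, hcard⟩ := hn
  rw [hK] at hcard
  have hq2 : q ∣ 2 ^ ((n : ℕ) ) := by
    rw [← hcard]
    exact dvd_pow_self q (by norm_num)
  obtain ⟨e, he, rfl⟩ := (Nat.dvd_prime_pow Nat.prime_two).1 hq2
  refine ⟨e, ?_, rfl⟩
  rcases Nat.eq_zero_or_pos e with h0 | h0
  · exfalso
    rw [h0, pow_zero, one_pow] at hcard
    have : 2 ≤ 2 ^ (n : ℕ) := by
      calc 2 = 2 ^ 1 := by norm_num
        _ ≤ 2 ^ (n : ℕ) := Nat.pow_le_pow_right (by norm_num) n.pos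
    omega
  · exact h0

/-- every element of order two of `³D₄(q)`, `q` even, is conjugate into `U ∩ ³D₄(q)` -/
theorem twd4_syl_conj {K : Type*} [Field K] [Fintype K] [CharP K 2] (q : ℕ) (hK : Fintype.card K = q ^ 3)
    (g : GL chevD4.Idx K) (hg : g ∈ twistedD4 K q) (ho : orderOf g = 2) :
    ∃ h ∈ twistedD4 K q, h * g * h⁻¹ ∈ chevD4.posUnipotent K ⊓ twistedD4 K q := by
  have : Fact (Nat.Prime 2) := ⟨Nat.prime_two⟩
  obtain ⟨e, he, rfl⟩ := twd4syl_q_pow q hK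
  have hq : IsPrimePow (2 ^ e) := Nat.prime_two.isPrimePow.pow he.ne'
  have hG := Cfsg.Agent.S1067.result hq hK
  have hU := Cfsg.Agent.S1088.result hq hK
  set T := twistedD4 K (2 ^ e) with hT
  set H : Subgroup ↥T := (chevD4.posUnipotent K ⊓ T).subgroupOf T with hHdef
  have hHcard : Nat.card H = 2 ^ (e * 12) := by
    rw [hHdef, Nat.card_congr (Subgroup.subgroupOfEquivOfLe (inf_le_right : chevD4.posUnipotent K ⊓ T ≤ T)).toEquiv,
      hU, ← pow_mul]
  have hGcard : Nat.card ↥T = 2 ^ (e * 12) * (((2 ^ e) ^ 2 - 1) * ((2 ^ e) ^ 6 - 1) * ((2 ^ e) ^ 8 + (2 ^ e) ^ 4 + 1)) := by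
    rw [hG, ← pow_mul]
    ring
  have hodd : ¬ 2 ∣ (((2 ^ e) ^ 2 - 1) * ((2 ^ e) ^ 6 - 1) * ((2 ^ e) ^ 8 + (2 ^ e) ^ 4 + 1)) := by
    have h2e : 2 ∣ 2 ^ e := dvd_pow_self 2 he.ne'
    have hpos : 1 ≤ 2 ^ e := Nat.one_le_two_pow
    have ha : ¬ 2 ∣ (2 ^ e) ^ 2 - 1 := by
      have h1 : 2 ∣ (2 ^ e) ^ 2 := dvd_pow h2e (by norm_num)
      have h2 : 1 ≤ (2 ^ e) ^ 2 := Nat.one_le_pow _ _ (by omega)
      omega
    have hb : ¬ 2 ∣ (2 ^ e) ^ 6 - 1 := by
      have h1 : 2 ∣ (2 ^ e) ^ 6 := dvd_pow h2e (by norm_num)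
      have h2 : 1 ≤ (2 ^ e) ^ 6 := Nat.one_le_pow _ _ (by omega)
      omega
    have hc : ¬ 2 ∣ (2 ^ e) ^ 8 + (2 ^ e) ^ 4 + 1 := by
      have h1 : 2 ∣ (2 ^ e) ^ 8 := dvd_pow h2e (by norm_num)
      have h2 : 2 ∣ (2 ^ e) ^ 4 := dvd_pow h2e (by norm_num)
      omega
    intro h
    rcases (Nat.Prime.dvd_mul Nat.prime_two).1 h with h | h
    · rcases (Nat.Prime.dvd_mul Nat.prime_two).1 h with h | h
      · exact ha h
      · exact hb h
    · exact hc h
  set g' : ↥T := ⟨g, hg⟩ with hg'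
  have ho' : orderOf g' = 2 ^ 1 := by
    rw [pow_one, ← ho, ← Subgroup.orderOf_coe g']
  obtain ⟨x, hx⟩ := twd4syl_conj_of_card 2 H (e * 12) _ hHcard hGcard hodd g' 1 ho'
  rw [hHdef, Subgroup.mem_subgroupOf] at hx
  refine ⟨(x : GL chevD4.Idx K), x.2, ?_⟩
  simpa using hx

end Cfsg.Agent.Lib.Helper36
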