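import Cfsg.Agent.Lib.Helper36.ChevHGen

/-! # Root elements in the general linear group; B, N and the Chevalley group (helper36) -/

set_option autoImplicit false

namespace Cfsg.Agent.Lib.Helper36

open Cfsg Cfsg.Lie

variable (D : ChevalleyDatum) (hD : D ∈ [chevG2, chevB2, chevD4, chevF4, chevE6, chevE7, chevE8])


theorem coroot_row_size (hf : wfFast D = true) (r : ℕ) (hr : r < D.nroots) :
    (D.coroot.getD r #[]).size = D.rank := by
  unfold wfFast at hf
  simp only [Bool.and_eq_true, List.all_eq_true, decide_eq_true_eq] at hf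
  obtain ⟨⟨⟨-, h1⟩, h2⟩, -⟩ := hf
  have hr' : r < D.coroot.size := by omega
  have hrow : D.coroot.getD r #[] ∈ D.coroot.toList := by
    simp [Array.getD, hr']
  exact (h2 _ hrow).1

theorem mem_coroot_row (hf : wfFast D = true) (r : ℕ) (hr : r < D.nroots) (c : ℤ) :
    c ∈ (D.coroot.getD r #[]).toList ↔ ∃ j < D.rank, c = cor D r j := by
  have hsz := coroot_row_size D hf r hr
  unfold cor
  set row := D.coroot.getD r #[] with hrow
  constructor
  · intro hc
    obtain ⟨j, hj, rfl⟩ := List.getElem_of_mem hc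
    simp only [Array.length_toList] at hj
    refine ⟨j, by omega, ?_⟩
    simp [Array.getD, hj]
  · rintro ⟨j, hj, rfl⟩
    have hj' : j < row.size := by omega
    simp [Array.getD, hj']

theorem isPosRoot_iff (hf : wfFast D = true) (r : ℕ) (hr : r < D.nroots) :
    D.IsPosRoot r ↔ ∀ j < D.rank, 0 ≤ cor D r j := by
  unfold ChevalleyDatum.IsPosRoot
  constructor
  · rintro ⟨-, h⟩ j hj
    exact h _ ((mem_coroot_row D hf r hr _).2 ⟨j, hj, rfl⟩)
  · intro h
    refine ⟨hr, fun c hc => ?_⟩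
    obtain ⟨j, hj, rfl⟩ := (mem_coroot_row D hf r hr c).1 hc
    exact h j hj

theorem isNegRoot_iff (hf : wfFast D = true) (r : ℕ) (hr : r < D.nroots) :
    D.IsNegRoot r ↔ ∀ j < D.rank, cor D r j ≤ 0 := by
  unfold ChevalleyDatum.IsNegRoot
  constructor
  · rintro ⟨-, h⟩ j hj
    exact h _ ((mem_coroot_row D hf r hr _).2 ⟨j, hj, rfl⟩)
  · intro h
    refine ⟨hr, fun c hc => ?_⟩
    obtain ⟨j, hj, rfl⟩ := (mem_coroot_row D hf r hr c).1 hc
    exact h j hj

include hD in
theorem isPosRoot_simple (i : ℕ) (hi : i < D.rank) : D.IsPosRoot (D.simple i) := by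
  obtain ⟨hp, -⟩ := chkN2_spec D (chkN2_all D hD) i hi
  rw [isPosRoot_iff D (wfFast_all D hD) _ hp]
  intro j hj
  rw [cor_simple D hD i j hi hj]
  split_ifs <;> simp


include hD in
theorem x_zero {F : Type*} [Field F] (r : ℕ) : D.x F r 0 = 1 := by
  by_cases hr : r < D.nroots
  · rw [x_eq_sum D (wf_all D hD) F r hr]
    simp only [Finset.sum_range_succ, Finset.sum_range_zero, zero_add, pow_zero, one_smul, pow_one, zero_smul,
      ne_eq, OfNat.ofNat_ne_zero, not_false_eq_true, zero_pow, add_zero]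
    rw [EF_eq_mapMatrix, toMat_E_zero]
    simp
  · unfold ChevalleyDatum.x
    rw [dif_neg hr]

include hD in
theorem x_add' {F : Type*} [Field F] (r : ℕ) (t₁ t₂ : F) :
    D.x F r t₁ * D.x F r t₂ = D.x F r (t₁ + t₂) := by
  by_cases hr : r < D.nroots
  · exact x_add D hD r hr t₁ t₂
  · unfold ChevalleyDatum.x
    rw [dif_neg hr, dif_neg hr, dif_neg hr, one_mul]

include hD in
theorem x_mul_neg {F : Type*} [Field F] (r : ℕ) (t : F) : D.x F r t * D.x F r (-t) = 1 := by
  rw [x_add' D hD, add_neg_cancel, x_zero D hD]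

include hD in
theorem x_neg_mul {F : Type*} [Field F] (r : ℕ) (t : F) : D.x F r (-t) * D.x F r t = 1 := by
  rw [x_add' D hD, neg_add_cancel, x_zero D hD]

/-- the root element `x_r(t)` as an element of the general linear group -/
def xGL (F : Type*) [Field F] (r : ℕ) (t : F) : GL D.Idx F :=
  ⟨D.x F r t, D.x F r (-t), x_mul_neg D hD r t, x_neg_mul D hD r t⟩

theorem xGL_coe (F : Type*) [Field F] (r : ℕ) (t : F) :
    ((xGL D hD F r t : GL D.Idx F) : Matrix D.Idx D.Idx F) = D.x F r t := rfl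

theorem xGL_mem_group (F : Type*) [Field F] (r : ℕ) (t : F) : xGL D hD F r t ∈ D.group F := by
  by_cases hr : r < D.nroots
  · apply Subgroup.subset_closure
    refine ⟨⟨r, hr⟩, t, ?_⟩
    rw [xGL_coe]
    unfold ChevalleyDatum.x
    rw [dif_pos hr]
  · have : xGL D hD F r t = 1 := by
      apply Units.ext
      rw [xGL_coe]
      unfold ChevalleyDatum.x
      rw [dif_neg hr]; rfl
    rw [this]
    exact one_mem _

/-- the matrix of a word, as an element of the general linear group -/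
def wordGL (F : Type*) [Field F] (w : List (ℕ × F)) : GL D.Idx F :=
  (w.map fun p => xGL D hD F p.1 p.2).prod

theorem wordGL_coe (F : Type*) [Field F] (w : List (ℕ × F)) :
    ((wordGL D hD F w : GL D.Idx F) : Matrix D.Idx D.Idx F) = D.wordMat F w := by
  unfold wordGL ChevalleyDatum.wordMat
  induction w with
  | nil => simp
  | cons p w ih =>
    simp only [List.map_cons, List.prod_cons, Units.val_mul, ih]
    rfl

theorem wordGL_mem (F : Type*) [Field F] (K : Subgroup (GL D.Idx F)) (w : List (ℕ × F))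
    (h : ∀ p ∈ w, xGL D hD F p.1 p.2 ∈ K) : wordGL D hD F w ∈ K := by
  unfold wordGL
  apply Subgroup.list_prod_mem
  intro g hg
  obtain ⟨p, hp, rfl⟩ := List.mem_map.1 hg
  exact h p hp

theorem mem_of_coe_eq_wordMat (F : Type*) [Field F] (K : Subgroup (GL D.Idx F)) (w : List (ℕ × F))
    (h : ∀ p ∈ w, xGL D hD F p.1 p.2 ∈ K) (g : GL D.Idx F)
    (hg : (g : Matrix D.Idx D.Idx F) = D.wordMat F w) : g ∈ K := by
  have : g = wordGL D hD F w := Units.ext (by rw [hg, wordGL_coe])
  rw [this]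
  exact wordGL_mem D hD F K w h

/-- `n_r(t)` in the general linear group -/
def nGL (F : Type*) [Field F] (r : ℕ) (t : F) : GL D.Idx F := wordGL D hD F (D.nWord r t)

/-- `h_r(t)` in the general linear group -/
def hGL (F : Type*) [Field F] (r : ℕ) (t : F) : GL D.Idx F := wordGL D hD F (D.hWord r t)

theorem nGL_coe (F : Type*) [Field F] (r : ℕ) (t : F) :
    ((nGL D hD F r t : GL D.Idx F) : Matrix D.Idx D.Idx F) = D.nMat F r t := wordGL_coe D hD F _

theorem hGL_coe (F : Type*) [Field F] (r : ℕ) (t : F) :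
    ((hGL D hD F r t : GL D.Idx F) : Matrix D.Idx D.Idx F) = D.hMat F r t := wordGL_coe D hD F _

theorem hGL_eq (F : Type*) [Field F] (r : ℕ) (t : F) :
    hGL D hD F r t = nGL D hD F r t * nGL D hD F r (-1) := by
  apply Units.ext
  rw [Units.val_mul, hGL_coe, nGL_coe, nGL_coe, hMat_eq]

theorem hGL_mem_diag (F : Type*) [Field F] (r : ℕ) (hr : r < D.nroots) (t : F) (ht : t ≠ 0) :
    hGL D hD F r t ∈ D.diagonalSubgroup F :=
  Subgroup.subset_closure ⟨r, t, hr, ht, hGL_coe D hD F r t⟩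

theorem nGL_mem_mono (F : Type*) [Field F] (r : ℕ) (hr : r < D.nroots) :
    nGL D hD F r 1 ∈ D.monomialSubgroup F :=
  (le_sup_right : _ ≤ D.monomialSubgroup F) (Subgroup.subset_closure ⟨r, hr, nGL_coe D hD F r 1⟩)

theorem group_le (F : Type*) [Field F] (K : Subgroup (GL D.Idx F))
    (h : ∀ r < D.nroots, ∀ t : F, xGL D hD F r t ∈ K) : D.group F ≤ K := by
  unfold ChevalleyDatum.group
  rw [Subgroup.closure_le]
  rintro g ⟨r, t, hg⟩
  have : g = xGL D hD F r t := by
    apply Units.ext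
    rw [hg, xGL_coe]
    unfold ChevalleyDatum.x
    rw [dif_pos r.isLt]
  rw [this]
  exact h r r.isLt t

include hD in
theorem posUnipotent_le_group (F : Type*) [Field F] : D.posUnipotent F ≤ D.group F := by
  unfold ChevalleyDatum.posUnipotent
  rw [Subgroup.closure_le]
  rintro g ⟨r, t, -, hg⟩
  have : g = xGL D hD F r t := Units.ext (by rw [hg, xGL_coe])
  rw [this]
  exact xGL_mem_group D hD F r t

include hD in
theorem diagonal_le_group (F : Type*) [Field F] : D.diagonalSubgroup F ≤ D.group F := by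
  unfold ChevalleyDatum.diagonalSubgroup
  rw [Subgroup.closure_le]
  rintro g ⟨r, t, -, -, hg⟩
  exact mem_of_coe_eq_wordMat D hD F _ _ (fun p _ => xGL_mem_group D hD F p.1 p.2) g hg

include hD in
theorem monomial_le_group (F : Type*) [Field F] : D.monomialSubgroup F ≤ D.group F := by
  unfold ChevalleyDatum.monomialSubgroup
  apply sup_le (diagonal_le_group D hD F)
  rw [Subgroup.closure_le]
  rintro g ⟨r, -, hg⟩
  exact mem_of_coe_eq_wordMat D hD F _ _ (fun p _ => xGL_mem_group D hD F p.1 p.2) g hg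

include hD in
theorem borel_le_group (F : Type*) [Field F] : D.borelSubgroup F ≤ D.group F :=
  sup_le (posUnipotent_le_group D hD F) (diagonal_le_group D hD F)


include hD in
theorem nGL_inv (F : Type*) [Field F] (i : ℕ) (hi : i < D.rank) :
    (nGL D hD F (D.simple i) 1)⁻¹ = nGL D hD F (D.simple i) (-1) := by
  rw [inv_eq_iff_mul_eq_one]
  apply Units.ext
  rw [Units.val_mul, nGL_coe, nGL_coe, nMat_one_mul_neg_one D hD i hi]
  rfl

include hD in
/-- `x_{w_p r}(t) = n_p x_r(η t) n_p⁻¹` -/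
theorem xGL_reflect (F : Type*) [Field F] (i r : ℕ) (hi : i < D.rank) (hr : r < D.nroots) (t : F) :
    xGL D hD F (D.reflectRoot i r) t =
      nGL D hD F (D.simple i) 1 * xGL D hD F r (((nEta D i r : ℤ) : F) * t) * (nGL D hD F (D.simple i) 1)⁻¹ := by
  obtain ⟨-, -, -, -, hs'⟩ := chkN2_spec D (chkN2_all D hD) i hi
  obtain ⟨-, -, h3, -, -, -, -⟩ := hs' r hr
  rw [eq_mul_inv_iff_mul_eq]
  apply Units.ext
  rw [Units.val_mul, Units.val_mul, nGL_coe, xGL_coe, xGL_coe, nMat_mul_x_all D hD i r hi hr]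
  congr 2
  rcases h3 with h | h <;> rw [h] <;> simp

include hD in
/-- `n_{w_p r}(t) = n_p n_r(η t) n_p⁻¹` -/
theorem nGL_reflect (F : Type*) [Field F] (i r : ℕ) (hi : i < D.rank) (hr : r < D.nroots) (t : F) :
    nGL D hD F (D.reflectRoot i r) t =
      nGL D hD F (D.simple i) 1 * nGL D hD F r (((nEta D i r : ℤ) : F) * t) * (nGL D hD F (D.simple i) 1)⁻¹ := by
  obtain ⟨-, -, -, -, hs'⟩ := chkN2_spec D (chkN2_all D hD) i hi
  obtain ⟨-, -, h3, -, -, -, -⟩ := hs' r hr
  rw [eq_mul_inv_iff_mul_eq]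
  apply Units.ext
  rw [Units.val_mul, Units.val_mul, nGL_coe, nGL_coe, nGL_coe, nMat_mul_nMat D hD i r hi hr]
  congr 2
  rcases h3 with h | h <;> rw [h] <;> simp

include hD in
/-- `h_{w_p r}(t) = n_p h_r(t) n_p⁻¹` -/
theorem hGL_reflect (F : Type*) [Field F] (i r : ℕ) (hi : i < D.rank) (hr : r < D.nroots) (t : F) (ht : t ≠ 0) :
    hGL D hD F (D.reflectRoot i r) t =
      nGL D hD F (D.simple i) 1 * hGL D hD F r t * (nGL D hD F (D.simple i) 1)⁻¹ := by
  rw [eq_mul_inv_iff_mul_eq]
  apply Units.ext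
  rw [Units.val_mul, Units.val_mul, nGL_coe, hGL_coe, hGL_coe]
  refine (nMat_mul_hMat_of D hD i r hi hr t ?_).symm
  rw [(hMat_all D hD r hr t ht).1, (hMat_all D hD r hr t ht).2]

include hD in
theorem xGL_mem_sup (F : Type*) [Field F] (r : ℕ) (hr : r < D.nroots) :
    ∀ t : F, xGL D hD F r t ∈ D.borelSubgroup F ⊔ D.monomialSubgroup F := by
  refine root_induction D hD (fun r => ∀ t : F, xGL D hD F r t ∈ D.borelSubgroup F ⊔ D.monomialSubgroup F)
    ?_ ?_ r hr
  · intro i hi t
    apply (le_sup_left : D.borelSubgroup F ≤ _)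
    apply (le_sup_left : D.posUnipotent F ≤ D.borelSubgroup F)
    exact Subgroup.subset_closure ⟨D.simple i, t, isPosRoot_simple D hD i hi, xGL_coe D hD F _ t⟩
  · intro i hi r hr ih t
    obtain ⟨hp, -⟩ := chkN2_spec D (chkN2_all D hD) i hi
    rw [xGL_reflect D hD F i r hi hr t]
    have hn : nGL D hD F (D.simple i) 1 ∈ D.borelSubgroup F ⊔ D.monomialSubgroup F :=
      (le_sup_right : D.monomialSubgroup F ≤ _) (nGL_mem_mono D hD F _ hp)
    exact mul_mem (mul_mem hn (ih _)) (inv_mem hn)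

include hD in
theorem borel_sup_monomial (F : Type*) [Field F] :
    D.borelSubgroup F ⊔ D.monomialSubgroup F = D.group F := by
  apply le_antisymm
  · exact sup_le (borel_le_group D hD F) (monomial_le_group D hD F)
  · exact group_le D hD F _ (fun r hr t => xGL_mem_sup D hD F r hr t)

end Cfsg.Agent.Lib.Helper36
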