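import Cfsg.Agent.Lib.Helper36.ChevTwWeyl
import Cfsg.Agent.Lib.Helper18.ChevHCard

/-! # The torus `(Fˣ)^l → H`, its twisted fixed points and the action of `N` (helper36) -/

set_option autoImplicit false
set_option linter.unusedSectionVars false

namespace Cfsg.Agent.Lib.Helper36

open Cfsg Cfsg.Lie Cfsg.Agent.Lib.Helper18
open scoped BigOperators

section torus
variable (D : ChevalleyDatum) (hD : D ∈ [chevG2, chevB2, chevD4, chevF4, chevE6, chevE7, chevE8])
variable (F : Type*) [Field F]

include hD in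
/-- `h_r(c)` as an element of the image of the torus -/
theorem hGL_eq_torusHom (r : ℕ) (hr : r < D.nroots) (c : Fˣ) :
    hGL D hD F r (c : F) = torusHom D F (fun k => c ^ cor D r k.val) := by
  apply Units.ext
  rw [torusHom_coe, hGL_coe, (hMat_all D hD r hr (c : F) c.ne_zero).1]
  unfold hDiag
  congr 1
  funext x
  rcases x with i | s
  · rfl
  · simp only [Sum.elim_inr]
    have : ∀ j : Fin D.rank, ((c ^ cor D r j.val : Fˣ) : F) ^ D.cartan j.val s.val =
        (c : F) ^ (cor D r j.val * D.cartan j.val s.val) := by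
      intro j
      rw [Units.val_zpow_eq_zpow_val, zpow_mul]
    simp only [this]
    unfold gc
    rw [list_range_map_sum]
    have h1 := zpow_finset_sum (C := Fˣ) Finset.univ c
      (fun j : Fin D.rank => cor D r j.val * D.cartan j.val s.val)
    have h2 := congrArg (fun u : Fˣ => (u : F)) h1
    simp only [Units.val_zpow_eq_zpow_val, Units.coe_prod] at h2
    exact h2

include hD in
/-- the image of the torus is the product of the `h_{p_j}(t_j)` -/
theorem torusHom_eq_prod (t : Fin D.rank → Fˣ) :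
    torusHom D F t = (List.ofFn fun j : Fin D.rank => hGL D hD F (D.simple j.val) (t j : F)).prod := by
  have h : t = (List.ofFn fun j : Fin D.rank => Pi.mulSingle j (t j)).prod := by
    rw [List.prod_ofFn, Finset.univ_prod_mulSingle]
  conv_lhs => rw [h]
  rw [map_list_prod, List.map_ofFn]
  congr 2
  funext j
  exact torusHom_mulSingle D hD F j (t j)

include hD in
theorem torusHom_mem_diag (t : Fin D.rank → Fˣ) : torusHom D F t ∈ D.diagonalSubgroup F := by
  rw [← torusHom_range D hD F]
  exact ⟨t, rfl⟩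

include hD in
/-- `n_w h_r(c) n_w⁻¹ = h_{w r}(c)` -/
theorem nWordGL_conj_hGL (l : List ℕ) (hl : ∀ i ∈ l, i < D.rank) (r : ℕ) (hr : r < D.nroots) (c : F) (hc : c ≠ 0) :
    nWordGL D hD F l * hGL D hD F r c * (nWordGL D hD F l)⁻¹ = hGL D hD F (wRoot D l r) c := by
  induction l with
  | nil => simp [nWordGL, wRoot]
  | cons i l ih =>
    have hl' : ∀ i' ∈ l, i' < D.rank := fun i' hi' => hl i' (List.mem_cons_of_mem _ hi')
    have hi := hl i (List.mem_cons_self ..)
    have e1 : nWordGL D hD F (i :: l) = nGL D hD F (D.simple i) 1 * nWordGL D hD F l := by simp [nWordGL]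
    show _ = hGL D hD F (D.reflectRoot i (wRoot D l r)) c
    rw [hGL_reflect D hD F i _ hi (wRoot_lt D hD l hl' r hr) c hc, ← ih hl', e1]
    group

/-- the matrix of a Weyl word on the fundamental coroots -/
def Cmat (l : List ℕ) : Matrix (Fin D.rank) (Fin D.rank) ℤ :=
  Matrix.of fun j k => cor D (wRoot D l (D.simple j.val)) k.val

include hD in
/-- the action of `N` on the image of the torus -/
theorem conj_torusHom (l : List ℕ) (hl : ∀ i ∈ l, i < D.rank) (t : Fin D.rank → Fˣ) :
    nWordGL D hD F l * torusHom D F t * (nWordGL D hD F l)⁻¹ = torusHom D F (monoMap (Cmat D l) t) := by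
  have e : nWordGL D hD F l * torusHom D F t * (nWordGL D hD F l)⁻¹ =
      MulAut.conj (nWordGL D hD F l) (torusHom D F t) := by rw [MulAut.conj_apply]
  rw [e, torusHom_eq_prod D hD F t, map_list_prod, List.map_ofFn]
  have h2 : monoMap (Cmat D l) t = (List.ofFn fun j : Fin D.rank =>
      (fun k : Fin D.rank => t j ^ cor D (wRoot D l (D.simple j.val)) k.val)).prod := by
    rw [List.prod_ofFn]
    funext k
    rw [monoMap_apply, Finset.prod_apply]
    rfl
  rw [h2, map_list_prod, List.map_ofFn]
  congr 2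
  funext j
  have hp := (isPosRoot_simple D hD j.val j.isLt).1
  simp only [Function.comp_apply, MulAut.conj_apply]
  rw [nWordGL_conj_hGL D hD F l hl _ hp _ (t j).ne_zero, hGL_eq_torusHom D hD F _ (wRoot_lt D hD l hl _ hp) (t j)]

include hD in
/-- the action of the image of the torus on the root subgroups -/
theorem torusHom_conj_xGL (t : Fin D.rank → Fˣ) (r : ℕ) (hr : r < D.nroots) (u : F) :
    torusHom D F t * xGL D hD F r u * (torusHom D F t)⁻¹ =
      xGL D hD F r ((∏ j : Fin D.rank, (t j : F) ^ D.cartan j.val r) * u) := by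
  obtain ⟨χ, hχ, ek⟩ := exists_character_of_mem_diagonal D hD F _ (torusHom_mem_diag D hD F t)
  rw [diag_conj_xGL D hD F _ χ hχ ek r hr u]
  congr 2
  have := congrFun (congrFun ek (Sum.inr ⟨r, hr⟩)) (Sum.inr ⟨r, hr⟩)
  rw [torusHom_coe] at this
  simp only [ChevalleyDatum.charDiag, Matrix.diagonal_apply_eq, Sum.elim_inr] at this
  exact this.symm

include hD in
/-- an element of `H` centralising all root elements is trivial -/
theorem diag_eq_one_of_commute (h : GL D.Idx F) (hh : h ∈ D.diagonalSubgroup F)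
    (hc : ∀ r < D.nroots, h * xGL D hD F r 1 * h⁻¹ = xGL D hD F r 1) : h = 1 := by
  obtain ⟨χ, hχ, ek⟩ := exists_character_of_mem_diagonal D hD F h hh
  have hχ1 : ∀ r < D.nroots, χ r = 1 := by
    intro r hr
    have h1 := diag_conj_xGL D hD F h χ hχ ek r hr 1
    rw [hc r hr, mul_one] at h1
    have h2 : xGL D hD F r ((χ r : F) - 1) = 1 := by
      rw [sub_eq_add_neg, xGL_add, ← xGL_inv, ← h1, mul_inv_cancel]
    have h3 := x_eq_one_iff D hD F r hr _ (by rw [← xGL_coe D hD F, h2, Units.val_one])
    exact Units.ext (sub_eq_zero.1 h3)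
  apply Units.ext
  rw [ek, Units.val_one]
  unfold ChevalleyDatum.charDiag
  rw [← Matrix.diagonal_one]
  congr 1
  funext y
  rcases y with j | s
  · rfl
  · simp [hχ1 s.val s.isLt]

/-- the sign in `n_w x_r(t) n_w⁻¹ = x_{w r}(± t)` -/
def wSign : List ℕ → ℕ → ℤ
  | [], _ => 1
  | i :: l, r => nEta D i (wRoot D l r) * wSign l r

include hD in
theorem nWordGL_conj_sign (l : List ℕ) (hl : ∀ i ∈ l, i < D.rank) (r : ℕ) (hr : r < D.nroots) (t : F) :
    nWordGL D hD F l * xGL D hD F r t * (nWordGL D hD F l)⁻¹ =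
      xGL D hD F (wRoot D l r) (((wSign D l r : ℤ) : F) * t) := by
  induction l generalizing t with
  | nil => simp [nWordGL, wRoot, wSign]
  | cons i l ih =>
    have hl' : ∀ i' ∈ l, i' < D.rank := fun i' hi' => hl i' (List.mem_cons_of_mem _ hi')
    have hi := hl i (List.mem_cons_self ..)
    have hlt := wRoot_lt D hD l hl' r hr
    obtain ⟨-, -, -, -, hs'⟩ := chkN2_spec D (chkN2_all D hD) i hi
    obtain ⟨-, -, h3, -, -, -, -⟩ := hs' _ hlt
    set η : F := ((nEta D i (wRoot D l r) : ℤ) : F) with hη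
    have hηη : η * η = 1 := by
      rcases h3 with h | h <;> rw [hη, h] <;> simp
    have e1 : nWordGL D hD F (i :: l) = nGL D hD F (D.simple i) 1 * nWordGL D hD F l := by
      simp [nWordGL]
    have e2 := xGL_reflect D hD F i _ hi hlt (η * ((wSign D l r : ℤ) : F) * t)
    rw [← hη, ← mul_assoc, ← mul_assoc, hηη, one_mul] at e2
    show _ = xGL D hD F (D.reflectRoot i (wRoot D l r)) (((wSign D (i :: l) r : ℤ) : F) * t)
    have e3 : ((wSign D (i :: l) r : ℤ) : F) = η * ((wSign D l r : ℤ) : F) := by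
      show ((nEta D i (wRoot D l r) * wSign D l r : ℤ) : F) = _
      rw [Int.cast_mul]
    rw [e3, e2, ← ih hl' t, e1]
    group

end torus

section lam
variable (D : ChevalleyDatum) (hD : D ∈ [chevG2, chevB2, chevD4, chevF4, chevE6, chevE7, chevE8])
variable (G : GraphTab) (hG : GraphOK D G)
variable (F : Type*) [Field F] (φ : F →+* F)

/-- the permutation of the nodes -/
def rhoE : Equiv.Perm (Fin D.rank) where
  toFun i := ⟨G.ρs i.val, (graph_s_lt D G hG i.val i.isLt).1⟩
  invFun i := ⟨G.ρsi i.val, (graph_s_lt D G hG i.val i.isLt).2⟩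
  left_inv i := Fin.ext ((graph2_spec D G hG).2 i.val i.isLt).2.2.1
  right_inv i := Fin.ext ((graph2_spec D G hG).2 i.val i.isLt).2.2.2

/-- the fixed points of the twisting on the torus -/
def Lam : Subgroup (Fin D.rank → Fˣ) where
  carrier := {t | ∀ i, t (rhoE D G hG i) = Units.map (φ : F →* F) (t i)}
  mul_mem' := by
    intro a b ha hb i
    simp only [Set.mem_setOf_eq] at ha hb
    simp [Pi.mul_apply, ha i, hb i, map_mul]
  one_mem' := by
    intro i
    simp
  inv_mem' := by
    intro a ha i
    simp only [Set.mem_setOf_eq] at ha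
    simp [ha i, map_inv]

theorem mem_Lam (t : Fin D.rank → Fˣ) :
    t ∈ Lam D G hG F φ ↔ ∀ i, t (rhoE D G hG i) = Units.map (φ : F →* F) (t i) := Iff.rfl

/-- an equivariant integer matrix preserves the fixed points -/
theorem Lam_monoMap (C : Matrix (Fin D.rank) (Fin D.rank) ℤ)
    (hC : ∀ j k, C (rhoE D G hG j) (rhoE D G hG k) = C j k) (t : Fin D.rank → Fˣ) (ht : t ∈ Lam D G hG F φ) :
    monoMap C t ∈ Lam D G hG F φ := by
  intro k
  rw [monoMap_apply, monoMap_apply, map_prod, ← Equiv.prod_comp (rhoE D G hG)]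
  apply Finset.prod_congr rfl
  intro j _
  rw [hC, ht j, map_zpow]

end lam

end Cfsg.Agent.Lib.Helper36
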