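import Cfsg.Agent.Lib.Helper36.ReeStruct

/-! # The Ree groups `²G₂`: the structure of the twisted group (helper36) -/

set_option autoImplicit false

namespace Cfsg.Agent.Lib.Helper36

open Cfsg Cfsg.Lie Cfsg.Agent.Lib.Helper18

section
variable {K : Type*} [Field K] [Fintype K] {m : ℕ}

/-- `U ∩ ²G₂` -/
theorem ree_pos_inf (hK : Fintype.card K = 3 ^ (2 * m + 1)) (g : GL chevG2.Idx K) :
    g ∈ chevG2.posUnipotent K ⊓ twistedG2 K (3 ^ m) ↔
      ∃ t u v : K, g = wordGL chevG2 hG2 K (reeWordU (3 ^ m) t u v) := by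
  obtain ⟨σ, hσ⟩ := exists_reeSig hK
  constructor
  · rintro ⟨hu, ht⟩
    rw [SetLike.mem_coe, twisted_eq_fix hK hσ] at ht
    exact fix_pos hK hσ g hu ht.2
  · rintro ⟨t, u, v, rfl⟩
    exact ⟨reeU_mem_pos _ _ _ _, reeU_mem _ _ _ _⟩

/-- `H ∩ ²G₂` -/
theorem ree_diag_inf (hK : Fintype.card K = 3 ^ (2 * m + 1)) (g : GL chevG2.Idx K) :
    g ∈ chevG2.diagonalSubgroup K ⊓ twistedG2 K (3 ^ m) ↔ ∃ s : Kˣ, g = reeHm (3 ^ m) s := by
  obtain ⟨σ, hσ⟩ := exists_reeSig hK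
  constructor
  · rintro ⟨hh, ht⟩
    rw [SetLike.mem_coe, twisted_eq_fix hK hσ] at ht
    exact fix_diag hσ g hh ht.2
  · rintro ⟨s, rfl⟩
    exact ⟨reeHm_mem_diag _ _, reeHm_mem hK s⟩

/-- `B ∩ ²G₂` -/
theorem ree_borel_inf (hK : Fintype.card K = 3 ^ (2 * m + 1)) (g : GL chevG2.Idx K) :
    g ∈ chevG2.borelSubgroup K ⊓ twistedG2 K (3 ^ m) ↔
      ∃ t u v : K, ∃ s : Kˣ, g = wordGL chevG2 hG2 K (reeWordU (3 ^ m) t u v) * reeHm (3 ^ m) s := by
  obtain ⟨σ, hσ⟩ := exists_reeSig hK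
  constructor
  · rintro ⟨hb, ht⟩
    rw [SetLike.mem_coe, twisted_eq_fix hK hσ] at ht
    exact fix_borel hK hσ g ht hb
  · rintro ⟨t, u, v, s, rfl⟩
    exact ⟨mul_mem (pos_le_borel chevG2 K (reeU_mem_pos _ _ _ _)) (diagonal_le_borel chevG2 K (reeHm_mem_diag _ _)),
      mul_mem (reeU_mem _ _ _ _) (reeHm_mem hK s)⟩

/-- the two cells of `²G₂` -/
theorem ree_cases (hK : Fintype.card K = 3 ^ (2 * m + 1)) (g : GL chevG2.Idx K) (hg : g ∈ twistedG2 K (3 ^ m)) :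
    g ∈ chevG2.borelSubgroup K ∨ ∃ t u v : K, ∃ s : Kˣ, ∃ t' u' v' : K,
      g = wordGL chevG2 hG2 K (reeWordU (3 ^ m) t u v) * reeHm (3 ^ m) s * reeNN (3 ^ m) (1 : K) *
        wordGL chevG2 hG2 K (reeWordU (3 ^ m) t' u' v') := by
  obtain ⟨σ, hσ⟩ := exists_reeSig hK
  rw [twisted_eq_fix hK hσ] at hg
  rcases fix_cases hσ (ree_odd m) g hg with h | h
  · exact Or.inl h
  · exact Or.inr (fix_big hK hσ g hg h)

/-- uniqueness in the big cell of `²G₂` -/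
theorem ree_big_unique (hK : Fintype.card K = 3 ^ (2 * m + 1)) (u₁ u₁' u₂ u₂' h h' : GL chevG2.Idx K)
    (hu₁ : u₁ ∈ chevG2.posUnipotent K) (hu₁' : u₁' ∈ chevG2.posUnipotent K)
    (hu₂ : u₂ ∈ chevG2.posUnipotent K) (hu₂' : u₂' ∈ chevG2.posUnipotent K)
    (hh : h ∈ chevG2.diagonalSubgroup K) (hh' : h' ∈ chevG2.diagonalSubgroup K)
    (e : u₁ * h * reeNN (3 ^ m) (1 : K) * u₂ = u₁' * h' * reeNN (3 ^ m) (1 : K) * u₂') :
    u₁ = u₁' ∧ h = h' ∧ u₂ = u₂' := by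
  obtain ⟨σ, hσ⟩ := exists_reeSig hK
  obtain ⟨h₀, hh₀, hn⟩ := reeNN_eq_n0 hK hσ
  exact big_cell_unique _ h₀ hn hh₀ _ _ _ _ _ _ hu₁ hu₁' hu₂ hu₂' hh hh' e

/-- the big cell does not meet `B` -/
theorem ree_big_not_borel (hK : Fintype.card K = 3 ^ (2 * m + 1)) (b u : GL chevG2.Idx K)
    (hb : b ∈ chevG2.borelSubgroup K) (hu : u ∈ chevG2.borelSubgroup K) :
    b * reeNN (3 ^ m) (1 : K) * u ∉ chevG2.borelSubgroup K := by
  intro h
  apply reeNN_not_borel hK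
  have : reeNN (3 ^ m) (1 : K) = b⁻¹ * (b * reeNN (3 ^ m) (1 : K) * u) * u⁻¹ := by group
  rw [this]
  exact mul_mem (mul_mem (inv_mem hb) h) (inv_mem hu)

/-- the parametrisation of `U ∩ ²G₂` -/
noncomputable def reeUmap (hK : Fintype.card K = 3 ^ (2 * m + 1)) (p : K × K × K) :
    ↥(chevG2.posUnipotent K ⊓ twistedG2 K (3 ^ m)) :=
  ⟨wordGL chevG2 hG2 K (reeWordU (3 ^ m) p.1 p.2.1 p.2.2), (ree_pos_inf hK _).2 ⟨_, _, _, rfl⟩⟩

theorem reeUmap_bijective (hK : Fintype.card K = 3 ^ (2 * m + 1)) : Function.Bijective (reeUmap hK) := by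
  constructor
  · rintro ⟨t, u, v⟩ ⟨t', u', v'⟩ h
    have h' := congrArg Subtype.val h
    obtain ⟨h1, h2, h3⟩ := reeU_inj _ _ _ _ _ _ _ h'
    simp only at h1 h2 h3
    rw [h1, h2, h3]
  · rintro ⟨g, hg⟩
    obtain ⟨t, u, v, rfl⟩ := (ree_pos_inf hK g).1 hg
    exact ⟨(t, u, v), rfl⟩

theorem ree_card_pos_inf (hK : Fintype.card K = 3 ^ (2 * m + 1)) :
    Nat.card ↥(chevG2.posUnipotent K ⊓ twistedG2 K (3 ^ m)) = (3 ^ (2 * m + 1)) ^ 3 := by
  rw [← Nat.card_congr (Equiv.ofBijective _ (reeUmap_bijective hK)), Nat.card_prod, Nat.card_prod,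
    Nat.card_eq_fintype_card, hK]
  ring

/-- the parametrisation of `H ∩ ²G₂` -/
noncomputable def reeHmap (hK : Fintype.card K = 3 ^ (2 * m + 1)) :
    Kˣ →* ↥(chevG2.diagonalSubgroup K ⊓ twistedG2 K (3 ^ m)) :=
  (reeHm (3 ^ m)).codRestrict _ (fun s => (ree_diag_inf hK _).2 ⟨s, rfl⟩)

theorem reeHmap_bijective (hK : Fintype.card K = 3 ^ (2 * m + 1)) : Function.Bijective (reeHmap hK) := by
  constructor
  · intro a b h
    exact reeHm_injective _ (congrArg Subtype.val h)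
  · rintro ⟨g, hg⟩
    obtain ⟨s, rfl⟩ := (ree_diag_inf hK g).1 hg
    exact ⟨s, rfl⟩

theorem ree_card_diag_inf (hK : Fintype.card K = 3 ^ (2 * m + 1)) :
    Nat.card ↥(chevG2.diagonalSubgroup K ⊓ twistedG2 K (3 ^ m)) = 3 ^ (2 * m + 1) - 1 := by
  classical
  rw [← Nat.card_congr (Equiv.ofBijective _ (reeHmap_bijective hK)), Nat.card_eq_fintype_card, Fintype.card_units, hK]


/-- the element `u(t,u,v)` -/
noncomputable def reeUel (m : ℕ) (p : K × K × K) : GL chevG2.Idx K :=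
  wordGL chevG2 hG2 K (reeWordU (3 ^ m) p.1 p.2.1 p.2.2)

omit [Fintype K] in
theorem reeUel_mem_pos (p : K × K × K) : reeUel m p ∈ chevG2.posUnipotent K := reeU_mem_pos _ _ _ _

omit [Fintype K] in
theorem reeUel_mem (p : K × K × K) : reeUel m p ∈ twistedG2 K (3 ^ m) := reeU_mem _ _ _ _

theorem reeUel_inj (p p' : K × K × K) (h : reeUel m p = reeUel m p') : p = p' := by
  obtain ⟨t, u, v⟩ := p
  obtain ⟨t', u', v'⟩ := p'
  obtain ⟨h1, h2, h3⟩ := reeU_inj _ _ _ _ _ _ _ h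
  simp only at h1 h2 h3
  rw [h1, h2, h3]

/-- the parametrisation of `²G₂` by its two cells -/
noncomputable def reeCellMap (hK : Fintype.card K = 3 ^ (2 * m + 1)) :
    ((K × K × K) × Kˣ) ⊕ ((K × K × K) × Kˣ × (K × K × K)) → ↥(twistedG2 K (3 ^ m))
  | Sum.inl x => ⟨reeUel m x.1 * reeHm (3 ^ m) x.2, mul_mem (reeUel_mem _) (reeHm_mem hK _)⟩
  | Sum.inr x => ⟨reeUel m x.1 * reeHm (3 ^ m) x.2.1 * reeNN (3 ^ m) (1 : K) * reeUel m x.2.2,
      mul_mem (mul_mem (mul_mem (reeUel_mem _) (reeHm_mem hK _)) (reeNN_mem _ _)) (reeUel_mem _)⟩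

theorem reeCellMap_bijective (hK : Fintype.card K = 3 ^ (2 * m + 1)) : Function.Bijective (reeCellMap hK) := by
  have hUB := pos_le_borel chevG2 K
  have hHB := diagonal_le_borel chevG2 K
  constructor
  · rintro (⟨p, s⟩ | ⟨p, s, q⟩) (⟨p', s'⟩ | ⟨p', s', q'⟩) h
    · have h' : reeUel m p * reeHm (3 ^ m) s = reeUel m p' * reeHm (3 ^ m) s' := congrArg Subtype.val h
      obtain ⟨h1, h2⟩ := borel_unique _ _ _ _ (reeUel_mem_pos p) (reeUel_mem_pos p') (reeHm_mem_diag _ s)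
        (reeHm_mem_diag _ s') h'
      rw [reeUel_inj _ _ h1, reeHm_injective _ h2]
    · exfalso
      have h' : reeUel m p * reeHm (3 ^ m) s =
          reeUel m p' * reeHm (3 ^ m) s' * reeNN (3 ^ m) (1 : K) * reeUel m q' := congrArg Subtype.val h
      apply ree_big_not_borel hK (reeUel m p' * reeHm (3 ^ m) s') (reeUel m q')
        (mul_mem (hUB (reeUel_mem_pos p')) (hHB (reeHm_mem_diag _ s'))) (hUB (reeUel_mem_pos q'))
      rw [← h']
      exact mul_mem (hUB (reeUel_mem_pos p)) (hHB (reeHm_mem_diag _ s))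
    · exfalso
      have h' : reeUel m p * reeHm (3 ^ m) s * reeNN (3 ^ m) (1 : K) * reeUel m q =
          reeUel m p' * reeHm (3 ^ m) s' := congrArg Subtype.val h
      apply ree_big_not_borel hK (reeUel m p * reeHm (3 ^ m) s) (reeUel m q)
        (mul_mem (hUB (reeUel_mem_pos p)) (hHB (reeHm_mem_diag _ s))) (hUB (reeUel_mem_pos q))
      rw [h']
      exact mul_mem (hUB (reeUel_mem_pos p')) (hHB (reeHm_mem_diag _ s'))
    · have h' : reeUel m p * reeHm (3 ^ m) s * reeNN (3 ^ m) (1 : K) * reeUel m q =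
          reeUel m p' * reeHm (3 ^ m) s' * reeNN (3 ^ m) (1 : K) * reeUel m q' := congrArg Subtype.val h
      obtain ⟨h1, h2, h3⟩ := ree_big_unique hK _ _ _ _ _ _ (reeUel_mem_pos p) (reeUel_mem_pos p')
        (reeUel_mem_pos q) (reeUel_mem_pos q') (reeHm_mem_diag _ s) (reeHm_mem_diag _ s') h'
      rw [reeUel_inj _ _ h1, reeHm_injective _ h2, reeUel_inj _ _ h3]
  · rintro ⟨g, hg⟩
    rcases ree_cases hK g hg with h | ⟨t, u, v, s, t', u', v', rfl⟩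
    · obtain ⟨t, u, v, s, rfl⟩ := (ree_borel_inf hK g).1 ⟨h, hg⟩
      exact ⟨Sum.inl ((t, u, v), s), rfl⟩
    · exact ⟨Sum.inr ((t, u, v), s, (t', u', v')), rfl⟩

/-- the order of `²G₂(q)` -/
theorem ree_card (hK : Fintype.card K = 3 ^ (2 * m + 1)) :
    Nat.card ↥(twistedG2 K (3 ^ m)) =
      (3 ^ (2 * m + 1)) ^ 3 * (3 ^ (2 * m + 1) - 1) * ((3 ^ (2 * m + 1)) ^ 3 + 1) := by
  classical
  rw [← Nat.card_congr (Equiv.ofBijective _ (reeCellMap_bijective hK))]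
  simp only [Nat.card_eq_fintype_card, Fintype.card_sum, Fintype.card_prod, Fintype.card_units, hK]
  ring


end

end Cfsg.Agent.Lib.Helper36
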