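import Cfsg.Agent.Lib.Helper36.ReeTau

/-! # The Ree groups `²G₂`: perfectness (helper36) -/

set_option autoImplicit false

namespace Cfsg.Agent.Lib.Helper36

open Cfsg Cfsg.Lie Cfsg.Agent.Lib.Helper18

section
variable {K : Type*} [Field K] [Fintype K] {m : ℕ}

omit [Fintype K] in
theorem reeUel_low (u v : K) :
    reeUel m (0, u, v) = wordGL chevG2 hG2 K [(8, u ^ 3 ^ m), (9, v ^ 3 ^ m), (10, u), (11, v)] := by
  have hθ : 3 ^ m ≠ 0 := by positivity
  unfold reeUel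
  rw [reeWordU_eq, wordGL_uWord]
  have z1 : (0 : K) ^ 3 ^ m = 0 := zero_pow hθ
  have z2 : (0 : K) ^ (3 ^ m + 1) = 0 := zero_pow (Nat.succ_ne_zero _)
  have z3 : (0 : K) ^ (2 * 3 ^ m + 1) = 0 := zero_pow (Nat.succ_ne_zero _)
  simp only [z1, z2, z3, zero_add, xGL_zero, one_mul, wordGL_cons, wordGL_nil', mul_one, mul_assoc]

theorem reeUel_low_mul (hK : Fintype.card K = 3 ^ (2 * m + 1)) (u v u' v' : K) :
    reeUel m (0, u, v) * reeUel m (0, u', v') = reeUel m (0, u + u', v + v') := by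
  have := ree_charP hK
  rw [reeUel_low, reeUel_low, reeUel_low, ← wordGL_append',
    abel4 8 9 10 11 (by decide) (by decide) (by decide) (by decide) (by decide) (by decide) comm_hi _ (by simp),
    abel4 8 9 10 11 (by decide) (by decide) (by decide) (by decide) (by decide) (by decide) comm_hi
      [(8, (u + u') ^ 3 ^ m), (9, (v + v') ^ 3 ^ m), (10, u + u'), (11, v + v')] (by simp),
    ree_add_pow hK m u u', ree_add_pow hK m v v']
  simp [coefAt]

theorem reeUel_low_inv (hK : Fintype.card K = 3 ^ (2 * m + 1)) (u v : K) :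
    (reeUel m (0, u, v))⁻¹ = reeUel m (0, -u, -v) := by
  rw [inv_eq_iff_mul_eq_one, reeUel_low_mul hK, add_neg_cancel, add_neg_cancel, ree_one_eq]

/-- the derived subgroup of the twisted group, as a subgroup of `GL` -/
def reeDer (K : Type*) [Field K] (m : ℕ) : Subgroup (GL chevG2.Idx K) :=
  (commutator ↥(twistedG2 K (3 ^ m))).map (twistedG2 K (3 ^ m)).subtype

omit [Fintype K] in
theorem reeDer_comm (a b : GL chevG2.Idx K) (ha : a ∈ twistedG2 K (3 ^ m)) (hb : b ∈ twistedG2 K (3 ^ m)) :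
    a * b * a⁻¹ * b⁻¹ ∈ reeDer K m := by
  have key : (⟨a, ha⟩ : ↥(twistedG2 K (3 ^ m))) * ⟨b, hb⟩ * (⟨a, ha⟩ : ↥(twistedG2 K (3 ^ m)))⁻¹ *
      (⟨b, hb⟩ : ↥(twistedG2 K (3 ^ m)))⁻¹ ∈ commutator ↥(twistedG2 K (3 ^ m)) := by
    rw [commutator_def]
    exact Subgroup.commutator_mem_commutator (Subgroup.mem_top (⟨a, ha⟩ : ↥(twistedG2 K (3 ^ m))))
      (Subgroup.mem_top (⟨b, hb⟩ : ↥(twistedG2 K (3 ^ m))))
  exact ⟨_, key, rfl⟩

omit [Fintype K] in
theorem reeDer_conj (x a : GL chevG2.Idx K) (hx : x ∈ reeDer K m) (ha : a ∈ twistedG2 K (3 ^ m)) :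
    a * x * a⁻¹ ∈ reeDer K m := by
  obtain ⟨y, hy, rfl⟩ := hx
  have hn : (commutator ↥(twistedG2 K (3 ^ m))).Normal := inferInstance
  have key := hn.conj_mem y hy (⟨a, ha⟩ : ↥(twistedG2 K (3 ^ m)))
  exact ⟨_, key, rfl⟩

omit [Fintype K] in
theorem commutator_eq_top_of_reeDer (h : ∀ g ∈ twistedG2 K (3 ^ m), g ∈ reeDer K m) :
    commutator ↥(twistedG2 K (3 ^ m)) = ⊤ := by
  rw [eq_top_iff]
  intro x _
  obtain ⟨y, hy, e⟩ := h x.1 x.2
  have : y = x := Subtype.ext e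
  rw [← this]; exact hy

theorem exists_unit_pow_ne_one (hK : Fintype.card K = 3 ^ (2 * m + 1)) (k : ℕ) (hk0 : 0 < k)
    (hk : k < 3 ^ (2 * m + 1) - 1) : ∃ s : Kˣ, s ^ k ≠ 1 := by
  classical
  obtain ⟨g, hg⟩ := IsCyclic.exists_generator (α := Kˣ)
  refine ⟨g, ?_⟩
  intro h
  have h1 : orderOf g = Fintype.card Kˣ := by
    rw [← Nat.card_eq_fintype_card]; exact orderOf_eq_card_of_forall_mem_zpowers hg
  rw [Fintype.card_units, hK] at h1
  have h2 := orderOf_dvd_of_pow_eq_one h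
  rw [h1] at h2
  have := Nat.le_of_dvd hk0 h2
  omega

omit [Fintype K] in
theorem torChi_6 (x y : Kˣ) : torChi x y 6 = (((x ^ 3)⁻¹ * y ^ 2 : Kˣ) : K) := by
  unfold torChi
  have c : chevG2.cartan 0 6 = -3 ∧ chevG2.cartan 1 6 = 2 := by decide
  rw [c.1, c.2, show (-3 : ℤ) = -((3 : ℕ) : ℤ) by norm_num, zpow_neg, zpow_natCast,
    show (2 : ℤ) = ((2 : ℕ) : ℤ) by norm_num, zpow_natCast]
  push_cast
  rfl

omit [Fintype K] in
theorem torChi_10 (x y : Kˣ) : torChi x y 10 = ((x ^ 3 * y⁻¹ : Kˣ) : K) := by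
  unfold torChi
  have c : chevG2.cartan 0 10 = 3 ∧ chevG2.cartan 1 10 = -1 := by decide
  rw [c.1, c.2, show (3 : ℤ) = ((3 : ℕ) : ℤ) by norm_num, zpow_natCast, zpow_neg, zpow_one]
  push_cast
  rfl


theorem reeDer_low3 (hK : Fintype.card K = 3 ^ (2 * m + 1)) (v : K) : reeUel m (0, 0, v) ∈ reeDer K m := by
  have hc := ree_charP hK
  have three : (3 : K) = 0 := by
    have := CharP.cast_eq_zero K 3
    exact_mod_cast this
  have h1 := reeDer_comm (m := m) _ _ (reeHm_mem hK (-1 : Kˣ)) (reeUel_mem (m := m) ((0, 0, v) : K × K × K))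
  rw [ree_conj hK, reeUel_low_inv hK, torChi_11] at h1
  simp only [mul_zero, neg_zero, Units.val_neg, Units.val_one] at h1
  rw [reeUel_low_mul hK, add_zero] at h1
  have e : (-1 : K) * v + -v = v := by linear_combination (-v) * three
  rw [e] at h1
  exact h1

theorem reeDer_low2 (hK : Fintype.card K = 3 ^ (2 * m + 1)) (hm : 1 ≤ m) (u : K) :
    reeUel m (0, u, 0) ∈ reeDer K m := by
  have hθ3 : 3 ≤ 3 ^ m := by
    calc 3 = 3 ^ 1 := by norm_num
      _ ≤ 3 ^ m := Nat.pow_le_pow_right (by norm_num) hm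
  have hq : 3 ^ (2 * m + 1) = 3 * 3 ^ m * 3 ^ m := by ring
  obtain ⟨s, hs⟩ := exists_unit_pow_ne_one hK (3 * 3 ^ m - 1) (by omega) (by
    rw [hq]
    have : 3 * 3 ^ m * 3 ≤ 3 * 3 ^ m * 3 ^ m := Nat.mul_le_mul_left _ hθ3
    omega)
  set c := torChi (s ^ 3 ^ m) s 10 with hc
  have hc1 : c ≠ 1 := by
    intro h
    apply hs
    rw [hc, torChi_10] at h
    have h2 : (s ^ 3 ^ m) ^ 3 * s⁻¹ = 1 := Units.ext (by rw [h, Units.val_one])
    have h3 : s ^ (3 * 3 ^ m) = s := by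
      rw [mul_comm 3, pow_mul]
      exact mul_inv_eq_one.1 h2
    have h4 : s ^ (3 * 3 ^ m - 1) * s = s := by
      rw [← pow_succ]
      have : 3 * 3 ^ m - 1 + 1 = 3 * 3 ^ m := by omega
      rw [this, h3]
    exact mul_eq_right.1 h4
  have hc2 : c - 1 ≠ 0 := sub_ne_zero.2 hc1
  have h1 := reeDer_comm (m := m) _ _ (reeHm_mem hK s) (reeUel_mem (m := m) ((0, u / (c - 1), 0) : K × K × K))
  rw [ree_conj hK, reeUel_low_inv hK] at h1
  simp only [mul_zero, neg_zero] at h1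
  rw [reeUel_low_mul hK, add_zero, ← hc] at h1
  have e : c * (u / (c - 1)) + -(u / (c - 1)) = u := by field_simp; ring
  rw [e] at h1
  exact h1

theorem reeDer_tau (hK : Fintype.card K = 3 ^ (2 * m + 1)) (t : K) :
    ∃ y ∈ reeDer K m, y ∈ chevG2.posUnipotent K ∧ y ∈ twistedG2 K (3 ^ m) ∧ tauU y = t := by
  have hθ1 : 1 ≤ 3 ^ m := Nat.one_le_pow _ _ (by norm_num)
  have hq : 3 ^ (2 * m + 1) = 3 * 3 ^ m * 3 ^ m := by ring
  obtain ⟨s, hs⟩ := exists_unit_pow_ne_one hK (3 * 3 ^ m - 2) (by omega) (by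
    rw [hq]
    have : 3 * 3 ^ m * 1 ≤ 3 * 3 ^ m * 3 ^ m := Nat.mul_le_mul_left _ hθ1
    omega)
  set c := torChi (s ^ 3 ^ m) s 6 with hc
  have hc1 : c ≠ 1 := by
    intro h
    apply hs
    rw [hc, torChi_6] at h
    have h2 : ((s ^ 3 ^ m) ^ 3)⁻¹ * s ^ 2 = 1 := Units.ext (by rw [h, Units.val_one])
    have h3 : s ^ (3 * 3 ^ m) = s ^ 2 := by
      rw [mul_comm 3, pow_mul]
      exact (inv_mul_eq_one.1 h2)
    have h4 : s ^ (3 * 3 ^ m - 2) * s ^ 2 = s ^ 2 := by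
      rw [← pow_add]
      have : 3 * 3 ^ m - 2 + 2 = 3 * 3 ^ m := by omega
      rw [this, h3]
    exact mul_eq_right.1 h4
  have hc2 : c - 1 ≠ 0 := sub_ne_zero.2 hc1
  have hx := reeUel_mem (m := m) ((t / (c - 1), 0, 0) : K × K × K)
  have hxU := reeUel_mem_pos (m := m) ((t / (c - 1), 0, 0) : K × K × K)
  have h1 := reeDer_comm (m := m) _ _ (reeHm_mem hK s) hx
  refine ⟨_, h1, ?_, mul_mem (mul_mem (mul_mem (reeHm_mem hK s) hx) (inv_mem (reeHm_mem hK s))) (inv_mem hx), ?_⟩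
  · exact mul_mem (diag_conj_pos _ _ (reeHm_mem_diag _ s) hxU) (inv_mem hxU)
  · rw [tauU_mul _ _ (diag_conj_pos _ _ (reeHm_mem_diag _ s) hxU) (inv_mem hxU), tauU_inv _ hxU, ree_conj hK,
      tauU_reeUel, tauU_reeUel, ← hc]
    simp only
    field_simp
    ring

theorem reeDer_pos (hK : Fintype.card K = 3 ^ (2 * m + 1)) (hm : 1 ≤ m) (p : K × K × K) :
    reeUel m p ∈ reeDer K m := by
  obtain ⟨y, hy, hyU, hyT, hτ⟩ := reeDer_tau hK (m := m) p.1
  have hz : y⁻¹ * reeUel m p ∈ chevG2.posUnipotent K ⊓ twistedG2 K (3 ^ m) :=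
    Subgroup.mem_inf.2 ⟨mul_mem (inv_mem hyU) (reeUel_mem_pos p), mul_mem (inv_mem hyT) (reeUel_mem p)⟩
  obtain ⟨t', u', v', e⟩ := (ree_pos_inf hK _).1 hz
  have e' : y⁻¹ * reeUel m p = reeUel m (t', u', v') := e
  have ht' : t' = 0 := by
    have := congrArg tauU e'
    rw [tauU_mul _ _ (inv_mem hyU) (reeUel_mem_pos p), tauU_inv _ hyU, hτ, tauU_reeUel, tauU_reeUel] at this
    simp only at this
    rw [← this]; ring
  rw [ht'] at e'
  have e2 : reeUel m ((0, u', v') : K × K × K) = reeUel m (0, u', 0) * reeUel m (0, 0, v') := by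
    rw [reeUel_low_mul hK, add_zero, zero_add]
  have e3 : reeUel m p = y * (y⁻¹ * reeUel m p) := by group
  rw [e3, e', e2]
  exact mul_mem hy (mul_mem (reeDer_low2 hK hm u') (reeDer_low3 hK v'))

omit [Fintype K] in
theorem reeV_mem_neg (θ : ℕ) (t u v : K) : wordGL chevG2 hG2 K (reeWordV θ t u v) ∈ chevG2.negUnipotent K := by
  rw [reeWordV_eq]
  apply wordGL_mem
  intro p hp
  simp only [vWord, List.mem_cons, List.not_mem_nil, or_false] at hp
  rcases hp with rfl | rfl | rfl | rfl | rfl | rfl <;>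
    exact Subgroup.subset_closure ⟨_, _, by dsimp only; decide, xGL_coe chevG2 hG2 K _ _⟩

theorem reeDer_neg (hK : Fintype.card K = 3 ^ (2 * m + 1)) (hm : 1 ≤ m) (t u v : K) :
    wordGL chevG2 hG2 K (reeWordV (3 ^ m) t u v) ∈ reeDer K m := by
  set w := wordGL chevG2 hG2 K (reeWordV (3 ^ m) t u v) with hw
  set n := reeNN (3 ^ m) (1 : K) with hn
  have hnT : n ∈ twistedG2 K (3 ^ m) := reeNN_mem _ _
  have hz : n⁻¹ * w * n ∈ chevG2.posUnipotent K ⊓ twistedG2 K (3 ^ m) :=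
    Subgroup.mem_inf.2 ⟨ree_nn_conj_neg hK w (reeV_mem_neg _ t u v),
      mul_mem (mul_mem (inv_mem hnT) (reeV_mem _ t u v)) hnT⟩
  obtain ⟨t', u', v', e⟩ := (ree_pos_inf hK _).1 hz
  have e2 : w = n * (n⁻¹ * w * n) * n⁻¹ := by group
  rw [e2, e]
  exact reeDer_conj _ _ (reeDer_pos hK hm (t', u', v')) hnT

/-- `²G₂(q)` is perfect for `q > 3` -/
theorem ree_perfect_group (hK : Fintype.card K = 3 ^ (2 * m + 1)) (hm : 1 ≤ m) :
    commutator ↥(twistedG2 K (3 ^ m)) = ⊤ := by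
  apply commutator_eq_top_of_reeDer
  intro g hg
  unfold twistedG2 ChevalleyDatum.genSubgroup at hg
  revert g
  show Subgroup.closure _ ≤ reeDer K m
  rw [Subgroup.closure_le]
  rintro g ⟨w, ⟨t, u, v, rfl | rfl⟩, hg⟩
  · have : g = wordGL chevG2 hG2 K (reeWordU (3 ^ m) t u v) := Units.ext (by rw [hg, wordGL_coe])
    rw [this]
    exact reeDer_pos hK hm (t, u, v)
  · have : g = wordGL chevG2 hG2 K (reeWordV (3 ^ m) t u v) := Units.ext (by rw [hg, wordGL_coe])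
    rw [this]
    exact reeDer_neg hK hm t u v


end

end Cfsg.Agent.Lib.Helper36
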