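import Cfsg.Agent.Lib.Helper36.ReeMul2

/-! # The Ree groups `²G₂`: elements of odd order of the torus (helper36) -/

set_option autoImplicit false

namespace Cfsg.Agent.Lib.Helper36

open Cfsg Cfsg.Lie Cfsg.Agent.Lib.Helper18

section
variable {K : Type*} [Field K] [Fintype K] {m : ℕ}

theorem three_pow_odd_mod_four (m : ℕ) : 3 ^ (2 * m + 1) % 4 = 3 := by
  induction m with
  | zero => rfl
  | succ n ih =>
    have : 3 ^ (2 * (n + 1) + 1) = 9 * 3 ^ (2 * n + 1) := by ring
    rw [this]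
    omega

theorem ree_units_card (hK : Fintype.card K = 3 ^ (2 * m + 1)) : Nat.card Kˣ = 3 ^ (2 * m + 1) - 1 := by
  classical
  rw [Nat.card_eq_fintype_card, Fintype.card_units, hK]

theorem ree_neg_one_ne_one (hK : Fintype.card K = 3 ^ (2 * m + 1)) : (-1 : Kˣ) ≠ 1 := by
  have := ree_charP hK
  intro h
  have h' : ((-1 : Kˣ) : K) = ((1 : Kˣ) : K) := by rw [h]
  push_cast at h'
  have h3 : ((3 : ℕ) : K) = 0 := CharP.cast_eq_zero K 3
  have h2 : (1 : K) = 0 := by
    push_cast at h3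
    linear_combination h3 + h'
  exact one_ne_zero h2

/-- the elements of odd order of `Kˣ` are the squares, `(q - 1) / 2` in number -/
theorem ree_units_odd_iff (hK : Fintype.card K = 3 ^ (2 * m + 1)) (s : Kˣ) :
    s ∈ (powMonoidHom 2 : Kˣ →* Kˣ).range ↔ Odd (orderOf s) := by
  constructor
  · rintro ⟨r, rfl⟩
    have h4 := three_pow_odd_mod_four m
    obtain ⟨k, hk⟩ : ∃ k, 3 ^ (2 * m + 1) - 1 = 2 * (2 * k + 1) := ⟨(3 ^ (2 * m + 1) - 1) / 4, by omega⟩
    have h1 : (powMonoidHom 2 r : Kˣ) ^ (2 * k + 1) = 1 := by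
      rw [powMonoidHom_apply, ← pow_mul, ← hk, ← ree_units_card hK]
      exact pow_card_eq_one'
    have h2 := orderOf_dvd_of_pow_eq_one h1
    exact Odd.of_dvd_nat ⟨k, rfl⟩ h2
  · rintro ⟨j, hj⟩
    refine ⟨s ^ (j + 1), ?_⟩
    rw [powMonoidHom_apply, ← pow_mul, show (j + 1) * 2 = (2 * j + 1) + 1 by ring, pow_succ, ← hj,
      pow_orderOf_eq_one, one_mul]

theorem ree_units_odd_card (hK : Fintype.card K = 3 ^ (2 * m + 1)) :
    2 * Nat.card {s : Kˣ // Odd (orderOf s)} = 3 ^ (2 * m + 1) - 1 := by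
  classical
  have hker : Nat.card ↥(powMonoidHom 2 : Kˣ →* Kˣ).ker = 2 := by
    have hset : ((powMonoidHom 2 : Kˣ →* Kˣ).ker : Set Kˣ) = {1, -1} := by
      ext s
      simp only [SetLike.mem_coe, MonoidHom.mem_ker, powMonoidHom_apply, Set.mem_insert_iff, Set.mem_singleton_iff]
      rw [Units.ext_iff, Units.ext_iff, Units.ext_iff]
      push_cast
      exact sq_eq_one_iff
    have : Nat.card ↥(powMonoidHom 2 : Kˣ →* Kˣ).ker = Nat.card ↥((powMonoidHom 2 : Kˣ →* Kˣ).ker : Set Kˣ) := rfl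
    rw [this, hset, Nat.card_coe_set_eq, Set.ncard_pair (ree_neg_one_ne_one hK).symm]
  have h1 := Subgroup.card_mul_index (powMonoidHom 2 : Kˣ →* Kˣ).ker
  rw [Subgroup.index_ker, hker, ree_units_card hK] at h1
  rw [← h1]
  congr 1
  exact Nat.card_congr (Equiv.subtypeEquivRight (fun s => (ree_units_odd_iff hK s).symm))

theorem ree_diag_odd_card (hK : Fintype.card K = 3 ^ (2 * m + 1)) :
    2 * Nat.card {h : ↥(chevG2.diagonalSubgroup K ⊓ twistedG2 K (3 ^ m)) // Odd (orderOf h)} =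
      3 ^ (2 * m + 1) - 1 := by
  rw [← ree_units_odd_card hK]
  congr 1
  refine (Nat.card_congr ((Equiv.ofBijective _ (reeHmap_bijective hK)).subtypeEquiv ?_)).symm
  intro s
  show Odd (orderOf s) ↔ Odd (orderOf (reeHmap hK s))
  rw [orderOf_injective (reeHmap hK) (reeHmap_bijective hK).1 s]

/-- a torus element of odd order centralising a non-trivial element of `U¹` is trivial -/
theorem ree_odd_fixed_point_free (hK : Fintype.card K = 3 ^ (2 * m + 1)) (s : Kˣ) (hs : s ≠ 1)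
    (hodd : Odd (orderOf s)) (p : K × K × K)
    (hc : reeHm (3 ^ m) s * reeUel m p * (reeHm (3 ^ m) s)⁻¹ = reeUel m p) : p = (0, 0, 0) := by
  obtain ⟨t, u, v⟩ := p
  rw [ree_conj hK] at hc
  have h0 := reeUel_inj _ _ hc
  have h1 : torChi (s ^ 3 ^ m) s 6 * t = t := congrArg (fun q : K × K × K => q.1) h0
  have h2 : torChi (s ^ 3 ^ m) s 10 * u = u := congrArg (fun q : K × K × K => q.2.1) h0
  have h3 : torChi (s ^ 3 ^ m) s 11 * v = v := congrArg (fun q : K × K × K => q.2.2) h0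
  rw [torChi_6] at h1
  rw [torChi_10] at h2
  rw [torChi_11] at h3
  -- the key power identity
  have hq : ((s ^ 3 ^ m) ^ 3) ^ (3 ^ m * 3) = s ^ 3 := by
    rw [← pow_mul, ← pow_mul, show 3 ^ m * (3 * (3 ^ m * 3)) = 3 ^ (2 * m + 1) * 3 by ring, pow_mul,
      ree_units_pow_card hK]
  have hv : v = 0 := by
    by_contra hv
    have : ((s : Kˣ) : K) = 1 := by
      have := mul_right_cancel₀ hv (h3.trans (one_mul v).symm)
      exact this
    exact hs (Units.ext this)
  have hu : u = 0 := by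
    by_contra hu
    have e1 : (((s ^ 3 ^ m) ^ 3 * s⁻¹ : Kˣ) : K) = ((1 : Kˣ) : K) := by
      have := mul_right_cancel₀ hu (h2.trans (one_mul u).symm)
      rw [this]; rfl
    have e2 : (s ^ 3 ^ m) ^ 3 = s := by
      have := Units.ext e1
      rwa [mul_inv_eq_one] at this
    have e3 : s ^ 3 = s ^ (3 ^ m * 3) := by
      rw [← hq, e2]
    have e4 : s ^ (3 ^ m * 3) = s := by rw [pow_mul]; exact e2
    rw [e4] at e3
    have e5 : s ^ 2 = 1 := by
      have : s ^ 2 * s = 1 * s := by rw [one_mul, ← pow_succ]; exact e3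
      exact mul_right_cancel this
    have hd := orderOf_dvd_of_pow_eq_one e5
    have h1' : orderOf s = 1 := by
      rcases (Nat.dvd_prime Nat.prime_two).1 hd with h | h
      · exact h
      · rw [h] at hodd; exact absurd hodd (by decide)
    exact hs (orderOf_eq_one_iff.1 h1')
  have ht : t = 0 := by
    by_contra ht
    have e1 : ((((s ^ 3 ^ m) ^ 3)⁻¹ * s ^ 2 : Kˣ) : K) = ((1 : Kˣ) : K) := by
      have := mul_right_cancel₀ ht (h1.trans (one_mul t).symm)
      rw [this]; rfl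
    have e2 : (s ^ 3 ^ m) ^ 3 = s ^ 2 := by
      have := Units.ext e1
      rw [inv_mul_eq_one] at this
      exact this
    have e3 : s ^ 3 = (s ^ 2) ^ (3 ^ m * 3) := by
      rw [← hq, e2]
    have e4 : (s ^ 2) ^ (3 ^ m * 3) = s ^ 4 := by
      rw [← pow_mul, mul_comm, pow_mul, pow_mul, e2, ← pow_mul]
    rw [e4] at e3
    have e5 : s = 1 := by
      have : s ^ 3 * 1 = s ^ 3 * s := by rw [mul_one, ← pow_succ]; exact e3
      exact (mul_left_cancel this).symm
    exact hs e5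
  rw [ht, hu, hv]

end

end Cfsg.Agent.Lib.Helper36
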