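import Cfsg.Agent.Lib.Helper36.ChevPoin
import Cfsg.Agent.S0308
import Cfsg.Agent.S0309

/-! # Counting the Bruhat cells of a finite Chevalley group (helper36) -/

set_option autoImplicit false

namespace Cfsg.Agent.Lib.Helper36

open Cfsg Cfsg.Lie Cfsg.Agent.Lib.Helper18

variable (D : ChevalleyDatum) (hD : D ∈ [chevG2, chevB2, chevD4, chevF4, chevE6, chevE7, chevE8])
variable (F : Type*) [Field F]

/-- the double coset `B n B` -/
def cell (n : GL D.Idx F) : Set (GL D.Idx F) := {g | InBnB D F g n}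

theorem cell_mul_right (n h : GL D.Idx F) (hh : h ∈ D.borelSubgroup F) : cell D F (n * h) = cell D F n := by
  ext g
  constructor
  · rintro ⟨b1, hb1, b2, hb2, rfl⟩
    exact ⟨b1, hb1, h * b2, mul_mem hh hb2, by group⟩
  · rintro ⟨b1, hb1, b2, hb2, rfl⟩
    exact ⟨b1, hb1, h⁻¹ * b2, mul_mem (inv_mem hh) hb2, by group⟩

theorem cell_mul_left (n h : GL D.Idx F) (hh : h ∈ D.borelSubgroup F) : cell D F (h * n) = cell D F n := by
  ext g
  constructor
  · rintro ⟨b1, hb1, b2, hb2, rfl⟩
    exact ⟨b1 * h, mul_mem hb1 hh, b2, hb2, by group⟩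
  · rintro ⟨b1, hb1, b2, hb2, rfl⟩
    exact ⟨b1 * h⁻¹, mul_mem hb1 (inv_mem hh), b2, hb2, by group⟩

theorem cell_one : cell D F 1 = (D.borelSubgroup F : Set (GL D.Idx F)) := by
  ext g
  constructor
  · rintro ⟨b1, hb1, b2, hb2, rfl⟩
    exact mul_mem (mul_mem hb1 (one_mem _)) hb2
  · intro hg
    exact ⟨g, hg, 1, one_mem _, by group⟩

theorem mul_mem_cell (n b g : GL D.Idx F) (hb : b ∈ D.borelSubgroup F) (hg : g ∈ cell D F n) :
    b * g ∈ cell D F n := by
  obtain ⟨b1, hb1, b2, hb2, rfl⟩ := hg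
  exact ⟨b * b1, mul_mem hb hb1, b2, hb2, by group⟩

include hD in
theorem cell_subset_group (n : GL D.Idx F) (hn : n ∈ D.monomialSubgroup F) :
    cell D F n ⊆ (D.group F : Set (GL D.Idx F)) := by
  rintro g ⟨b1, hb1, b2, hb2, rfl⟩
  exact mul_mem (mul_mem (borel_le_group D hD F hb1) (monomial_le_group D hD F hn)) (borel_le_group D hD F hb2)

include hD in
/-- Bruhat decomposition, existence -/
theorem bruhat_exists (h45 : ∀ i < D.rank, H45 D F i) (g : GL D.Idx F) (hg : g ∈ D.group F) :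
    ∃ n ∈ D.monomialSubgroup F, g ∈ cell D F n := by
  obtain ⟨P, hB, hN, -⟩ := exists_bnPair D hD F h45
  obtain ⟨n, hn, hgn⟩ := Cfsg.Agent.S0308.result P ⟨g, hg⟩
  rw [hN, Subgroup.mem_subgroupOf] at hn
  rw [DoubleCoset.mem_doubleCoset] at hgn
  obtain ⟨b, hb, b', hb', e⟩ := hgn
  rw [SetLike.mem_coe, hB, Subgroup.mem_subgroupOf] at hb hb'
  exact ⟨n, hn, b, hb, b', hb', congrArg Subtype.val e⟩

include hD in
/-- Bruhat decomposition, uniqueness -/
theorem bruhat_unique' (h45 : ∀ i < D.rank, H45 D F i) (n n' g : GL D.Idx F)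
    (hn : n ∈ D.monomialSubgroup F) (hn' : n' ∈ D.monomialSubgroup F)
    (hg : g ∈ cell D F n) (hg' : g ∈ cell D F n') : n⁻¹ * n' ∈ D.diagonalSubgroup F := by
  obtain ⟨P, hB, hN, -⟩ := exists_bnPair D hD F h45
  have hBG := borel_le_group D hD F
  have hNG := monomial_le_group D hD F
  obtain ⟨b1, hb1, b2, hb2, e⟩ := hg
  obtain ⟨c1, hc1, c2, hc2, e'⟩ := hg'
  have hgG : g ∈ D.group F := by
    rw [e]; exact mul_mem (mul_mem (hBG hb1) (hNG hn)) (hBG hb2)
  have hmem1 : (⟨g, hgG⟩ : ↥(D.group F)) ∈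
      DoubleCoset.doubleCoset (⟨n, hNG hn⟩ : ↥(D.group F)) (P.B : Set ↥(D.group F)) P.B := by
    rw [DoubleCoset.mem_doubleCoset]
    refine ⟨⟨b1, hBG hb1⟩, ?_, ⟨b2, hBG hb2⟩, ?_, Subtype.ext e⟩
    · rw [SetLike.mem_coe, hB, Subgroup.mem_subgroupOf]; exact hb1
    · rw [SetLike.mem_coe, hB, Subgroup.mem_subgroupOf]; exact hb2
  have hmem2 : (⟨g, hgG⟩ : ↥(D.group F)) ∈
      DoubleCoset.doubleCoset (⟨n', hNG hn'⟩ : ↥(D.group F)) (P.B : Set ↥(D.group F)) P.B := by
    rw [DoubleCoset.mem_doubleCoset]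
    refine ⟨⟨c1, hBG hc1⟩, ?_, ⟨c2, hBG hc2⟩, ?_, Subtype.ext e'⟩
    · rw [SetLike.mem_coe, hB, Subgroup.mem_subgroupOf]; exact hc1
    · rw [SetLike.mem_coe, hB, Subgroup.mem_subgroupOf]; exact hc2
  have heq := (DoubleCoset.doubleCoset_eq_of_mem hmem1).symm.trans (DoubleCoset.doubleCoset_eq_of_mem hmem2)
  have h9 := (Cfsg.Agent.S0309.result P (n := ⟨n, hNG hn⟩) (n' := ⟨n', hNG hn'⟩)
    (by rw [hN, Subgroup.mem_subgroupOf]; exact hn) (by rw [hN, Subgroup.mem_subgroupOf]; exact hn')).1 heq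
  rw [hB, Subgroup.mem_subgroupOf] at h9
  rw [← borel_inf_monomial D hD F]
  exact Subgroup.mem_inf.2 ⟨h9, mul_mem (inv_mem hn) hn'⟩

include hD in
theorem step_mem (i : ℕ) (hi : i < D.rank) (h45 : H45 D F i) (l : List ℕ) (hl : ∀ j ∈ l, j < D.rank)
    (hpos : D.IsPosRoot (wRoot D l.reverse (D.simple i))) (b y : GL D.Idx F) (hb : b ∈ D.borelSubgroup F)
    (hy : y ∈ cell D F (nWordGL D hD F l)) :
    nGL D hD F (D.simple i) 1 * b * y ∈ cell D F (nGL D hD F (D.simple i) 1 * nWordGL D hD F l) := by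
  obtain ⟨b3, hb3, b4, hb4, rfl⟩ := hy
  obtain ⟨c1, hc1, c2, hc2, e⟩ := bn4_pos D hD F i hi h45 l hl hpos 1 (one_mem _) (b * b3) (mul_mem hb hb3)
  rw [mul_one, mul_one] at e
  refine ⟨c1, hc1, c2 * b4, mul_mem hc2 hb4, ?_⟩
  calc nGL D hD F (D.simple i) 1 * b * (b3 * nWordGL D hD F l * b4)
      = (nGL D hD F (D.simple i) 1 * (b * b3) * nWordGL D hD F l) * b4 := by group
    _ = _ := by rw [e]; group

include hD in
theorem nS_not_mem_diag (i : ℕ) (hi : i < D.rank) : nGL D hD F (D.simple i) 1 ∉ D.diagonalSubgroup F := by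
  intro h
  have hp := (chkN2_spec D (chkN2_all D hD) i hi).1
  have hl : ∀ k ∈ [i], k < D.rank := by
    intro k hk
    rw [List.mem_singleton] at hk
    rw [hk]; exact hi
  have hw : nWordGL D hD F [i] ∈ D.diagonalSubgroup F := by
    have e : nWordGL D hD F [i] = nGL D hD F (D.simple i) 1 := by simp [nWordGL]
    rw [e]; exact h
  have h1 := wPerm_eq_of_mem_diagonal D hD F [i] hl hw ⟨D.simple i, hp⟩
  have h2 := wPerm_val D hD [i] hl ⟨D.simple i, hp⟩
  rw [h1] at h2
  have h3 : wRoot D [i] (D.simple i) = D.neg (D.simple i) := reflectRoot_simple D i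
  rw [h3] at h2
  have h4 := cor_neg D hD _ hp i hi
  rw [← show D.simple i = D.neg (D.simple i) from h2, cor_simple D hD i i hi hi, if_pos rfl] at h4
  omega

include hD in
theorem conj_x_mem (i : ℕ) (hi : i < D.rank) (c : F) (hc : c ≠ 0) :
    ∃ b1 ∈ D.borelSubgroup F, ∃ b2 ∈ D.borelSubgroup F,
      (nGL D hD F (D.simple i) 1)⁻¹ * xGL D hD F (D.simple i) c * nGL D hD F (D.simple i) 1 =
        b1 * nGL D hD F (D.simple i) 1 * b2 := by
  have hp := (chkN2_spec D (chkN2_all D hD) i hi).1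
  have hl : ∀ k ∈ [i], k < D.rank := by
    intro k hk
    rw [List.mem_singleton] at hk
    rw [hk]; exact hi
  obtain ⟨ε, e3⟩ := xGL_mul_nWordGL D hD F [i] hl (D.simple i) hp
  have ew : nWordGL D hD F [i] = nGL D hD F (D.simple i) 1 := by simp [nWordGL]
  have hr : wRoot D [i].reverse (D.simple i) = D.neg (D.simple i) := reflectRoot_simple D i
  rw [ew, hr] at e3
  have hε : ε ≠ 0 := by
    intro h0
    have := e3 1
    rw [h0, zero_mul, xGL_zero, mul_one] at this
    have h1 : xGL D hD F (D.simple i) 1 = 1 := by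
      apply mul_right_cancel (b := nGL D hD F (D.simple i) 1)
      rw [one_mul]
      exact this
    have h2 : D.x F (D.simple i) 1 = 1 := by rw [← xGL_coe D hD F, h1, Units.val_one]
    exact one_ne_zero (x_eq_one_iff D hD F _ hp 1 h2)
  have e4 : (nGL D hD F (D.simple i) 1)⁻¹ * xGL D hD F (D.simple i) c * nGL D hD F (D.simple i) 1 =
      xGL D hD F (D.neg (D.simple i)) (ε * c) := by
    rw [mul_assoc, e3 c]; group
  have hne : ε * c ≠ 0 := mul_ne_zero hε hc
  have e5 := xGL_neg_eq D hD F (D.simple i) (-(ε * c))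
  rw [neg_neg] at e5
  rw [e4, e5, nGL_eq_hGL_mul D hD F (D.simple i) (-(ε * c))⁻¹]
  refine ⟨xGL D hD F (D.simple i) (-(-(ε * c))⁻¹) * hGL D hD F (D.simple i) (-(ε * c))⁻¹, ?_,
    xGL D hD F (D.simple i) (-(-(ε * c))⁻¹), ?_, by group⟩
  · exact mul_mem (pos_le_borel D F (xGL_mem_pos D hD F _ (simple_pos D hD i hi) _))
      (diagonal_le_borel D F (hGL_mem_diag D hD F _ hp _ (inv_ne_zero (neg_ne_zero.2 hne))))
  · exact pos_le_borel D F (xGL_mem_pos D hD F _ (simple_pos D hD i hi) _)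

include hD in
/-- the cell of `n_i n_w` has `q` times as many elements as the cell of `n_w` when `w⁻¹(p_i) > 0` -/
theorem cell_pos [Fintype F] (h45 : ∀ i < D.rank, H45 D F i) (i : ℕ) (hi : i < D.rank) (l : List ℕ)
    (hl : ∀ j ∈ l, j < D.rank) (hpos : D.IsPosRoot (wRoot D l.reverse (D.simple i))) :
    (cell D F (nGL D hD F (D.simple i) 1 * nWordGL D hD F l)).ncard =
      Fintype.card F * (cell D F (nWordGL D hD F l)).ncard := by
  set nI := nGL D hD F (D.simple i) 1 with hnI
  set nw := nWordGL D hD F l with hnw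
  have hαpos := simple_pos D hD i hi
  have hxB : ∀ t : F, xGL D hD F (D.simple i) t ∈ D.borelSubgroup F := fun t =>
    pos_le_borel D F (xGL_mem_pos D hD F _ hαpos t)
  have hnIN : nI ∈ D.monomialSubgroup F := nS_mem_monomial D hD F i hi
  have hnwN : nw ∈ D.monomialSubgroup F := nWordGL_mem D hD F l hl
  have hmem : ∀ (t : F) (y : GL D.Idx F), y ∈ cell D F nw →
      xGL D hD F (D.simple i) t * nI * y ∈ cell D F (nI * nw) := by
    intro t y hy
    have h1 := step_mem D hD F i hi (h45 i hi) l hl hpos 1 y (one_mem _) hy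
    rw [mul_one] at h1
    have h2 := mul_mem_cell D F _ (xGL D hD F (D.simple i) t) _ (hxB t) h1
    rwa [← mul_assoc] at h2
  let φ : F × ↥(cell D F nw) → ↥(cell D F (nI * nw)) := fun p =>
    ⟨xGL D hD F (D.simple i) p.1 * nI * p.2, hmem p.1 p.2 p.2.2⟩
  have hinj : Function.Injective φ := by
    rintro ⟨t, y, hy⟩ ⟨t', y', hy'⟩ e
    have e' : xGL D hD F (D.simple i) t * nI * y = xGL D hD F (D.simple i) t' * nI * y' :=
      congrArg Subtype.val e
    by_cases htt : t = t'
    · subst htt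
      have : y = y' := mul_left_cancel e'
      subst this
      rfl
    · exfalso
      have hc : t - t' ≠ 0 := sub_ne_zero.2 htt
      obtain ⟨b1, hb1, b2, hb2, ev⟩ := conj_x_mem D hD F i hi (t - t') hc
      have ey' : y' = (nI⁻¹ * xGL D hD F (D.simple i) (t - t') * nI) * y := by
        have hx : xGL D hD F (D.simple i) (t - t') =
            (xGL D hD F (D.simple i) t')⁻¹ * xGL D hD F (D.simple i) t := by
          rw [xGL_inv, ← xGL_add]
          congr 1
          ring
        rw [hx]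
        calc y' = nI⁻¹ * (xGL D hD F (D.simple i) t')⁻¹ * (xGL D hD F (D.simple i) t' * nI * y') := by group
          _ = _ := by rw [← e']; group
      rw [ev] at ey'
      have h1 : y' ∈ cell D F (nI * nw) := by
        rw [ey']
        have h3 := step_mem D hD F i hi (h45 i hi) l hl hpos b2 y hb2 hy
        have h4 := mul_mem_cell D F _ b1 _ hb1 h3
        convert h4 using 1
        group
      have h2 := bruhat_unique' D hD F h45 nw (nI * nw) y' hnwN (mul_mem hnIN hnwN) hy' h1
      have h3 := conj_mem_diag_of_mem_monomial D hD F nw _ hnwN h2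
      have e5 : nw * (nw⁻¹ * (nI * nw)) * nw⁻¹ = nI := by group
      rw [e5] at h3
      exact nS_not_mem_diag D hD F i hi h3
  have hsurj : Function.Surjective φ := by
    rintro ⟨z, b1, hb1, b2, hb2, rfl⟩
    obtain ⟨u, hu, h, hh, rfl⟩ := (mem_borel_iff D hD F b1).1 hb1
    obtain ⟨u', hu', s, es⟩ := U_decomp D hD F i (h45 i hi) u⁻¹ (inv_mem hu)
    have eu : u = xGL D hD F (D.simple i) (-s) * u'⁻¹ := by
      have : u = (u⁻¹)⁻¹ := (inv_inv u).symm
      rw [this, es, mul_inv_rev, xGL_inv]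
    have hn := nGL_mem_normalizer_Usub D hD F i (h45 i hi)
    have hu'' : nI⁻¹ * u'⁻¹ * nI ∈ D.borelSubgroup F := by
      have := (Subgroup.mem_normalizer_iff.1 (inv_mem hn) u'⁻¹).1 (inv_mem hu')
      rw [inv_inv] at this
      exact pos_le_borel D F (Usub_le D F i this)
    have hh' : nI⁻¹ * h * nI ∈ D.borelSubgroup F :=
      diagonal_le_borel D F (conj_mem_diag_of_mem_monomial' D hD F nI h hnIN hh)
    refine ⟨(-s, ⟨(nI⁻¹ * u'⁻¹ * nI) * (nI⁻¹ * h * nI) * nw * b2,
      (nI⁻¹ * u'⁻¹ * nI) * (nI⁻¹ * h * nI), mul_mem hu'' hh', b2, hb2, rfl⟩), ?_⟩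
    apply Subtype.ext
    show xGL D hD F (D.simple i) (-s) * nI * ((nI⁻¹ * u'⁻¹ * nI) * (nI⁻¹ * h * nI) * nw * b2) =
      u * h * (nI * nw) * b2
    rw [eu]
    group
  rw [← Nat.card_coe_set_eq, ← Nat.card_coe_set_eq, ← Nat.card_eq_fintype_card, ← Nat.card_prod]
  exact (Nat.card_congr (Equiv.ofBijective φ ⟨hinj, hsurj⟩)).symm

section count
variable (M : CoxeterMatrix (Fin D.rank)) (A : Matrix (Fin D.rank) (Fin D.rank) ℤ)
  (hA : M.IsLiftable (reflMat A)) (hAc : ∀ i j : Fin D.rank, A i j = D.cartan j (D.simple i))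

/-- the number of positive roots made negative by an element of the Weyl group -/
noncomputable def invW (w : M.Group) : ℕ :=
  @invN M.Group _ (Fin D.nroots) (rootAct D hD M A hA hAc) (fun r => D.IsPosRoot r) w

theorem negFin_negFin (r : Fin D.nroots) : negFin D hD (negFin D hD r) = r := by
  apply cvec_injective D hD
  rw [cvec_negFin, cvec_negFin, neg_neg]

theorem invW_one : invW D hD M A hA hAc 1 = 0 := by
  let _ := rootAct D hD M A hA hAc
  unfold invW invN
  rw [Set.ncard_eq_zero (Set.toFinite _)]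
  ext r
  simp

theorem invW_simple_mul (i : Fin D.rank) (w : M.Group) :
    (D.IsPosRoot (piW D hD M A hA hAc w⁻¹ ⟨D.simple i, (chkN2_spec D (chkN2_all D hD) i i.isLt).1⟩) →
      invW D hD M A hA hAc (M.simple i * w) = invW D hD M A hA hAc w + 1) ∧
    (¬ D.IsPosRoot (piW D hD M A hA hAc w⁻¹ ⟨D.simple i, (chkN2_spec D (chkN2_all D hD) i i.isLt).1⟩) →
      invW D hD M A hA hAc (M.simple i * w) + 1 = invW D hD M A hA hAc w) := by
  let _ := rootAct D hD M A hA hAc
  have hsm : ∀ (w : M.Group) (r : Fin D.nroots), w • r = piW D hD M A hA hAc w r := fun _ _ => rfl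
  exact invN_refl_mul (W := M.Group) (Φ := Fin D.nroots) (pos := fun r => D.IsPosRoot r)
    (neg := negFin D hD) (pos_negFin D hD)
    (fun w r => by rw [hsm, hsm]; exact piW_negFin D hD M A hA hAc w r)
    (negFin_negFin D hD)
    (M.simple i) ⟨D.simple i, (chkN2_spec D (chkN2_all D hD) i i.isLt).1⟩
    (simple_sq M i) (simple_pos D hD i i.isLt)
    (by
      rw [hsm, piW_simple]
      apply Fin.ext
      rw [wFin_eq_reflect D hD]
      exact reflectRoot_simple D i)
    (fun r hr hne => by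
      rw [hsm, piW_simple, wFin_eq_reflect D hD]
      exact reflect_pos D hD i r i.isLt hr (fun h => hne (Fin.ext h)))
    w

theorem piW_inv_simple_val (ω : List (Fin D.rank)) (i : Fin D.rank) :
    ((piW D hD M A hA hAc (M.toCoxeterSystem.wordProd ω)⁻¹
      ⟨D.simple i, (chkN2_spec D (chkN2_all D hD) i i.isLt).1⟩ : Fin D.nroots) : ℕ) =
      wRoot D (ω.map Fin.val).reverse (D.simple i) := by
  rw [← CoxeterSystem.wordProd_reverse, piW_wordProd, List.map_reverse]
  apply wPerm_val D hD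
  intro j hj
  obtain ⟨k, -, rfl⟩ := List.mem_map.1 (List.mem_reverse.1 hj)
  exact k.isLt

include hD in
theorem nWordGL_cons (i : ℕ) (l : List ℕ) :
    nWordGL D hD F (i :: l) = nGL D hD F (D.simple i) 1 * nWordGL D hD F l := by
  simp [nWordGL]

/-- the size of a Bruhat cell -/
theorem cell_word [Fintype F] (h45 : ∀ i < D.rank, H45 D F i) (ω : List (Fin D.rank)) :
    (cell D F (nWordGL D hD F (ω.map Fin.val))).ncard =
      Nat.card (D.borelSubgroup F) * Fintype.card F ^ invW D hD M A hA hAc (M.toCoxeterSystem.wordProd ω) := by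
  have hq : 0 < Fintype.card F := Fintype.card_pos
  induction ω with
  | nil =>
    have e : nWordGL D hD F (([] : List (Fin D.rank)).map Fin.val) = 1 := by simp [nWordGL]
    rw [e, cell_one, CoxeterSystem.wordProd_nil, invW_one, pow_zero, mul_one]
    rfl
  | cons i ω ih =>
    have hl : ∀ j ∈ ω.map Fin.val, j < D.rank := by
      intro j hj
      obtain ⟨k, -, rfl⟩ := List.mem_map.1 hj
      exact k.isLt
    have hlr : ∀ j ∈ (ω.map Fin.val).reverse, j < D.rank := fun j hj => hl j (List.mem_reverse.1 hj)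
    have hp := (chkN2_spec D (chkN2_all D hD) i i.isLt).1
    obtain ⟨h1, h2⟩ := invW_simple_mul D hD M A hA hAc i (M.toCoxeterSystem.wordProd ω)
    have hval := piW_inv_simple_val D hD M A hA hAc ω i
    rw [List.map_cons, nWordGL_cons, CoxeterSystem.wordProd_cons]
    have hrlt : wRoot D (ω.map Fin.val).reverse (D.simple i) < D.nroots := wRoot_lt D hD _ hlr _ hp
    rcases pos_or_neg D hD _ hrlt with hpos | hneg
    · rw [cell_pos D hD F h45 i i.isLt _ hl hpos, ih]
      have := h1 (by rw [hval]; exact hpos)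
      rw [show M.toCoxeterSystem.simple i = M.simple i from rfl, this, pow_succ]
      ring
    · have hnp : ¬ D.IsPosRoot (wRoot D (ω.map Fin.val).reverse (D.simple i)) :=
        fun h => not_pos_and_neg D hD _ h hneg
      have e2 := h2 (by rw [hval]; exact hnp)
      have hl' : ∀ j ∈ (i : ℕ) :: ω.map Fin.val, j < D.rank := by
        intro j hj
        rcases List.mem_cons.1 hj with rfl | hj
        · exact i.isLt
        · exact hl j hj
      have hpos' : D.IsPosRoot (wRoot D ((i : ℕ) :: ω.map Fin.val).reverse (D.simple i)) := by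
        rw [List.reverse_cons, wRoot_append]
        show D.IsPosRoot (wRoot D (ω.map Fin.val).reverse (D.reflectRoot i (D.simple i)))
        rw [reflectRoot_simple, wRoot_neg D hD _ hlr _ hp]
        exact isPosRoot_neg D hD _ hneg
      have e3 := cell_pos D hD F h45 i i.isLt _ hl' hpos'
      rw [nWordGL_cons, ← mul_assoc,
        cell_mul_left D F _ _ (diagonal_le_borel D F (nS_sq_mem_diag D hD F i i.isLt)), ih] at e3
      rw [show M.toCoxeterSystem.simple i = M.simple i from rfl]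
      rw [← e2, pow_succ] at e3
      apply Nat.eq_of_mul_eq_mul_left hq
      rw [← e3]
      ring

variable (hker : ∀ w : M.Group, rho M A hA w = 1 → w = 1)
  (hbraid : ∀ i j : Fin D.rank, chkBraid D (M i j) i j = true)

include hker hbraid hAc in
/-- `|G| = |B| ∑_w q^{N(w)}` -/
theorem card_group [Fintype F] (hfin : Finite M.Group) (h45 : ∀ i < D.rank, H45 D F i) :
    Nat.card (D.group F) = Nat.card (D.borelSubgroup F) *
      poinW D hD M A hA hAc hfin (Fintype.card F) Set.univ := by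
  classical
  have hnorm : ((D.diagonalSubgroup F).subgroupOf (D.monomialSubgroup F)).Normal :=
    (Subgroup.normal_subgroupOf_iff_le_normalizer (diagonal_le_monomial D F)).2 (monomial_le_normalizer D hD F)
  let q := QuotientGroup.mk' ((D.diagonalSubgroup F).subgroupOf (D.monomialSubgroup F))
  have hq : q.ker = (D.diagonalSubgroup F).subgroupOf (D.monomialSubgroup F) := QuotientGroup.ker_mk' _
  have hinj := psi_injective D hD F q hq M hbraid A hA hAc hker
  have hpsi := psi_wordProd D hD F q hq M hbraid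
  have hHB := diagonal_le_borel D F
  -- same Weyl group element, same cell
  have hmk : ∀ ω ω' : List (Fin D.rank), q (nWd D hD F ω) = q (nWd D hD F ω') ↔
      (nWordGL D hD F (ω.map Fin.val))⁻¹ * nWordGL D hD F (ω'.map Fin.val) ∈ D.diagonalSubgroup F := by
    intro ω ω'
    rw [← inv_mul_eq_one, ← map_inv, ← map_mul, ← MonoidHom.mem_ker, hq, Subgroup.mem_subgroupOf]
    rfl
  have hsame : ∀ ω ω' : List (Fin D.rank),
      M.toCoxeterSystem.wordProd ω = M.toCoxeterSystem.wordProd ω' →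
      cell D F (nWordGL D hD F (ω'.map Fin.val)) = cell D F (nWordGL D hD F (ω.map Fin.val)) := by
    intro ω ω' h
    have h1 : q (nWd D hD F ω) = q (nWd D hD F ω') := by rw [← hpsi, ← hpsi, h]
    have h2 := (hmk ω ω').1 h1
    rw [← cell_mul_right D F (nWordGL D hD F (ω.map Fin.val)) _ (hHB h2)]
    congr 1
    group
  have hwl : ∀ ω : List (Fin D.rank), ∀ j ∈ ω.map Fin.val, j < D.rank := by
    intro ω j hj
    obtain ⟨k, -, rfl⟩ := List.mem_map.1 hj
    exact k.isLt
  have hmeet : ∀ (ω ω' : List (Fin D.rank)) (g : GL D.Idx F),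
      g ∈ cell D F (nWordGL D hD F (ω.map Fin.val)) → g ∈ cell D F (nWordGL D hD F (ω'.map Fin.val)) →
      M.toCoxeterSystem.wordProd ω = M.toCoxeterSystem.wordProd ω' := by
    intro ω ω' g hg hg'
    have h2 := bruhat_unique' D hD F h45 _ _ g (nWordGL_mem D hD F _ (hwl ω)) (nWordGL_mem D hD F _ (hwl ω')) hg hg'
    apply hinj
    rw [hpsi, hpsi]
    exact (hmk ω ω').2 h2
  -- a word for every element
  have hword : ∀ w : M.Group, ∃ ω : List (Fin D.rank), M.toCoxeterSystem.wordProd ω = w :=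
    fun w => M.toCoxeterSystem.wordProd_surjective w
  choose ωw hωw using hword
  let c : M.Group → Set (GL D.Idx F) := fun w => cell D F (nWordGL D hD F ((ωw w).map Fin.val))
  have hG : (D.group F : Set (GL D.Idx F)) = ⋃ w, c w := by
    ext g
    simp only [Set.mem_iUnion, SetLike.mem_coe]
    constructor
    · intro hg
      obtain ⟨n, hn, hgn⟩ := bruhat_exists D hD F h45 g hg
      obtain ⟨l, hl, h, hh, rfl⟩ := exists_word_of_mem_monomial D hD F n hn
      rw [cell_mul_right D F _ _ (hHB hh)] at hgn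
      have el : (l.pmap Fin.mk hl).map Fin.val = l := by
        rw [List.map_pmap]
        simp
      refine ⟨M.toCoxeterSystem.wordProd (l.pmap Fin.mk hl), ?_⟩
      show g ∈ cell D F _
      rw [hsame (l.pmap Fin.mk hl) (ωw _) (hωw _).symm, el]
      exact hgn
    · rintro ⟨w, hw⟩
      exact cell_subset_group D hD F _ (nWordGL_mem D hD F _ (hwl _)) hw
  have hdisj : ∀ w w' : M.Group, w ≠ w' → Disjoint (c w) (c w') := by
    intro w w' hne
    rw [Set.disjoint_left]
    intro g hg hg'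
    apply hne
    rw [← hωw w, ← hωw w']
    exact hmeet _ _ g hg hg'
  have : Fintype M.Group := Fintype.ofFinite _
  have hcard : (D.group F : Set (GL D.Idx F)).ncard = ∑ w : M.Group, (c w).ncard := by
    rw [hG]
    have e1 : (Set.toFinite (⋃ w, c w)).toFinset =
        Finset.univ.biUnion fun w => (Set.toFinite (c w)).toFinset := by
      ext g
      simp
    rw [Set.ncard_eq_toFinset_card _ (Set.toFinite _), e1, Finset.card_biUnion]
    · apply Finset.sum_congr rfl
      intro w _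
      exact (Set.ncard_eq_toFinset_card _ _).symm
    · intro w _ w' _ hne
      show Disjoint _ _
      rw [Finset.disjoint_left]
      intro g hg hg'
      rw [Set.Finite.mem_toFinset] at hg hg'
      exact Set.disjoint_left.1 (hdisj w w' hne) hg hg'
  rw [← Nat.card_coe_set_eq] at hcard
  rw [show Nat.card ↥(D.group F) = Nat.card ↥(D.group F : Set (GL D.Idx F)) from rfl, hcard]
  unfold poinW poin
  rw [Finset.mul_sum]
  have e2 : (Set.toFinite (Set.univ : Set M.Group)).toFinset = Finset.univ := by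
    ext w
    simp
  rw [e2]
  apply Finset.sum_congr rfl
  intro w _
  show (cell D F _).ncard = _
  rw [cell_word D hD F M A hA hAc h45, hωw]
  rfl

end count

include hD in
/-- `|B| = |U| |H|` -/
theorem card_borel : Nat.card (D.borelSubgroup F) = Nat.card (D.posUnipotent F) * Nat.card (D.diagonalSubgroup F) := by
  rw [← Nat.card_prod]
  symm
  let φ : ↥(D.posUnipotent F) × ↥(D.diagonalSubgroup F) → ↥(D.borelSubgroup F) := fun p =>
    ⟨(p.1 : GL D.Idx F) * (p.2 : GL D.Idx F),
      mul_mem (pos_le_borel D F p.1.2) (diagonal_le_borel D F p.2.2)⟩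
  apply Nat.card_congr (Equiv.ofBijective φ ⟨?_, ?_⟩)
  · rintro ⟨⟨u, hu⟩, ⟨h, hh⟩⟩ ⟨⟨u', hu'⟩, ⟨h', hh'⟩⟩ e
    have e' : u * h = u' * h' := congrArg Subtype.val e
    have h1 : u'⁻¹ * u = h' * h⁻¹ := by
      have : u = u' * h' * h⁻¹ := by rw [← e']; group
      rw [this]; group
    have h2 : u'⁻¹ * u ∈ D.posUnipotent F ⊓ D.diagonalSubgroup F :=
      Subgroup.mem_inf.2 ⟨mul_mem (inv_mem hu') hu, by rw [h1]; exact mul_mem hh' (inv_mem hh)⟩
    rw [pos_inf_diagonal D hD F, Subgroup.mem_bot] at h2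
    have hu1 : u = u' := by
      rw [inv_mul_eq_one] at h2
      exact h2.symm
    subst hu1
    have hh1 : h = h' := mul_left_cancel e'
    subst hh1
    rfl
  · rintro ⟨b, hb⟩
    obtain ⟨u, hu, h, hh, e⟩ := (mem_borel_iff D hD F b).1 hb
    exact ⟨(⟨u, hu⟩, ⟨h, hh⟩), Subtype.ext e⟩

section gen
variable (n : ℕ) (hn : D.rank = n) (M : CoxeterMatrix (Fin n)) (A : Matrix (Fin n) (Fin n) ℤ)
  (hA : M.IsLiftable (reflMat A))
  (hAc : ∀ i j : Fin n, A i j = D.cartan j (D.simple i)) (hfin : Finite M.Group)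
  (hker : ∀ w : M.Group, rho M A hA w = 1 → w = 1)
  (hbraid : ∀ i j : Fin n, chkBraid D (M i j) i j = true)

include hker hbraid in
/-- `|G| = |U| |H| ∑_w q^{N(w)}` -/
theorem card_group' [Fintype F] (h45 : ∀ i < D.rank, H45 D F i) :
    Nat.card (D.group F) = Nat.card (D.posUnipotent F) * Nat.card (D.diagonalSubgroup F) *
      poinW' D hD n hn M A hA hAc hfin (Fintype.card F) Set.univ := by
  subst hn
  rw [← card_borel D hD F]
  exact card_group D hD F M A hA hAc hker hbraid hfin h45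

end gen

end Cfsg.Agent.Lib.Helper36
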