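import Cfsg.Agent.Lib.Helper36.ChevFieldFix
import Cfsg.Prelude.Def_ChevAutomorphisms

/-! # Fixed points of a field automorphism on a finite Chevalley group: the isomorphism (helper36) -/

set_option autoImplicit false

namespace Cfsg.Agent.Lib.Helper36

open Cfsg Cfsg.Lie Cfsg.Agent.Lib.Helper18 Module

/-- the fixed field of an automorphism of a finite field, as a field in `Type` -/
theorem galois_part {F : Type*} [Field F] [Fintype F] (σ : F ≃+* F) (r : ℕ) (hr : orderOf σ = r) :
    ∃ (F₀ : Type) (_ : Field F₀) (_ : Fintype F₀) (ι : F₀ →+* F), Fintype.card F = Fintype.card F₀ ^ r ∧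
      (∀ t : F, σ t = t → ∃ s, ι s = t) ∧ (∀ s, σ (ι s) = ι s) := by
  classical
  let G : Subgroup (RingAut F) := Subgroup.zpowers σ
  let F₁ := FixedPoints.subfield G F
  have hpow : ∀ t : F, σ t = t → ∀ k : ℤ, (σ ^ k) • t = t := by
    intro t ht k
    have h1 : σ • t = t := ht
    induction k using Int.induction_on with
    | zero => simp
    | succ k ih => rw [zpow_add_one, mul_smul, h1, ih]
    | pred k ih =>
      rw [zpow_sub_one, mul_smul]
      have : σ⁻¹ • t = t := by rw [inv_smul_eq_iff, h1]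
      rw [this, ih]
  have hfix : ∀ t : F, σ t = t → t ∈ F₁ := by
    intro t ht
    rintro ⟨g, hg⟩
    obtain ⟨k, rfl⟩ := Subgroup.mem_zpowers_iff.1 hg
    exact hpow t ht k
  have hfix' : ∀ t : F₁, σ (t : F) = t := by
    intro t
    have := t.2 ⟨σ, Subgroup.mem_zpowers σ⟩
    exact this
  have : Finite (RingAut F) :=
    Finite.of_injective (fun g : RingAut F => (g : F → F)) (fun a b h => RingEquiv.ext (congrFun h))
  haveI : Fintype G := Fintype.ofFinite _
  have hrank : finrank F₁ F = r := by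
    rw [FixedPoints.finrank_eq_card G F, ← hr, ← Nat.card_eq_fintype_card]
    exact Nat.card_zpowers σ
  haveI : Fintype F₁ := Fintype.ofFinite _
  have hcard : Fintype.card F = Fintype.card F₁ ^ r := by
    rw [← hrank]
    exact Module.card_eq_pow_finrank
  obtain ⟨p, hp⟩ := CharP.exists F₁
  obtain ⟨n, hpp, hn⟩ := FiniteField.card F₁ p
  have : Fact p.Prime := ⟨hpp⟩
  haveI : Fintype (GaloisField p n) := Fintype.ofFinite _
  have hcardG : Fintype.card (GaloisField p n) = Fintype.card F₁ := by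
    rw [hn, ← Nat.card_eq_fintype_card, GaloisField.card p n n.ne_zero]
  let e : GaloisField p n ≃+* F₁ := FiniteField.ringEquivOfCardEq hcardG
  refine ⟨GaloisField p n, inferInstance, inferInstance, (F₁.subtype).comp (e : GaloisField p n →+* F₁), ?_, ?_, ?_⟩
  · rw [hcard, hcardG]
  · intro t ht
    refine ⟨e.symm ⟨t, hfix t ht⟩, ?_⟩
    simp
  · intro s
    exact hfix' (e s)

variable (D : ChevalleyDatum) (hD : D ∈ [chevG2, chevB2, chevD4, chevF4, chevE6, chevE7, chevE8])

section inj
variable (F : Type*) [Field F] [Fintype F]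

/-- extension of a tuple of units by `1` -/
noncomputable def extC (c : Fin D.rank → Fˣ) (i : ℕ) : F := if h : i < D.rank then ((c ⟨i, h⟩ : Fˣ) : F) else 1

theorem extC_ne (c : Fin D.rank → Fˣ) (i : ℕ) : extC D F c i ≠ 0 := by
  unfold extC
  split_ifs
  · exact Units.ne_zero _
  · exact one_ne_zero

/-- `∏ h_{p_i}(c_i)` as an element of `H` -/
noncomputable def hPhi (c : Fin D.rank → Fˣ) : ↥(D.diagonalSubgroup F) :=
  ⟨((List.range D.rank).map fun i => hGL D hD F (D.simple i) (extC D F c i)).prod, by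
    apply Subgroup.list_prod_mem
    intro g hg
    obtain ⟨i, hi, rfl⟩ := List.mem_map.1 hg
    exact hGL_mem_diag D hD F _ (chkN2_spec D (chkN2_all D hD) i (List.mem_range.1 hi)).1 _ (extC_ne D F c i)⟩

theorem coe_list_prod {n : Type*} [Fintype n] [DecidableEq n] (l : List (GL n F)) :
    (Units.val l.prod : Matrix n n F) = (l.map Units.val).prod :=
  map_list_prod (Units.coeHom _) l

theorem hPhi_coe (c : Fin D.rank → Fˣ) :
    (((hPhi D hD F c : ↥(D.diagonalSubgroup F)) : GL D.Idx F) : Matrix D.Idx D.Idx F) = hProd D F (extC D F c) := by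
  unfold hPhi
  simp only
  rw [coe_list_prod, List.map_map]
  have := prod_hMat_simple D hD F (extC D F c) (fun i _ => extC_ne D F c i) D.rank le_rfl
  unfold hProd
  rw [← this]
  congr 1

include hD in
theorem hPhi_surjective : Function.Surjective (hPhi D hD F) := by
  intro h
  obtain ⟨c, hc, hcoe⟩ := exists_hProd_of_mem_diagonal D hD F h.1 h.2
  refine ⟨fun j => Units.mk0 (c j) (hc j), ?_⟩
  apply Subtype.ext
  apply Units.ext
  rw [hPhi_coe, hcoe]
  apply hProd_congr
  intro i hi
  unfold extC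
  rw [dif_pos hi]
  rfl

include hD in
/-- if `|H| = (q-1)^rank` the parametrisation of `H` is injective -/
theorem hProd_injective (hH : Nat.card (D.diagonalSubgroup F) = (Fintype.card F - 1) ^ D.rank) :
    ∀ c c' : ℕ → F, (∀ i, c i ≠ 0) → (∀ i, c' i ≠ 0) → hProd D F c = hProd D F c' → ∀ i < D.rank, c i = c' i := by
  classical
  have hcard : Nat.card (Fin D.rank → Fˣ) = (Fintype.card F - 1) ^ D.rank := by
    rw [Nat.card_eq_fintype_card, Fintype.card_fun, Fintype.card_units, Fintype.card_fin]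
  have hbij := (hPhi_surjective D hD F).bijective_of_nat_card_le (by rw [hcard, hH])
  intro c c' hc hc' heq i hi
  have h1 : hPhi D hD F (fun j => Units.mk0 (c j) (hc j)) = hPhi D hD F (fun j => Units.mk0 (c' j) (hc' j)) := by
    apply Subtype.ext
    apply Units.ext
    rw [hPhi_coe, hPhi_coe]
    have e1 : hProd D F (extC D F fun j => Units.mk0 (c j) (hc j)) = hProd D F c := by
      apply hProd_congr
      intro i hi
      unfold extC
      rw [dif_pos hi]
      rfl
    have e2 : hProd D F (extC D F fun j => Units.mk0 (c' j) (hc' j)) = hProd D F c' := by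
      apply hProd_congr
      intro i hi
      unfold extC
      rw [dif_pos hi]
      rfl
    rw [e1, e2, heq]
  have h2 := congrFun (hbij.1 h1) ⟨i, hi⟩
  exact congrArg Units.val h2

end inj

section aut
variable {F : Type*} [Field F]

include hD in
theorem rank_pos : 0 < D.rank := by
  simp only [List.mem_cons, List.not_mem_nil, or_false] at hD
  rcases hD with rfl | rfl | rfl | rfl | rfl | rfl | rfl <;> decide

include hD in
theorem x_injective (r : ℕ) (hr : r < D.nroots) (a b : F) (h : D.x F r a = D.x F r b) : a = b := by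
  have h1 : xGL D hD F r a = xGL D hD F r b := Units.ext h
  have h2 : xGL D hD F r (a - b) = 1 := by
    rw [sub_eq_add_neg, xGL_add, ← xGL_inv, h1, mul_inv_cancel]
  have h3 : D.x F r (a - b) = 1 := by
    rw [← xGL_coe D hD, h2]; rfl
  exact sub_eq_zero.1 (x_eq_one_iff D hD F r hr _ h3)

include hD in
/-- a field automorphism of the group is the entrywise map -/
theorem fieldAut_eq_glMap (φ : ↥(D.group F) ≃* ↥(D.group F)) (σ : F ≃+* F)
    (hφ : ∀ (g : ↥(D.group F)) (r : ℕ) (t : F), r < D.nroots →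
      ((g : GL D.Idx F) : Matrix D.Idx D.Idx F) = D.x F r t →
      ((φ g : GL D.Idx F) : Matrix D.Idx D.Idx F) = D.x F r (σ t))
    (x : GL D.Idx F) (hx : x ∈ D.group F) :
    ((φ ⟨x, hx⟩ : ↥(D.group F)) : GL D.Idx F) = glMap D (σ : F →+* F) x := by
  unfold ChevalleyDatum.group at hx
  induction hx using Subgroup.closure_induction with
  | mem x hx' =>
    obtain ⟨r, t, hxr⟩ := hx'
    have h1 : (x : Matrix D.Idx D.Idx F) = D.x F r.val t := by
      rw [hxr]; unfold ChevalleyDatum.x; rw [dif_pos r.2]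
    have h2 : x = xGL D hD F r.val t := Units.ext h1
    apply Units.ext
    rw [hφ _ r.val t r.2 h1, h2, glMap_xGL, xGL_coe]
    rfl
  | one =>
    have : (⟨1, Subgroup.one_mem _⟩ : ↥(D.group F)) = 1 := rfl
    rw [this, map_one, map_one]; rfl
  | mul x y hx hy ihx ihy =>
    have : (⟨x * y, Subgroup.mul_mem _ hx hy⟩ : ↥(D.group F)) = ⟨x, hx⟩ * ⟨y, hy⟩ := rfl
    rw [this, map_mul, map_mul, Subgroup.coe_mul, ihx, ihy]
  | inv x hx ihx =>
    have : (⟨x⁻¹, Subgroup.inv_mem _ hx⟩ : ↥(D.group F)) = (⟨x, hx⟩ : ↥(D.group F))⁻¹ := rfl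
    rw [this, map_inv, map_inv, Subgroup.coe_inv, ihx]

theorem fieldAut_pow (φ : ↥(D.group F) ≃* ↥(D.group F)) (σ : F ≃+* F)
    (hφ : ∀ (g : ↥(D.group F)) (r : ℕ) (t : F), r < D.nroots →
      ((g : GL D.Idx F) : Matrix D.Idx D.Idx F) = D.x F r t →
      ((φ g : GL D.Idx F) : Matrix D.Idx D.Idx F) = D.x F r (σ t)) (k : ℕ) :
    ∀ (g : ↥(D.group F)) (r : ℕ) (t : F), r < D.nroots →
      ((g : GL D.Idx F) : Matrix D.Idx D.Idx F) = D.x F r t →
      ((((φ : MulAut ↥(D.group F)) ^ k) g : GL D.Idx F) : Matrix D.Idx D.Idx F) = D.x F r (((σ : RingAut F) ^ k) t) := by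
  induction k with
  | zero =>
    intro g r t _ hg
    simpa using hg
  | succ k ih =>
    intro g r t hr hg
    rw [pow_succ, pow_succ, MulAut.mul_apply, RingAut.mul_apply]
    exact ih _ r _ hr (hφ g r t hr hg)

theorem glMap_one (x : GL D.Idx F) : glMap D ((1 : RingAut F) : F →+* F) x = x := by
  apply Units.ext
  rw [coe_glMap]
  ext i j
  simp

include hD in
theorem orderOf_fieldAut (φ : ↥(D.group F) ≃* ↥(D.group F)) (σ : F ≃+* F)
    (hφ : ∀ (g : ↥(D.group F)) (r : ℕ) (t : F), r < D.nroots →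
      ((g : GL D.Idx F) : Matrix D.Idx D.Idx F) = D.x F r t →
      ((φ g : GL D.Idx F) : Matrix D.Idx D.Idx F) = D.x F r (σ t)) :
    orderOf (σ : RingAut F) = orderOf (φ : MulAut ↥(D.group F)) := by
  rw [orderOf_eq_orderOf_iff]
  intro k
  have hk := fieldAut_pow D φ σ hφ k
  constructor
  · intro h1
    apply MulEquiv.ext
    intro g
    apply Subtype.ext
    have := fieldAut_eq_glMap D hD ((φ : MulAut ↥(D.group F)) ^ k) ((σ : RingAut F) ^ k) hk g.1 g.2
    rw [h1, glMap_one] at this
    exact this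
  · intro h1
    apply RingEquiv.ext
    intro t
    have hr0 : D.simple 0 < D.nroots := (chkN2_spec D (chkN2_all D hD) 0 (rank_pos D hD)).1
    have := hk ⟨xGL D hD F (D.simple 0) t, xGL_mem_group D hD F _ t⟩ (D.simple 0) t hr0 rfl
    rw [h1] at this
    exact (x_injective D hD _ hr0 _ _ this).symm

end aut

section main
variable {F : Type*} [Field F] [Fintype F]

theorem glMap_glMap_of_fixed {F₀ : Type*} [Field F₀] (ι : F₀ →+* F) (σ : F →+* F) (h : ∀ s, σ (ι s) = ι s)
    (y : GL D.Idx F₀) : glMap D σ (glMap D ι y) = glMap D ι y := by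
  apply Units.ext
  rw [coe_glMap, coe_glMap]
  ext i j
  simp [h]

include hD in
/-- the fixed points of a field automorphism of order `r` of a finite Chevalley group with `|H| = (q-1)^rank`
form the Chevalley group over the fixed field -/
theorem fieldFix_iso (hH : Nat.card (D.diagonalSubgroup F) = (Fintype.card F - 1) ^ D.rank)
    (φ : MulAut ↥(D.group F)) (hφ : D.IsFieldAut φ) (r : ℕ) (ho : orderOf φ = r) :
    ∃ (F₀ : Type) (_ : Field F₀) (_ : Fintype F₀), Fintype.card F = Fintype.card F₀ ^ r ∧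
      Nonempty (↥((MulEquiv.toMonoidHom φ).eqLocus (MonoidHom.id ↥(D.group F))) ≃* ↥(D.group F₀)) := by
  obtain ⟨σ, hσ⟩ := hφ
  have hoσ : orderOf (σ : RingAut F) = r := by rw [orderOf_fieldAut D hD φ σ hσ, ho]
  obtain ⟨F₀, iF, iFt, ι, hcard, hfix, hfix'⟩ := galois_part σ r hoσ
  refine ⟨F₀, iF, iFt, hcard, ?_⟩
  have hinj := hProd_injective D hD F hH
  have hglφ := fieldAut_eq_glMap D hD φ σ hσ
  set E := (MulEquiv.toMonoidHom φ).eqLocus (MonoidHom.id ↥(D.group F)) with hE
  have hEq : E.map (D.group F).subtype = (D.group F₀).map (glMap D ι) := by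
    ext x
    constructor
    · rintro ⟨g, hg, rfl⟩
      have hg' : φ g = g := hg
      have h1 : glMap D (σ : F →+* F) (g : GL D.Idx F) = g := by
        rw [← hglφ g.1 g.2]
        exact congrArg Subtype.val hg'
      exact descent D hD ι (σ : F →+* F) hfix hinj g.1 g.2 h1
    · rintro ⟨y, hy, rfl⟩
      have hxG : glMap D ι y ∈ D.group F := glMap_group_le D hD ι (Subgroup.mem_map_of_mem _ hy)
      refine ⟨⟨glMap D ι y, hxG⟩, ?_, rfl⟩
      show φ ⟨glMap D ι y, hxG⟩ = ⟨glMap D ι y, hxG⟩
      apply Subtype.ext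
      rw [hglφ _ hxG]
      exact glMap_glMap_of_fixed D ι (σ : F →+* F) hfix' y
  exact ⟨((Subgroup.equivMapOfInjective E (D.group F).subtype (Subgroup.subtype_injective _)).trans
    (MulEquiv.subgroupCongr hEq)).trans
    (Subgroup.equivMapOfInjective (D.group F₀) (glMap D ι) (glMap_injective D ι)).symm⟩

end main

end Cfsg.Agent.Lib.Helper36
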