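import Cfsg.Agent.Lib.Helper36.ChevW0d
import Cfsg.Agent.Lib.Helper36.ChevUN
import Cfsg.Agent.Lib.Helper18.CoxRep

/-! # N / H ≅ W (helper36) -/

set_option autoImplicit false

namespace Cfsg.Agent.Lib.Helper36

open Cfsg Cfsg.Lie

section grp
variable {G : Type*} [Group G]

theorem cox_rel2 {a b : G} (ha : a * a = 1) (hb : b * b = 1) (h : a * b * a⁻¹ = b) : (a * b) ^ 2 = 1 := by
  have e : (a * b) ^ 2 = (a * b * a⁻¹) * b := by
    rw [inv_eq_of_mul_eq_one_right ha]
    simp only [pow_succ, pow_zero, one_mul, mul_assoc]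
  rw [e, h, hb]

theorem cox_rel3 {a b : G} (ha : a * a = 1) (hb : b * b = 1) (h : (a * b) * a * (a * b)⁻¹ = b) :
    (a * b) ^ 3 = 1 := by
  have e : (a * b) ^ 3 = ((a * b) * a * (a * b)⁻¹) * b := by
    rw [mul_inv_rev, inv_eq_of_mul_eq_one_right ha, inv_eq_of_mul_eq_one_right hb]
    simp only [pow_succ, pow_zero, one_mul, mul_assoc]
  rw [e, h, hb]

theorem cox_rel4 {a b : G} (ha : a * a = 1) (hb : b * b = 1)
    (h : (a * b * a) * b * (a * b * a)⁻¹ = b) : (a * b) ^ 4 = 1 := by
  have e : (a * b) ^ 4 = ((a * b * a) * b * (a * b * a)⁻¹) * b := by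
    rw [mul_inv_rev, mul_inv_rev, inv_eq_of_mul_eq_one_right ha, inv_eq_of_mul_eq_one_right hb]
    simp only [pow_succ, pow_zero, one_mul, mul_assoc]
  rw [e, h, hb]

theorem cox_rel6 {a b : G} (ha : a * a = 1) (hb : b * b = 1)
    (h : (a * b * a * b * a) * b * (a * b * a * b * a)⁻¹ = b) : (a * b) ^ 6 = 1 := by
  have e : (a * b) ^ 6 = ((a * b * a * b * a) * b * (a * b * a * b * a)⁻¹) * b := by
    rw [mul_inv_rev, mul_inv_rev, mul_inv_rev, mul_inv_rev, inv_eq_of_mul_eq_one_right ha,
      inv_eq_of_mul_eq_one_right hb]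
    simp only [pow_succ, pow_zero, one_mul, mul_assoc]
  rw [e, h, hb]

end grp

variable (D : ChevalleyDatum) (hD : D ∈ [chevG2, chevB2, chevD4, chevF4, chevE6, chevE7, chevE8])

/-- the root condition behind the braid relation of length `m` between `n_i` and `n_j` -/
def chkBraid (m i j : ℕ) : Bool :=
  (m == 1 && i == j) ||
  (m == 2 && wRoot D [i] (D.simple j) == D.simple j) ||
  (m == 3 && wRoot D [i, j] (D.simple i) == D.simple j) ||
  (m == 4 && wRoot D [i, j, i] (D.simple j) == D.simple j) ||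
  (m == 6 && wRoot D [i, j, i, j, i] (D.simple j) == D.simple j)

include hD in
/-- `n_w n_r(t) n_w⁻¹ = n_{w r}(ε t)` with `ε = ±1` -/
theorem nWordGL_conj_n (F : Type*) [Field F] (l : List ℕ) (hl : ∀ i ∈ l, i < D.rank) (r : ℕ) (hr : r < D.nroots) :
    ∃ ε : F, (ε = 1 ∨ ε = -1) ∧ ∀ t : F,
      nWordGL D hD F l * nGL D hD F r t * (nWordGL D hD F l)⁻¹ = nGL D hD F (wRoot D l r) (ε * t) := by
  induction l with
  | nil =>
    refine ⟨1, Or.inl rfl, fun t => ?_⟩
    simp [nWordGL, wRoot]
  | cons i l ih =>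
    have hl' : ∀ i' ∈ l, i' < D.rank := fun i' hi' => hl i' (List.mem_cons_of_mem _ hi')
    have hi := hl i (List.mem_cons_self ..)
    obtain ⟨ε, hε, hc⟩ := ih hl'
    have hlt := wRoot_lt D hD l hl' r hr
    obtain ⟨-, -, -, -, hs'⟩ := chkN2_spec D (chkN2_all D hD) i hi
    obtain ⟨-, -, h3, -, -, -, -⟩ := hs' _ hlt
    set η : F := ((nEta D i (wRoot D l r) : ℤ) : F) with hη
    have hη1 : η = 1 ∨ η = -1 := by
      rcases h3 with h | h <;> rw [hη, h] <;> simp
    have hηη : η * η = 1 := by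
      rcases hη1 with h | h <;> rw [h] <;> simp
    refine ⟨η * ε, ?_, fun t => ?_⟩
    · rcases hη1 with h | h <;> rcases hε with h' | h' <;> rw [h, h'] <;> simp
    have e1 : nWordGL D hD F (i :: l) = nGL D hD F (D.simple i) 1 * nWordGL D hD F l := by
      simp [nWordGL]
    have e2 := nGL_reflect D hD F i _ hi hlt (η * ε * t)
    rw [← hη, ← mul_assoc, ← mul_assoc, hηη, one_mul] at e2
    show _ = nGL D hD F (D.reflectRoot i (wRoot D l r)) (η * ε * t)
    rw [e2, ← hc t, e1]
    group

section quot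
variable (F : Type*) [Field F] {Q : Type*} [Group Q]
  (q : ↥(D.monomialSubgroup F) →* Q)
  (hq : q.ker = (D.diagonalSubgroup F).subgroupOf (D.monomialSubgroup F))

theorem diagonal_le_monomial : D.diagonalSubgroup F ≤ D.monomialSubgroup F := by
  unfold ChevalleyDatum.monomialSubgroup
  exact le_sup_left

include hq in
theorem q_eq_one_iff (g : GL D.Idx F) (hg : g ∈ D.monomialSubgroup F) :
    q ⟨g, hg⟩ = 1 ↔ g ∈ D.diagonalSubgroup F := by
  rw [← MonoidHom.mem_ker, hq, Subgroup.mem_subgroupOf]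

/-- `n_{p_i}(1)` as an element of `N` -/
def nS (i : Fin D.rank) : ↥(D.monomialSubgroup F) :=
  ⟨nGL D hD F (D.simple i) 1, nGL_mem_mono D hD F _ (chkN2_spec D (chkN2_all D hD) i i.isLt).1⟩

/-- the element of `N` attached to a word in the fundamental reflections -/
def nWd (l : List (Fin D.rank)) : ↥(D.monomialSubgroup F) :=
  ⟨nWordGL D hD F (l.map Fin.val), nWordGL_mem D hD F _ (by
    intro i hi
    obtain ⟨j, -, rfl⟩ := List.mem_map.1 hi
    exact j.isLt)⟩

theorem nWd_nil : nWd D hD F [] = 1 := by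
  apply Subtype.ext
  simp [nWd, nWordGL]

theorem nWd_cons (i : Fin D.rank) (l : List (Fin D.rank)) : nWd D hD F (i :: l) = nS D hD F i * nWd D hD F l := by
  apply Subtype.ext
  simp [nWd, nS, nWordGL]

theorem q_nWd (l : List (Fin D.rank)) : q (nWd D hD F l) = (l.map fun i => q (nS D hD F i)).prod := by
  induction l with
  | nil => rw [nWd_nil, map_one]; rfl
  | cons i l ih => rw [nWd_cons, map_mul, ih, List.map_cons, List.prod_cons]

include hq in
theorem q_nS_sq (i : Fin D.rank) : q (nS D hD F i) * q (nS D hD F i) = 1 := by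
  rw [← map_mul]
  have hp := (chkN2_spec D (chkN2_all D hD) i i.isLt).1
  have hne : (-1 : F) ≠ 0 := neg_ne_zero.2 one_ne_zero
  have h := hMat_all D hD (F := F) (D.simple i) hp (-1) hne
  rw [neg_neg] at h
  have e : nGL D hD F (D.simple i) 1 * nGL D hD F (D.simple i) 1 = hGL D hD F (D.simple i) (-1) := by
    apply Units.ext
    rw [Units.val_mul, nGL_coe, hGL_coe, h.1, h.2]
  have hmem := hGL_mem_diag D hD F _ hp _ hne
  have e' : nS D hD F i * nS D hD F i =
      ⟨hGL D hD F (D.simple i) (-1), diagonal_le_monomial D F hmem⟩ := Subtype.ext e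
  rw [e']
  exact (q_eq_one_iff D F q hq _ _).2 hmem

include hq in
theorem q_conj (l : List (Fin D.rank)) (k j : Fin D.rank)
    (h : wRoot D (l.map Fin.val) (D.simple k) = D.simple j) :
    q (nWd D hD F l) * q (nS D hD F k) * (q (nWd D hD F l))⁻¹ = q (nS D hD F j) := by
  have hl : ∀ i ∈ l.map Fin.val, i < D.rank := by
    intro i hi
    obtain ⟨j, -, rfl⟩ := List.mem_map.1 hi
    exact j.isLt
  have hp := (chkN2_spec D (chkN2_all D hD) k k.isLt).1
  obtain ⟨ε, hε, hc⟩ := nWordGL_conj_n D hD F (l.map Fin.val) hl (D.simple k) hp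
  have hc1 := hc 1
  rw [h, mul_one] at hc1
  rw [← map_inv, ← map_mul, ← map_mul]
  rcases hε with rfl | rfl
  · congr 1
    apply Subtype.ext
    exact hc1
  · have e : nWd D hD F l * nS D hD F k * (nWd D hD F l)⁻¹ = (nS D hD F j)⁻¹ := by
      apply Subtype.ext
      show nWordGL D hD F (l.map Fin.val) * nGL D hD F (D.simple k) 1 * (nWordGL D hD F (l.map Fin.val))⁻¹ =
        (nGL D hD F (D.simple j) 1)⁻¹
      rw [hc1, nGL_inv D hD F j j.isLt]
    rw [e, map_inv]
    exact inv_eq_of_mul_eq_one_right (q_nS_sq D hD F q hq j)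

include hq in
theorem q_braid (m : ℕ) (i j : Fin D.rank) (h : chkBraid D m i j = true) :
    (q (nS D hD F i) * q (nS D hD F j)) ^ m = 1 := by
  unfold chkBraid at h
  simp only [Bool.or_eq_true, Bool.and_eq_true, beq_iff_eq] at h
  have hi := q_nS_sq D hD F q hq i
  have hj := q_nS_sq D hD F q hq j
  rcases h with (((⟨rfl, hij⟩ | ⟨rfl, h⟩) | ⟨rfl, h⟩) | ⟨rfl, h⟩) | ⟨rfl, h⟩
  · have : i = j := Fin.ext hij
    subst this
    rw [pow_one]
    exact hi
  · apply cox_rel2 hi hj
    have := q_conj D hD F q hq [i] j j h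
    rw [q_nWd] at this
    simpa using this
  · apply cox_rel3 hi hj
    have := q_conj D hD F q hq [i, j] i j h
    rw [q_nWd] at this
    simpa [mul_assoc] using this
  · apply cox_rel4 hi hj
    have := q_conj D hD F q hq [i, j, i] j j h
    rw [q_nWd] at this
    simpa [mul_assoc] using this
  · apply cox_rel6 hi hj
    have := q_conj D hD F q hq [i, j, i, j, i] j j h
    rw [q_nWd] at this
    simpa [mul_assoc] using this

end quot

/-- the permutation of the roots attached to a word in the fundamental reflections -/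
def wPerm (l : List ℕ) : Fin D.nroots → Fin D.nroots := l.foldr (fun i π => wFin D i ∘ π) id

include hD in
theorem wPerm_val (l : List ℕ) (hl : ∀ i ∈ l, i < D.rank) (s : Fin D.nroots) :
    ((wPerm D l s : Fin D.nroots) : ℕ) = wRoot D l s := by
  induction l with
  | nil => rfl
  | cons i l ih =>
    have hl' : ∀ i' ∈ l, i' < D.rank := fun i' hi' => hl i' (List.mem_cons_of_mem _ hi')
    have hi := hl i (List.mem_cons_self ..)
    obtain ⟨-, -, -, -, hs'⟩ := chkN2_spec D (chkN2_all D hD) i hi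
    show ((wFin D i (wPerm D l s) : Fin D.nroots) : ℕ) = D.reflectRoot i (wRoot D l s)
    rw [wFin_val D (chkN2_all D hD) i hi, (hs' _ (wPerm D l s).isLt).2.1, ih hl']

include hD in
theorem nWordGL_blocks (F : Type*) [Field F] (l : List ℕ) (hl : ∀ i ∈ l, i < D.rank) :
    ∃ (A : Matrix (Fin D.rank) (Fin D.rank) F) (a : Fin D.nroots → F), (∀ s, a s ≠ 0) ∧
      ((nWordGL D hD F l : GL D.Idx F) : Matrix D.Idx D.Idx F) = Matrix.fromBlocks A 0 0 (PM (wPerm D l) a) := by
  induction l with
  | nil =>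
    refine ⟨1, fun _ => 1, fun _ => one_ne_zero, ?_⟩
    show ((1 : GL D.Idx F) : Matrix D.Idx D.Idx F) = Matrix.fromBlocks 1 0 0 (PM id fun _ => (1 : F))
    rw [PM_id, Units.val_one]
    show 1 = Matrix.fromBlocks 1 0 0 (Matrix.diagonal fun _ => (1 : F))
    rw [Matrix.diagonal_one, Matrix.fromBlocks_one]
  | cons i l ih =>
    have hl' : ∀ i' ∈ l, i' < D.rank := fun i' hi' => hl i' (List.mem_cons_of_mem _ hi')
    have hi := hl i (List.mem_cons_self ..)
    obtain ⟨A, a, ha, e⟩ := ih hl'
    obtain ⟨-, -, -, -, hs'⟩ := chkN2_spec D (chkN2_all D hD) i hi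
    refine ⟨NH D F i * A, fun s => ((nEta D i (wPerm D l s) : ℤ) : F) * a s, fun s => ?_, ?_⟩
    · apply mul_ne_zero _ (ha s)
      rcases (hs' _ (wPerm D l s).isLt).2.2.1 with h | h <;> rw [h] <;> simp
    · have e1 : nWordGL D hD F (i :: l) = nGL D hD F (D.simple i) 1 * nWordGL D hD F l := by
        simp [nWordGL]
      rw [e1, Units.val_mul, nGL_coe, e, nMat_blocks D (wf_all D hD) (nProp_all D hD) (chkN2_all D hD) F i hi,
        Matrix.fromBlocks_multiply, PM_mul_PM]
      simp only [Matrix.zero_mul, Matrix.mul_zero, add_zero, zero_add]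
      rfl

include hD in
theorem wPerm_eq_of_mem_diagonal (F : Type*) [Field F] (l : List ℕ) (hl : ∀ i ∈ l, i < D.rank)
    (h : nWordGL D hD F l ∈ D.diagonalSubgroup F) (s : Fin D.nroots) : wPerm D l s = s := by
  obtain ⟨A, a, ha, e⟩ := nWordGL_blocks D hD F l hl
  have hd := isDiag_of_mem_diagonal D hD F _ h
  by_contra hne
  have h0 := hd (show (Sum.inr (wPerm D l s) : D.Idx) ≠ Sum.inr s from fun h => hne (Sum.inr.inj h))
  rw [e, Matrix.fromBlocks_apply₂₂, PM_apply, if_pos rfl] at h0
  exact ha s h0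

theorem list_range_sum_eq (n : ℕ) (f : ℕ → ℤ) : ((List.range n).map f).sum = ∑ j : Fin n, f j := by
  induction n with
  | zero => simp
  | succ n ih =>
    rw [List.range_succ, List.map_append, List.sum_append, ih, Fin.sum_univ_castSucc]
    simp

section rho
open Cfsg.Agent.Lib.Helper18
variable (M : CoxeterMatrix (Fin D.rank)) (A : Matrix (Fin D.rank) (Fin D.rank) ℤ)
  (hA : M.IsLiftable (reflMat A))
  (hAc : ∀ i j : Fin D.rank, A i j = D.cartan j (D.simple i))

/-- coroot coordinates of a root -/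
def cvec (r : ℕ) : Fin D.rank → ℤ := fun j => cor D r j

include hD hAc in
theorem cvec_reflect (i : Fin D.rank) (r : ℕ) (hr : r < D.nroots) :
    cvec D (D.reflectRoot i r) = Matrix.vecMul (cvec D r) (reflMat A i) := by
  funext j'
  show cor D (D.reflectRoot i r) j' = _
  rw [cor_reflect D hD i r j' i.isLt hr j'.isLt, corT, list_range_sum_eq]
  simp only [Matrix.vecMul, dotProduct, reflMat, Matrix.of_apply, cvec, mul_sub, Finset.sum_sub_distrib,
    mul_ite, mul_one, mul_zero, Finset.sum_ite_eq', Finset.mem_univ, if_true]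
  congr 1
  by_cases h : (j' : ℕ) = i
  · have h' : j' = i := Fin.ext h
    rw [if_pos h]
    apply Finset.sum_congr rfl
    intro j _
    rw [if_pos h', hAc, mul_comm]
  · have h' : ¬ j' = i := fun e => h (congrArg Fin.val e)
    simp [h, h']

include hD hAc in
theorem cvec_wRoot (ω : List (Fin D.rank)) (r : ℕ) (hr : r < D.nroots) :
    cvec D (wRoot D (ω.map Fin.val) r) =
      Matrix.vecMul (cvec D r) (rho M A hA (M.toCoxeterSystem.wordProd ω)⁻¹) := by
  induction ω with
  | nil => simp [wRoot]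
  | cons i ω ih =>
    have hl : ∀ i' ∈ ω.map Fin.val, i' < D.rank := by
      intro i' hi'
      obtain ⟨j, -, rfl⟩ := List.mem_map.1 hi'
      exact j.isLt
    show cvec D (D.reflectRoot i (wRoot D (ω.map Fin.val) r)) = _
    rw [cvec_reflect D hD A hAc i _ (wRoot_lt D hD _ hl r hr), ih, Matrix.vecMul_vecMul,
      CoxeterSystem.wordProd_cons, mul_inv_rev, map_mul]
    congr 2
    rw [← rho_simple M A hA i]
    congr 1
    exact (simple_inv M i).symm

end rho

section cox
variable (F : Type*) [Field F] {Q : Type*} [Group Q]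
  (q : ↥(D.monomialSubgroup F) →* Q)
  (hq : q.ker = (D.diagonalSubgroup F).subgroupOf (D.monomialSubgroup F))
  (M : CoxeterMatrix (Fin D.rank))
  (hbraid : ∀ i j : Fin D.rank, chkBraid D (M i j) i j = true)

/-- the homomorphism `W → N/H` -/
noncomputable def psi : M.Group →* Q :=
  M.toCoxeterSystem.lift ⟨fun i => q (nS D hD F i), fun i j => q_braid D hD F q hq (M i j) i j (hbraid i j)⟩

theorem psi_simple (i : Fin D.rank) : psi D hD F q hq M hbraid (M.simple i) = q (nS D hD F i) :=
  M.toCoxeterSystem.lift_apply_simple _ i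

theorem psi_wordProd (ω : List (Fin D.rank)) :
    psi D hD F q hq M hbraid (M.toCoxeterSystem.wordProd ω) = q (nWd D hD F ω) := by
  rw [q_nWd, CoxeterSystem.wordProd, map_list_prod, List.map_map]
  congr 1
  apply List.map_congr_left
  intro i _
  exact psi_simple D hD F q hq M hbraid i

include hq in
theorem psi_surjective (hqs : Function.Surjective q) : Function.Surjective (psi D hD F q hq M hbraid) := by
  set ψ := psi D hD F q hq M hbraid with hψ
  set K : Subgroup (GL D.Idx F) := (ψ.range.comap q).map (D.monomialSubgroup F).subtype with hK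
  have memK : ∀ (g : GL D.Idx F) (hg : g ∈ D.monomialSubgroup F), q ⟨g, hg⟩ ∈ ψ.range → g ∈ K := by
    intro g hg h
    exact Subgroup.mem_map.2 ⟨⟨g, hg⟩, Subgroup.mem_comap.2 h, rfl⟩
  have hH : D.diagonalSubgroup F ≤ K := by
    intro g hg
    apply memK g (diagonal_le_monomial D F hg)
    rw [(q_eq_one_iff D F q hq _ _).2 hg]
    exact one_mem _
  have hS : ∀ i : Fin D.rank, nGL D hD F (D.simple i) 1 ∈ K := by
    intro i
    apply memK _ (nS D hD F i).2
    exact ⟨M.simple i, psi_simple D hD F q hq M hbraid i⟩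
  have hR : ∀ r < D.nroots, nGL D hD F r 1 ∈ K := by
    refine root_induction D hD (fun r => nGL D hD F r 1 ∈ K) ?_ ?_
    · intro i hi
      exact hS ⟨i, hi⟩
    · intro i hi r hr ih
      obtain ⟨-, -, -, -, hs'⟩ := chkN2_spec D (chkN2_all D hD) i hi
      obtain ⟨-, -, h3, -, -, -, -⟩ := hs' r hr
      show nGL D hD F (D.reflectRoot i r) 1 ∈ K
      rw [nGL_reflect D hD F i r hi hr 1, mul_one]
      refine mul_mem (mul_mem (hS ⟨i, hi⟩) ?_) (inv_mem (hS ⟨i, hi⟩))
      rcases h3 with h | h <;> rw [h]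
      · simpa using ih
      · have : ((( -1 : ℤ) : ℤ) : F) = -1 := by simp
        rw [this, ← nGL_inv' D hD F r 1]
        exact inv_mem ih
  have hN : D.monomialSubgroup F ≤ K := by
    unfold ChevalleyDatum.monomialSubgroup
    apply sup_le hH
    rw [Subgroup.closure_le]
    rintro g ⟨r, hr, hg⟩
    have : g = nGL D hD F r 1 := Units.ext (by rw [hg, nGL_coe])
    rw [SetLike.mem_coe, this]
    exact hR r hr
  intro x
  obtain ⟨g, rfl⟩ := hqs x
  obtain ⟨g', hg', e⟩ := Subgroup.mem_map.1 (hN g.2)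
  have : g' = g := Subtype.ext e
  rw [this] at hg'
  exact Subgroup.mem_comap.1 hg'

section inj
open Cfsg.Agent.Lib.Helper18
variable (A : Matrix (Fin D.rank) (Fin D.rank) ℤ) (hA : M.IsLiftable (reflMat A))
  (hAc : ∀ i j : Fin D.rank, A i j = D.cartan j (D.simple i))
  (hker : ∀ w : M.Group, rho M A hA w = 1 → w = 1)

include hq hAc hker in
theorem psi_injective : Function.Injective (psi D hD F q hq M hbraid) := by
  rw [injective_iff_map_eq_one]
  intro w hw
  obtain ⟨ω, rfl⟩ := M.toCoxeterSystem.wordProd_surjective w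
  rw [psi_wordProd] at hw
  have hmem : nWordGL D hD F (ω.map Fin.val) ∈ D.diagonalSubgroup F := (q_eq_one_iff D F q hq _ _).1 hw
  have hl : ∀ i ∈ ω.map Fin.val, i < D.rank := by
    intro i' hi'
    obtain ⟨j, -, rfl⟩ := List.mem_map.1 hi'
    exact j.isLt
  have hperm := wPerm_eq_of_mem_diagonal D hD F _ hl hmem
  have hR : rho M A hA (M.toCoxeterSystem.wordProd ω)⁻¹ = 1 := by
    apply Matrix.ext
    intro j j'
    have hp := (chkN2_spec D (chkN2_all D hD) j j.isLt).1
    have h1 := cvec_wRoot D hD M A hA hAc ω (D.simple j) hp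
    have h2 : wRoot D (ω.map Fin.val) (D.simple j) = D.simple j := by
      have := wPerm_val D hD _ hl ⟨D.simple j, hp⟩
      rw [hperm] at this
      exact this.symm
    rw [h2] at h1
    have h3 : cvec D (D.simple j) = Pi.single j 1 := by
      funext k
      show cor D (D.simple j) k = _
      rw [cor_simple D hD j k j.isLt k.isLt]
      simp [Pi.single_apply, Fin.ext_iff]
    rw [h3, Matrix.single_one_vecMul] at h1
    have h4 := congrFun h1 j'
    rw [Matrix.row] at h4
    rw [← h4, Matrix.one_apply, Pi.single_apply]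
    simp [eq_comm]
  have := hker _ hR
  exact inv_eq_one.1 this

end inj

end cox

/-- the matrix `A` is the Cartan matrix of the datum, transposed -/
def chkCartanA (n : ℕ) (A : Matrix (Fin n) (Fin n) ℤ) : Bool :=
  (List.finRange n).all fun i => (List.finRange n).all fun j => A i j == D.cartan j (D.simple i)

theorem chkCartanA_spec (n : ℕ) (A : Matrix (Fin n) (Fin n) ℤ) (h : chkCartanA D n A = true) (i j : Fin n) :
    A i j = D.cartan j (D.simple i) := by
  unfold chkCartanA at h
  simp only [List.all_eq_true, beq_iff_eq] at h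
  exact h i (List.mem_finRange i) j (List.mem_finRange j)

open Cfsg.Agent.Lib.Helper18 in
include hD in
/-- `N/H ≅ W` -/
theorem weyl_equiv (n : ℕ) (hn : D.rank = n) (M : CoxeterMatrix (Fin n)) (A : Matrix (Fin n) (Fin n) ℤ)
    (hA : M.IsLiftable (reflMat A)) (hker : ∀ w : M.Group, rho M A hA w = 1 → w = 1)
    (hAc : ∀ i j : Fin n, A i j = D.cartan j (D.simple i))
    (hbraid : ∀ i j : Fin n, chkBraid D (M i j) i j = true) (F : Type*) [Field F] :
    ∃ φ : ↥(D.monomialSubgroup F) →* M.Group, Function.Surjective φ ∧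
      φ.ker = (D.diagonalSubgroup F).subgroupOf (D.monomialSubgroup F) ∧
      ∀ (i : Fin n) (g : ↥(D.monomialSubgroup F)),
        ((g : GL D.Idx F) : Matrix D.Idx D.Idx F) = D.nMat F (D.simple i) 1 → φ g = M.simple i := by
  subst hn
  have hnorm : ((D.diagonalSubgroup F).subgroupOf (D.monomialSubgroup F)).Normal :=
    (Subgroup.normal_subgroupOf_iff_le_normalizer (diagonal_le_monomial D F)).2 (monomial_le_normalizer D hD F)
  let q := QuotientGroup.mk' ((D.diagonalSubgroup F).subgroupOf (D.monomialSubgroup F))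
  have hq : q.ker = (D.diagonalSubgroup F).subgroupOf (D.monomialSubgroup F) := QuotientGroup.ker_mk' _
  have hqs : Function.Surjective q := QuotientGroup.mk'_surjective _
  have hinj := psi_injective D hD F q hq M hbraid A hA hAc hker
  have hsur := psi_surjective D hD F q hq M hbraid hqs
  let e := MulEquiv.ofBijective (psi D hD F q hq M hbraid) ⟨hinj, hsur⟩
  refine ⟨e.symm.toMonoidHom.comp q, e.symm.surjective.comp hqs, ?_, ?_⟩
  · ext g
    rw [MonoidHom.mem_ker, MonoidHom.comp_apply]
    have h1 : g ∈ (D.diagonalSubgroup F).subgroupOf (D.monomialSubgroup F) ↔ q g = 1 := by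
      rw [← MonoidHom.mem_ker, hq]
    rw [h1]
    exact e.symm.map_eq_one_iff
  · intro i g hg
    have : g = nS D hD F i := Subtype.ext (Units.ext (by rw [hg]; exact (nGL_coe D hD F _ _).symm))
    rw [this, MonoidHom.comp_apply]
    show e.symm (q (nS D hD F i)) = M.simple i
    rw [MulEquiv.symm_apply_eq]
    exact (psi_simple D hD F q hq M hbraid i).symm

end Cfsg.Agent.Lib.Helper36
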