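import Cfsg.Agent.Lib.Helper36.ChevHU

/-! # Elements of H as products of fundamental h_p(c) (helper36) -/

set_option autoImplicit false

namespace Cfsg.Agent.Lib.Helper36

open Cfsg Cfsg.Lie

variable (D : ChevalleyDatum) (hD : D ∈ [chevG2, chevB2, chevD4, chevF4, chevE6, chevE7, chevE8])

theorem wordMat_append (F : Type*) [Field F] (w₁ w₂ : List (ℕ × F)) :
    D.wordMat F (w₁ ++ w₂) = D.wordMat F w₁ * D.wordMat F w₂ := by
  unfold ChevalleyDatum.wordMat
  rw [List.map_append, List.prod_append]

theorem wordMat_flatMap_range (F : Type*) [Field F] (n : ℕ) (f : ℕ → List (ℕ × F)) :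
    D.wordMat F ((List.range n).flatMap f) = ((List.range n).map fun i => D.wordMat F (f i)).prod := by
  induction n with
  | zero => simp [ChevalleyDatum.wordMat]
  | succ n ih =>
    rw [List.range_succ, List.flatMap_append, wordMat_append, ih, List.map_append, List.prod_append]
    simp

/-- the diagonal matrix `∏_i h_{p_i}(c_i)` -/
def hProd (F : Type*) [Field F] (c : ℕ → F) : Matrix D.Idx D.Idx F :=
  Matrix.diagonal (Sum.elim (fun _ => (1 : F))
    (fun s : Fin D.nroots => ((List.range D.rank).map fun i => c i ^ D.cartan i s).prod))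

include hD in
theorem prod_hMat_simple (F : Type*) [Field F] (c : ℕ → F) (hc : ∀ i < D.rank, c i ≠ 0) (n : ℕ)
    (hn : n ≤ D.rank) :
    ((List.range n).map fun i => D.hMat F (D.simple i) (c i)).prod =
      Matrix.diagonal (Sum.elim (fun _ => (1 : F))
        (fun s : Fin D.nroots => ((List.range n).map fun i => c i ^ D.cartan i s).prod)) := by
  induction n with
  | zero =>
    simp only [List.range_zero, List.map_nil, List.prod_nil]
    rw [← Matrix.diagonal_one]
    congr 1
    funext x
    rcases x with j | s <;> rfl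
  | succ n ih =>
    rw [List.range_succ, List.map_append, List.prod_append, ih (by omega)]
    simp only [List.map_cons, List.map_nil, List.prod_cons, List.prod_nil, mul_one]
    rw [hMat_simple D hD n (by omega) (c n) (hc n (by omega)), Matrix.diagonal_mul_diagonal]
    congr 1
    funext x
    rcases x with j | s
    · simp
    · simp [List.map_append, List.prod_append]

include hD in
theorem wordMat_hProd (F : Type*) [Field F] (c : ℕ → F) (hc : ∀ i < D.rank, c i ≠ 0) :
    D.wordMat F ((List.range D.rank).flatMap fun i => D.hWord (D.simple i) (c i)) = hProd D F c := by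
  rw [wordMat_flatMap_range]
  exact prod_hMat_simple D hD F c hc D.rank le_rfl

theorem list_prod_zpow {F : Type*} [Field F] (t : F) (ht : t ≠ 0) (l : List ℕ) (f : ℕ → ℤ) :
    (l.map fun i => t ^ f i).prod = t ^ (l.map f).sum := by
  induction l with
  | nil => simp
  | cons a l ih => simp only [List.map_cons, List.prod_cons, List.sum_cons, ih, zpow_add₀ ht]

theorem list_prod_mul {F : Type*} [Field F] (l : List ℕ) (f g : ℕ → F) :
    (l.map fun i => f i * g i).prod = (l.map f).prod * (l.map g).prod := by
  induction l with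
  | nil => simp
  | cons a l ih => simp only [List.map_cons, List.prod_cons, ih]; ring

theorem hDiag_eq_hProd (F : Type*) [Field F] (r : ℕ) (t : F) (ht : t ≠ 0) :
    hDiag D F r t = hProd D F (fun i => t ^ cor D r i) := by
  unfold hDiag hProd
  congr 1
  funext x
  rcases x with j | s
  · rfl
  · simp only [Sum.elim_inr]
    have : ((List.range D.rank).map fun i => (t ^ cor D r i) ^ D.cartan i s) =
        (List.range D.rank).map fun i => t ^ (cor D r i * D.cartan i s) := by
      apply List.map_congr_left
      intro i _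
      rw [zpow_mul]
    rw [this, list_prod_zpow t ht]
    rfl

theorem hProd_mul (F : Type*) [Field F] (c c' : ℕ → F) :
    hProd D F c * hProd D F c' = hProd D F (fun i => c i * c' i) := by
  unfold hProd
  rw [Matrix.diagonal_mul_diagonal]
  congr 1
  funext x
  rcases x with j | s
  · simp
  · simp only [Sum.elim_inr]
    rw [← list_prod_mul]
    congr 1
    apply List.map_congr_left
    intro i _
    rw [mul_zpow]

theorem hProd_one (F : Type*) [Field F] : hProd D F (fun _ => 1) = 1 := by
  unfold hProd
  rw [← Matrix.diagonal_one]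
  congr 1
  funext x
  rcases x with j | s
  · rfl
  · simp

include hD in
/-- every element of `H` is `∏_i h_{p_i}(c_i)` -/
theorem exists_hProd_of_mem_diagonal (F : Type*) [Field F] (g : GL D.Idx F) (hg : g ∈ D.diagonalSubgroup F) :
    ∃ c : ℕ → F, (∀ i, c i ≠ 0) ∧ (g : Matrix D.Idx D.Idx F) = hProd D F c := by
  unfold ChevalleyDatum.diagonalSubgroup at hg
  induction hg using Subgroup.closure_induction'' with
  | one => exact ⟨fun _ => 1, fun _ => one_ne_zero, by rw [Units.val_one, hProd_one]⟩
  | mem x hx =>
    obtain ⟨r, t, hr, ht, hx⟩ := hx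
    refine ⟨fun i => t ^ cor D r i, fun i => zpow_ne_zero _ ht, ?_⟩
    rw [hx, (hMat_all D hD r hr t ht).1, hDiag_eq_hProd D F r t ht]
  | inv_mem x hx =>
    obtain ⟨r, t, hr, ht, hx⟩ := hx
    have e : x = hGL D hD F r t := Units.ext (by rw [hx, hGL_coe])
    refine ⟨fun i => t⁻¹ ^ cor D r i, fun i => zpow_ne_zero _ (inv_ne_zero ht), ?_⟩
    rw [e, hGL_inv D hD F r hr t ht, hGL_coe, (hMat_all D hD r hr t⁻¹ (inv_ne_zero ht)).1,
      hDiag_eq_hProd D F r t⁻¹ (inv_ne_zero ht)]
  | mul x y _ _ hx hy =>
    obtain ⟨c, hc, ex⟩ := hx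
    obtain ⟨c', hc', ey⟩ := hy
    exact ⟨fun i => c i * c' i, fun i => mul_ne_zero (hc i) (hc' i), by rw [Units.val_mul, ex, ey, hProd_mul]⟩

end Cfsg.Agent.Lib.Helper36
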