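import Cfsg.Agent.Lib.Helper36.ChevRootPair2
import Cfsg.Agent.Lib.Helper36.ChevHProd
import Cfsg.Agent.S0311

/-! # Centralisers of root elements normalised by `B` (helper36) -/

set_option autoImplicit false

namespace Cfsg.Agent.Lib.Helper36

open Cfsg Cfsg.Lie Cfsg.Agent.Lib.Helper18

variable (D : ChevalleyDatum) (hD : D ∈ [chevG2, chevB2, chevD4, chevF4, chevE6, chevE7, chevE8])
variable (F : Type*) [Field F]

include hD in
/-- the entry of `x_s(b)` in row `e_r`, column `e_{-r}` vanishes for `s ≠ r` -/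
theorem x_entry_zero (r s : ℕ) (hr : r < D.nroots) (hs : s < D.nroots) (hne : s ≠ r)
    (hchk : D.chainCoeff s (D.neg r) r = []) (b : F) :
    D.x F s b (Sum.inr ⟨r, hr⟩) (Sum.inr ⟨D.neg r, wf_neg D (wf_all D hD) r hr⟩) = 0 := by
  have hnr : D.neg r ≠ r := (wf2_spec D (wf2_all D hD) r hr).1
  unfold ChevalleyDatum.x
  rw [dif_pos hs]
  simp only [ChevalleyDatum.xMat, Matrix.of_apply]
  have h1 : (⟨r, hr⟩ : Fin D.nroots) ≠ ⟨s, hs⟩ := fun e => hne (Fin.mk.inj_iff.1 e).symm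
  have h2 : (⟨r, hr⟩ : Fin D.nroots) ≠ ⟨D.neg r, wf_neg D (wf_all D hD) r hr⟩ :=
    fun e => hnr (Fin.mk.inj_iff.1 e).symm
  split_ifs with c1 c2
  · rfl
  · rfl
  · rw [hchk]; simp

include hD in
theorem x_entry_self (r : ℕ) (hr : r < D.nroots) (a : F) :
    D.x F r a (Sum.inr ⟨r, hr⟩) (Sum.inr ⟨D.neg r, wf_neg D (wf_all D hD) r hr⟩) = -(a ^ 2) := by
  have hne : D.neg r ≠ r := (wf2_spec D (wf2_all D hD) r hr).1
  have hnr : D.neg r < D.nroots := wf_neg D (wf_all D hD) r hr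
  unfold ChevalleyDatum.x
  rw [dif_pos hr]
  have hne' : (⟨D.neg r, hnr⟩ : Fin D.nroots) ≠ ⟨r, hr⟩ := fun e => hne (Fin.mk.inj_iff.1 e)
  simp only [ChevalleyDatum.xMat, Matrix.of_apply, if_neg hne']
  have e1 : D.neg r = D.negIdx.getD r 0 := rfl
  rw [if_pos e1]
  rw [if_neg hne'.symm, if_pos trivial]

include hD in
/-- `x_s(b) = x_r(a)` with `s ≠ r` forces `a = 0` -/
theorem xGL_eq_root (r s : ℕ) (hr : r < D.nroots) (hs : s < D.nroots) (hne : s ≠ r)
    (hchk : D.chainCoeff s (D.neg r) r = []) (a b : F) (h : xGL D hD F s b = xGL D hD F r a) : a = 0 := by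
  have h1 : D.x F s b = D.x F r a := by rw [← xGL_coe D hD, ← xGL_coe D hD, h]
  have h2 := congrFun (congrFun h1 (Sum.inr ⟨r, hr⟩)) (Sum.inr ⟨D.neg r, wf_neg D (wf_all D hD) r hr⟩)
  rw [x_entry_zero D hD F r s hr hs hne hchk, x_entry_self D hD F r hr] at h2
  have : a ^ 2 = 0 := by
    have := neg_eq_zero.1 h2.symm
    exact this
  exact pow_eq_zero_iff (two_ne_zero) |>.1 this

section main
variable (ρ i₀ : ℕ)

/-- generators of `Q`: positive root elements and the `x_{-p_j}(t)`, `j ≠ i₀` -/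
def qGens : Set (GL D.Idx F) :=
  {g | ∃ (s : ℕ) (t : F), (D.IsPosRoot s ∨ ∃ j < D.rank, j ≠ i₀ ∧ s = D.neg (D.simple j)) ∧
    (g : Matrix D.Idx D.Idx F) = D.x F s t}

/-- the subgroup `Q = ⟨U, X_{-p_j} : j ≠ i₀⟩` -/
def Qsub : Subgroup (GL D.Idx F) := Subgroup.closure (qGens D F i₀)

/-- the hypotheses on the root `ρ` and the node `i₀` -/
structure CentHyp : Prop where
  hρ : ρ < D.nroots
  hcenU : ∀ u ∈ D.posUnipotent F, ∀ t : F, u * xGL D hD F ρ t = xGL D hD F ρ t * u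
  hi₀ : i₀ < D.rank
  hJ : ∀ j < D.rank, j ≠ i₀ → D.reflectRoot j ρ = ρ ∧ D.cartan j ρ = 0 ∧
    ∀ c t : F, xGL D hD F (D.neg (D.simple j)) c * xGL D hD F ρ t =
      xGL D hD F ρ t * xGL D hD F (D.neg (D.simple j)) c
  hi₀' : D.reflectRoot i₀ ρ ≠ ρ ∧ D.cartan i₀ ρ = 1
  hcol : ∀ s < D.nroots, s ≠ ρ → D.chainCoeff s (D.neg ρ) ρ = []

theorem xGL_mem_Qsub_pos (s : ℕ) (hs : D.IsPosRoot s) (t : F) : xGL D hD F s t ∈ Qsub D F i₀ :=
  Subgroup.subset_closure ⟨s, t, Or.inl hs, xGL_coe D hD F s t⟩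

theorem xGL_mem_Qsub_neg (j : ℕ) (hj : j < D.rank) (hne : j ≠ i₀) (t : F) :
    xGL D hD F (D.neg (D.simple j)) t ∈ Qsub D F i₀ :=
  Subgroup.subset_closure ⟨_, t, Or.inr ⟨j, hj, hne, rfl⟩, xGL_coe D hD F _ t⟩

theorem pos_le_Qsub : D.posUnipotent F ≤ Qsub D F i₀ := by
  unfold ChevalleyDatum.posUnipotent Qsub
  apply Subgroup.closure_mono
  rintro x ⟨s, t, hs, hx⟩
  exact ⟨s, t, Or.inl hs, hx⟩

include hD in
theorem Qsub_le_group : Qsub D F i₀ ≤ D.group F := by
  unfold Qsub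
  rw [Subgroup.closure_le]
  rintro x ⟨s, t, -, hx⟩
  have : x = xGL D hD F s t := Units.ext hx
  rw [this]
  exact xGL_mem_group D hD F s t

include hD in
theorem nGL_mem_Qsub (j : ℕ) (hj : j < D.rank) (hne : j ≠ i₀) (c : F) :
    nGL D hD F (D.simple j) c ∈ Qsub D F i₀ := by
  unfold nGL
  apply wordGL_mem
  intro p hp
  simp only [ChevalleyDatum.nWord, List.mem_cons, List.not_mem_nil, or_false] at hp
  rcases hp with rfl | rfl | rfl
  · exact xGL_mem_Qsub_pos D hD F i₀ _ (isPosRoot_simple D hD j hj) _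
  · exact xGL_mem_Qsub_neg D hD F i₀ j hj hne _
  · exact xGL_mem_Qsub_pos D hD F i₀ _ (isPosRoot_simple D hD j hj) _

include hD in
theorem hGL_mem_Qsub (j : ℕ) (hj : j < D.rank) (hne : j ≠ i₀) (c : F) :
    hGL D hD F (D.simple j) c ∈ Qsub D F i₀ := by
  rw [hGL_eq]
  exact mul_mem (nGL_mem_Qsub D hD F i₀ j hj hne _) (nGL_mem_Qsub D hD F i₀ j hj hne _)

include hD in
/-- `H` normalises `Q` -/
theorem diagonal_le_normalizer_Qsub :
    D.diagonalSubgroup F ≤ Subgroup.normalizer (Qsub D F i₀ : Set (GL D.Idx F)) := by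
  intro h hh
  obtain ⟨χ, hχ, e⟩ := exists_character_of_mem_diagonal D hD F h hh
  obtain ⟨χ', hχ', e'⟩ := exists_character_of_mem_diagonal D hD F h⁻¹ (inv_mem hh)
  have hlt : ∀ s, (D.IsPosRoot s ∨ ∃ j < D.rank, j ≠ i₀ ∧ s = D.neg (D.simple j)) → s < D.nroots := by
    rintro s (hs | ⟨j, hj, -, rfl⟩)
    · exact hs.1
    · exact wf_neg D (wf_all D hD) _ (chkN2_spec D (chkN2_all D hD) j hj).1
  unfold Qsub
  apply mem_normalizer_closure
  · rintro x ⟨s, t, hs, hx⟩
    have ex : x = xGL D hD F s t := Units.ext hx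
    rw [ex, diag_conj_xGL D hD F h χ hχ e s (hlt s hs) t]
    exact Subgroup.subset_closure ⟨s, _, hs, xGL_coe D hD F s _⟩
  · rintro x ⟨s, t, hs, hx⟩
    have ex : x = xGL D hD F s t := Units.ext hx
    have := diag_conj_xGL D hD F h⁻¹ χ' hχ' e' s (hlt s hs) t
    rw [inv_inv] at this
    rw [ex, this]
    exact Subgroup.subset_closure ⟨s, _, hs, xGL_coe D hD F s _⟩

variable {ρ i₀}
variable (H : CentHyp D hD F ρ i₀)

include H in
/-- `Q` centralises `x_ρ(t)` -/
theorem Qsub_le_centralizer (t : F) : Qsub D F i₀ ≤ Subgroup.centralizer {xGL D hD F ρ t} := by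
  unfold Qsub
  rw [Subgroup.closure_le]
  rintro x ⟨s, c, hs, hx⟩
  have ex : x = xGL D hD F s c := Units.ext hx
  rw [SetLike.mem_coe, Subgroup.mem_centralizer_iff]
  intro y hy
  rw [Set.mem_singleton_iff] at hy
  subst hy
  rw [ex]
  rcases hs with hs | ⟨j, hj, hne, rfl⟩
  · have hmem : xGL D hD F s c ∈ D.posUnipotent F :=
      Subgroup.subset_closure ⟨s, c, hs, xGL_coe D hD F s c⟩
    exact (H.hcenU _ hmem t).symm
  · exact ((H.hJ j hj hne).2.2 c t).symm

include H in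
theorem borel_conj_root (b : GL D.Idx F) (hb : b ∈ D.borelSubgroup F) (t : F) :
    ∃ t' : F, b * xGL D hD F ρ t * b⁻¹ = xGL D hD F ρ t' := by
  obtain ⟨u, hu, h, hh, rfl⟩ := (mem_borel_iff D hD F b).1 hb
  obtain ⟨χ, hχ, e⟩ := exists_character_of_mem_diagonal D hD F h hh
  have h1 := diag_conj_xGL D hD F h χ hχ e ρ H.hρ t
  refine ⟨(χ ρ : F) * t, ?_⟩
  have h2 := H.hcenU u hu ((χ ρ : F) * t)
  calc u * h * xGL D hD F ρ t * (u * h)⁻¹
      = u * (h * xGL D hD F ρ t * h⁻¹) * u⁻¹ := by group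
    _ = u * xGL D hD F ρ ((χ ρ : F) * t) * u⁻¹ := by rw [h1]
    _ = xGL D hD F ρ ((χ ρ : F) * t) := by rw [h2]; group

include hD in
theorem mem_normalizer_root (g : GL D.Idx F)
    (h : ∀ t : F, ∃ t' : F, g * xGL D hD F ρ t * g⁻¹ = xGL D hD F ρ t')
    (h' : ∀ t : F, ∃ t' : F, g⁻¹ * xGL D hD F ρ t * g = xGL D hD F ρ t') :
    g ∈ Subgroup.normalizer (D.rootSubgroup F ρ : Set (GL D.Idx F)) := by
  rw [Subgroup.mem_normalizer_iff]
  intro x
  constructor
  · intro hx
    obtain ⟨t, rfl⟩ := (mem_rootSubgroup_iff D hD F ρ x).1 hx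
    obtain ⟨t', ht'⟩ := h t
    rw [ht']
    exact mem_rootSubgroup D hD F ρ t'
  · intro hx
    obtain ⟨t, ht⟩ := (mem_rootSubgroup_iff D hD F ρ _).1 hx
    obtain ⟨t', ht'⟩ := h' t
    have : x = xGL D hD F ρ t' := by
      rw [← ht', ← ht]; group
    rw [this]
    exact mem_rootSubgroup D hD F ρ t'

include H in
theorem borel_le_normalizer_root :
    D.borelSubgroup F ≤ Subgroup.normalizer (D.rootSubgroup F ρ : Set (GL D.Idx F)) := by
  intro b hb
  apply mem_normalizer_root D hD F b (borel_conj_root D hD F H b hb)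
  intro t
  have := borel_conj_root D hD F H b⁻¹ (inv_mem hb) t
  simpa using this

include hD in
theorem xGL_injective' (r : ℕ) (hr : r < D.nroots) (a b : F) (h : xGL D hD F r a = xGL D hD F r b) : a = b := by
  have h2 : xGL D hD F r (a - b) = 1 := by
    rw [sub_eq_add_neg, xGL_add, ← xGL_inv, h, mul_inv_cancel]
  have h3 : D.x F r (a - b) = 1 := by
    rw [← xGL_coe D hD, h2]; rfl
  exact sub_eq_zero.1 (x_eq_one_iff D hD F r hr _ h3)

include H in
/-- an element of `N` normalising... : if `n x_ρ(t) n⁻¹ = x_{r'}(c t)` and `x_{r'}(a) = x_ρ(b)` with `a ≠ 0` then `r' = ρ` -/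
theorem root_eq_of_xGL_eq (r' : ℕ) (hr' : r' < D.nroots) (a b : F) (ha : a ≠ 0)
    (h : xGL D hD F r' a = xGL D hD F ρ b) : r' = ρ := by
  by_contra hne
  have hb := xGL_eq_root D hD F ρ r' H.hρ hr' hne (H.hcol r' hr' hne) b a h
  rw [hb, xGL_zero] at h
  have h3 : D.x F r' a = 1 := by
    rw [← xGL_coe D hD, h]; rfl
  exact ha (x_eq_one_iff D hD F r' hr' _ h3)

include H in
/-- the centraliser of `x_ρ(1)` in the group normalises `X_ρ` -/
theorem centralizer_le_normalizer (g : GL D.Idx F) (hg : g ∈ D.group F)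
    (hc : g * xGL D hD F ρ 1 = xGL D hD F ρ 1 * g) :
    g ∈ Subgroup.normalizer (D.rootSubgroup F ρ : Set (GL D.Idx F)) := by
  have h45 : ∀ i < D.rank, H45 D F i := fun i hi => Cfsg.Agent.S1045.result D hD i hi
  obtain ⟨P, hB, hN, -⟩ := exists_bnPair D hD F h45
  obtain ⟨n, hn, hgn⟩ := Cfsg.Agent.S0308.result P ⟨g, hg⟩
  rw [hN, Subgroup.mem_subgroupOf] at hn
  rw [DoubleCoset.mem_doubleCoset] at hgn
  obtain ⟨x, hx, y, hy, e⟩ := hgn
  rw [SetLike.mem_coe, hB, Subgroup.mem_subgroupOf] at hx hy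
  have e' : g = (x : GL D.Idx F) * (n : GL D.Idx F) * (y : GL D.Idx F) := congrArg Subtype.val e
  obtain ⟨l, hl, hact⟩ := exists_word_conj D hD F _ hn
  obtain ⟨c, hc0, hcact⟩ := hact ρ H.hρ
  set r' := wRoot D l ρ with hr'
  have hr'lt : r' < D.nroots := wRoot_lt D hD l hl _ H.hρ
  -- y t y⁻¹ = x_ρ(c₁)
  obtain ⟨c₁, hc₁⟩ := borel_conj_root D hD F H _ hy 1
  obtain ⟨c₂, hc₂⟩ := borel_conj_root D hD F H _ (inv_mem hx) 1
  rw [inv_inv] at hc₂
  have hc₁0 : c₁ ≠ 0 := by
    intro h0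
    rw [h0, xGL_zero] at hc₁
    have : xGL D hD F ρ 1 = 1 := by
      have := congrArg (fun z => (y : GL D.Idx F)⁻¹ * z * (y : GL D.Idx F)) hc₁
      simp only [mul_one, inv_mul_cancel] at this
      rw [← this]; group
    have h3 : D.x F ρ 1 = 1 := by rw [← xGL_coe D hD, this]; rfl
    exact one_ne_zero (x_eq_one_iff D hD F ρ H.hρ _ h3)
  -- g t g⁻¹ = t
  have h1 : (n : GL D.Idx F) * xGL D hD F ρ c₁ * (n : GL D.Idx F)⁻¹ = xGL D hD F ρ c₂ := by
    rw [← hc₁, ← hc₂]
    have : g * xGL D hD F ρ 1 * g⁻¹ = xGL D hD F ρ 1 := by rw [hc]; group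
    rw [e'] at this
    calc (n : GL D.Idx F) * ((y : GL D.Idx F) * xGL D hD F ρ 1 * (y : GL D.Idx F)⁻¹) * (n : GL D.Idx F)⁻¹
        = (x : GL D.Idx F)⁻¹ * ((x : GL D.Idx F) * (n : GL D.Idx F) * (y : GL D.Idx F) * xGL D hD F ρ 1 *
            ((x : GL D.Idx F) * (n : GL D.Idx F) * (y : GL D.Idx F))⁻¹) * (x : GL D.Idx F) := by group
      _ = _ := by rw [this]
  rw [hcact c₁] at h1
  have hr'eq : r' = ρ := root_eq_of_xGL_eq D hD F H r' hr'lt _ _ (mul_ne_zero hc0 hc₁0) h1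
  -- n normalises X_ρ
  have hnN : (n : GL D.Idx F) ∈ Subgroup.normalizer (D.rootSubgroup F ρ : Set (GL D.Idx F)) := by
    apply mem_normalizer_root D hD F
    · intro t
      exact ⟨c * t, by rw [hcact t, hr'eq]⟩
    · intro t
      refine ⟨t / c, ?_⟩
      have := hcact (t / c)
      rw [mul_div_cancel₀ t hc0, hr'eq] at this
      rw [← this]; group
  rw [e']
  have hBN := borel_le_normalizer_root D hD F H
  exact mul_mem (mul_mem (hBN hx) hnN) (hBN hy)

theorem units_val_list_prod' {n : Type*} [Fintype n] [DecidableEq n] (l : List (GL n F)) :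
    (Units.val l.prod : Matrix n n F) = (l.map Units.val).prod :=
  map_list_prod (Units.coeHom _) l

include H in
/-- an element of `H` centralising `x_ρ(1)` lies in `Q` -/
theorem diag_centralizer_mem_Qsub (h : GL D.Idx F) (hh : h ∈ D.diagonalSubgroup F)
    (hc : h * xGL D hD F ρ 1 = xGL D hD F ρ 1 * h) : h ∈ Qsub D F i₀ := by
  obtain ⟨χ, hχ, e⟩ := exists_character_of_mem_diagonal D hD F h hh
  obtain ⟨c, hc0, ec⟩ := exists_hProd_of_mem_diagonal D hD F h hh
  have h1 := diag_conj_xGL D hD F h χ hχ e ρ H.hρ 1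
  have h2 : xGL D hD F ρ ((χ ρ : F) * 1) = xGL D hD F ρ 1 := by
    rw [← h1, hc]; group
  have hχρ : (χ ρ : F) = 1 := by
    have := xGL_injective' D hD F ρ H.hρ _ _ h2
    rwa [mul_one] at this
  -- compare the diagonal entries
  have h3 : (χ ρ : F) = ((List.range D.rank).map fun i => c i ^ D.cartan i ρ).prod := by
    have := congrFun (congrFun (e.symm.trans ec) (Sum.inr ⟨ρ, H.hρ⟩)) (Sum.inr ⟨ρ, H.hρ⟩)
    unfold ChevalleyDatum.charDiag hProd at this
    simpa using this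
  have h4 : ((List.range D.rank).map fun i => c i ^ D.cartan i ρ).prod = c i₀ := by
    rw [List.prod_map_eq_pow_single i₀]
    · rw [List.count_eq_one_of_mem List.nodup_range (List.mem_range.2 H.hi₀), pow_one, H.hi₀'.2, zpow_one]
    · intro j hj hmem
      rw [(H.hJ j (List.mem_range.1 hmem) hj).2.1, zpow_zero]
  have hci₀ : c i₀ = 1 := by rw [← h4, ← h3, hχρ]
  -- h as a product
  have hprod : h = ((List.range D.rank).map fun i => hGL D hD F (D.simple i) (c i)).prod := by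
    apply Units.ext
    rw [ec]
    have e1 : (Units.val ((List.range D.rank).map fun i => hGL D hD F (D.simple i) (c i)).prod :
        Matrix D.Idx D.Idx F) = ((List.range D.rank).map fun i => D.hMat F (D.simple i) (c i)).prod := by
      rw [units_val_list_prod', List.map_map]
      congr 1
    rw [e1, prod_hMat_simple D hD F c (fun i _ => hc0 i) D.rank le_rfl]
    rfl
  rw [hprod]
  apply Subgroup.list_prod_mem
  intro z hz
  obtain ⟨i, hi, rfl⟩ := List.mem_map.1 hz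
  have hi := List.mem_range.1 hi
  by_cases hii : i = i₀
  · have : hGL D hD F (D.simple i) (c i) = 1 := by
      apply Units.ext
      rw [hGL_coe, hii, hci₀, (hMat_all D hD _ (chkN2_spec D (chkN2_all D hD) i₀ H.hi₀).1 1 one_ne_zero).1,
        hDiag_one]
      rfl
    rw [this]
    exact one_mem _
  · exact hGL_mem_Qsub D hD F i₀ i hi hii _

include H in
/-- the centraliser of `x_ρ(1)` in the Chevalley group is `Q` -/
theorem centralizer_eq_Qsub :
    D.group F ⊓ Subgroup.centralizer {xGL D hD F ρ 1} = Qsub D F i₀ := by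
  apply le_antisymm
  · intro g hgg
    obtain ⟨hg, hgc⟩ := Subgroup.mem_inf.1 hgg
    rw [Subgroup.mem_centralizer_iff] at hgc
    have hc : g * xGL D hD F ρ 1 = xGL D hD F ρ 1 * g := (hgc _ rfl).symm
    have h45 : ∀ i < D.rank, H45 D F i := fun i hi => Cfsg.Agent.S1045.result D hD i hi
    obtain ⟨P, hB, hN, hS⟩ := exists_bnPair D hD F h45
    -- the normaliser of X_ρ is a parabolic subgroup
    set M : Subgroup ↥(D.group F) :=
      (Subgroup.normalizer (D.rootSubgroup F ρ : Set (GL D.Idx F))).subgroupOf (D.group F) with hM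
    have hBM : P.B ≤ M := by
      intro b hb
      rw [hB, Subgroup.mem_subgroupOf] at hb
      rw [hM, Subgroup.mem_subgroupOf]
      exact borel_le_normalizer_root D hD F H hb
    obtain ⟨K, hKS, hMK⟩ := Cfsg.Agent.S0311.result P M hBM
    have hgM : (⟨g, hg⟩ : ↥(D.group F)) ∈ M := by
      rw [hM, Subgroup.mem_subgroupOf]
      exact centralizer_le_normalizer D hD F H g hg hc
    -- M ≤ Q ⊔ H
    have hKQ : ∀ k ∈ K, (k : GL D.Idx F) ∈ Qsub D F i₀ := by
      intro k hk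
      have hkM : k ∈ M := by
        rw [hMK]
        exact (le_sup_right : Subgroup.closure K ≤ P.parabolic K) (Subgroup.subset_closure hk)
      rw [hM, Subgroup.mem_subgroupOf] at hkM
      have hkS := hKS hk
      rw [hS] at hkS
      obtain ⟨i, hi, hki⟩ := hkS
      have hk' : (k : GL D.Idx F) = nGL D hD F (D.simple i) 1 := Units.ext (by rw [hki, nGL_coe])
      rw [hk']
      apply nGL_mem_Qsub D hD F i₀ i hi
      intro hii
      -- n_{i₀} does not normalise X_ρ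
      have hsi := (chkN2_spec D (chkN2_all D hD) i hi).1
      have hxr := xGL_reflect D hD F i ρ hi H.hρ 1
      rw [Subgroup.mem_normalizer_iff] at hkM
      have hmem := (hkM (xGL D hD F ρ (((nEta D i ρ : ℤ) : F) * 1))).1 (mem_rootSubgroup D hD F ρ _)
      rw [hk', ← hxr] at hmem
      obtain ⟨b, hb⟩ := (mem_rootSubgroup_iff D hD F ρ _).1 hmem
      have := root_eq_of_xGL_eq D hD F H _ (reflectRoot_lt D hD i ρ hi H.hρ) 1 b one_ne_zero hb
      rw [hii] at this
      exact H.hi₀'.1 this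
    have hMle : M ≤ (Qsub D F i₀ ⊔ D.diagonalSubgroup F).subgroupOf (D.group F) := by
      rw [hMK]
      unfold BNPair.parabolic
      apply sup_le
      · intro b hb
        rw [hB, Subgroup.mem_subgroupOf] at hb
        rw [Subgroup.mem_subgroupOf]
        unfold ChevalleyDatum.borelSubgroup at hb
        exact (sup_le_sup_right (pos_le_Qsub D F i₀) _) hb
      · rw [Subgroup.closure_le]
        intro k hk
        rw [SetLike.mem_coe, Subgroup.mem_subgroupOf]
        exact (le_sup_left : Qsub D F i₀ ≤ _) (hKQ k hk)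
    have hgQH : g ∈ Qsub D F i₀ ⊔ D.diagonalSubgroup F := by
      have := hMle hgM
      rwa [Subgroup.mem_subgroupOf] at this
    -- g = q h
    have hmul := Subgroup.coe_mul_of_right_le_normalizer_left (Qsub D F i₀) (D.diagonalSubgroup F)
      (diagonal_le_normalizer_Qsub D hD F i₀)
    rw [← SetLike.mem_coe, hmul, Set.mem_mul] at hgQH
    obtain ⟨q, hq, h, hh, rfl⟩ := hgQH
    rw [SetLike.mem_coe] at hq hh
    have hqc := Qsub_le_centralizer D hD F H 1 hq
    rw [Subgroup.mem_centralizer_iff] at hqc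
    have hqc' : q * xGL D hD F ρ 1 = xGL D hD F ρ 1 * q := (hqc _ rfl).symm
    have hhc : h * xGL D hD F ρ 1 = xGL D hD F ρ 1 * h := by
      have : q * (h * xGL D hD F ρ 1) = q * (xGL D hD F ρ 1 * h) := by
        rw [← mul_assoc, hc, ← mul_assoc, ← hqc', mul_assoc]
      exact mul_left_cancel this
    exact mul_mem hq (diag_centralizer_mem_Qsub D hD F H h hh hhc)
  · exact le_inf (Qsub_le_group D hD F i₀) (Qsub_le_centralizer D hD F H 1)

end main

end Cfsg.Agent.Lib.Helper36
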