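import Cfsg.Agent.Lib.Helper36.ChevW0d
import Cfsg.Agent.Lib.Helper36.ChevHProd

/-! # Functoriality of the Chevalley matrices in the field (helper36) -/

set_option autoImplicit false

namespace Cfsg.Agent.Lib.Helper36

open Cfsg Cfsg.Lie

variable (D : ChevalleyDatum) (hD : D ∈ [chevG2, chevB2, chevD4, chevF4, chevE6, chevE7, chevE8])
variable {F₁ F₂ : Type*} [Field F₁] [Field F₂] (f : F₁ →+* F₂)

theorem xMat_map' (r : Fin D.nroots) (t : F₁) :
    (D.xMat F₁ r t).map f = D.xMat F₂ r (f t) := by
  ext row col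
  rcases row with i' | u <;> rcases col with i | s
  · simp only [ChevalleyDatum.xMat, Matrix.map_apply, Matrix.of_apply]
    split_ifs <;> simp
  · simp only [ChevalleyDatum.xMat, Matrix.map_apply, Matrix.of_apply]
    split_ifs <;> simp
  · simp only [ChevalleyDatum.xMat, Matrix.map_apply, Matrix.of_apply]
    split_ifs <;> simp
  · simp only [ChevalleyDatum.xMat, Matrix.map_apply, Matrix.of_apply]
    split_ifs <;> simp [map_list_sum, List.map_map, Function.comp_def]

theorem x_map' (r : ℕ) (t : F₁) : (D.x F₁ r t).map f = D.x F₂ r (f t) := by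
  unfold ChevalleyDatum.x
  by_cases hr : r < D.nroots
  · rw [dif_pos hr, dif_pos hr, xMat_map']
  · rw [dif_neg hr, dif_neg hr]
    exact Matrix.map_one f (map_zero f) (map_one f)

/-- the map of general linear groups induced by a homomorphism of fields -/
noncomputable def glMap : GL D.Idx F₁ →* GL D.Idx F₂ := Matrix.GeneralLinearGroup.map f

theorem coe_glMap (g : GL D.Idx F₁) :
    ((glMap D f g : GL D.Idx F₂) : Matrix D.Idx D.Idx F₂) = (g : Matrix D.Idx D.Idx F₁).map f := by
  ext i j
  simp [glMap, Matrix.GeneralLinearGroup.map_apply]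

theorem glMap_injective : Function.Injective (glMap D f) := by
  intro a b h
  apply Units.ext
  have h1 := congrArg (fun g : GL D.Idx F₂ => (g : Matrix D.Idx D.Idx F₂)) h
  simp only [coe_glMap] at h1
  ext i j
  have h2 := congrFun (congrFun h1 i) j
  simp only [Matrix.map_apply] at h2
  exact f.injective h2

theorem glMap_xGL (r : ℕ) (t : F₁) : glMap D f (xGL D hD F₁ r t) = xGL D hD F₂ r (f t) := by
  apply Units.ext
  rw [coe_glMap, xGL_coe, xGL_coe, x_map']

theorem glMap_wordGL (w : List (ℕ × F₁)) :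
    glMap D f (wordGL D hD F₁ w) = wordGL D hD F₂ (w.map fun p => (p.1, f p.2)) := by
  unfold wordGL
  rw [map_list_prod, List.map_map, List.map_map]
  congr 1
  apply List.map_congr_left
  intro p _
  simp only [Function.comp_apply]
  exact glMap_xGL D hD f p.1 p.2

theorem glMap_nGL (r : ℕ) (t : F₁) : glMap D f (nGL D hD F₁ r t) = nGL D hD F₂ r (f t) := by
  unfold nGL
  rw [glMap_wordGL]
  congr 1
  simp [ChevalleyDatum.nWord, map_neg, map_inv₀]

theorem glMap_hGL (r : ℕ) (t : F₁) : glMap D f (hGL D hD F₁ r t) = hGL D hD F₂ r (f t) := by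
  rw [hGL_eq, hGL_eq, map_mul, glMap_nGL, glMap_nGL, map_neg, map_one]

theorem glMap_nWordGL (l : List ℕ) : glMap D f (nWordGL D hD F₁ l) = nWordGL D hD F₂ l := by
  unfold nWordGL
  rw [map_list_prod, List.map_map]
  congr 1
  apply List.map_congr_left
  intro i _
  simp only [Function.comp_apply]
  rw [glMap_nGL, map_one]

include hD in
theorem glMap_group_le : (D.group F₁).map (glMap D f) ≤ D.group F₂ := by
  rw [Subgroup.map_le_iff_le_comap]
  apply group_le D hD F₁
  intro r _ t
  rw [Subgroup.mem_comap, glMap_xGL]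
  exact xGL_mem_group D hD F₂ r (f t)

include hD in
theorem glMap_pos_le : (D.posUnipotent F₁).map (glMap D f) ≤ D.posUnipotent F₂ := by
  unfold ChevalleyDatum.posUnipotent
  rw [MonoidHom.map_closure, Subgroup.closure_le]
  rintro _ ⟨x, ⟨r, t, hr, hx⟩, rfl⟩
  have : x = xGL D hD F₁ r t := Units.ext hx
  rw [this, glMap_xGL]
  exact Subgroup.subset_closure ⟨r, f t, hr, rfl⟩

include hD in
theorem glMap_neg_le : (D.negUnipotent F₁).map (glMap D f) ≤ D.negUnipotent F₂ := by
  unfold ChevalleyDatum.negUnipotent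
  rw [MonoidHom.map_closure, Subgroup.closure_le]
  rintro _ ⟨x, ⟨r, t, hr, hx⟩, rfl⟩
  have : x = xGL D hD F₁ r t := Units.ext hx
  rw [this, glMap_xGL]
  exact Subgroup.subset_closure ⟨r, f t, hr, rfl⟩

include hD in
theorem glMap_diag_le : (D.diagonalSubgroup F₁).map (glMap D f) ≤ D.diagonalSubgroup F₂ := by
  unfold ChevalleyDatum.diagonalSubgroup
  rw [MonoidHom.map_closure, Subgroup.closure_le]
  rintro _ ⟨x, ⟨r, t, hr, ht, hx⟩, rfl⟩
  have : x = hGL D hD F₁ r t := Units.ext (by rw [hx, hGL_coe])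
  rw [this, glMap_hGL]
  exact Subgroup.subset_closure ⟨r, f t, hr, (map_ne_zero f).2 ht, hGL_coe D hD F₂ r (f t)⟩

include hD in
theorem glMap_borel_le : (D.borelSubgroup F₁).map (glMap D f) ≤ D.borelSubgroup F₂ := by
  unfold ChevalleyDatum.borelSubgroup
  rw [Subgroup.map_sup]
  exact sup_le_sup (glMap_pos_le D hD f) (glMap_diag_le D hD f)

theorem hProd_map (c : ℕ → F₁) : (hProd D F₁ c).map f = hProd D F₂ (fun i => f (c i)) := by
  unfold hProd
  rw [Matrix.diagonal_map (map_zero f)]
  congr 1
  funext x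
  rcases x with j | s
  · simp
  · simp only [Function.comp_apply, Sum.elim_inr]
    rw [map_list_prod, List.map_map]
    congr 1
    apply List.map_congr_left
    intro i _
    simp only [Function.comp_apply]
    exact map_zpow₀ f (c i) _

theorem hProd_congr (F : Type*) [Field F] (c c' : ℕ → F) (h : ∀ i < D.rank, c i = c' i) :
    hProd D F c = hProd D F c' := by
  unfold hProd
  congr 2
  funext s
  congr 1
  apply List.map_congr_left
  intro i hi
  rw [h i (List.mem_range.1 hi)]

end Cfsg.Agent.Lib.Helper36
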