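import Cfsg.Agent.Lib.Helper36.ChevPoin
import Cfsg.Agent.S1039

/-! # The Poincare sum of the Weyl group of type B2 (helper36; generated by tools/helper36/poin_gen.py) -/

set_option autoImplicit false
set_option maxRecDepth 100000

namespace Cfsg.Agent.Lib.Helper36.PoinB2

open Cfsg Cfsg.Lie Cfsg.Agent.Lib.Helper18 Cfsg.Agent.Lib.Helper36

theorem hD : chevB2 ∈ [chevG2, chevB2, chevD4, chevF4, chevE6, chevE7, chevE8] := by simp

theorem hAc : ∀ i j : Fin 2, CoxB2.A i j = chevB2.cartan j (chevB2.simple i) :=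
  chkCartanA_spec chevB2 2 CoxB2.A Cfsg.Agent.S1039.cB2

theorem finW : Finite CoxB2.M.Group := Nat.finite_of_card_ne_zero (by rw [CoxB2.card_eq]; decide)

/-- the Poincare sum of a subset of the Weyl group -/
noncomputable abbrev pw (q : ℕ) (K : Set CoxB2.M.Group) : ℕ :=
  poinW' chevB2 hD 2 rfl CoxB2.M CoxB2.A CoxB2.hA hAc finW q K

def rows : List (List ℤ) := [[0, 1], [1, 0], [1, 2], [1, 1]]

theorem rows_eq : posRows chevB2 = rows := by decide +kernel

def exps0 : List ℕ := [0, 1, 2, 3]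

theorem exps0_eq : (CoxB2.vecs0.map fun v => cntNeg rows (List.ofFn v)) = exps0 := by decide +kernel

theorem lev0 (q : ℕ) (hq : 0 < q) :
    pw q (Subgroup.closure (gens CoxB2.M CoxB2.J0) : Set CoxB2.M.Group) =
      pw q (Subgroup.closure (gens CoxB2.M CoxB2.J1) : Set CoxB2.M.Group) * (exps0.map fun e => q ^ e).sum := by
  unfold pw
  rw [level_poin' chevB2 hD 2 rfl CoxB2.M CoxB2.A CoxB2.hA hAc finW (1 : Fin 2) CoxB2.J0 CoxB2.J1 CoxB2.sub0
    CoxB2.base0 (by decide) CoxB2.reps0 CoxB2.mr0_0 CoxB2.allP0 CoxB2.fix0 CoxB2.vecs0 CoxB2.map0 CoxB2.nd0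
    q hq, rows_eq, exps0_eq]

def exps1 : List ℕ := [0, 1]

theorem exps1_eq : (CoxB2.vecs1.map fun v => cntNeg rows (List.ofFn v)) = exps1 := by decide +kernel

theorem lev1 (q : ℕ) (hq : 0 < q) :
    pw q (Subgroup.closure (gens CoxB2.M CoxB2.J1) : Set CoxB2.M.Group) =
      pw q (Subgroup.closure (gens CoxB2.M CoxB2.J2) : Set CoxB2.M.Group) * (exps1.map fun e => q ^ e).sum := by
  unfold pw
  rw [level_poin' chevB2 hD 2 rfl CoxB2.M CoxB2.A CoxB2.hA hAc finW (0 : Fin 2) CoxB2.J1 CoxB2.J2 CoxB2.sub1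
    CoxB2.base1 (by decide) CoxB2.reps1 CoxB2.mr1_0 CoxB2.allP1 CoxB2.fix1 CoxB2.vecs1 CoxB2.map1 CoxB2.nd1
    q hq, rows_eq, exps1_eq]

theorem poin_univ (q : ℕ) (hq : 0 < q) :
    pw q (Set.univ : Set CoxB2.M.Group) = (exps1.map fun e => q ^ e).sum * (exps0.map fun e => q ^ e).sum := by
  have h0 : (Set.univ : Set CoxB2.M.Group) = (Subgroup.closure (gens CoxB2.M CoxB2.J0) : Set CoxB2.M.Group) := by
    rw [closure_gens_all CoxB2.M CoxB2.J0 (by decide), Subgroup.coe_top]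
  have hL : pw q (Subgroup.closure (gens CoxB2.M CoxB2.J2) : Set CoxB2.M.Group) = 1 := by
    have : Subgroup.closure (gens CoxB2.M CoxB2.J2) = ⊥ := closure_gens_nil CoxB2.M
    rw [this]
    exact poinW'_bot chevB2 hD 2 rfl CoxB2.M CoxB2.A CoxB2.hA hAc finW q
  rw [h0, lev0 q hq, lev1 q hq, hL, one_mul]

end Cfsg.Agent.Lib.Helper36.PoinB2
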