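import Cfsg.Agent.Lib.Helper36.ChevPoin
import Cfsg.Agent.S1039

/-! # The Poincare sum of the Weyl group of type E6 (helper36; generated by tools/helper36/poin_gen.py) -/

set_option autoImplicit false
set_option maxRecDepth 100000

namespace Cfsg.Agent.Lib.Helper36.PoinE6

open Cfsg Cfsg.Lie Cfsg.Agent.Lib.Helper18 Cfsg.Agent.Lib.Helper36

theorem hD : chevE6 ∈ [chevG2, chevB2, chevD4, chevF4, chevE6, chevE7, chevE8] := by simp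

theorem hAc : ∀ i j : Fin 6, CoxE6.A i j = chevE6.cartan j (chevE6.simple i) :=
  chkCartanA_spec chevE6 6 CoxE6.A Cfsg.Agent.S1039.cE6

theorem finW : Finite CoxE6.M.Group := Nat.finite_of_card_ne_zero (by rw [CoxE6.card_eq]; decide)

/-- the Poincare sum of a subset of the Weyl group -/
noncomputable abbrev pw (q : ℕ) (K : Set CoxE6.M.Group) : ℕ :=
  poinW' chevE6 hD 6 rfl CoxE6.M CoxE6.A CoxE6.hA hAc finW q K

def rows : List (List ℤ) := [[0, 0, 0, 0, 0, 1], [0, 0, 0, 0, 1, 0], [0, 0, 0, 0, 1, 1], [0, 0, 0, 1, 0, 0], [0, 0, 0, 1, 1, 0], [0, 0, 0, 1, 1, 1], [0, 0, 1, 0, 0, 0], [0, 0, 1, 1, 0, 0], [0, 0, 1, 1, 1, 0], [0, 0, 1, 1, 1, 1], [0, 1, 0, 0, 0, 0], [0, 1, 0, 1, 0, 0], [0, 1, 0, 1, 1, 0], [0, 1, 0, 1, 1, 1], [0, 1, 1, 1, 0, 0], [0, 1, 1, 1, 1, 0], [0, 1, 1, 1, 1, 1], [0, 1, 1, 2, 1, 0], [0, 1, 1, 2, 1, 1], [0, 1, 1, 2, 2, 1], [1, 0, 0, 0, 0, 0],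 [1, 0, 1, 0, 0, 0], [1, 0, 1, 1, 0, 0], [1, 0, 1, 1, 1, 0], [1, 0, 1, 1, 1, 1], [1, 1, 1, 1, 0, 0], [1, 1, 1, 1, 1, 0], [1, 1, 1, 1, 1, 1], [1, 1, 1, 2, 1, 0], [1, 1, 1, 2, 1, 1], [1, 1, 1, 2, 2, 1], [1, 1, 2, 2, 1, 0], [1, 1, 2, 2, 1, 1], [1, 1, 2, 2, 2, 1], [1, 1, 2, 3, 2, 1], [1, 2, 2, 3, 2, 1]]

theorem rows_eq : posRows chevE6 = rows := by decide +kernel

def exps0 : List ℕ := [0, 1, 2, 3, 4, 4, 5, 5, 6, 6, 7, 7, 8, 8, 8, 9, 9, 10, 10, 11, 11, 12, 12, 13, 14, 15, 16]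

theorem exps0_eq : (CoxE6.vecs0.map fun v => cntNeg rows (List.ofFn v)) = exps0 := by decide +kernel

theorem lev0 (q : ℕ) (hq : 0 < q) :
    pw q (Subgroup.closure (gens CoxE6.M CoxE6.J0) : Set CoxE6.M.Group) =
      pw q (Subgroup.closure (gens CoxE6.M CoxE6.J1) : Set CoxE6.M.Group) * (exps0.map fun e => q ^ e).sum := by
  unfold pw
  rw [level_poin' chevE6 hD 6 rfl CoxE6.M CoxE6.A CoxE6.hA hAc finW (0 : Fin 6) CoxE6.J0 CoxE6.J1 CoxE6.sub0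
    CoxE6.base0 (by decide) CoxE6.reps0 CoxE6.mr0_0 CoxE6.allP0 CoxE6.fix0 CoxE6.vecs0 CoxE6.map0 CoxE6.nd0
    q hq, rows_eq, exps0_eq]

def exps1 : List ℕ := [0, 1, 2, 3, 4, 4, 5, 6, 7, 8]

theorem exps1_eq : (CoxE6.vecs1.map fun v => cntNeg rows (List.ofFn v)) = exps1 := by decide +kernel

theorem lev1 (q : ℕ) (hq : 0 < q) :
    pw q (Subgroup.closure (gens CoxE6.M CoxE6.J1) : Set CoxE6.M.Group) =
      pw q (Subgroup.closure (gens CoxE6.M CoxE6.J2) : Set CoxE6.M.Group) * (exps1.map fun e => q ^ e).sum := by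
  unfold pw
  rw [level_poin' chevE6 hD 6 rfl CoxE6.M CoxE6.A CoxE6.hA hAc finW (5 : Fin 6) CoxE6.J1 CoxE6.J2 CoxE6.sub1
    CoxE6.base1 (by decide) CoxE6.reps1 CoxE6.mr1_0 CoxE6.allP1 CoxE6.fix1 CoxE6.vecs1 CoxE6.map1 CoxE6.nd1
    q hq, rows_eq, exps1_eq]

def exps2 : List ℕ := [0, 1, 2, 3, 3, 4, 5, 6]

theorem exps2_eq : (CoxE6.vecs2.map fun v => cntNeg rows (List.ofFn v)) = exps2 := by decide +kernel

theorem lev2 (q : ℕ) (hq : 0 < q) :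
    pw q (Subgroup.closure (gens CoxE6.M CoxE6.J2) : Set CoxE6.M.Group) =
      pw q (Subgroup.closure (gens CoxE6.M CoxE6.J3) : Set CoxE6.M.Group) * (exps2.map fun e => q ^ e).sum := by
  unfold pw
  rw [level_poin' chevE6 hD 6 rfl CoxE6.M CoxE6.A CoxE6.hA hAc finW (4 : Fin 6) CoxE6.J2 CoxE6.J3 CoxE6.sub2
    CoxE6.base2 (by decide) CoxE6.reps2 CoxE6.mr2_0 CoxE6.allP2 CoxE6.fix2 CoxE6.vecs2 CoxE6.map2 CoxE6.nd2
    q hq, rows_eq, exps2_eq]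

def exps3 : List ℕ := [0, 1, 2, 2, 3, 4]

theorem exps3_eq : (CoxE6.vecs3.map fun v => cntNeg rows (List.ofFn v)) = exps3 := by decide +kernel

theorem lev3 (q : ℕ) (hq : 0 < q) :
    pw q (Subgroup.closure (gens CoxE6.M CoxE6.J3) : Set CoxE6.M.Group) =
      pw q (Subgroup.closure (gens CoxE6.M CoxE6.J4) : Set CoxE6.M.Group) * (exps3.map fun e => q ^ e).sum := by
  unfold pw
  rw [level_poin' chevE6 hD 6 rfl CoxE6.M CoxE6.A CoxE6.hA hAc finW (3 : Fin 6) CoxE6.J3 CoxE6.J4 CoxE6.sub3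
    CoxE6.base3 (by decide) CoxE6.reps3 CoxE6.mr3_0 CoxE6.allP3 CoxE6.fix3 CoxE6.vecs3 CoxE6.map3 CoxE6.nd3
    q hq, rows_eq, exps3_eq]

def exps4 : List ℕ := [0, 1]

theorem exps4_eq : (CoxE6.vecs4.map fun v => cntNeg rows (List.ofFn v)) = exps4 := by decide +kernel

theorem lev4 (q : ℕ) (hq : 0 < q) :
    pw q (Subgroup.closure (gens CoxE6.M CoxE6.J4) : Set CoxE6.M.Group) =
      pw q (Subgroup.closure (gens CoxE6.M CoxE6.J5) : Set CoxE6.M.Group) * (exps4.map fun e => q ^ e).sum := by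
  unfold pw
  rw [level_poin' chevE6 hD 6 rfl CoxE6.M CoxE6.A CoxE6.hA hAc finW (2 : Fin 6) CoxE6.J4 CoxE6.J5 CoxE6.sub4
    CoxE6.base4 (by decide) CoxE6.reps4 CoxE6.mr4_0 CoxE6.allP4 CoxE6.fix4 CoxE6.vecs4 CoxE6.map4 CoxE6.nd4
    q hq, rows_eq, exps4_eq]

def exps5 : List ℕ := [0, 1]

theorem exps5_eq : (CoxE6.vecs5.map fun v => cntNeg rows (List.ofFn v)) = exps5 := by decide +kernel

theorem lev5 (q : ℕ) (hq : 0 < q) :
    pw q (Subgroup.closure (gens CoxE6.M CoxE6.J5) : Set CoxE6.M.Group) =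
      pw q (Subgroup.closure (gens CoxE6.M CoxE6.J6) : Set CoxE6.M.Group) * (exps5.map fun e => q ^ e).sum := by
  unfold pw
  rw [level_poin' chevE6 hD 6 rfl CoxE6.M CoxE6.A CoxE6.hA hAc finW (1 : Fin 6) CoxE6.J5 CoxE6.J6 CoxE6.sub5
    CoxE6.base5 (by decide) CoxE6.reps5 CoxE6.mr5_0 CoxE6.allP5 CoxE6.fix5 CoxE6.vecs5 CoxE6.map5 CoxE6.nd5
    q hq, rows_eq, exps5_eq]

theorem poin_univ (q : ℕ) (hq : 0 < q) :
    pw q (Set.univ : Set CoxE6.M.Group) = (exps5.map fun e => q ^ e).sum * (exps4.map fun e => q ^ e).sum * (exps3.map fun e => q ^ e).sum * (exps2.map fun e => q ^ e).sum * (exps1.map fun e => q ^ e).sum * (exps0.map fun e => q ^ e).sum := by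
  have h0 : (Set.univ : Set CoxE6.M.Group) = (Subgroup.closure (gens CoxE6.M CoxE6.J0) : Set CoxE6.M.Group) := by
    rw [closure_gens_all CoxE6.M CoxE6.J0 (by decide), Subgroup.coe_top]
  have hL : pw q (Subgroup.closure (gens CoxE6.M CoxE6.J6) : Set CoxE6.M.Group) = 1 := by
    have : Subgroup.closure (gens CoxE6.M CoxE6.J6) = ⊥ := closure_gens_nil CoxE6.M
    rw [this]
    exact poinW'_bot chevE6 hD 6 rfl CoxE6.M CoxE6.A CoxE6.hA hAc finW q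
  rw [h0, lev0 q hq, lev1 q hq, lev2 q hq, lev3 q hq, lev4 q hq, lev5 q hq, hL, one_mul]

end Cfsg.Agent.Lib.Helper36.PoinE6
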