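import Cfsg.Agent.Lib.Helper36.ChevPoin
import Cfsg.Agent.S1039

/-! # The Poincare sum of the Weyl group of type E8 (helper36; generated by tools/helper36/poin_gen.py) -/

set_option autoImplicit false
set_option maxRecDepth 100000

namespace Cfsg.Agent.Lib.Helper36.PoinE8

open Cfsg Cfsg.Lie Cfsg.Agent.Lib.Helper18 Cfsg.Agent.Lib.Helper36

theorem hD : chevE8 ∈ [chevG2, chevB2, chevD4, chevF4, chevE6, chevE7, chevE8] := by simp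

theorem hAc : ∀ i j : Fin 8, CoxE8.A i j = chevE8.cartan j (chevE8.simple i) :=
  chkCartanA_spec chevE8 8 CoxE8.A Cfsg.Agent.S1039.cE8

theorem finW : Finite CoxE8.M.Group := Nat.finite_of_card_ne_zero (by rw [CoxE8.card_eq]; decide)

/-- the Poincare sum of a subset of the Weyl group -/
noncomputable abbrev pw (q : ℕ) (K : Set CoxE8.M.Group) : ℕ :=
  poinW' chevE8 hD 8 rfl CoxE8.M CoxE8.A CoxE8.hA hAc finW q K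

def rows : List (List ℤ) := [[0, 0, 0, 0, 0, 0, 0, 1], [0, 0, 0, 0, 0, 0, 1, 0], [0, 0, 0, 0, 0, 0, 1, 1], [0, 0, 0, 0, 0, 1, 0, 0], [0, 0, 0, 0, 0, 1, 1, 0], [0, 0, 0, 0, 0, 1, 1, 1], [0, 0, 0, 0, 1, 0, 0, 0], [0, 0, 0, 0, 1, 1, 0, 0], [0, 0, 0, 0, 1, 1, 1, 0], [0, 0, 0, 0, 1, 1, 1, 1], [0, 0, 0, 1, 0, 0, 0, 0], [0, 0, 0, 1, 1, 0, 0, 0], [0, 0, 0, 1, 1, 1, 0, 0], [0, 0, 0, 1, 1, 1, 1, 0], [0, 0, 0, 1, 1, 1, 1, 1], [0, 0, 1, 0, 0, 0, 0, 0], [0, 0, 1, 1, 0, 0, 0, 0], [0, 0, 1, 1, 1, 0, 0, 0], [0, 0, 1, 1, 1, 1, 0, 0], [0, 0, 1, 1, 1, 1, 1, 0], [0, 0, 1, 1, 1, 1, 1, 1], [0, 1, 0, 0, 0, 0, 0, 0], [0, 1, 0, 1, 0, 0, 0, 0], [0, 1, 0, 1, 1, 0, 0, 0], [0, 1, 0, 1, 1, 1, 0, 0], [0, 1, 0, 1, 1, 1, 1, 0], [0, 1, 0, 1, 1, 1, 1, 1], [0, 1, 1, 1, 0, 0, 0, 0], [0, 1, 1, 1, 1, 0, 0, 0], [0, 1, 1, 1, 1,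 1, 0, 0], [0, 1, 1, 1, 1, 1, 1, 0], [0, 1, 1, 1, 1, 1, 1, 1], [0, 1, 1, 2, 1, 0, 0, 0], [0, 1, 1, 2, 1, 1, 0, 0], [0, 1, 1, 2, 1, 1, 1, 0], [0, 1, 1, 2, 1, 1, 1, 1], [0, 1, 1, 2, 2, 1, 0, 0], [0, 1, 1, 2, 2, 1, 1, 0], [0, 1, 1, 2, 2, 1, 1, 1], [0, 1, 1, 2, 2, 2, 1, 0], [0, 1, 1, 2, 2, 2, 1, 1], [0, 1, 1, 2, 2, 2, 2, 1], [1, 0, 0, 0, 0, 0, 0, 0], [1, 0, 1, 0, 0, 0, 0, 0], [1, 0, 1, 1, 0, 0, 0, 0], [1, 0, 1, 1, 1, 0, 0, 0], [1, 0, 1, 1, 1, 1, 0, 0], [1, 0, 1, 1, 1, 1, 1, 0], [1, 0, 1, 1, 1, 1, 1, 1], [1, 1, 1, 1, 0, 0, 0, 0], [1, 1, 1, 1, 1, 0, 0, 0], [1, 1, 1, 1, 1, 1, 0, 0], [1, 1, 1, 1, 1, 1, 1, 0], [1, 1, 1, 1, 1, 1, 1, 1], [1, 1, 1, 2, 1, 0, 0, 0], [1, 1, 1, 2, 1, 1, 0, 0], [1, 1, 1, 2, 1, 1, 1, 0], [1, 1, 1, 2, 1, 1, 1, 1], [1, 1, 1, 2, 2, 1, 0, 0], [1, 1, 1, 2, 2, 1, 1, 0], [1, 1, 1,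 2, 2, 1, 1, 1], [1, 1, 1, 2, 2, 2, 1, 0], [1, 1, 1, 2, 2, 2, 1, 1], [1, 1, 1, 2, 2, 2, 2, 1], [1, 1, 2, 2, 1, 0, 0, 0], [1, 1, 2, 2, 1, 1, 0, 0], [1, 1, 2, 2, 1, 1, 1, 0], [1, 1, 2, 2, 1, 1, 1, 1], [1, 1, 2, 2, 2, 1, 0, 0], [1, 1, 2, 2, 2, 1, 1, 0], [1, 1, 2, 2, 2, 1, 1, 1], [1, 1, 2, 2, 2, 2, 1, 0], [1, 1, 2, 2, 2, 2, 1, 1], [1, 1, 2, 2, 2, 2, 2, 1], [1, 1, 2, 3, 2, 1, 0, 0], [1, 1, 2, 3, 2, 1, 1, 0], [1, 1, 2, 3, 2, 1, 1, 1], [1, 1, 2, 3, 2, 2, 1, 0], [1, 1, 2, 3, 2, 2, 1, 1], [1, 1, 2, 3, 2, 2, 2, 1], [1, 1, 2, 3, 3, 2, 1, 0], [1, 1, 2, 3, 3, 2, 1, 1], [1, 1, 2, 3, 3, 2, 2, 1], [1, 1, 2, 3, 3, 3, 2, 1], [1, 2, 2, 3, 2, 1, 0, 0], [1, 2, 2, 3, 2, 1, 1, 0], [1, 2, 2, 3, 2, 1, 1, 1], [1, 2, 2, 3, 2, 2, 1, 0], [1, 2, 2, 3, 2, 2, 1, 1], [1, 2, 2, 3, 2, 2, 2, 1], [1, 2, 2, 3, 3, 2, 1, 0], [1,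 2, 2, 3, 3, 2, 1, 1], [1, 2, 2, 3, 3, 2, 2, 1], [1, 2, 2, 3, 3, 3, 2, 1], [1, 2, 2, 4, 3, 2, 1, 0], [1, 2, 2, 4, 3, 2, 1, 1], [1, 2, 2, 4, 3, 2, 2, 1], [1, 2, 2, 4, 3, 3, 2, 1], [1, 2, 2, 4, 4, 3, 2, 1], [1, 2, 3, 4, 3, 2, 1, 0], [1, 2, 3, 4, 3, 2, 1, 1], [1, 2, 3, 4, 3, 2, 2, 1], [1, 2, 3, 4, 3, 3, 2, 1], [1, 2, 3, 4, 4, 3, 2, 1], [1, 2, 3, 5, 4, 3, 2, 1], [1, 3, 3, 5, 4, 3, 2, 1], [2, 2, 3, 4, 3, 2, 1, 0], [2, 2, 3, 4, 3, 2, 1, 1], [2, 2, 3, 4, 3, 2, 2, 1], [2, 2, 3, 4, 3, 3, 2, 1], [2, 2, 3, 4, 4, 3, 2, 1], [2, 2, 3, 5, 4, 3, 2, 1], [2, 2, 4, 5, 4, 3, 2, 1], [2, 3, 3, 5, 4, 3, 2, 1], [2, 3, 4, 5, 4, 3, 2, 1], [2, 3, 4, 6, 4, 3, 2, 1], [2, 3, 4, 6, 5, 3, 2, 1], [2, 3, 4, 6, 5, 4, 2, 1], [2, 3, 4, 6, 5, 4, 3, 1], [2, 3, 4, 6, 5, 4, 3, 2]]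

theorem rows_eq : posRows chevE8 = rows := by decide +kernel

def exps0 : List ℕ := [0, 1, 2, 3, 4, 5, 6, 6, 7, 7, 8, 8, 9, 9, 10, 10, 10, 11, 11, 11, 12, 12, 12, 12, 13, 13, 13, 13, 14, 14, 14, 14, 15, 15, 15, 15, 16, 16, 16, 16, 16, 17, 17, 17, 17, 17, 18, 18, 18, 18, 18, 18, 19, 19, 19, 19, 19, 19, 20, 20, 20, 20, 20, 20, 21, 21, 21, 21, 21, 21, 22, 22, 22, 22, 22, 22, 22, 23, 23, 23, 23, 23, 23, 23, 24, 24, 24, 24, 24, 24, 24, 25, 25, 25, 25, 25, 25, 25, 26, 26, 26, 26, 26, 26, 26, 27, 27, 27, 27, 27, 27, 27, 28, 28, 28, 28, 28, 28, 28, 28, 29, 29, 29, 29, 29, 29, 29, 29, 30, 30, 30, 30, 30, 30, 30, 31, 31, 31, 31, 31, 31, 31, 32, 32, 32, 32, 32, 32, 32, 33, 33, 33, 33, 33, 33, 33, 34, 34, 34, 34, 34, 34, 34, 35, 35, 35, 35, 35, 35, 35, 36, 36, 36, 36, 36, 36, 37, 37, 37, 37, 37, 37,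 38, 38, 38, 38, 38, 38, 39, 39, 39, 39, 39, 39, 40, 40, 40, 40, 40, 41, 41, 41, 41, 41, 42, 42, 42, 42, 43, 43, 43, 43, 44, 44, 44, 44, 45, 45, 45, 45, 46, 46, 46, 47, 47, 47, 48, 48, 49, 49, 50, 50, 51, 51, 52, 53, 54, 55, 56, 57]

theorem exps0_eq : (CoxE8.vecs0.map fun v => cntNeg rows (List.ofFn v)) = exps0 := by decide +kernel

theorem lev0 (q : ℕ) (hq : 0 < q) :
    pw q (Subgroup.closure (gens CoxE8.M CoxE8.J0) : Set CoxE8.M.Group) =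
      pw q (Subgroup.closure (gens CoxE8.M CoxE8.J1) : Set CoxE8.M.Group) * (exps0.map fun e => q ^ e).sum := by
  unfold pw
  rw [level_poin' chevE8 hD 8 rfl CoxE8.M CoxE8.A CoxE8.hA hAc finW (7 : Fin 8) CoxE8.J0 CoxE8.J1 CoxE8.sub0
    CoxE8.base0 (by decide) CoxE8.reps0 CoxE8.mr0_0 CoxE8.allP0 CoxE8.fix0 CoxE8.vecs0 CoxE8.map0 CoxE8.nd0
    q hq, rows_eq, exps0_eq]

def exps1 : List ℕ := [0, 1, 2, 3, 4, 5, 5, 6, 6, 7, 7, 8, 8, 9, 9, 9, 10, 10, 10, 11, 11, 11, 12, 12, 12, 13, 13, 13, 14, 14, 14, 15, 15, 15, 16, 16, 16, 17, 17, 17, 18, 18, 18, 19, 19, 20, 20, 21, 21, 22, 22, 23, 24, 25, 26, 27]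

theorem exps1_eq : (CoxE8.vecs1.map fun v => cntNeg rows (List.ofFn v)) = exps1 := by decide +kernel

theorem lev1 (q : ℕ) (hq : 0 < q) :
    pw q (Subgroup.closure (gens CoxE8.M CoxE8.J1) : Set CoxE8.M.Group) =
      pw q (Subgroup.closure (gens CoxE8.M CoxE8.J2) : Set CoxE8.M.Group) * (exps1.map fun e => q ^ e).sum := by
  unfold pw
  rw [level_poin' chevE8 hD 8 rfl CoxE8.M CoxE8.A CoxE8.hA hAc finW (6 : Fin 8) CoxE8.J1 CoxE8.J2 CoxE8.sub1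
    CoxE8.base1 (by decide) CoxE8.reps1 CoxE8.mr1_0 CoxE8.allP1 CoxE8.fix1 CoxE8.vecs1 CoxE8.map1 CoxE8.nd1
    q hq, rows_eq, exps1_eq]

def exps2 : List ℕ := [0, 1, 2, 3, 4, 4, 5, 5, 6, 6, 7, 7, 8, 8, 8, 9, 9, 10, 10, 11, 11, 12, 12, 13, 14, 15, 16]

theorem exps2_eq : (CoxE8.vecs2.map fun v => cntNeg rows (List.ofFn v)) = exps2 := by decide +kernel

theorem lev2 (q : ℕ) (hq : 0 < q) :
    pw q (Subgroup.closure (gens CoxE8.M CoxE8.J2) : Set CoxE8.M.Group) =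
      pw q (Subgroup.closure (gens CoxE8.M CoxE8.J3) : Set CoxE8.M.Group) * (exps2.map fun e => q ^ e).sum := by
  unfold pw
  rw [level_poin' chevE8 hD 8 rfl CoxE8.M CoxE8.A CoxE8.hA hAc finW (0 : Fin 8) CoxE8.J2 CoxE8.J3 CoxE8.sub2
    CoxE8.base2 (by decide) CoxE8.reps2 CoxE8.mr2_0 CoxE8.allP2 CoxE8.fix2 CoxE8.vecs2 CoxE8.map2 CoxE8.nd2
    q hq, rows_eq, exps2_eq]

def exps3 : List ℕ := [0, 1, 2, 3, 4, 4, 5, 6, 7, 8]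

theorem exps3_eq : (CoxE8.vecs3.map fun v => cntNeg rows (List.ofFn v)) = exps3 := by decide +kernel

theorem lev3 (q : ℕ) (hq : 0 < q) :
    pw q (Subgroup.closure (gens CoxE8.M CoxE8.J3) : Set CoxE8.M.Group) =
      pw q (Subgroup.closure (gens CoxE8.M CoxE8.J4) : Set CoxE8.M.Group) * (exps3.map fun e => q ^ e).sum := by
  unfold pw
  rw [level_poin' chevE8 hD 8 rfl CoxE8.M CoxE8.A CoxE8.hA hAc finW (5 : Fin 8) CoxE8.J3 CoxE8.J4 CoxE8.sub3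
    CoxE8.base3 (by decide) CoxE8.reps3 CoxE8.mr3_0 CoxE8.allP3 CoxE8.fix3 CoxE8.vecs3 CoxE8.map3 CoxE8.nd3
    q hq, rows_eq, exps3_eq]

def exps4 : List ℕ := [0, 1, 2, 3, 3, 4, 5, 6]

theorem exps4_eq : (CoxE8.vecs4.map fun v => cntNeg rows (List.ofFn v)) = exps4 := by decide +kernel

theorem lev4 (q : ℕ) (hq : 0 < q) :
    pw q (Subgroup.closure (gens CoxE8.M CoxE8.J4) : Set CoxE8.M.Group) =
      pw q (Subgroup.closure (gens CoxE8.M CoxE8.J5) : Set CoxE8.M.Group) * (exps4.map fun e => q ^ e).sum := by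
  unfold pw
  rw [level_poin' chevE8 hD 8 rfl CoxE8.M CoxE8.A CoxE8.hA hAc finW (4 : Fin 8) CoxE8.J4 CoxE8.J5 CoxE8.sub4
    CoxE8.base4 (by decide) CoxE8.reps4 CoxE8.mr4_0 CoxE8.allP4 CoxE8.fix4 CoxE8.vecs4 CoxE8.map4 CoxE8.nd4
    q hq, rows_eq, exps4_eq]

def exps5 : List ℕ := [0, 1, 2, 2, 3, 4]

theorem exps5_eq : (CoxE8.vecs5.map fun v => cntNeg rows (List.ofFn v)) = exps5 := by decide +kernel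

theorem lev5 (q : ℕ) (hq : 0 < q) :
    pw q (Subgroup.closure (gens CoxE8.M CoxE8.J5) : Set CoxE8.M.Group) =
      pw q (Subgroup.closure (gens CoxE8.M CoxE8.J6) : Set CoxE8.M.Group) * (exps5.map fun e => q ^ e).sum := by
  unfold pw
  rw [level_poin' chevE8 hD 8 rfl CoxE8.M CoxE8.A CoxE8.hA hAc finW (3 : Fin 8) CoxE8.J5 CoxE8.J6 CoxE8.sub5
    CoxE8.base5 (by decide) CoxE8.reps5 CoxE8.mr5_0 CoxE8.allP5 CoxE8.fix5 CoxE8.vecs5 CoxE8.map5 CoxE8.nd5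
    q hq, rows_eq, exps5_eq]

def exps6 : List ℕ := [0, 1]

theorem exps6_eq : (CoxE8.vecs6.map fun v => cntNeg rows (List.ofFn v)) = exps6 := by decide +kernel

theorem lev6 (q : ℕ) (hq : 0 < q) :
    pw q (Subgroup.closure (gens CoxE8.M CoxE8.J6) : Set CoxE8.M.Group) =
      pw q (Subgroup.closure (gens CoxE8.M CoxE8.J7) : Set CoxE8.M.Group) * (exps6.map fun e => q ^ e).sum := by
  unfold pw
  rw [level_poin' chevE8 hD 8 rfl CoxE8.M CoxE8.A CoxE8.hA hAc finW (2 : Fin 8) CoxE8.J6 CoxE8.J7 CoxE8.sub6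
    CoxE8.base6 (by decide) CoxE8.reps6 CoxE8.mr6_0 CoxE8.allP6 CoxE8.fix6 CoxE8.vecs6 CoxE8.map6 CoxE8.nd6
    q hq, rows_eq, exps6_eq]

def exps7 : List ℕ := [0, 1]

theorem exps7_eq : (CoxE8.vecs7.map fun v => cntNeg rows (List.ofFn v)) = exps7 := by decide +kernel

theorem lev7 (q : ℕ) (hq : 0 < q) :
    pw q (Subgroup.closure (gens CoxE8.M CoxE8.J7) : Set CoxE8.M.Group) =
      pw q (Subgroup.closure (gens CoxE8.M CoxE8.J8) : Set CoxE8.M.Group) * (exps7.map fun e => q ^ e).sum := by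
  unfold pw
  rw [level_poin' chevE8 hD 8 rfl CoxE8.M CoxE8.A CoxE8.hA hAc finW (1 : Fin 8) CoxE8.J7 CoxE8.J8 CoxE8.sub7
    CoxE8.base7 (by decide) CoxE8.reps7 CoxE8.mr7_0 CoxE8.allP7 CoxE8.fix7 CoxE8.vecs7 CoxE8.map7 CoxE8.nd7
    q hq, rows_eq, exps7_eq]

theorem poin_univ (q : ℕ) (hq : 0 < q) :
    pw q (Set.univ : Set CoxE8.M.Group) = (exps7.map fun e => q ^ e).sum * (exps6.map fun e => q ^ e).sum * (exps5.map fun e => q ^ e).sum * (exps4.map fun e => q ^ e).sum * (exps3.map fun e => q ^ e).sum * (exps2.map fun e => q ^ e).sum * (exps1.map fun e => q ^ e).sum * (exps0.map fun e => q ^ e).sum := by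
  have h0 : (Set.univ : Set CoxE8.M.Group) = (Subgroup.closure (gens CoxE8.M CoxE8.J0) : Set CoxE8.M.Group) := by
    rw [closure_gens_all CoxE8.M CoxE8.J0 (by decide), Subgroup.coe_top]
  have hL : pw q (Subgroup.closure (gens CoxE8.M CoxE8.J8) : Set CoxE8.M.Group) = 1 := by
    have : Subgroup.closure (gens CoxE8.M CoxE8.J8) = ⊥ := closure_gens_nil CoxE8.M
    rw [this]
    exact poinW'_bot chevE8 hD 8 rfl CoxE8.M CoxE8.A CoxE8.hA hAc finW q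
  rw [h0, lev0 q hq, lev1 q hq, lev2 q hq, lev3 q hq, lev4 q hq, lev5 q hq, lev6 q hq, lev7 q hq, hL, one_mul]

end Cfsg.Agent.Lib.Helper36.PoinE8
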