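import Cfsg.Agent.Lib.Helper36.ChevPoin
import Cfsg.Agent.S1039

/-! # The Poincare sum of the Weyl group of type F4 (helper36; generated by tools/helper36/poin_gen.py) -/

set_option autoImplicit false
set_option maxRecDepth 100000

namespace Cfsg.Agent.Lib.Helper36.PoinF4

open Cfsg Cfsg.Lie Cfsg.Agent.Lib.Helper18 Cfsg.Agent.Lib.Helper36

theorem hD : chevF4 ∈ [chevG2, chevB2, chevD4, chevF4, chevE6, chevE7, chevE8] := by simp

theorem hAc : ∀ i j : Fin 4, CoxF4.A i j = chevF4.cartan j (chevF4.simple i) :=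
  chkCartanA_spec chevF4 4 CoxF4.A Cfsg.Agent.S1039.cF4

theorem finW : Finite CoxF4.M.Group := Nat.finite_of_card_ne_zero (by rw [CoxF4.card_eq]; decide)

/-- the Poincare sum of a subset of the Weyl group -/
noncomputable abbrev pw (q : ℕ) (K : Set CoxF4.M.Group) : ℕ :=
  poinW' chevF4 hD 4 rfl CoxF4.M CoxF4.A CoxF4.hA hAc finW q K

def rows : List (List ℤ) := [[0, 0, 0, 1], [0, 0, 1, 0], [0, 0, 1, 1], [0, 1, 0, 0], [0, 1, 2, 0], [0, 1, 2, 2], [0, 1, 1, 0], [0, 1, 1, 1], [0, 1, 2, 1], [1, 0, 0, 0], [1, 1, 0, 0], [1, 1, 2, 0], [1, 1, 2, 2], [1, 2, 2, 0], [1, 2, 2, 2], [1, 2, 4, 2], [1, 3, 4, 2], [1, 1, 1, 0], [1, 1, 1, 1], [1, 1, 2, 1], [2, 3, 4, 2], [1, 2, 2, 1], [1, 2, 3, 1], [1, 2, 3, 2]]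

theorem rows_eq : posRows chevF4 = rows := by decide +kernel

def exps0 : List ℕ := [0, 1, 2, 3, 4, 4, 5, 5, 6, 6, 7, 7, 8, 8, 9, 9, 10, 10, 11, 11, 12, 13, 14, 15]

theorem exps0_eq : (CoxF4.vecs0.map fun v => cntNeg rows (List.ofFn v)) = exps0 := by decide +kernel

theorem lev0 (q : ℕ) (hq : 0 < q) :
    pw q (Subgroup.closure (gens CoxF4.M CoxF4.J0) : Set CoxF4.M.Group) =
      pw q (Subgroup.closure (gens CoxF4.M CoxF4.J1) : Set CoxF4.M.Group) * (exps0.map fun e => q ^ e).sum := by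
  unfold pw
  rw [level_poin' chevF4 hD 4 rfl CoxF4.M CoxF4.A CoxF4.hA hAc finW (0 : Fin 4) CoxF4.J0 CoxF4.J1 CoxF4.sub0
    CoxF4.base0 (by decide) CoxF4.reps0 CoxF4.mr0_0 CoxF4.allP0 CoxF4.fix0 CoxF4.vecs0 CoxF4.map0 CoxF4.nd0
    q hq, rows_eq, exps0_eq]

def exps1 : List ℕ := [0, 1, 2, 3, 3, 4, 5, 6]

theorem exps1_eq : (CoxF4.vecs1.map fun v => cntNeg rows (List.ofFn v)) = exps1 := by decide +kernel

theorem lev1 (q : ℕ) (hq : 0 < q) :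
    pw q (Subgroup.closure (gens CoxF4.M CoxF4.J1) : Set CoxF4.M.Group) =
      pw q (Subgroup.closure (gens CoxF4.M CoxF4.J2) : Set CoxF4.M.Group) * (exps1.map fun e => q ^ e).sum := by
  unfold pw
  rw [level_poin' chevF4 hD 4 rfl CoxF4.M CoxF4.A CoxF4.hA hAc finW (1 : Fin 4) CoxF4.J1 CoxF4.J2 CoxF4.sub1
    CoxF4.base1 (by decide) CoxF4.reps1 CoxF4.mr1_0 CoxF4.allP1 CoxF4.fix1 CoxF4.vecs1 CoxF4.map1 CoxF4.nd1
    q hq, rows_eq, exps1_eq]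

def exps2 : List ℕ := [0, 1, 2]

theorem exps2_eq : (CoxF4.vecs2.map fun v => cntNeg rows (List.ofFn v)) = exps2 := by decide +kernel

theorem lev2 (q : ℕ) (hq : 0 < q) :
    pw q (Subgroup.closure (gens CoxF4.M CoxF4.J2) : Set CoxF4.M.Group) =
      pw q (Subgroup.closure (gens CoxF4.M CoxF4.J3) : Set CoxF4.M.Group) * (exps2.map fun e => q ^ e).sum := by
  unfold pw
  rw [level_poin' chevF4 hD 4 rfl CoxF4.M CoxF4.A CoxF4.hA hAc finW (2 : Fin 4) CoxF4.J2 CoxF4.J3 CoxF4.sub2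
    CoxF4.base2 (by decide) CoxF4.reps2 CoxF4.mr2_0 CoxF4.allP2 CoxF4.fix2 CoxF4.vecs2 CoxF4.map2 CoxF4.nd2
    q hq, rows_eq, exps2_eq]

def exps3 : List ℕ := [0, 1]

theorem exps3_eq : (CoxF4.vecs3.map fun v => cntNeg rows (List.ofFn v)) = exps3 := by decide +kernel

theorem lev3 (q : ℕ) (hq : 0 < q) :
    pw q (Subgroup.closure (gens CoxF4.M CoxF4.J3) : Set CoxF4.M.Group) =
      pw q (Subgroup.closure (gens CoxF4.M CoxF4.J4) : Set CoxF4.M.Group) * (exps3.map fun e => q ^ e).sum := by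
  unfold pw
  rw [level_poin' chevF4 hD 4 rfl CoxF4.M CoxF4.A CoxF4.hA hAc finW (3 : Fin 4) CoxF4.J3 CoxF4.J4 CoxF4.sub3
    CoxF4.base3 (by decide) CoxF4.reps3 CoxF4.mr3_0 CoxF4.allP3 CoxF4.fix3 CoxF4.vecs3 CoxF4.map3 CoxF4.nd3
    q hq, rows_eq, exps3_eq]

theorem poin_univ (q : ℕ) (hq : 0 < q) :
    pw q (Set.univ : Set CoxF4.M.Group) = (exps3.map fun e => q ^ e).sum * (exps2.map fun e => q ^ e).sum * (exps1.map fun e => q ^ e).sum * (exps0.map fun e => q ^ e).sum := by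
  have h0 : (Set.univ : Set CoxF4.M.Group) = (Subgroup.closure (gens CoxF4.M CoxF4.J0) : Set CoxF4.M.Group) := by
    rw [closure_gens_all CoxF4.M CoxF4.J0 (by decide), Subgroup.coe_top]
  have hL : pw q (Subgroup.closure (gens CoxF4.M CoxF4.J4) : Set CoxF4.M.Group) = 1 := by
    have : Subgroup.closure (gens CoxF4.M CoxF4.J4) = ⊥ := closure_gens_nil CoxF4.M
    rw [this]
    exact poinW'_bot chevF4 hD 4 rfl CoxF4.M CoxF4.A CoxF4.hA hAc finW q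
  rw [h0, lev0 q hq, lev1 q hq, lev2 q hq, lev3 q hq, hL, one_mul]

end Cfsg.Agent.Lib.Helper36.PoinF4
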