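import Cfsg.Agent.Lib.Helper36.ChevOrder
import Cfsg.Agent.Lib.Helper36.ChevPoinG2
import Cfsg.Agent.Lib.Helper36.ChevPoinB2
import Cfsg.Agent.Lib.Helper36.ChevPoinD4
import Cfsg.Agent.Lib.Helper36.ChevPoinF4
import Cfsg.Agent.Lib.Helper36.ChevPoinE6
import Cfsg.Agent.Lib.Helper36.ChevPoinE7
import Cfsg.Agent.Lib.Helper36.ChevPoinE8

/-! # `|G| = |U| |H| P` with `P ≡ 1 (mod q)`; `U` is a Sylow subgroup (helper36; generated by tools/helper36/sylow_gen.py) -/

set_option autoImplicit false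
set_option maxRecDepth 100000

namespace Cfsg.Agent.Lib.Helper36

open Cfsg Cfsg.Lie Cfsg.Agent.Lib.Helper18

/-- the exponent list starts with `0` and is positive afterwards -/
def goodExps : List ℕ → Bool
  | 0 :: t => t.all fun e => decide (0 < e)
  | _ => false

theorem sum_pow_modEq (q : ℕ) (es : List ℕ) (h : goodExps es = true) :
    (es.map fun e => q ^ e).sum ≡ 1 [MOD q] := by
  match es, h with
  | 0 :: t, h =>
    have h' : ∀ e ∈ t, 0 < e := by
      intro e he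
      have := List.all_eq_true.1 h e he
      simpa using this
    rw [List.map_cons, List.sum_cons, pow_zero]
    have h0 : (t.map fun e => q ^ e).sum ≡ 0 [MOD q] := by
      rw [Nat.modEq_zero_iff_dvd]
      apply List.dvd_sum
      intro x hx
      obtain ⟨e, he, rfl⟩ := List.mem_map.1 hx
      exact dvd_pow_self q (h' e he).ne'
    simpa using (Nat.ModEq.refl 1).add h0

theorem poin_mod_G2 (q : ℕ) (hq : 0 < q) : PoinG2.pw q Set.univ ≡ 1 [MOD q] := by
  rw [PoinG2.poin_univ q hq]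
  have h0 := sum_pow_modEq q PoinG2.exps0 (by decide)
  have h1 := sum_pow_modEq q PoinG2.exps1 (by decide)
  have h := (h1.mul h0)
  simpa using h

theorem poin_mod_B2 (q : ℕ) (hq : 0 < q) : PoinB2.pw q Set.univ ≡ 1 [MOD q] := by
  rw [PoinB2.poin_univ q hq]
  have h0 := sum_pow_modEq q PoinB2.exps0 (by decide)
  have h1 := sum_pow_modEq q PoinB2.exps1 (by decide)
  have h := (h1.mul h0)
  simpa using h

theorem poin_mod_D4 (q : ℕ) (hq : 0 < q) : PoinD4.pw q Set.univ ≡ 1 [MOD q] := by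
  rw [PoinD4.poin_univ q hq]
  have h0 := sum_pow_modEq q PoinD4.exps0 (by decide)
  have h1 := sum_pow_modEq q PoinD4.exps1 (by decide)
  have h2 := sum_pow_modEq q PoinD4.exps2 (by decide)
  have h3 := sum_pow_modEq q PoinD4.exps3 (by decide)
  have h := (((h3.mul h2).mul h1).mul h0)
  simpa using h

theorem poin_mod_F4 (q : ℕ) (hq : 0 < q) : PoinF4.pw q Set.univ ≡ 1 [MOD q] := by
  rw [PoinF4.poin_univ q hq]
  have h0 := sum_pow_modEq q PoinF4.exps0 (by decide)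
  have h1 := sum_pow_modEq q PoinF4.exps1 (by decide)
  have h2 := sum_pow_modEq q PoinF4.exps2 (by decide)
  have h3 := sum_pow_modEq q PoinF4.exps3 (by decide)
  have h := (((h3.mul h2).mul h1).mul h0)
  simpa using h

theorem poin_mod_E6 (q : ℕ) (hq : 0 < q) : PoinE6.pw q Set.univ ≡ 1 [MOD q] := by
  rw [PoinE6.poin_univ q hq]
  have h0 := sum_pow_modEq q PoinE6.exps0 (by decide)
  have h1 := sum_pow_modEq q PoinE6.exps1 (by decide)
  have h2 := sum_pow_modEq q PoinE6.exps2 (by decide)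
  have h3 := sum_pow_modEq q PoinE6.exps3 (by decide)
  have h4 := sum_pow_modEq q PoinE6.exps4 (by decide)
  have h5 := sum_pow_modEq q PoinE6.exps5 (by decide)
  have h := (((((h5.mul h4).mul h3).mul h2).mul h1).mul h0)
  simpa using h

theorem poin_mod_E7 (q : ℕ) (hq : 0 < q) : PoinE7.pw q Set.univ ≡ 1 [MOD q] := by
  rw [PoinE7.poin_univ q hq]
  have h0 := sum_pow_modEq q PoinE7.exps0 (by decide)
  have h1 := sum_pow_modEq q PoinE7.exps1 (by decide)
  have h2 := sum_pow_modEq q PoinE7.exps2 (by decide)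
  have h3 := sum_pow_modEq q PoinE7.exps3 (by decide)
  have h4 := sum_pow_modEq q PoinE7.exps4 (by decide)
  have h5 := sum_pow_modEq q PoinE7.exps5 (by decide)
  have h6 := sum_pow_modEq q PoinE7.exps6 (by decide)
  have h := ((((((h6.mul h5).mul h4).mul h3).mul h2).mul h1).mul h0)
  simpa using h

theorem poin_mod_E8 (q : ℕ) (hq : 0 < q) : PoinE8.pw q Set.univ ≡ 1 [MOD q] := by
  rw [PoinE8.poin_univ q hq]
  have h0 := sum_pow_modEq q PoinE8.exps0 (by decide)
  have h1 := sum_pow_modEq q PoinE8.exps1 (by decide)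
  have h2 := sum_pow_modEq q PoinE8.exps2 (by decide)
  have h3 := sum_pow_modEq q PoinE8.exps3 (by decide)
  have h4 := sum_pow_modEq q PoinE8.exps4 (by decide)
  have h5 := sum_pow_modEq q PoinE8.exps5 (by decide)
  have h6 := sum_pow_modEq q PoinE8.exps6 (by decide)
  have h7 := sum_pow_modEq q PoinE8.exps7 (by decide)
  have h := (((((((h7.mul h6).mul h5).mul h4).mul h3).mul h2).mul h1).mul h0)
  simpa using h

variable (D : ChevalleyDatum) (hD : D ∈ [chevG2, chevB2, chevD4, chevF4, chevE6, chevE7, chevE8])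
variable (F : Type*) [Field F] [Fintype F]

include hD in
/-- `|G| = |U| |H| P` with `P ≡ 1 (mod q)` -/
theorem card_group_mod : ∃ P : ℕ, Nat.card (D.group F) =
    Nat.card (D.posUnipotent F) * Nat.card (D.diagonalSubgroup F) * P ∧ P ≡ 1 [MOD Fintype.card F] := by
  have hq : 0 < Fintype.card F := Fintype.card_pos
  have h45 : ∀ (D : ChevalleyDatum) (hD : D ∈ [chevG2, chevB2, chevD4, chevF4, chevE6, chevE7, chevE8]),
      ∀ i < D.rank, H45 D F i := fun D hD i hi => Cfsg.Agent.S1045.result D hD i hi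
  simp only [List.mem_cons, List.not_mem_nil, or_false] at hD
  rcases hD with rfl | rfl | rfl | rfl | rfl | rfl | rfl
  · exact ⟨_, card_group' chevG2 PoinG2.hD F 2 rfl CoxG2.M CoxG2.A CoxG2.hA PoinG2.hAc PoinG2.finW
      CoxG2.rho_ker Cfsg.Agent.S1039.bG2 (h45 chevG2 PoinG2.hD), poin_mod_G2 _ hq⟩
  · exact ⟨_, card_group' chevB2 PoinB2.hD F 2 rfl CoxB2.M CoxB2.A CoxB2.hA PoinB2.hAc PoinB2.finW
      CoxB2.rho_ker Cfsg.Agent.S1039.bB2 (h45 chevB2 PoinB2.hD), poin_mod_B2 _ hq⟩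
  · exact ⟨_, card_group' chevD4 PoinD4.hD F 4 rfl CoxD4.M CoxD4.A CoxD4.hA PoinD4.hAc PoinD4.finW
      CoxD4.rho_ker Cfsg.Agent.S1039.bD4 (h45 chevD4 PoinD4.hD), poin_mod_D4 _ hq⟩
  · exact ⟨_, card_group' chevF4 PoinF4.hD F 4 rfl CoxF4.M CoxF4.A CoxF4.hA PoinF4.hAc PoinF4.finW
      CoxF4.rho_ker Cfsg.Agent.S1039.bF4 (h45 chevF4 PoinF4.hD), poin_mod_F4 _ hq⟩
  · exact ⟨_, card_group' chevE6 PoinE6.hD F 6 rfl CoxE6.M CoxE6.A CoxE6.hA PoinE6.hAc PoinE6.finW
      CoxE6.rho_ker Cfsg.Agent.S1039.bE6 (h45 chevE6 PoinE6.hD), poin_mod_E6 _ hq⟩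
  · exact ⟨_, card_group' chevE7 PoinE7.hD F 7 rfl CoxE7.M CoxE7.A CoxE7.hA PoinE7.hAc PoinE7.finW
      CoxE7.rho_ker Cfsg.Agent.S1039.bE7 (h45 chevE7 PoinE7.hD), poin_mod_E7 _ hq⟩
  · exact ⟨_, card_group' chevE8 PoinE8.hD F 8 rfl CoxE8.M CoxE8.A CoxE8.hA PoinE8.hAc PoinE8.finW
      CoxE8.rho_ker Cfsg.Agent.S1039.bE8 (h45 chevE8 PoinE8.hD), poin_mod_E8 _ hq⟩

end Cfsg.Agent.Lib.Helper36
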