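import Cfsg.Agent.Lib.Helper36.ChevChar

/-! # The normal core of B in the Chevalley group is trivial (helper36) -/

set_option autoImplicit false

namespace Cfsg.Agent.Lib.Helper36

open Cfsg Cfsg.Lie

variable (D : ChevalleyDatum) (hD : D ∈ [chevG2, chevB2, chevD4, chevF4, chevE6, chevE7, chevE8])

include hD in
/-- an element all of whose conjugates under the Chevalley group lie in `B` lies in `H` -/
theorem mem_diagonal_of_conj_mem_borel (F : Type*) [Field F] (k : GL D.Idx F)
    (hk : ∀ g ∈ D.group F, g * k * g⁻¹ ∈ D.borelSubgroup F) : k ∈ D.diagonalSubgroup F := by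
  obtain ⟨h1, -, -⟩ := chkW0_spec D hD
  set n0 := nWordGL D hD F (w0word D) with hn0
  have hn0N : n0 ∈ D.monomialSubgroup F := nWordGL_mem D hD F _ h1
  have hn0G : n0 ∈ D.group F := monomial_le_group D hD F hn0N
  have hkB : k ∈ D.borelSubgroup F := by
    have := hk 1 (one_mem _)
    simpa using this
  have hb := hk n0⁻¹ (inv_mem hn0G)
  rw [inv_inv] at hb
  obtain ⟨u, hu, h, hh, e⟩ := (mem_borel_iff D hD F _).1 hb
  have hv : n0 * u * n0⁻¹ ∈ D.negUnipotent F := by
    rw [← posUnipotent_map_conj D hD F]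
    exact Subgroup.mem_map.2 ⟨u, hu, rfl⟩
  have hh' : n0 * h * n0⁻¹ ∈ D.diagonalSubgroup F :=
    (Subgroup.mem_normalizer_iff.1 (monomial_le_normalizer D hD F hn0N) h).1 hh
  have ek : k = (n0 * u * n0⁻¹) * (n0 * h * n0⁻¹) := by
    have : u * h = n0⁻¹ * k * n0 := e
    calc k = n0 * (n0⁻¹ * k * n0) * n0⁻¹ := by group
      _ = n0 * (u * h) * n0⁻¹ := by rw [this]
      _ = _ := by group
  have hkVH : k ∈ D.negUnipotent F ⊔ D.diagonalSubgroup F := by
    rw [ek]
    exact mul_mem ((le_sup_left : D.negUnipotent F ≤ _) hv) ((le_sup_right : D.diagonalSubgroup F ≤ _) hh')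
  have : k ∈ D.borelSubgroup F ⊓ (D.negUnipotent F ⊔ D.diagonalSubgroup F) := ⟨hkB, hkVH⟩
  rw [borel_inf_neg_sup_diagonal D hD F] at this
  exact this

include hD in
/-- an element all of whose conjugates under the Chevalley group lie in `B` is trivial -/
theorem eq_one_of_conj_mem_borel (F : Type*) [Field F] (k : GL D.Idx F)
    (hk : ∀ g ∈ D.group F, g * k * g⁻¹ ∈ D.borelSubgroup F) : k = 1 := by
  have hkH := mem_diagonal_of_conj_mem_borel D hD F k hk
  obtain ⟨χ, hχ, ek⟩ := exists_character_of_mem_diagonal D hD F k hkH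
  have hχ1 : ∀ r < D.nroots, χ r = 1 := by
    intro r hr
    set x := xGL D hD F r 1 with hx
    have hxG : x ∈ D.group F := xGL_mem_group D hD F r 1
    -- the commutator `x k x⁻¹ k⁻¹` has all its conjugates in `B`, hence lies in `H`
    have hc : x * k * x⁻¹ * k⁻¹ ∈ D.diagonalSubgroup F := by
      apply mem_diagonal_of_conj_mem_borel D hD F
      intro g hg
      have e : g * (x * k * x⁻¹ * k⁻¹) * g⁻¹ = ((g * x) * k * (g * x)⁻¹) * (g * k * g⁻¹)⁻¹ := by group
      rw [e]
      exact mul_mem (hk _ (mul_mem hg hxG)) (inv_mem (hk g hg))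
    -- it equals `x_r(1 - χ r)`
    have hconj := diag_conj_xGL D hD F k χ hχ ek r hr (-1)
    have hxinv : x⁻¹ = xGL D hD F r (-1) := by
      rw [inv_eq_iff_mul_eq_one]
      apply Units.ext
      rw [Units.val_mul, xGL_coe, xGL_coe, x_mul_neg D hD]
      rfl
    have e2 : x * k * x⁻¹ * k⁻¹ = xGL D hD F r (1 - (χ r : F)) := by
      rw [mul_assoc x k, mul_assoc x, hxinv, hconj]
      apply Units.ext
      rw [Units.val_mul, xGL_coe, xGL_coe, xGL_coe, x_add' D hD]
      congr 1
      ring
    rw [e2] at hc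
    have h1 : xGL D hD F r (1 - (χ r : F)) = 1 := by
      rcases pos_or_neg D hD r hr with hp | hn
      · have hu : xGL D hD F r (1 - (χ r : F)) ∈ D.posUnipotent F :=
          Subgroup.subset_closure ⟨r, _, hp, xGL_coe D hD F r _⟩
        have : xGL D hD F r (1 - (χ r : F)) ∈ D.posUnipotent F ⊓ D.diagonalSubgroup F := ⟨hu, hc⟩
        rw [pos_inf_diagonal D hD F, Subgroup.mem_bot] at this
        exact this
      · have hu : xGL D hD F r (1 - (χ r : F)) ∈ D.negUnipotent F :=
          Subgroup.subset_closure ⟨r, _, hn, xGL_coe D hD F r _⟩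
        have : xGL D hD F r (1 - (χ r : F)) ∈ D.negUnipotent F ⊓ D.diagonalSubgroup F := ⟨hu, hc⟩
        rw [neg_inf_diagonal D hD F, Subgroup.mem_bot] at this
        exact this
    have h2 := x_eq_one_iff D hD F r hr _ (by rw [← xGL_coe D hD F r, h1]; rfl)
    have h3 : (χ r : F) = 1 := by linear_combination -h2
    exact Units.ext (by rw [h3]; rfl)
  apply Units.ext
  rw [ek, Units.val_one]
  unfold ChevalleyDatum.charDiag
  rw [← Matrix.diagonal_one]
  congr 1
  funext y
  rcases y with j | s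
  · rfl
  · simp [hχ1 s.val s.isLt]

include hD in
theorem borel_normalCore (F : Type*) [Field F] :
    ((D.borelSubgroup F).subgroupOf (D.group F)).normalCore = ⊥ := by
  rw [eq_bot_iff]
  intro k hk
  rw [Subgroup.mem_bot]
  have : (k : GL D.Idx F) = 1 := by
    apply eq_one_of_conj_mem_borel D hD F
    intro g hg
    have := hk ⟨g, hg⟩
    rw [Subgroup.mem_subgroupOf] at this
    simpa using this
  exact Subtype.ext this

end Cfsg.Agent.Lib.Helper36
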