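import Cfsg.Agent.Lib.Helper36.ChevWeyl
import Cfsg.Agent.Lib.Helper36.ChevRank1
import Cfsg.Agent.Lib.Helper36.ChevCore
import Cfsg.Prelude.Def_LieExceptional

/-! # The (B,N)-pair of a Chevalley group (helper36) -/

set_option autoImplicit false

namespace Cfsg.Agent.Lib.Helper36

open Cfsg Cfsg.Lie

variable (D : ChevalleyDatum) (hD : D ∈ [chevG2, chevB2, chevD4, chevF4, chevE6, chevE7, chevE8])

theorem wRoot_append (l₁ l₂ : List ℕ) (s : ℕ) : wRoot D (l₁ ++ l₂) s = wRoot D l₁ (wRoot D l₂ s) := by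
  unfold wRoot
  rw [List.foldr_append]

include hD in
theorem wRoot_neg (l : List ℕ) (hl : ∀ j ∈ l, j < D.rank) (s : ℕ) (hs : s < D.nroots) :
    wRoot D l (D.neg s) = D.neg (wRoot D l s) := by
  induction l with
  | nil => rfl
  | cons i l ih =>
    have hl' : ∀ i' ∈ l, i' < D.rank := fun i' hi' => hl i' (List.mem_cons_of_mem _ hi')
    have hi := hl i (List.mem_cons_self ..)
    show D.reflectRoot i (wRoot D l (D.neg s)) = D.neg (D.reflectRoot i (wRoot D l s))
    rw [ih hl', reflectRoot_neg D hD i _ hi (wRoot_lt D hD l hl' s hs)]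

include hD in
theorem isPosRoot_neg (r : ℕ) (hr : D.IsNegRoot r) : D.IsPosRoot (D.neg r) := by
  have hf := wfFast_all D hD
  have hlt := hr.1
  rw [isNegRoot_iff D hf r hlt] at hr
  rw [isPosRoot_iff D hf _ (wf_neg D (wf_all D hD) r hlt)]
  intro j hj
  rw [cor_neg D hD r hlt j hj]
  have := hr j hj
  omega

theorem reflectRoot_simple (i : ℕ) : D.reflectRoot i (D.simple i) = D.neg (D.simple i) := by
  unfold ChevalleyDatum.reflectRoot
  simp

section basics
variable (F : Type*) [Field F]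

theorem xGL_add (r : ℕ) (a b : F) : xGL D hD F r (a + b) = xGL D hD F r a * xGL D hD F r b := by
  apply Units.ext
  rw [Units.val_mul, xGL_coe, xGL_coe, xGL_coe, x_add' D hD]

theorem xGL_zero (r : ℕ) : xGL D hD F r 0 = 1 := by
  apply Units.ext
  rw [xGL_coe, x_zero D hD, Units.val_one]

theorem xGL_inv (r : ℕ) (t : F) : (xGL D hD F r t)⁻¹ = xGL D hD F r (-t) := by
  rw [inv_eq_iff_mul_eq_one, ← xGL_add, add_neg_cancel, xGL_zero]

theorem mem_rootSubgroup_iff (r : ℕ) (g : GL D.Idx F) :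
    g ∈ D.rootSubgroup F r ↔ ∃ t : F, g = xGL D hD F r t := by
  rw [rootSubgroup_eq D hD]
  constructor
  · intro h
    induction h using Subgroup.closure_induction with
    | mem x hx => obtain ⟨t, rfl⟩ := hx; exact ⟨t, rfl⟩
    | one => exact ⟨0, (xGL_zero D hD F r).symm⟩
    | mul x y _ _ hx hy =>
      obtain ⟨a, rfl⟩ := hx
      obtain ⟨b, rfl⟩ := hy
      exact ⟨a + b, (xGL_add D hD F r a b).symm⟩
    | inv x _ hx =>
      obtain ⟨a, rfl⟩ := hx
      exact ⟨-a, xGL_inv D hD F r a⟩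
  · rintro ⟨t, rfl⟩
    exact Subgroup.subset_closure ⟨t, rfl⟩

theorem xGL_mem_pos (r : ℕ) (hr : D.IsPosRoot r) (t : F) : xGL D hD F r t ∈ D.posUnipotent F :=
  Subgroup.subset_closure ⟨r, t, hr, xGL_coe D hD F r t⟩

theorem pos_le_borel : D.posUnipotent F ≤ D.borelSubgroup F := by
  unfold ChevalleyDatum.borelSubgroup
  exact le_sup_left

theorem diagonal_le_borel : D.diagonalSubgroup F ≤ D.borelSubgroup F := by
  unfold ChevalleyDatum.borelSubgroup
  exact le_sup_right

/-- the subgroup `U_p` generated by the positive root subgroups other than `X_p` -/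
def Usub (i : ℕ) : Subgroup (GL D.Idx F) :=
  Subgroup.closure {g : GL D.Idx F | ∃ (s : ℕ) (t : F), D.IsPosRoot s ∧ s ≠ D.simple i ∧
    (g : Matrix D.Idx D.Idx F) = D.x F s t}

/-- the statement of S1045 for the fundamental root `p_i` -/
def H45 (i : ℕ) : Prop :=
  D.rootSubgroup F (D.simple i) ⊔ D.rootSubgroup F (D.neg (D.simple i)) ≤
      Subgroup.normalizer (Usub D F i : Set (GL D.Idx F)) ∧
    Usub D F i ⊔ D.rootSubgroup F (D.simple i) = D.posUnipotent F

theorem Usub_le (i : ℕ) : Usub D F i ≤ D.posUnipotent F := by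
  unfold Usub ChevalleyDatum.posUnipotent
  apply Subgroup.closure_mono
  rintro g ⟨s, t, hs, -, hg⟩
  exact ⟨s, t, hs, hg⟩

include hD in
theorem U_decomp (i : ℕ) (h45 : H45 D F i) (u : GL D.Idx F) (hu : u ∈ D.posUnipotent F) :
    ∃ u' ∈ Usub D F i, ∃ t : F, u = u' * xGL D hD F (D.simple i) t := by
  obtain ⟨h1, h2⟩ := h45
  have := Subgroup.coe_mul_of_right_le_normalizer_left (Usub D F i) (D.rootSubgroup F (D.simple i))
    (le_trans le_sup_left h1)
  rw [← h2, ← SetLike.mem_coe, this, Set.mem_mul] at hu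
  obtain ⟨u', hu', x, hx, rfl⟩ := hu
  obtain ⟨t, rfl⟩ := (mem_rootSubgroup_iff D hD F _ x).1 hx
  exact ⟨u', hu', t, rfl⟩

include hD in
theorem nGL_mem_normalizer_Usub (i : ℕ) (h45 : H45 D F i) :
    nGL D hD F (D.simple i) 1 ∈ Subgroup.normalizer (Usub D F i : Set (GL D.Idx F)) := by
  apply h45.1
  rw [nGL_eq D hD]
  have h1 : ∀ t : F, xGL D hD F (D.simple i) t ∈
      D.rootSubgroup F (D.simple i) ⊔ D.rootSubgroup F (D.neg (D.simple i)) := fun t =>
    (le_sup_left : D.rootSubgroup F (D.simple i) ≤ _) ((mem_rootSubgroup_iff D hD F _ _).2 ⟨t, rfl⟩)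
  have h2 : ∀ t : F, xGL D hD F (D.neg (D.simple i)) t ∈
      D.rootSubgroup F (D.simple i) ⊔ D.rootSubgroup F (D.neg (D.simple i)) := fun t =>
    (le_sup_right : D.rootSubgroup F (D.neg (D.simple i)) ≤ _) ((mem_rootSubgroup_iff D hD F _ _).2 ⟨t, rfl⟩)
  exact mul_mem (mul_mem (h1 _) (h2 _)) (h1 _)

include hD in
theorem conj_mem_diag_of_mem_monomial (n h : GL D.Idx F) (hn : n ∈ D.monomialSubgroup F)
    (hh : h ∈ D.diagonalSubgroup F) : n * h * n⁻¹ ∈ D.diagonalSubgroup F :=
  (Subgroup.mem_normalizer_iff.1 (monomial_le_normalizer D hD F hn) h).1 hh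

include hD in
theorem conj_mem_diag_of_mem_monomial' (n h : GL D.Idx F) (hn : n ∈ D.monomialSubgroup F)
    (hh : h ∈ D.diagonalSubgroup F) : n⁻¹ * h * n ∈ D.diagonalSubgroup F := by
  have := conj_mem_diag_of_mem_monomial D hD F n⁻¹ h (inv_mem hn) hh
  rwa [inv_inv] at this

include hD in
theorem xGL_mul_diag (h : GL D.Idx F) (hh : h ∈ D.diagonalSubgroup F) (r : ℕ) (hr : r < D.nroots) (t : F) :
    ∃ t' : F, xGL D hD F r t * h = h * xGL D hD F r t' := by
  obtain ⟨χ, hχ, e⟩ := exists_character_of_mem_diagonal D hD F h⁻¹ (inv_mem hh)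
  have := diag_conj_xGL D hD F h⁻¹ χ hχ e r hr t
  rw [inv_inv] at this
  refine ⟨(χ r : F) * t, ?_⟩
  rw [← this]
  group

include hD in
theorem nS_mem_monomial (i : ℕ) (hi : i < D.rank) : nGL D hD F (D.simple i) 1 ∈ D.monomialSubgroup F :=
  nGL_mem_mono D hD F _ (chkN2_spec D (chkN2_all D hD) i hi).1

include hD in
theorem nS_sq_mem_diag (i : ℕ) (hi : i < D.rank) :
    nGL D hD F (D.simple i) 1 * nGL D hD F (D.simple i) 1 ∈ D.diagonalSubgroup F := by
  have hp := (chkN2_spec D (chkN2_all D hD) i hi).1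
  have hne : (-1 : F) ≠ 0 := neg_ne_zero.2 one_ne_zero
  have h := hMat_all D hD (F := F) (D.simple i) hp (-1) hne
  rw [neg_neg] at h
  have e : nGL D hD F (D.simple i) 1 * nGL D hD F (D.simple i) 1 = hGL D hD F (D.simple i) (-1) := by
    apply Units.ext
    rw [Units.val_mul, nGL_coe, hGL_coe, h.1, h.2]
  rw [e]
  exact hGL_mem_diag D hD F _ hp _ hne

/-- membership in the double coset `B n B` -/
def InBnB (g n : GL D.Idx F) : Prop :=
  ∃ b1 ∈ D.borelSubgroup F, ∃ b2 ∈ D.borelSubgroup F, g = b1 * n * b2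

include hD in
theorem xGL_mul_nWordGL (l : List ℕ) (hl : ∀ j ∈ l, j < D.rank) (s : ℕ) (hs : s < D.nroots) :
    ∃ ε : F, ∀ t : F, xGL D hD F s t * nWordGL D hD F l =
      nWordGL D hD F l * xGL D hD F (wRoot D l.reverse s) (ε * t) := by
  have hlr : ∀ j ∈ l.reverse, j < D.rank := fun j hj => hl j (List.mem_reverse.1 hj)
  have hrlt : wRoot D l.reverse s < D.nroots := wRoot_lt D hD _ hlr _ hs
  obtain ⟨ε, hε, hc⟩ := nWordGL_conj D hD F l hl _ hrlt
  rw [wRoot_reverse D hD l hl _ hs] at hc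
  refine ⟨ε, fun t => ?_⟩
  have e2 := hc (ε * t)
  rw [← mul_assoc, hε, one_mul] at e2
  rw [← e2]
  group

include hD in
/-- the case `w⁻¹(p_i) > 0` of the double coset axiom -/
theorem bn4_pos (i : ℕ) (hi : i < D.rank) (h45 : H45 D F i) (l : List ℕ) (hl : ∀ j ∈ l, j < D.rank)
    (hpos : D.IsPosRoot (wRoot D l.reverse (D.simple i))) (h : GL D.Idx F) (hh : h ∈ D.diagonalSubgroup F)
    (b : GL D.Idx F) (hb : b ∈ D.borelSubgroup F) :
    InBnB D F (nGL D hD F (D.simple i) 1 * b * (nWordGL D hD F l * h))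
      (nGL D hD F (D.simple i) 1 * nWordGL D hD F l * h) := by
  have hp := (chkN2_spec D (chkN2_all D hD) i hi).1
  obtain ⟨u, hu, h', hh', rfl⟩ := (mem_borel_iff D hD F b).1 hb
  obtain ⟨u', hu', t, rfl⟩ := U_decomp D hD F i h45 u hu
  obtain ⟨t', e1⟩ := xGL_mul_diag D hD F h' hh' (D.simple i) hp t
  obtain ⟨ε, e3⟩ := xGL_mul_nWordGL D hD F l hl (D.simple i) hp
  have hnIN := nS_mem_monomial D hD F i hi
  have hU1 : nGL D hD F (D.simple i) 1 * u' * (nGL D hD F (D.simple i) 1)⁻¹ ∈ D.posUnipotent F :=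
    Usub_le D F i ((Subgroup.mem_normalizer_iff.1 (nGL_mem_normalizer_Usub D hD F i h45) u').1 hu')
  have hH1 : nGL D hD F (D.simple i) 1 * h' * (nGL D hD F (D.simple i) 1)⁻¹ ∈ D.diagonalSubgroup F :=
    conj_mem_diag_of_mem_monomial D hD F _ h' hnIN hh'
  refine ⟨_, mul_mem (pos_le_borel D F hU1) (diagonal_le_borel D F hH1),
    h⁻¹ * xGL D hD F (wRoot D l.reverse (D.simple i)) (ε * t') * h, ?_, ?_⟩
  · exact mul_mem (mul_mem (diagonal_le_borel D F (inv_mem hh)) (pos_le_borel D F (xGL_mem_pos D hD F _ hpos _)))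
      (diagonal_le_borel D F hh)
  · generalize nGL D hD F (D.simple i) 1 = nI at *
    generalize nWordGL D hD F l = nw at *
    have e3' := e3 t'
    generalize xGL D hD F (wRoot D l.reverse (D.simple i)) (ε * t') = xr at *
    calc nI * (u' * xGL D hD F (D.simple i) t * h') * (nw * h)
        = nI * u' * (xGL D hD F (D.simple i) t * h') * nw * h := by group
      _ = nI * u' * (h' * xGL D hD F (D.simple i) t') * nw * h := by rw [e1]
      _ = nI * u' * h' * (xGL D hD F (D.simple i) t' * nw) * h := by group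
      _ = nI * u' * h' * (nw * xr) * h := by rw [e3']
      _ = _ := by group

include hD in
theorem nGL_eq_hGL_mul (r : ℕ) (c : F) : nGL D hD F r c = hGL D hD F r c * nGL D hD F r 1 := by
  rw [hGL_eq D hD, ← nGL_inv' D hD F r 1, inv_mul_cancel_right]

include hD in
theorem xGL_neg_eq (r : ℕ) (t : F) :
    xGL D hD F (D.neg r) (-t) = xGL D hD F r (-t⁻¹) * nGL D hD F r t⁻¹ * xGL D hD F r (-t⁻¹) := by
  rw [nGL_eq D hD F r t⁻¹, inv_inv, ← xGL_inv D hD F r t⁻¹]
  group

include hD in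
/-- the rank one case of the double coset axiom: `n_i B n_i ⊆ B ∪ B n_i B` -/
theorem bn4_rank1 (i : ℕ) (hi : i < D.rank) (h45 : H45 D F i) (b : GL D.Idx F) (hb : b ∈ D.borelSubgroup F) :
    nGL D hD F (D.simple i) 1 * b * nGL D hD F (D.simple i) 1 ∈ D.borelSubgroup F ∨
      InBnB D F (nGL D hD F (D.simple i) 1 * b * nGL D hD F (D.simple i) 1) (nGL D hD F (D.simple i) 1) := by
  have hp := (chkN2_spec D (chkN2_all D hD) i hi).1
  obtain ⟨u, hu, h', hh', rfl⟩ := (mem_borel_iff D hD F b).1 hb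
  obtain ⟨u', hu', t, rfl⟩ := U_decomp D hD F i h45 u hu
  have hnIN := nS_mem_monomial D hD F i hi
  have hU1 : nGL D hD F (D.simple i) 1 * u' * (nGL D hD F (D.simple i) 1)⁻¹ ∈ D.posUnipotent F :=
    Usub_le D F i ((Subgroup.mem_normalizer_iff.1 (nGL_mem_normalizer_Usub D hD F i h45) u').1 hu')
  have hH1 : nGL D hD F (D.simple i) 1 * h' * (nGL D hD F (D.simple i) 1)⁻¹ ∈ D.diagonalSubgroup F :=
    conj_mem_diag_of_mem_monomial D hD F _ h' hnIN hh'
  have hsq := nS_sq_mem_diag D hD F i hi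
  have hrel := (rank1Rel_all D hD F (D.simple i) hp).1 t
  by_cases ht : t = 0
  · left
    subst ht
    rw [xGL_zero, mul_one]
    have e : nGL D hD F (D.simple i) 1 * (u' * h') * nGL D hD F (D.simple i) 1 =
        (nGL D hD F (D.simple i) 1 * u' * (nGL D hD F (D.simple i) 1)⁻¹) *
        (nGL D hD F (D.simple i) 1 * h' * (nGL D hD F (D.simple i) 1)⁻¹) *
        (nGL D hD F (D.simple i) 1 * nGL D hD F (D.simple i) 1) := by group
    rw [e]
    exact mul_mem (mul_mem (pos_le_borel D F hU1) (diagonal_le_borel D F hH1)) (diagonal_le_borel D F hsq)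
  · right
    have hti : t⁻¹ ≠ 0 := inv_ne_zero ht
    have e1 := xGL_neg_eq D hD F (D.simple i) t
    rw [nGL_eq_hGL_mul D hD F (D.simple i) t⁻¹] at e1
    have hpos := isPosRoot_simple D hD i hi
    refine ⟨(nGL D hD F (D.simple i) 1 * u' * (nGL D hD F (D.simple i) 1)⁻¹) * xGL D hD F (D.simple i) (-t⁻¹) *
        hGL D hD F (D.simple i) t⁻¹, ?_,
      xGL D hD F (D.simple i) (-t⁻¹) * (nGL D hD F (D.simple i) 1 * h' * (nGL D hD F (D.simple i) 1)⁻¹) *
        (nGL D hD F (D.simple i) 1 * nGL D hD F (D.simple i) 1), ?_, ?_⟩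
    · exact mul_mem (mul_mem (pos_le_borel D F hU1) (pos_le_borel D F (xGL_mem_pos D hD F _ hpos _)))
        (diagonal_le_borel D F (hGL_mem_diag D hD F _ hp _ hti))
    · exact mul_mem (mul_mem (pos_le_borel D F (xGL_mem_pos D hD F _ hpos _)) (diagonal_le_borel D F hH1))
        (diagonal_le_borel D F hsq)
    · generalize nGL D hD F (D.simple i) 1 = nI at *
      generalize xGL D hD F (D.simple i) (-t⁻¹) = xa at *
      generalize hGL D hD F (D.simple i) t⁻¹ = ha at *
      calc nI * (u' * xGL D hD F (D.simple i) t * h') * nI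
          = nI * u' * nI⁻¹ * (nI * xGL D hD F (D.simple i) t) * h' * nI := by group
        _ = nI * u' * nI⁻¹ * (xGL D hD F (D.neg (D.simple i)) (-t) * nI) * h' * nI := by rw [hrel]
        _ = nI * u' * nI⁻¹ * (xa * (ha * nI) * xa * nI) * h' * nI := by rw [e1]
        _ = _ := by group

include hD in
/-- the double coset axiom `n_i B n ⊆ B n_i n B ∪ B n B` for `n = n_w h` -/
theorem bn4_word (i : ℕ) (hi : i < D.rank) (h45 : H45 D F i) (l : List ℕ) (hl : ∀ j ∈ l, j < D.rank)
    (h : GL D.Idx F) (hh : h ∈ D.diagonalSubgroup F) (b : GL D.Idx F) (hb : b ∈ D.borelSubgroup F) :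
    InBnB D F (nGL D hD F (D.simple i) 1 * b * (nWordGL D hD F l * h))
        (nGL D hD F (D.simple i) 1 * (nWordGL D hD F l * h)) ∨
      InBnB D F (nGL D hD F (D.simple i) 1 * b * (nWordGL D hD F l * h)) (nWordGL D hD F l * h) := by
  have hp := (chkN2_spec D (chkN2_all D hD) i hi).1
  have hlr : ∀ j ∈ l.reverse, j < D.rank := fun j hj => hl j (List.mem_reverse.1 hj)
  have hrlt : wRoot D l.reverse (D.simple i) < D.nroots := wRoot_lt D hD _ hlr _ hp
  have hsq := nS_sq_mem_diag D hD F i hi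
  rcases pos_or_neg D hD _ hrlt with hpos | hneg
  · left
    have := bn4_pos D hD F i hi h45 l hl hpos h hh b hb
    rwa [mul_assoc (nGL D hD F (D.simple i) 1) (nWordGL D hD F l) h] at this
  · -- the word `i :: l`
    have hl' : ∀ j ∈ i :: l, j < D.rank := by
      intro j hj
      rcases List.mem_cons.1 hj with rfl | hj
      · exact hi
      · exact hl j hj
    have hpos' : D.IsPosRoot (wRoot D (i :: l).reverse (D.simple i)) := by
      rw [List.reverse_cons, wRoot_append]
      show D.IsPosRoot (wRoot D l.reverse (D.reflectRoot i (D.simple i)))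
      rw [reflectRoot_simple, wRoot_neg D hD _ hlr _ hp]
      exact isPosRoot_neg D hD _ hneg
    have ew : nWordGL D hD F (i :: l) = nGL D hD F (D.simple i) 1 * nWordGL D hD F l := by
      simp [nWordGL]
    rcases bn4_rank1 D hD F i hi h45 b hb with h0 | ⟨b1, hb1, b2, hb2, e⟩
    · left
      refine ⟨nGL D hD F (D.simple i) 1 * b * nGL D hD F (D.simple i) 1 *
        (nGL D hD F (D.simple i) 1 * nGL D hD F (D.simple i) 1)⁻¹, ?_, 1, one_mem _, ?_⟩
      · exact mul_mem h0 (inv_mem (diagonal_le_borel D F hsq))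
      · group
    · right
      have hb2' : b2 * (nGL D hD F (D.simple i) 1 * nGL D hD F (D.simple i) 1)⁻¹ ∈ D.borelSubgroup F :=
        mul_mem hb2 (inv_mem (diagonal_le_borel D F hsq))
      obtain ⟨c1, hc1, c2, hc2, e'⟩ := bn4_pos D hD F i hi h45 (i :: l) hl' hpos' h hh _ hb2'
      rw [ew] at e'
      refine ⟨b1 * c1 * (nGL D hD F (D.simple i) 1 * nGL D hD F (D.simple i) 1),
        mul_mem (mul_mem hb1 hc1) (diagonal_le_borel D F hsq), c2, hc2, ?_⟩
      have e'' : nGL D hD F (D.simple i) 1 * b * (nWordGL D hD F l * h) =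
          b1 * (nGL D hD F (D.simple i) 1 *
            (b2 * (nGL D hD F (D.simple i) 1 * nGL D hD F (D.simple i) 1)⁻¹) *
            (nGL D hD F (D.simple i) 1 * nWordGL D hD F l * h)) := by
        have : nGL D hD F (D.simple i) 1 * b * (nWordGL D hD F l * h) =
            (nGL D hD F (D.simple i) 1 * b * nGL D hD F (D.simple i) 1) *
              ((nGL D hD F (D.simple i) 1)⁻¹ * (nWordGL D hD F l * h)) := by group
        rw [this, e]
        group
      rw [e'', e']
      group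

include hD in
theorem monomial_le_closure :
    D.monomialSubgroup F ≤ Subgroup.closure ((D.diagonalSubgroup F : Set (GL D.Idx F)) ∪
      {g | ∃ i < D.rank, g = nGL D hD F (D.simple i) 1}) := by
  set K := Subgroup.closure ((D.diagonalSubgroup F : Set (GL D.Idx F)) ∪
      {g | ∃ i < D.rank, g = nGL D hD F (D.simple i) 1}) with hK
  have hH : D.diagonalSubgroup F ≤ K := fun g hg => Subgroup.subset_closure (Or.inl hg)
  have hS : ∀ i < D.rank, nGL D hD F (D.simple i) 1 ∈ K := fun i hi =>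
    Subgroup.subset_closure (Or.inr ⟨i, hi, rfl⟩)
  have hR : ∀ r < D.nroots, nGL D hD F r 1 ∈ K := by
    refine root_induction D hD (fun r => nGL D hD F r 1 ∈ K) ?_ ?_
    · intro i hi
      exact hS i hi
    · intro i hi r hr ih
      obtain ⟨-, -, -, -, hs'⟩ := chkN2_spec D (chkN2_all D hD) i hi
      obtain ⟨-, -, h3, -, -, -, -⟩ := hs' r hr
      show nGL D hD F (D.reflectRoot i r) 1 ∈ K
      rw [nGL_reflect D hD F i r hi hr 1, mul_one]
      refine mul_mem (mul_mem (hS i hi) ?_) (inv_mem (hS i hi))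
      rcases h3 with h | h <;> rw [h]
      · simpa using ih
      · have : ((( -1 : ℤ) : ℤ) : F) = -1 := by simp
        rw [this, ← nGL_inv' D hD F r 1]
        exact inv_mem ih
  unfold ChevalleyDatum.monomialSubgroup
  apply sup_le hH
  rw [Subgroup.closure_le]
  rintro g ⟨r, hr, hg⟩
  have : g = nGL D hD F r 1 := Units.ext (by rw [hg, nGL_coe])
  rw [SetLike.mem_coe, this]
  exact hR r hr

include hD in
theorem exists_word_of_mem_monomial (g : GL D.Idx F) (hg : g ∈ D.monomialSubgroup F) :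
    ∃ l : List ℕ, (∀ j ∈ l, j < D.rank) ∧ ∃ h ∈ D.diagonalSubgroup F, g = nWordGL D hD F l * h := by
  have hg' := monomial_le_closure D hD F hg
  have hleft : ∀ (h0 : GL D.Idx F), h0 ∈ D.diagonalSubgroup F → ∀ y : GL D.Idx F,
      (∃ l : List ℕ, (∀ j ∈ l, j < D.rank) ∧ ∃ h ∈ D.diagonalSubgroup F, y = nWordGL D hD F l * h) →
      ∃ l : List ℕ, (∀ j ∈ l, j < D.rank) ∧ ∃ h ∈ D.diagonalSubgroup F, h0 * y = nWordGL D hD F l * h := by
    rintro h0 hh0 y ⟨l, hl, h, hh, rfl⟩
    refine ⟨l, hl, (nWordGL D hD F l)⁻¹ * h0 * nWordGL D hD F l * h, ?_, by group⟩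
    exact mul_mem (conj_mem_diag_of_mem_monomial' D hD F _ h0 (nWordGL_mem D hD F l hl) hh0) hh
  have hleftn : ∀ i < D.rank, ∀ y : GL D.Idx F,
      (∃ l : List ℕ, (∀ j ∈ l, j < D.rank) ∧ ∃ h ∈ D.diagonalSubgroup F, y = nWordGL D hD F l * h) →
      ∃ l : List ℕ, (∀ j ∈ l, j < D.rank) ∧ ∃ h ∈ D.diagonalSubgroup F,
        nGL D hD F (D.simple i) 1 * y = nWordGL D hD F l * h := by
    rintro i hi y ⟨l, hl, h, hh, rfl⟩
    refine ⟨i :: l, ?_, h, hh, ?_⟩
    · intro j hj
      rcases List.mem_cons.1 hj with rfl | hj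
      · exact hi
      · exact hl j hj
    · simp [nWordGL, mul_assoc]
  clear hg
  induction hg' using Subgroup.closure_induction_left with
  | one => exact ⟨[], by simp, 1, one_mem _, by simp [nWordGL]⟩
  | mul_left x hx y _ ih =>
    rcases hx with hx | ⟨i, hi, rfl⟩
    · exact hleft x hx y ih
    · exact hleftn i hi y ih
  | inv_mul_cancel x hx y _ ih =>
    rcases hx with hx | ⟨i, hi, rfl⟩
    · exact hleft x⁻¹ (inv_mem hx) y ih
    · have hsq := nS_sq_mem_diag D hD F i hi
      have e : (nGL D hD F (D.simple i) 1)⁻¹ * y =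
          (nGL D hD F (D.simple i) 1 * nGL D hD F (D.simple i) 1)⁻¹ * (nGL D hD F (D.simple i) 1 * y) := by
        group
      rw [e]
      exact hleft _ (inv_mem hsq) _ (hleftn i hi y ih)

end basics

section pair
variable (F : Type*) [Field F]

include hD in
theorem simple_word_ne (i j : ℕ) (hi : i < D.rank) (hj : j < D.rank) (hij : i ≠ j) :
    wRoot D [i, j] (D.simple j) ≠ D.simple j := by
  intro h
  have hpj := (chkN2_spec D (chkN2_all D hD) j hj).1
  have h1 : wRoot D [i, j] (D.simple j) = D.reflectRoot i (D.reflectRoot j (D.simple j)) := rfl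
  rw [h1, reflectRoot_simple, reflectRoot_neg D hD i _ hi hpj] at h
  have h2 := cor_neg D hD _ (reflectRoot_lt D hD i _ hi hpj) j hj
  rw [h, cor_simple D hD j j hj hj, if_pos rfl, cor_reflect D hD i _ j hi hpj hj, cor_simple D hD j j hj hj,
    if_pos rfl, if_neg (fun e => hij e.symm)] at h2
  omega

include hD in
theorem nS_eq_of_mem_borel (i j : ℕ) (hi : i < D.rank) (hj : j < D.rank)
    (h : (nGL D hD F (D.simple i) 1)⁻¹ * nGL D hD F (D.simple j) 1 ∈ D.borelSubgroup F) : i = j := by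
  by_contra hij
  have hN : (nGL D hD F (D.simple i) 1)⁻¹ * nGL D hD F (D.simple j) 1 ∈ D.monomialSubgroup F :=
    mul_mem (inv_mem (nS_mem_monomial D hD F i hi)) (nS_mem_monomial D hD F j hj)
  have hH : (nGL D hD F (D.simple i) 1)⁻¹ * nGL D hD F (D.simple j) 1 ∈ D.diagonalSubgroup F := by
    rw [← borel_inf_monomial D hD F]
    exact ⟨h, hN⟩
  have hw : nWordGL D hD F [i, j] ∈ D.diagonalSubgroup F := by
    have e : nWordGL D hD F [i, j] = (nGL D hD F (D.simple i) 1 * nGL D hD F (D.simple i) 1) *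
        ((nGL D hD F (D.simple i) 1)⁻¹ * nGL D hD F (D.simple j) 1) := by
      simp [nWordGL]
    rw [e]
    exact mul_mem (nS_sq_mem_diag D hD F i hi) hH
  have hl : ∀ k ∈ [i, j], k < D.rank := by
    intro k hk
    simp only [List.mem_cons, List.not_mem_nil, or_false] at hk
    rcases hk with rfl | rfl
    · exact hi
    · exact hj
  have hpj := (chkN2_spec D (chkN2_all D hD) j hj).1
  have h1 := wPerm_eq_of_mem_diagonal D hD F [i, j] hl hw ⟨D.simple j, hpj⟩
  have h2 := wPerm_val D hD [i, j] hl ⟨D.simple j, hpj⟩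
  rw [h1] at h2
  exact simple_word_ne D hD i j hi hj hij h2.symm

include hD in
theorem xGL_neg_simple_not_mem_borel (i : ℕ) (hi : i < D.rank) (c : F) (hc : c ≠ 0) :
    xGL D hD F (D.neg (D.simple i)) c ∉ D.borelSubgroup F := by
  intro h
  have hp := (chkN2_spec D (chkN2_all D hD) i hi).1
  have hneg : D.IsNegRoot (D.neg (D.simple i)) := by
    have hf := wfFast_all D hD
    have hlt := wf_neg D (wf_all D hD) _ hp
    rw [isNegRoot_iff D hf _ hlt]
    intro j hj
    rw [cor_neg D hD _ hp j hj, cor_simple D hD i j hi hj]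
    split_ifs <;> simp
  have hV : xGL D hD F (D.neg (D.simple i)) c ∈ D.negUnipotent F :=
    Subgroup.subset_closure ⟨_, c, hneg, xGL_coe D hD F _ _⟩
  have h1 : xGL D hD F (D.neg (D.simple i)) c ∈ D.borelSubgroup F ⊓ D.negUnipotent F := ⟨h, hV⟩
  rw [borel_inf_neg D hD F, Subgroup.mem_bot] at h1
  have h2 : D.x F (D.neg (D.simple i)) c = 1 := by
    rw [← xGL_coe D hD F, h1, Units.val_one]
  exact hc (x_eq_one_iff D hD F _ hneg.1 c h2)

include hD in
/-- the (B,N)-pair of the Chevalley group, given the statement of S1045 -/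
theorem exists_bnPair (h45 : ∀ i < D.rank, H45 D F i) :
    ∃ P : Cfsg.BNPair ↥(D.group F),
      P.B = (D.borelSubgroup F).subgroupOf (D.group F) ∧ P.N = (D.monomialSubgroup F).subgroupOf (D.group F) ∧
      P.S = {n : ↥(D.group F) | ∃ i < D.rank,
        ((n : GL D.Idx F) : Matrix D.Idx D.Idx F) = D.nMat F (D.simple i) 1} := by
  have hBG := borel_le_group D hD F
  have hNG := monomial_le_group D hD F
  have hHB := diagonal_le_borel D F
  have hSval : ∀ n : ↥(D.group F), (∃ i < D.rank,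
      ((n : GL D.Idx F) : Matrix D.Idx D.Idx F) = D.nMat F (D.simple i) 1) →
      ∃ i < D.rank, (n : GL D.Idx F) = nGL D hD F (D.simple i) 1 := by
    rintro n ⟨i, hi, e⟩
    exact ⟨i, hi, Units.ext (by rw [e, nGL_coe])⟩
  refine ⟨{
    B := (D.borelSubgroup F).subgroupOf (D.group F)
    N := (D.monomialSubgroup F).subgroupOf (D.group F)
    S := {n : ↥(D.group F) | ∃ i < D.rank,
        ((n : GL D.Idx F) : Matrix D.Idx D.Idx F) = D.nMat F (D.simple i) 1}
    sup_eq_top := ?_
    conj_mem := ?_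
    subset := ?_
    sq_mem := ?_
    inj := ?_
    closure_sup := ?_
    mul_mem_union := ?_
    conj_ne := ?_ }, rfl, rfl, rfl⟩
  · -- sup_eq_top
    rw [eq_top_iff]
    intro g _
    have h1 : ((D.borelSubgroup F).subgroupOf (D.group F) ⊔ (D.monomialSubgroup F).subgroupOf (D.group F)).map
        (D.group F).subtype = D.group F := by
      rw [Subgroup.map_sup, Subgroup.map_subgroupOf_eq_of_le hBG, Subgroup.map_subgroupOf_eq_of_le hNG,
        borel_sup_monomial D hD F]
    have h2 : (g : GL D.Idx F) ∈ ((D.borelSubgroup F).subgroupOf (D.group F) ⊔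
        (D.monomialSubgroup F).subgroupOf (D.group F)).map (D.group F).subtype := by
      rw [h1]; exact g.2
    obtain ⟨k, hk, e⟩ := Subgroup.mem_map.1 h2
    have : k = g := Subtype.ext e
    rwa [this] at hk
  · -- conj_mem
    intro n hn t ht
    obtain ⟨htB, htN⟩ := Subgroup.mem_inf.1 ht
    rw [Subgroup.mem_subgroupOf] at hn htB htN ⊢
    have hH : (t : GL D.Idx F) ∈ D.diagonalSubgroup F := by
      rw [← borel_inf_monomial D hD F]; exact ⟨htB, htN⟩
    have := conj_mem_diag_of_mem_monomial D hD F _ _ hn hH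
    exact hHB (by simpa using this)
  · -- subset
    intro n hn
    obtain ⟨i, hi, e⟩ := hSval n hn
    rw [SetLike.mem_coe, Subgroup.mem_subgroupOf, e]
    exact nS_mem_monomial D hD F i hi
  · -- sq_mem
    intro n hn
    obtain ⟨i, hi, e⟩ := hSval n hn
    rw [Subgroup.mem_subgroupOf, Subgroup.coe_mul, e]
    exact hHB (nS_sq_mem_diag D hD F i hi)
  · -- inj
    intro s hs s' hs' h
    obtain ⟨i, hi, e⟩ := hSval s hs
    obtain ⟨j, hj, e'⟩ := hSval s' hs'
    rw [Subgroup.mem_subgroupOf, Subgroup.coe_mul, Subgroup.coe_inv, e, e'] at h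
    have := nS_eq_of_mem_borel D hD F i j hi hj h
    subst this
    exact Subtype.ext (e.trans e'.symm)
  · -- closure_sup
    apply le_antisymm
    · apply sup_le
      · rw [Subgroup.closure_le]
        intro n hn
        obtain ⟨i, hi, e⟩ := hSval n hn
        rw [SetLike.mem_coe, Subgroup.mem_subgroupOf, e]
        exact nS_mem_monomial D hD F i hi
      · exact inf_le_right
    · intro g hg
      rw [Subgroup.mem_subgroupOf] at hg
      set K := Subgroup.closure {n : ↥(D.group F) | ∃ i < D.rank,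
        ((n : GL D.Idx F) : Matrix D.Idx D.Idx F) = D.nMat F (D.simple i) 1} ⊔
        ((D.borelSubgroup F).subgroupOf (D.group F) ⊓ (D.monomialSubgroup F).subgroupOf (D.group F)) with hK
      have hle : D.monomialSubgroup F ≤ K.map (D.group F).subtype := by
        refine le_trans (monomial_le_closure D hD F) ?_
        rw [Subgroup.closure_le]
        rintro x (hx | ⟨i, hi, rfl⟩)
        · have hxG : x ∈ D.group F := hBG (hHB hx)
          refine Subgroup.mem_map.2 ⟨⟨x, hxG⟩, ?_, rfl⟩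
          apply (le_sup_right : _ ≤ K)
          exact ⟨Subgroup.mem_subgroupOf.2 (hHB hx), Subgroup.mem_subgroupOf.2 (diagonal_le_monomial D F hx)⟩
        · have hxG : nGL D hD F (D.simple i) 1 ∈ D.group F := hNG (nS_mem_monomial D hD F i hi)
          refine Subgroup.mem_map.2 ⟨⟨_, hxG⟩, ?_, rfl⟩
          apply (le_sup_left : _ ≤ K)
          exact Subgroup.subset_closure ⟨i, hi, nGL_coe D hD F _ _⟩
      obtain ⟨k, hk, e⟩ := Subgroup.mem_map.1 (hle hg)
      have : k = g := Subtype.ext e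
      rwa [this] at hk
  · -- mul_mem_union
    intro s hs n hn b hb
    obtain ⟨i, hi, e⟩ := hSval s hs
    rw [Subgroup.mem_subgroupOf] at hn hb
    obtain ⟨l, hl, h, hh, en⟩ := exists_word_of_mem_monomial D hD F _ hn
    have key := bn4_word D hD F i hi (h45 i hi) l hl h hh _ hb
    rw [← en, ← e] at key
    rcases key with ⟨b1, hb1, b2, hb2, e1⟩ | ⟨b1, hb1, b2, hb2, e1⟩
    · left
      rw [DoubleCoset.mem_doubleCoset]
      refine ⟨⟨b1, hBG hb1⟩, Subgroup.mem_subgroupOf.2 hb1, ⟨b2, hBG hb2⟩, Subgroup.mem_subgroupOf.2 hb2, ?_⟩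
      exact Subtype.ext e1
    · right
      rw [DoubleCoset.mem_doubleCoset]
      refine ⟨⟨b1, hBG hb1⟩, Subgroup.mem_subgroupOf.2 hb1, ⟨b2, hBG hb2⟩, Subgroup.mem_subgroupOf.2 hb2, ?_⟩
      exact Subtype.ext e1
  · -- conj_ne
    intro s hs heq
    obtain ⟨i, hi, e⟩ := hSval s hs
    have hp := (chkN2_spec D (chkN2_all D hD) i hi).1
    have hpos := isPosRoot_simple D hD i hi
    have hxB : xGL D hD F (D.simple i) 1 ∈ D.borelSubgroup F := pos_le_borel D F (xGL_mem_pos D hD F _ hpos 1)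
    have hmem : s * ⟨xGL D hD F (D.simple i) 1, hBG hxB⟩ * s ∈
        ((D.borelSubgroup F).subgroupOf (D.group F) : Set ↥(D.group F)) := by
      rw [← heq]
      exact ⟨⟨_, hBG hxB⟩, Subgroup.mem_subgroupOf.2 hxB, rfl⟩
    rw [SetLike.mem_coe, Subgroup.mem_subgroupOf, Subgroup.coe_mul, Subgroup.coe_mul, e] at hmem
    have hrel := (rank1Rel_all D hD F (D.simple i) hp).1 1
    have hsq := nS_sq_mem_diag D hD F i hi
    have : xGL D hD F (D.neg (D.simple i)) (-1) ∈ D.borelSubgroup F := by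
      have e2 : xGL D hD F (D.neg (D.simple i)) (-1) =
          (nGL D hD F (D.simple i) 1 * xGL D hD F (D.simple i) 1 * nGL D hD F (D.simple i) 1) *
          (nGL D hD F (D.simple i) 1 * nGL D hD F (D.simple i) 1)⁻¹ := by
        rw [hrel]; group
      rw [e2]
      exact mul_mem hmem (inv_mem (hHB hsq))
    exact xGL_neg_simple_not_mem_borel D hD F i hi (-1) (neg_ne_zero.2 one_ne_zero) this

end pair

end Cfsg.Agent.Lib.Helper36
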