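import Cfsg.Agent.Lib.Helper36.ChevLevi
import Cfsg.Agent.S0311

/-! # `N_G(U_J) = P_J` (helper36) -/

set_option autoImplicit false

namespace Cfsg.Agent.Lib.Helper36

open Cfsg Cfsg.Lie

variable (D : ChevalleyDatum) (hD : D ∈ [chevG2, chevB2, chevD4, chevF4, chevE6, chevE7, chevE8])

section normU
variable (F : Type*) [Field F]

include hD in
theorem parabolic_le_group (J : Set ℕ) : D.parabolicSubgroup F J ≤ D.group F := by
  unfold ChevalleyDatum.parabolicSubgroup
  apply sup_le (borel_le_group D hD F)
  rw [Subgroup.closure_le]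
  rintro g ⟨j, -, hj, hg⟩
  have : g = nGL D hD F (D.simple j) 1 := Units.ext (by rw [hg, nGL_coe])
  rw [SetLike.mem_coe, this]
  exact monomial_le_group D hD F (nS_mem_monomial D hD F j hj)

theorem unipotentRadical_le_pos (J : Set ℕ) : D.unipotentRadical F J ≤ D.posUnipotent F := by
  unfold ChevalleyDatum.unipotentRadical ChevalleyDatum.posUnipotent
  apply Subgroup.closure_mono
  rintro g ⟨r, t, hr, -, hg⟩
  exact ⟨r, t, hr, hg⟩

include hD in
theorem simple_not_inRootSub (J : Set ℕ) (k : ℕ) (hk : k < D.rank) (hkJ : k ∉ J) :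
    ¬ D.InRootSub J (D.simple k) := by
  intro h
  have := h.2 k hk hkJ
  have h2 : cor D (D.simple k) k = 0 := this
  rw [cor_simple D hD k k hk hk, if_pos rfl] at h2
  exact one_ne_zero h2

include hD in
/-- `n_k` normalises `U_J` only if `k ∈ J` -/
theorem mem_of_nS_mem_normalizer (J : Set ℕ) (k : ℕ) (hk : k < D.rank)
    (h : nGL D hD F (D.simple k) 1 ∈ Subgroup.normalizer (D.unipotentRadical F J : Set (GL D.Idx F))) :
    k ∈ J := by
  by_contra hkJ
  have hp := (chkN2_spec D (chkN2_all D hD) k hk).1
  have hx : xGL D hD F (D.simple k) 1 ∈ D.unipotentRadical F J :=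
    Subgroup.subset_closure ⟨_, 1, isPosRoot_simple D hD k hk, simple_not_inRootSub D hD J k hk hkJ,
      xGL_coe D hD F _ _⟩
  have h1 := (Subgroup.mem_normalizer_iff.1 h _).1 hx
  have hrel := (rank1Rel_all D hD F (D.simple k) hp).1 1
  have e : nGL D hD F (D.simple k) 1 * xGL D hD F (D.simple k) 1 * (nGL D hD F (D.simple k) 1)⁻¹ =
      xGL D hD F (D.neg (D.simple k)) (-1) := by
    rw [hrel]; group
  rw [e] at h1
  exact xGL_neg_simple_not_mem_borel D hD F k hk (-1) (neg_ne_zero.2 one_ne_zero)
    (pos_le_borel D F (unipotentRadical_le_pos D F J h1))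

include hD in
/-- `N_G(U_J) = P_J` (S1049), given the statements of S1045 and S1025 -/
theorem normalizer_unipotentRadical (h45 : ∀ i < D.rank, H45 D F i) (hcomm : HComm D F) (J : Set ℕ) :
    Subgroup.normalizer (D.unipotentRadical F J : Set (GL D.Idx F)) ⊓ D.group F = D.parabolicSubgroup F J := by
  apply le_antisymm
  · obtain ⟨P, hB, hN, hS⟩ := exists_bnPair D hD F h45
    set Q := Subgroup.normalizer (D.unipotentRadical F J : Set (GL D.Idx F)) ⊓ D.group F with hQ
    have hBQ : D.borelSubgroup F ≤ Q := by
      refine le_inf ?_ (borel_le_group D hD F)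
      refine le_trans ?_ (parabolic_le_normalizer D hD F hcomm J)
      unfold ChevalleyDatum.parabolicSubgroup
      exact le_sup_left
    have hQG : Q ≤ D.group F := inf_le_right
    obtain ⟨K, hKS, hK⟩ := Cfsg.Agent.S0311.result P (Q.subgroupOf (D.group F)) (by
      rw [hB]
      intro g hg
      rw [Subgroup.mem_subgroupOf] at hg ⊢
      exact hBQ hg)
    intro g hg
    have hg' : (⟨g, hQG hg⟩ : ↥(D.group F)) ∈ Q.subgroupOf (D.group F) := Subgroup.mem_subgroupOf.2 hg
    rw [hK] at hg'
    -- the parabolic subgroup of the pair maps into `P_J`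
    have hle : (P.parabolic K).map (D.group F).subtype ≤ D.parabolicSubgroup F J := by
      unfold BNPair.parabolic
      rw [Subgroup.map_sup, hB, Subgroup.map_subgroupOf_eq_of_le (borel_le_group D hD F)]
      apply sup_le
      · unfold ChevalleyDatum.parabolicSubgroup
        exact le_sup_left
      · rw [MonoidHom.map_closure, Subgroup.closure_le]
        rintro x ⟨s, hs, rfl⟩
        have hsS := hKS hs
        rw [hS] at hsS
        obtain ⟨k, hk, e⟩ := hsS
        have hsQ : s ∈ Q.subgroupOf (D.group F) := by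
          rw [hK]
          unfold BNPair.parabolic
          exact (le_sup_right : Subgroup.closure K ≤ _) (Subgroup.subset_closure hs)
        rw [Subgroup.mem_subgroupOf] at hsQ
        have es : (s : GL D.Idx F) = nGL D hD F (D.simple k) 1 := Units.ext (by rw [e, nGL_coe])
        have hkJ : k ∈ J := by
          apply mem_of_nS_mem_normalizer D hD F J k hk
          rw [← es]
          exact hsQ.1
        unfold ChevalleyDatum.parabolicSubgroup
        apply (le_sup_right : Subgroup.closure _ ≤ D.borelSubgroup F ⊔ _)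
        exact Subgroup.subset_closure ⟨k, hkJ, hk, e⟩
    exact hle (Subgroup.mem_map.2 ⟨_, hg', rfl⟩)
  · exact le_inf (parabolic_le_normalizer D hD F hcomm J) (parabolic_le_group D hD F J)

end normU

end Cfsg.Agent.Lib.Helper36
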