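import Cfsg.Agent.Lib.Helper36.ChevE

/-! # Additivity of root elements from integer table identities (helper36) -/

set_option autoImplicit false

namespace Cfsg.Agent.Lib.Helper36

open Cfsg Cfsg.Lie

variable (D : ChevalleyDatum)

theorem divpow_add {F R : Type*} [Field F] [Ring R] [Algebra F R] (A : ℕ → R) (h0 : A 0 = 1)
    (h11 : A 1 * A 1 = (2 : F) • A 2) (h12 : A 1 * A 2 = (3 : F) • A 3) (h21 : A 2 * A 1 = (3 : F) • A 3)
    (h13 : A 1 * A 3 = 0) (h31 : A 3 * A 1 = 0) (h22 : A 2 * A 2 = 0) (h23 : A 2 * A 3 = 0)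
    (h32 : A 3 * A 2 = 0) (h33 : A 3 * A 3 = 0) (t₁ t₂ : F) :
    (∑ k ∈ Finset.range 4, t₁ ^ k • A k) * (∑ k ∈ Finset.range 4, t₂ ^ k • A k)
      = ∑ k ∈ Finset.range 4, (t₁ + t₂) ^ k • A k := by
  simp only [Finset.sum_range_succ, Finset.sum_range_zero, zero_add, h0, pow_zero, one_smul, pow_one]
  simp only [add_mul, mul_add, mul_one, one_mul, smul_mul_assoc, mul_smul_comm,
    h11, h12, h21, h13, h31, h22, h23, h32, h33, smul_zero, add_zero, smul_smul]
  module

/-- the integer identities `E_i E_j = C(i+j,i) E_{i+j}` -/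
def AddProp : Prop := ∀ r < D.nroots, ∀ i ∈ [1, 2, 3], ∀ j ∈ [1, 2, 3],
  toMat D (E D r i) * toMat D (E D r j) = ((Nat.choose (i + j) i : ℕ) : ℤ) • toMat D (E D r (i + j))

def addPairs : List (ℕ × ℕ) := [(1,1),(1,2),(2,1),(1,3),(3,1),(2,2),(2,3),(3,2),(3,3)]

/-- slow engine check of `AddProp` -/
def chkAdd : Bool :=
  (List.range D.nroots).all fun r => (activeCols D r).all fun c => addPairs.all fun ij =>
    vecEq (comp (E D r ij.1) (E D r ij.2) c) (smulM ((Nat.choose (ij.1 + ij.2) ij.1 : ℕ) : ℤ) (E D r (ij.1 + ij.2)) c)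

theorem addProp_of_chk (hwf : wf D = true) (h : chkAdd D = true) : AddProp D := by
  intro r hr i hi j hj
  unfold chkAdd at h
  rw [List.all_eq_true] at h
  have h1 := h r (List.mem_range.2 hr)
  rw [List.all_eq_true] at h1
  have hij : (i, j) ∈ addPairs := by
    simp only [List.mem_cons, List.not_mem_nil, or_false] at hi hj
    rcases hi with rfl | rfl | rfl <;> rcases hj with rfl | rfl | rfl <;> simp [addPairs]
  have hj1 : 1 ≤ j := by
    simp only [List.mem_cons, List.not_mem_nil, or_false] at hj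
    omega
  have hij1 : 1 ≤ i + j := by omega
  rw [← toMat_comp D _ _ (fun col => E_inRange D hwf r hr j _ (inb_enc D col)), ← toMat_smulM]
  apply toMat_eq_of_active D _ _ (activeCols D r)
    (comp_suppIn D _ _ _ (E_suppIn D r j hj1)) (smulM_suppIn D _ _ _ (E_suppIn D r (i + j) hij1))
  intro c hc
  have h2 := h1 c hc
  rw [List.all_eq_true] at h2
  exact h2 (i, j) hij

theorem x_mul_x_of_addProp (hwf : wf D = true) (h : AddProp D) {F : Type*} [Field F] (r : ℕ)
    (hr : r < D.nroots) (t₁ t₂ : F) : D.x F r t₁ * D.x F r t₂ = D.x F r (t₁ + t₂) := by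
  rw [x_eq_sum D hwf F r hr, x_eq_sum D hwf F r hr, x_eq_sum D hwf F r hr]
  have key : ∀ i ∈ [1, 2, 3], ∀ j ∈ [1, 2, 3],
      EF D F r i * EF D F r j = (((Nat.choose (i + j) i : ℕ) : ℤ) : F) • EF D F r (i + j) := by
    intro i hi j hj
    simp only [EF_eq_mapMatrix]
    rw [← map_mul, h r hr i hi j hj, map_zsmul, Int.cast_smul_eq_zsmul]
  have z : ∀ k, 4 ≤ k → EF D F r k = 0 := by
    intro k hk
    rw [EF_eq_mapMatrix, toMat_E_ge_four D hwf r hr k hk, map_zero]
  have h0 : EF D F r 0 = 1 := by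
    rw [EF_eq_mapMatrix, toMat_E_zero, map_one]
  have k11 := key 1 (by simp) 1 (by simp)
  have k12 := key 1 (by simp) 2 (by simp)
  have k21 := key 2 (by simp) 1 (by simp)
  have k13 := key 1 (by simp) 3 (by simp)
  have k31 := key 3 (by simp) 1 (by simp)
  have k22 := key 2 (by simp) 2 (by simp)
  have k23 := key 2 (by simp) 3 (by simp)
  have k32 := key 3 (by simp) 2 (by simp)
  have k33 := key 3 (by simp) 3 (by simp)
  norm_num [z, Nat.choose] at k11 k12 k21 k13 k31 k22 k23 k32 k33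
  exact divpow_add (F := F) (EF D F r) h0 k11 k12 k21 k13 k31 k22 k23 k32 k33 t₁ t₂

end Cfsg.Agent.Lib.Helper36
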