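import Cfsg.Agent.Lib.Helper36.ChevH2

set_option autoImplicit false

namespace Cfsg.Agent.Lib.Helper36

open Cfsg Cfsg.Lie

/-- fast Cartan integer -/
def cartanF (D : ChevalleyDatum) (i s : ℕ) : ℤ := ((get2 4 (mkFast D).n (mkFast D).carT i s : ℕ) : ℤ) - 8

/-- linear relation `A_{p_i,s} = Σ_j A_{p_i,p_j} m_j(s)` -/
def chkLin (D : ChevalleyDatum) : Bool :=
  (List.range D.rank).all fun i => (List.range D.nroots).all fun s =>
    decide (cartanF D i s = ((List.range D.rank).map fun j => cartanF D i (D.simple j) * mF D j s).sum)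

theorem list_sum_map_neg (l : List ℕ) (f : ℕ → ℤ) : (l.map fun j => - f j).sum = - (l.map f).sum := by
  induction l with
  | nil => simp
  | cons a l ih => simp [ih]; ring

variable (D : ChevalleyDatum)

theorem chain_inRange (h : chkM D = true) (r s k : ℕ) (hr : r < D.nroots) (hk : D.chainRoot r s 1 = some k) :
    s < D.nroots ∧ k < D.nroots := by
  unfold chkM at h
  simp only [Bool.and_eq_true, decide_eq_true_eq, List.all_eq_true] at h
  obtain ⟨-, h4⟩ := h
  obtain ⟨e, he, hes, q, rest, hq, hqk⟩ := chainRoot_one_spec D r s k hk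
  have h5 := (h4 r (List.mem_range.2 hr)).2 e he
  rw [hq] at h5
  simp only [Bool.and_eq_true, decide_eq_true_eq, List.all_eq_true] at h5
  obtain ⟨h6, h7, -⟩ := h5
  exact ⟨hes ▸ h6, hqk ▸ h7⟩

theorem cartan_lin (hf : wfFast D = true) (h2 : chkN2 D = true) (hm : chkM D = true) (h : chkLin D = true)
    (i s : ℕ) (hi : i < D.rank) (hs : s < D.nroots) :
    D.cartan i s = ((List.range D.rank).map fun j => D.cartan i (D.simple j) * mCoef D j s).sum := by
  unfold chkLin at h
  simp only [decide_eq_true_eq, List.all_eq_true] at h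
  have h1 := h i (List.mem_range.2 hi) s (List.mem_range.2 hs)
  unfold cartanF at h1
  rw [fast_cartan D hf i s hi hs] at h1
  rw [h1]
  congr 1
  apply List.map_congr_left
  intro j hj
  have hj' := List.mem_range.1 hj
  obtain ⟨hp, -⟩ := chkN2_spec D h2 j hj'
  rw [fast_cartan D hf i _ hi hp, mF_eq D hm j s hj' hs]

/-- additivity of the Cartan integers along the chain table -/
def CartanAdd : Prop :=
  (∀ i < D.rank, ∀ r < D.nroots, D.cartan i (D.neg r) = - D.cartan i r) ∧
  (∀ i < D.rank, ∀ r s k, r < D.nroots → D.chainRoot r s 1 = some k →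
    D.cartan i k = D.cartan i r + D.cartan i s)

theorem cartanAdd_of_chk (hwf : wf D = true) (hf : wfFast D = true) (h2 : chkN2 D = true) (hm : chkM D = true)
    (h : chkLin D = true) : CartanAdd D := by
  have hM := mProp_of_chk D hwf h2 hm
  have hlin := cartan_lin D hf h2 hm h
  refine ⟨fun i hi r hr => ?_, fun i hi r s k hr hk => ?_⟩
  · rw [hlin i _ hi (wf_neg D hwf r hr), hlin i r hi hr, ← list_sum_map_neg]
    congr 1
    apply List.map_congr_left
    intro j hj
    rw [hM.2.2.1 j (List.mem_range.1 hj) r hr]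
    ring
  · obtain ⟨hs, hk'⟩ := chain_inRange D hm r s k hr hk
    rw [hlin i k hi hk', hlin i r hi hr, hlin i s hi hs, ← List.sum_map_add]
    congr 1
    apply List.map_congr_left
    intro j hj
    rw [hM.2.2.2 j (List.mem_range.1 hj) r s k hr hk]
    ring


/-- the character `s ↦ c ^ A_{p_i,s}` -/
noncomputable def chiC {F : Type*} [Field F] (i : ℕ) (c : Fˣ) : ℕ → Fˣ := fun s => c ^ D.cartan i s

theorem chiC_isRootCharacter (hC : CartanAdd D) {F : Type*} [Field F] (i : ℕ) (hi : i < D.rank) (c : Fˣ) :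
    D.IsRootCharacter (chiC D i c) := by
  refine ⟨fun r hr => ?_, fun r s k hr _ hk => ?_⟩
  · simp only [chiC]
    rw [hC.1 i hi r hr, zpow_neg]
  · simp only [chiC]
    rw [hC.2 i hi r s k hr hk, zpow_add]

theorem hMat_simple_eq_charDiag (hwf : wf D = true) (hchk : Cfsg.Agent.S2157.chk D = true) (hN : NProp D)
    (h2 : chkN2 D = true) (hM : MProp D) (F : Type*) [Field F] (i : ℕ) (hi : i < D.rank) (c : Fˣ) :
    D.hMat F (D.simple i) (c : F) = D.charDiag F (chiC D i c) := by
  rw [hMat_simple_eq D hwf hchk hN h2 hM F i hi (c : F) c.ne_zero]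
  unfold ChevalleyDatum.charDiag
  congr 1
  funext x
  rcases x with j | s
  · rfl
  · simp [chiC]

theorem charDiag_mul_inv (F : Type*) [Field F] (χ : ℕ → Fˣ) :
    D.charDiag F χ * D.charDiag F (fun s => (χ s)⁻¹) = 1 := by
  have := charDiag_inv_mul D F (fun s => (χ s)⁻¹)
  simpa using this

/-- `h_p(c) x_s(t) = x_s(c^{A_{p,s}} t) h_p(c)` for a fundamental root `p` -/
theorem hMat_simple_mul_x (hwf : wf D = true) (hchk : Cfsg.Agent.S2157.chk D = true) (hN : NProp D)
    (h2 : chkN2 D = true) (hM : MProp D) (hC : CartanAdd D) (F : Type*) [Field F] (i s : ℕ) (hi : i < D.rank)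
    (hs : s < D.nroots) (c : F) (hc : c ≠ 0) (t : F) :
    D.hMat F (D.simple i) c * D.x F s t = D.x F s (c ^ (D.cartan i s) * t) * D.hMat F (D.simple i) c := by
  have h1 := hMat_simple_eq_charDiag D hwf hchk hN h2 hM F i hi (Units.mk0 c hc)
  rw [Units.val_mk0] at h1
  rw [h1]
  have hχ := chiC_isRootCharacter D hC i hi (Units.mk0 c hc)
  have h3 := Cfsg.Agent.S2157.conj_of_chk D hchk _ hχ s hs t
  have e : ((chiC D i (Units.mk0 c hc) s : Fˣ) : F) = c ^ D.cartan i s := by simp [chiC]
  rw [e] at h3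
  rw [← h3]
  rw [mul_assoc (D.charDiag F (chiC D i (Units.mk0 c hc)) * D.x F s t), charDiag_inv_mul, mul_one]

end Cfsg.Agent.Lib.Helper36
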