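import Cfsg.Agent.Lib.Helper36.ChevConj
import Cfsg.Agent.Lib.Helper36.ChevLin

set_option autoImplicit false

namespace Cfsg.Agent.Lib.Helper36

open Cfsg Cfsg.Lie

/-- fast coroot coefficient -/
def corF (D : ChevalleyDatum) (s j : ℕ) : ℤ := ((get2 4 (mkFast D).l (mkFast D).corT s j : ℕ) : ℤ) - 8

/-- code of the first chain element for the pair `(r, u)` (0 if absent) -/
def code1 (D : ChevalleyDatum) (r u : ℕ) : ℕ := get2 36 (mkFast D).n (mkFast D).chT r u % 4096

/-- scalar check of `N_p E_{s,1} = η_s E_{w s,1} N_p` for one root `s` -/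
def chkConjS1 (D : ChevalleyDatum) (i s : ℕ) : Bool :=
  -- T2: w(-s) = -(w s), and -(w s) ≠ w s
  Nat.beq (nW D i (dig 8 (mkFast D).negT s)) (dig 8 (mkFast D).negT (nW D i s)) &&
  !(Nat.beq (dig 8 (mkFast D).negT (nW D i s)) (nW D i s)) &&
  !(Nat.beq (dig 8 (mkFast D).negT s) s) &&
  -- T1
  ((List.range D.rank).all fun j =>
    cartanF D j (nW D i s) == cartanF D j s + cartanF D i (nW D i s) * cartanF D j (D.simple i)) &&
  -- T3
  ((List.range D.rank).all fun j' =>
    corF D (nW D i s) j' == corF D s j' -
      (if j' = i then ((List.range D.rank).map fun j => cartanF D j (D.simple i) * corF D s j).sum else 0)) &&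
  -- T4
  ((D.chain.getD s #[]).toList.all fun e =>
    match e.2.toList with
    | [] => Nat.beq (code1 D (nW D i s) (nW D i e.1)) 0
    | q :: _ =>
      !(Nat.beq (code1 D (nW D i s) (nW D i e.1)) 0) &&
      Nat.beq (code1 D (nW D i s) (nW D i e.1) / 8 - 1) (nW D i q.1) &&
      (nEta D i q.1 * q.2 ==
        nEta D i s * (nEta D i e.1 * (((code1 D (nW D i s) (nW D i e.1) % 8 : ℕ) : ℤ) - 4)))) &&
  -- T5
  ((D.chain.getD (nW D i s) #[]).toList.all fun e' => !(Nat.beq (code1 D s (nW D i e'.1)) 0))

def chkConjS (D : ChevalleyDatum) (i : ℕ) : Bool := (List.range D.nroots).all fun s => chkConjS1 D i s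

def chkConjSAll (D : ChevalleyDatum) : Bool := (List.range D.rank).all fun i => chkConjS D i

theorem chkConjS_of_all (D : ChevalleyDatum) (h : chkConjSAll D = true) (i : ℕ) (hi : i < D.rank) :
    chkConjS D i = true := by
  unfold chkConjSAll at h
  rw [List.all_eq_true] at h
  exact h i (List.mem_range.2 hi)

/-- second well-formedness check: chain keys in range, `neg r ≠ r` -/
def wf2 (D : ChevalleyDatum) : Bool :=
  (List.range D.nroots).all fun r =>
    !(Nat.beq (D.neg r) r) && (D.chain.getD r #[]).toList.all fun e => decide (e.1 < D.nroots)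

variable (D : ChevalleyDatum)

theorem wf2_spec (h : wf2 D = true) (r : ℕ) (hr : r < D.nroots) :
    D.neg r ≠ r ∧ ∀ e ∈ (D.chain.getD r #[]).toList, e.1 < D.nroots := by
  unfold wf2 at h
  rw [List.all_eq_true] at h
  have h1 := h r (List.mem_range.2 hr)
  simp only [Bool.and_eq_true, Bool.not_eq_true', List.all_eq_true, decide_eq_true_eq] at h1
  refine ⟨fun he => ?_, h1.2⟩
  have : Nat.beq (D.neg r) r = true := by simp [he]
  rw [h1.1] at this
  exact Bool.false_ne_true this

theorem toMat_eq_of_coef (A B : SMat) (h : ∀ c, inb D c → ∀ b, inb D b → coef (A c) b = coef (B c) b) :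
    toMat D A = toMat D B := by
  ext row col
  simp only [toMat_apply]
  exact h _ (inb_enc D col) _ (inb_enc D row)

theorem findEntry_of_mem (row : Row) (hs : (row.map (·.1)).Pairwise (· < ·)) (e : ℕ × Array (ℕ × ℤ))
    (he : e ∈ row) : findEntry row e.1 = e.2.toList := by
  induction row with
  | nil => simp at he
  | cons a row ih =>
    rw [List.map_cons, List.pairwise_cons] at hs
    rw [findEntry_cons]
    rcases List.mem_cons.1 he with rfl | he'
    · rw [if_pos rfl]
    · have : a.1 < e.1 := hs.1 e.1 (List.mem_map.2 ⟨e, he', rfl⟩)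
      rw [if_neg (by omega)]
      exact ih hs.2 he'

theorem findEntry_eq_nil_of_not_mem (row : Row) (s : ℕ) (h : ∀ e ∈ row, e.1 ≠ s) : findEntry row s = [] := by
  induction row with
  | nil => rfl
  | cons a row ih =>
    rw [findEntry_cons, if_neg (h a (List.mem_cons_self ..))]
    exact ih (fun e he => h e (List.mem_cons_of_mem _ he))

theorem code1_spec (hf : wfFast D = true) (r u : ℕ) (hu : u < D.nroots) :
    decC (code1 D r u) = entryCol (findEntry (D.chain.getD r #[]).toList u) 1 := by
  unfold code1
  rw [← decCol_one, fast_chain D hf r u hu]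
  have hrow := (wfFast_row D hf r).2
  rcases findEntry_nil_or_mem (D.chain.getD r #[]).toList u with hfe | ⟨e, he, hfe⟩
  · rw [hfe]; exact decCol_encL [] (by simp) (by simp) 1 le_rfl (by norm_num)
  · rw [hfe]; exact decCol_encL _ (hrow e he).1 (hrow e he).2 1 le_rfl (by norm_num)

theorem code1_ne_zero (hf : wfFast D = true) (r u : ℕ) (hu : u < D.nroots) (h : code1 D r u ≠ 0) :
    findEntry (D.chain.getD r #[]).toList u ≠ [] := by
  intro hfe
  apply h
  unfold code1
  rw [fast_chain D hf r u hu, hfe]
  rfl


/-- coroot coefficient -/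
def cor (r j : ℕ) : ℤ := (D.coroot.getD r #[]).getD j 0

/-- the semantic content of `chkConjS1` -/
structure ConjSpec (i s : ℕ) : Prop where
  t2a : nW D i (D.neg s) = D.neg (nW D i s)
  t2b : D.neg (nW D i s) ≠ nW D i s
  t1 : ∀ j < D.rank, D.cartan j (nW D i s) = D.cartan j s + D.cartan i (nW D i s) * D.cartan j (D.simple i)
  t3 : ∀ j' < D.rank, cor D (nW D i s) j' = cor D s j' -
    (if j' = i then ((List.range D.rank).map fun j => D.cartan j (D.simple i) * cor D s j).sum else 0)
  t4 : ∀ e ∈ (D.chain.getD s #[]).toList,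
    match e.2.toList with
    | [] => entryCol (findEntry (D.chain.getD (nW D i s) #[]).toList (nW D i e.1)) 1 = []
    | q :: _ => ∃ M' : ℤ,
        entryCol (findEntry (D.chain.getD (nW D i s) #[]).toList (nW D i e.1)) 1 = [(.inr (nW D i q.1), M')] ∧
        nEta D i q.1 * q.2 = nEta D i s * (nEta D i e.1 * M')
  t5 : ∀ e' ∈ (D.chain.getD (nW D i s) #[]).toList,
    findEntry (D.chain.getD s #[]).toList (nW D i e'.1) ≠ []

theorem conjSpec_of_chk (hf : wfFast D = true) (hw2 : wf2 D = true) (h2 : chkN2 D = true)
    (i s : ℕ) (hi : i < D.rank) (hs : s < D.nroots) (h : chkConjS1 D i s = true) : ConjSpec D i s := by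
  obtain ⟨hp, -, -, -, hs'⟩ := chkN2_spec D h2 i hi
  have hws : nW D i s < D.nroots := (hs' s hs).1
  unfold chkConjS1 at h
  simp only [Bool.and_eq_true, Bool.not_eq_true', List.all_eq_true, beq_iff_eq] at h
  obtain ⟨⟨⟨⟨⟨⟨a1, a2⟩, -⟩, a4⟩, a5⟩, a6⟩, a7⟩ := h
  rw [fast_neg D hf, fast_neg D hf] at a1
  rw [fast_neg D hf] at a2
  refine ⟨by simpa using a1, ?_, ?_, ?_, ?_, ?_⟩
  · intro he
    have : Nat.beq (D.neg (nW D i s)) (nW D i s) = true := by simp [he]
    rw [a2] at this
    exact Bool.false_ne_true this
  · intro j hj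
    have := a4 j (List.mem_range.2 hj)
    unfold cartanF at this
    rw [fast_cartan D hf j _ hj hws, fast_cartan D hf j _ hj hs, fast_cartan D hf i _ hi hws,
      fast_cartan D hf j _ hj hp] at this
    exact this
  · intro j' hj'
    have := a5 j' (List.mem_range.2 hj')
    unfold corF at this
    rw [fast_coroot D hf _ j' hws hj', fast_coroot D hf s j' hs hj'] at this
    unfold cor
    rw [this]
    congr 2
    congr 1
    apply List.map_congr_left
    intro j hj
    have hj'' := List.mem_range.1 hj
    unfold cartanF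
    rw [fast_cartan D hf j _ hj'' hp, fast_coroot D hf s j hs hj'']
  · intro e he
    have he1 : e.1 < D.nroots := (wf2_spec D hw2 s hs).2 e he
    have hwe : nW D i e.1 < D.nroots := (hs' e.1 he1).1
    have h4 := a6 e he
    have hdec := code1_spec D hf (nW D i s) (nW D i e.1) hwe
    rcases hl : e.2.toList with _ | ⟨q, rest⟩
    · rw [hl] at h4
      simp only at h4 ⊢
      have : code1 D (nW D i s) (nW D i e.1) = 0 := by simpa using h4
      rw [← hdec, this]; rfl
    · rw [hl] at h4
      simp only [Bool.and_eq_true, Bool.not_eq_true', beq_iff_eq] at h4 ⊢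
      obtain ⟨⟨b1, b2⟩, b3⟩ := h4
      have hne : code1 D (nW D i s) (nW D i e.1) ≠ 0 := by
        intro h0
        have : Nat.beq (code1 D (nW D i s) (nW D i e.1)) 0 = true := by simp [h0]
        rw [b1] at this
        exact Bool.false_ne_true this
      refine ⟨((code1 D (nW D i s) (nW D i e.1) % 8 : ℕ) : ℤ) - 4, ?_, b3⟩
      rw [← hdec]
      unfold decC
      rw [if_neg hne]
      have : code1 D (nW D i s) (nW D i e.1) / 8 - 1 = nW D i q.1 := by simpa using b2
      rw [this]
  · intro e' he'
    have he1 : e'.1 < D.nroots := (wf2_spec D hw2 _ hws).2 e' he'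
    have hwe : nW D i e'.1 < D.nroots := (hs' e'.1 he1).1
    apply code1_ne_zero D hf s _ hwe
    intro h0
    have := a7 e' he'
    have h1 : Nat.beq (code1 D s (nW D i e'.1)) 0 = true := by simp [h0]
    rw [this] at h1
    exact Bool.false_ne_true h1

theorem sum_range_ite (n j' : ℕ) (f : ℕ → ℤ) :
    ((List.range n).map fun j => if j = j' then f j else 0).sum = if j' < n then f j' else 0 := by
  induction n with
  | zero => simp
  | succ n ih =>
    rw [List.range_succ, List.map_append, List.sum_append, ih]
    simp only [List.map_cons, List.map_nil, List.sum_cons, List.sum_nil, add_zero]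
    by_cases h1 : j' < n
    · have : ¬ n = j' := by omega
      simp [h1, this]; omega
    · by_cases h2 : n = j'
      · subst h2; simp
      · have : ¬ j' < n + 1 := by omega
        simp [h1, h2, this]

/-- column `h_j` -/
theorem conj_col_inl (i s j : ℕ) (b : BIdx)
    (t1 : D.cartan j (nW D i s) = D.cartan j s + D.cartan i (nW D i s) * D.cartan j (D.simple i)) :
    coef (comp (Nlit D i) (E D s 1) (.inl j)) b =
      coef (smulM (nEta D i s) (comp (E D (nW D i s) 1) (Nlit D i)) (.inl j)) b := by
  simp only [comp, smulM, E, Nlit, List.flatMap_cons, List.flatMap_nil, List.map_cons, List.map_nil,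
    List.append_nil, List.cons_append, List.nil_append, one_ne_zero, if_false, if_true, coef_cons, coef_nil]
  by_cases hb : (Sum.inr (nW D i s) : BIdx) = b
  · simp only [hb, if_true]
    rw [t1]; ring
  · simp [hb]


/-- column `e_s` -/
theorem conj_col_self (i s : ℕ) (b : BIdx) :
    coef (comp (Nlit D i) (E D s 1) (.inr s)) b =
      coef (smulM (nEta D i s) (comp (E D (nW D i s) 1) (Nlit D i)) (.inr s)) b := by
  simp [comp, smulM, E, Nlit]

theorem E_one_neg (r : ℕ) (hneg : D.neg r ≠ r) :
    E D r 1 (.inr (D.neg r)) = (List.range D.rank).map (fun j => (Sum.inl j, cor D r j)) := by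
  simp only [E, if_neg hneg, if_true, one_ne_zero, if_false]
  rfl

theorem coef_comp_Nlit_H (i : ℕ) (hi : i < D.rank) (f : ℕ → ℤ) (b : BIdx) :
    coef (((List.range D.rank).map (fun j => ((Sum.inl j : BIdx), f j))).flatMap
      fun q => (Nlit D i q.1).map fun p => (p.1, p.2 * q.2)) b =
    match b with
    | .inl j' => (if j' < D.rank then f j' else 0) -
        (if j' = i then ((List.range D.rank).map fun j => D.cartan j (D.simple i) * f j).sum else 0)
    | .inr _ => 0 := by
  rw [List.flatMap_map, coef_flatMap]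
  rcases b with j' | u
  · simp only [Nlit, List.map_cons, List.map_nil, coef_cons, coef_nil, add_zero, Sum.inl.injEq, one_mul]
    rw [List.sum_map_add, sum_range_ite]
    by_cases hj : i = j'
    · subst hj
      simp only [if_true, hi]
      rw [sub_eq_add_neg, ← list_sum_map_neg]
      congr 2
      apply List.map_congr_left
      intro j _
      ring
    · have hj' : ¬ j' = i := fun h => hj h.symm
      simp [hj, hj']
  · simp [Nlit, coef_cons]


/-- column `e_{-s}` -/
theorem conj_col_neg (h2 : chkN2 D = true) (i s : ℕ) (hi : i < D.rank) (hs : s < D.nroots)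
    (spec : ConjSpec D i s) (hneg : D.neg s ≠ s) (b : BIdx) (hb : inb D b) :
    coef (comp (Nlit D i) (E D s 1) (.inr (D.neg s))) b =
      coef (smulM (nEta D i s) (comp (E D (nW D i s) 1) (Nlit D i)) (.inr (D.neg s))) b := by
  obtain ⟨-, -, -, -, hs'⟩ := chkN2_spec D h2 i hi
  have hηη : nEta D i s * nEta D i (D.neg s) = 1 := (hs' s hs).2.2.2.2.1
  have hL : comp (Nlit D i) (E D s 1) (.inr (D.neg s)) =
      ((List.range D.rank).map (fun j => ((Sum.inl j : BIdx), cor D s j))).flatMap
        fun q => (Nlit D i q.1).map fun p => (p.1, p.2 * q.2) := by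
    unfold comp
    rw [E_one_neg D s hneg]
  have hR : smulM (nEta D i s) (comp (E D (nW D i s) 1) (Nlit D i)) (.inr (D.neg s)) =
      (((List.range D.rank).map (fun j => ((Sum.inl j : BIdx), cor D (nW D i s) j))).map
        fun p => (p.1, p.2 * nEta D i (D.neg s))).map fun p => (p.1, nEta D i s * p.2) := by
    unfold smulM comp
    simp only [Nlit, List.flatMap_cons, List.flatMap_nil, List.append_nil]
    rw [spec.t2a, E_one_neg D _ spec.t2b]
  rw [hL, hR, coef_comp_Nlit_H D i hi, coef_map_smul, coef_map_mul_right, coef_map_inl]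
  rcases b with j' | u
  · have hj' : j' < D.rank := hb
    simp only [hj', if_true]
    rw [spec.t3 j' hj']
    have : nEta D i s * ((cor D s j' - if j' = i then
        (List.map (fun j => D.cartan j (D.simple i) * cor D s j) (List.range D.rank)).sum else 0) *
        nEta D i (D.neg s)) = (nEta D i s * nEta D i (D.neg s)) * (cor D s j' - if j' = i then
        (List.map (fun j => D.cartan j (D.simple i) * cor D s j) (List.range D.rank)).sum else 0) := by ring
    rw [this, hηη, one_mul]
  · simp


theorem E_one_gen (hf : wfFast D = true) (r u : ℕ) (h1 : u ≠ r) (h2 : u ≠ D.neg r) :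
    E D r 1 (.inr u) = entryCol (findEntry (D.chain.getD r #[]).toList u) 1 := by
  simp only [E, if_neg h1, if_neg h2, one_ne_zero, if_false]
  exact chainCol_eq_of_sorted _ (wfFast_row D hf r).1 u 1

/-- generic column `e_u`, `u ≠ ±s` -/
theorem conj_col_gen (hwf : wf D = true) (hf : wfFast D = true) (h2 : chkN2 D = true) (i s u : ℕ)
    (hi : i < D.rank) (hs : s < D.nroots) (hu : u < D.nroots) (spec : ConjSpec D i s) (hus : u ≠ s)
    (hun : u ≠ D.neg s) (b : BIdx) :
    coef (comp (Nlit D i) (E D s 1) (.inr u)) b =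
      coef (smulM (nEta D i s) (comp (E D (nW D i s) 1) (Nlit D i)) (.inr u)) b := by
  obtain ⟨-, -, -, -, hs'⟩ := chkN2_spec D h2 i hi
  have hinv : ∀ v < D.nroots, nW D i (nW D i v) = v := fun v hv => (hs' v hv).2.2.2.2.2.1
  have hns : D.neg s < D.nroots := wf_neg D hwf s hs
  have hw1 : nW D i u ≠ nW D i s := by
    intro h
    apply hus
    rw [← hinv u hu, h, hinv s hs]
  have hw2 : nW D i u ≠ D.neg (nW D i s) := by
    intro h
    apply hun
    rw [← spec.t2a] at h
    rw [← hinv u hu, h, hinv _ hns]
  have hL : comp (Nlit D i) (E D s 1) (.inr u) =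
      (entryCol (findEntry (D.chain.getD s #[]).toList u) 1).flatMap
        fun q => (Nlit D i q.1).map fun p => (p.1, p.2 * q.2) := by
    unfold comp
    rw [E_one_gen D hf s u hus hun]
  have hR : smulM (nEta D i s) (comp (E D (nW D i s) 1) (Nlit D i)) (.inr u) =
      ((entryCol (findEntry (D.chain.getD (nW D i s) #[]).toList (nW D i u)) 1).map
        fun p => (p.1, p.2 * nEta D i u)).map fun p => (p.1, nEta D i s * p.2) := by
    unfold smulM comp
    simp only [Nlit, List.flatMap_cons, List.flatMap_nil, List.append_nil]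
    rw [E_one_gen D hf _ _ hw1 hw2]
  rw [hL, hR]
  have hsorted := (wfFast_row D hf s).1
  by_cases hmem : ∃ e ∈ (D.chain.getD s #[]).toList, e.1 = u
  · obtain ⟨e, he, heu⟩ := hmem
    have hfe := findEntry_of_mem _ hsorted e he
    rw [heu] at hfe
    have t4 := spec.t4 e he
    rw [heu] at t4
    rcases hl : e.2.toList with _ | ⟨q, rest⟩
    · rw [hl] at t4 hfe
      simp only at t4
      rw [hfe, t4]
      rfl
    · rw [hl] at t4 hfe
      simp only at t4
      obtain ⟨M', hM1, hM2⟩ := t4
      rw [hfe, hM1]
      simp only [entryCol, Nat.sub_self, List.getElem?_cons_zero, List.flatMap_cons, List.flatMap_nil,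
        List.append_nil, Nlit, List.map_cons, List.map_nil, coef_cons, coef_nil, add_zero]
      rw [hM2]
      by_cases hb : (Sum.inr (nW D i q.1) : BIdx) = b
      · simp only [hb, if_true]; ring
      · simp [hb]
  · have hfe : findEntry (D.chain.getD s #[]).toList u = [] :=
      findEntry_eq_nil_of_not_mem _ u (fun e he heu => hmem ⟨e, he, heu⟩)
    have hfe' : findEntry (D.chain.getD (nW D i s) #[]).toList (nW D i u) = [] := by
      apply findEntry_eq_nil_of_not_mem
      intro e' he' heu
      have := spec.t5 e' he'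
      rw [heu, hinv u hu] at this
      exact this hfe
    rw [hfe, hfe']
    rfl


theorem conj_of_spec (hwf : wf D = true) (hf : wfFast D = true) (hw2 : wf2 D = true) (h2 : chkN2 D = true)
    (i s : ℕ) (hi : i < D.rank) (hs : s < D.nroots) (spec : ConjSpec D i s) :
    toMat D (Nlit D i) * toMat D (E D s 1) =
      nEta D i s • (toMat D (E D (nW D i s) 1) * toMat D (Nlit D i)) := by
  have hlit := Nlit_WF D h2 i hi
  rw [← toMat_comp D _ _ (fun col => E_inRange D hwf s hs 1 _ (inb_enc D col)),
    ← toMat_comp D _ _ (fun col => hlit _ (inb_enc D col)), ← toMat_smulM]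
  apply toMat_eq_of_coef
  intro c hc b hb
  rcases c with j | u
  · exact conj_col_inl D i s j b (spec.t1 j hc)
  · by_cases hus : u = s
    · subst hus; exact conj_col_self D i u b
    · have hneg := (wf2_spec D hw2 s hs).1
      by_cases hun : u = D.neg s
      · subst hun; exact conj_col_neg D h2 i s hi hs spec hneg b hb
      · exact conj_col_gen D hwf hf h2 i s u hi hs hc spec hus hun b

theorem conjProp_of_chkS (hwf : wf D = true) (hf : wfFast D = true) (hw2 : wf2 D = true)
    (h2 : chkN2 D = true) (h : ∀ i < D.rank, chkConjS D i = true) : ConjProp D := by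
  intro i hi s hs
  have h1 := h i hi
  unfold chkConjS at h1
  rw [List.all_eq_true] at h1
  exact conj_of_spec D hwf hf hw2 h2 i s hi hs
    (conjSpec_of_chk D hf hw2 h2 i s hi hs (h1 s (List.mem_range.2 hs)))

end Cfsg.Agent.Lib.Helper36
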