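import Cfsg.Agent.Lib.Helper36.ChevAddF

set_option autoImplicit false

namespace Cfsg.Agent.Lib.Helper36

open Cfsg Cfsg.Lie

/-- `x_r(z)` for an integer `z`, as an expression -/
def Xexp (r : ℕ) (z : ℤ) : MExp :=
  .add (.E r 0) (.add (.smul z (.E r 1)) (.add (.smul (z ^ 2) (.E r 2)) (.smul (z ^ 3) (.E r 3))))

variable (D : ChevalleyDatum)

theorem Xexp_WF (r : ℕ) (hr : r < D.nroots) (z : ℤ) : (Xexp r z).WF D := ⟨hr, hr, hr, hr⟩

theorem x_intCast (hwf : wf D = true) (F : Type*) [Field F] (r : ℕ) (hr : r < D.nroots) (z : ℤ) :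
    D.x F r (z : F) = (Int.castRingHom F).mapMatrix ((Xexp r z).sem D) := by
  rw [x_eq_sum D hwf F r hr]
  simp only [Xexp, MExp.sem, Finset.sum_range_succ, Finset.sum_range_zero, zero_add, map_add, map_zsmul,
    EF_eq_mapMatrix, pow_zero, one_smul, pow_one]
  rw [← Int.cast_smul_eq_zsmul F z, ← Int.cast_smul_eq_zsmul F (z ^ 2), ← Int.cast_smul_eq_zsmul F (z ^ 3),
    Int.cast_pow, Int.cast_pow]
  abel

/-- `n_p(1) = x_p(1) x_{-p}(-1) x_p(1)` for the `i`-th fundamental root `p` -/
def Nexp (D : ChevalleyDatum) (i : ℕ) : MExp :=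
  .comp (Xexp (D.simple i) 1) (.comp (Xexp (D.neg (D.simple i)) (-1)) (Xexp (D.simple i) 1))

/-- packed table of the monomial matrix `n_p(1)`: digit `s` is `4 w(s) + (η_s + 1)` -/
def nTab (D : ChevalleyDatum) (i : ℕ) : ℕ :=
  packList 10 ((List.range D.nroots).map fun s =>
    D.reflectRoot i s * 4 +
      ((coef ((Nexp D i).evalF (mkFast D) (.inr s)) (.inr (D.reflectRoot i s))) + 1).toNat)

def nW (D : ChevalleyDatum) (i s : ℕ) : ℕ := dig 10 (nTab D i) s / 4

def nEta (D : ChevalleyDatum) (i s : ℕ) : ℤ := ((dig 10 (nTab D i) s % 4 : ℕ) : ℤ) - 1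

/-- the monomial matrix `n_p(1)` read off the packed table -/
def Nlit (D : ChevalleyDatum) (i : ℕ) : SMat := fun c =>
  match c with
  | .inl j => [(.inl j, 1), (.inl i, - D.cartan j (D.simple i))]
  | .inr s => [(.inr (nW D i s), nEta D i s)]

def chkN1 (D : ChevalleyDatum) : Bool :=
  (List.range D.rank).all fun i => (allCols D).all fun c =>
    vecEq ((Nexp D i).evalF (mkFast D) c) (Nlit D i c)

def chkN2 (D : ChevalleyDatum) : Bool :=
  (List.range D.rank).all fun i =>
    decide (D.simple i < D.nroots) &&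
    decide (nEta D i (D.simple i) = -1) && decide (nEta D i (D.neg (D.simple i)) = -1) &&
    decide (D.cartan i (D.simple i) = 2) &&
    (List.range D.nroots).all fun s =>
      decide (nW D i s < D.nroots) && decide (nW D i s = D.reflectRoot i s) &&
      decide (nEta D i s = 1 ∨ nEta D i s = -1) &&
      decide (nEta D i s * nEta D i (nW D i s) = (-1) ^ (D.cartan i s).natAbs) &&
      decide (nEta D i s * nEta D i (D.neg s) = 1) &&
      decide (nW D i (nW D i s) = s) &&
      decide (D.cartan i (nW D i s) = - D.cartan i s)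


theorem nMat_one_eq (F : Type*) [Field F] (r : ℕ) :
    D.nMat F r 1 = D.x F r 1 * (D.x F (D.neg r) (-1) * D.x F r 1) := by
  simp [ChevalleyDatum.nMat, ChevalleyDatum.wordMat, ChevalleyDatum.nWord]

theorem Nexp_WF (hwf : wf D = true) (i : ℕ) (hp : D.simple i < D.nroots) : (Nexp D i).WF D :=
  ⟨Xexp_WF D _ hp _, Xexp_WF D _ (wf_neg D hwf _ hp) _, Xexp_WF D _ hp _⟩

theorem nMat_simple_eq (hwf : wf D = true) (F : Type*) [Field F] (i : ℕ) (hp : D.simple i < D.nroots) :
    D.nMat F (D.simple i) 1 = (Int.castRingHom F).mapMatrix ((Nexp D i).sem D) := by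
  rw [nMat_one_eq]
  have h1 := x_intCast D hwf F (D.simple i) hp 1
  have h2 := x_intCast D hwf F (D.neg (D.simple i)) (wf_neg D hwf _ hp) (-1)
  simp only [Int.cast_one, Int.cast_neg] at h1 h2
  rw [h1, h2]
  simp only [Nexp, MExp.sem, map_mul]

/-- the matrix identity `n_p(1) = N_p` and the table properties of `N_p` -/
def NProp : Prop := ∀ i < D.rank, (Nexp D i).sem D = toMat D (Nlit D i)

theorem chkN2_spec (h : chkN2 D = true) (i : ℕ) (hi : i < D.rank) :
    D.simple i < D.nroots ∧ nEta D i (D.simple i) = -1 ∧ nEta D i (D.neg (D.simple i)) = -1 ∧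
    D.cartan i (D.simple i) = 2 ∧
    ∀ s < D.nroots, nW D i s < D.nroots ∧ nW D i s = D.reflectRoot i s ∧
      (nEta D i s = 1 ∨ nEta D i s = -1) ∧
      nEta D i s * nEta D i (nW D i s) = (-1) ^ (D.cartan i s).natAbs ∧
      nEta D i s * nEta D i (D.neg s) = 1 ∧ nW D i (nW D i s) = s ∧
      D.cartan i (nW D i s) = - D.cartan i s := by
  unfold chkN2 at h
  rw [List.all_eq_true] at h
  have h1 := h i (List.mem_range.2 hi)
  simp only [Bool.and_eq_true, decide_eq_true_eq, List.all_eq_true] at h1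
  obtain ⟨⟨⟨⟨a, b⟩, c⟩, d⟩, e⟩ := h1
  refine ⟨a, b, c, d, fun s hs => ?_⟩
  obtain ⟨⟨⟨⟨⟨⟨e1, e2⟩, e3⟩, e4⟩, e5⟩, e6⟩, e7⟩ := e s (List.mem_range.2 hs)
  exact ⟨e1, e2, e3, e4, e5, e6, e7⟩

theorem nProp_of_chk (hwf : wf D = true) (hf : wfFast D = true) (h1 : chkN1 D = true) (h2 : chkN2 D = true) :
    NProp D := by
  intro i hi
  obtain ⟨hp, -, -, -, hs⟩ := chkN2_spec D h2 i hi
  have hlit : (MExp.lit (Nlit D i)).WF D := by
    intro c hc p hp'
    rcases c with j | s
    · simp only [Nlit, List.mem_cons, List.not_mem_nil, or_false] at hp'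
      rcases hp' with rfl | rfl
      · exact hc
      · exact hi
    · simp only [Nlit, List.mem_singleton] at hp'
      rw [hp']
      exact (hs s hc).1
  have := MExp.sem_eq_of_check_all D hwf hf (Nexp D i) (.lit (Nlit D i)) (Nexp_WF D hwf i hp) hlit
    (fun c hc => by
      unfold chkN1 at h1
      rw [List.all_eq_true] at h1
      have h3 := h1 i (List.mem_range.2 hi)
      rw [List.all_eq_true] at h3
      exact h3 c hc)
  exact this

theorem nMat_simple_entry (hwf : wf D = true) (hN : NProp D) (h2 : chkN2 D = true) (F : Type*) [Field F]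
    (i : ℕ) (hi : i < D.rank) (row col : D.Idx) :
    D.nMat F (D.simple i) 1 row col = ((coef (Nlit D i (enc D col)) (enc D row) : ℤ) : F) := by
  obtain ⟨hp, -⟩ := chkN2_spec D h2 i hi
  rw [nMat_simple_eq D hwf F i hp, hN i hi]
  rfl

theorem S1095_core (hwf : wf D = true) (hN : NProp D) (h2 : chkN2 D = true) (F : Type*) [Field F]
    (i : ℕ) (hi : i < D.rank) :
    ∃ η : ℕ → ℤ, (∀ s < D.nroots, η s = 1 ∨ η s = -1) ∧ η (D.simple i) = -1 ∧ η (D.neg (D.simple i)) = -1 ∧
      (∀ s < D.nroots, η s * η (D.reflectRoot i s) = (-1) ^ (D.cartan i s).natAbs ∧ η s * η (D.neg s) = 1) ∧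
      D.nMat F (D.simple i) 1 = Matrix.of (fun (row col : D.Idx) =>
        Sum.elim
          (fun j' : Fin D.rank => Sum.elim
            (fun j : Fin D.rank => (if j' = j then (1 : F) else 0) - (if (j' : ℕ) = i then ((D.cartan j (D.simple i) : ℤ) : F) else 0))
            (fun _ => (0 : F)) col)
          (fun s' : Fin D.nroots => Sum.elim
            (fun _ => (0 : F))
            (fun s : Fin D.nroots => if (s' : ℕ) = D.reflectRoot i s then ((η s : ℤ) : F) else 0) col)
          row) := by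
  obtain ⟨hp, e1, e2, -, hs⟩ := chkN2_spec D h2 i hi
  refine ⟨nEta D i, fun s hs' => (hs s hs').2.2.1, e1, e2, fun s hs' => ?_, ?_⟩
  · obtain ⟨-, a2, -, a4, a5, -, -⟩ := hs s hs'
    rw [← a2]
    exact ⟨a4, a5⟩
  · ext row col
    rw [nMat_simple_entry D hwf hN h2 F i hi]
    rcases row with j' | s' <;> rcases col with j | s
    · simp only [Matrix.of_apply, Sum.elim_inl, enc, Sum.map_inl, Nlit, coef_cons, coef_nil, add_zero]
      by_cases h1 : j' = j
      · subst h1
        by_cases h3 : (j' : ℕ) = i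
        · simp [h3, sub_eq_add_neg]
        · have : ¬ i = (j' : ℕ) := fun h => h3 h.symm
          simp [h3, this]
      · have h1' : ¬ (j : ℕ) = (j' : ℕ) := fun h => h1 (Fin.ext h).symm
        by_cases h3 : (j' : ℕ) = i
        · have h4 : ¬ (j : ℕ) = i := fun h => h1' (h.trans h3.symm)
          simp [h1, h3, h4]
        · have : ¬ i = (j' : ℕ) := fun h => h3 h.symm
          simp [h1, h1', h3, this]
    · simp [enc, Nlit, coef_cons]
    · simp [enc, Nlit, coef_cons]
    · have a2 := (hs s s.isLt).2.1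
      simp only [Matrix.of_apply, Sum.elim_inr, enc, Sum.map_inr, Nlit, coef_cons, coef_nil, add_zero]
      rw [a2]
      by_cases h1 : (s' : ℕ) = D.reflectRoot i s
      · simp [h1]
      · have : ¬ D.reflectRoot i s = (s' : ℕ) := fun h => h1 h.symm
        simp [h1, this]

end Cfsg.Agent.Lib.Helper36
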