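import Mathlib

/-!
# Nat-packed lookup tables (helper36)

`packList W l` stores the list of digits `l` (each `< 2^W`) in one natural number; `dig W T i` reads digit `i`.
The kernel evaluates these with GMP arithmetic, so lookups are O(1) in `decide +kernel` proofs.
-/

set_option autoImplicit false

namespace Cfsg.Agent.Lib.Helper36

def packList (W : ℕ) : List ℕ → ℕ
  | [] => 0
  | d :: l => d + 2 ^ W * packList W l

def dig (W T i : ℕ) : ℕ := (T >>> (W * i)) % 2 ^ W

theorem dig_eq (W T i : ℕ) : dig W T i = T / 2 ^ (W * i) % 2 ^ W := by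
  unfold dig
  rw [Nat.shiftRight_eq_div_pow]

theorem dig_packList (W : ℕ) (l : List ℕ) (hl : ∀ d ∈ l, d < 2 ^ W) (i : ℕ) :
    dig W (packList W l) i = l.getD i 0 := by
  induction l generalizing i with
  | nil => simp [packList, dig_eq]
  | cons d l ih =>
    have hd : d < 2 ^ W := hl d (List.mem_cons_self ..)
    have hl' : ∀ d ∈ l, d < 2 ^ W := fun x hx => hl x (List.mem_cons_of_mem _ hx)
    cases i with
    | zero =>
      rw [dig_eq]
      simp only [packList, Nat.mul_zero, pow_zero, Nat.div_one, List.getD_cons_zero]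
      rw [Nat.add_mul_mod_self_left]
      exact Nat.mod_eq_of_lt hd
    | succ i =>
      rw [List.getD_cons_succ, ← ih hl' i, dig_eq, dig_eq]
      simp only [packList]
      have : (d + 2 ^ W * packList W l) / 2 ^ (W * (i + 1)) = packList W l / 2 ^ (W * i) := by
        rw [Nat.mul_succ, Nat.add_comm (W * i) W, pow_add, ← Nat.div_div_eq_div_mul]
        congr 1
        rw [Nat.add_mul_div_left _ _ (Nat.two_pow_pos W), Nat.div_eq_of_lt hd, Nat.zero_add]
      rw [this]

theorem packList_lt (W : ℕ) (l : List ℕ) (hl : ∀ d ∈ l, d < 2 ^ W) :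
    packList W l < 2 ^ (W * l.length) := by
  induction l with
  | nil => simp [packList]
  | cons d l ih =>
    have hd : d < 2 ^ W := hl d (List.mem_cons_self ..)
    have hl' : ∀ d ∈ l, d < 2 ^ W := fun x hx => hl x (List.mem_cons_of_mem _ hx)
    have h := ih hl'
    simp only [packList, List.length_cons, Nat.mul_succ]
    rw [Nat.add_comm (W * l.length) W, pow_add]
    calc d + 2 ^ W * packList W l < 2 ^ W + 2 ^ W * packList W l := by omega
      _ = 2 ^ W * (packList W l + 1) := by ring
      _ ≤ 2 ^ W * 2 ^ (W * l.length) := Nat.mul_le_mul_left _ h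

/-- two-level packed table -/
def pack2 (W n : ℕ) (ll : List (List ℕ)) : ℕ := packList (W * n) (ll.map (packList W))

def get2 (W n T i j : ℕ) : ℕ := dig W (dig (W * n) T i) j

theorem get2_pack2 (W n : ℕ) (ll : List (List ℕ))
    (hll : ∀ l ∈ ll, l.length ≤ n ∧ ∀ d ∈ l, d < 2 ^ W) (i j : ℕ) :
    get2 W n (pack2 W n ll) i j = (ll.getD i []).getD j 0 := by
  unfold get2 pack2
  rw [dig_packList]
  · by_cases hi : i < ll.length
    · have h1 : (ll.map (packList W)).getD i 0 = packList W (ll.getD i []) := by
        simp [List.getD_eq_getElem?_getD, hi]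
      rw [h1]
      have hmem : ll.getD i [] ∈ ll := by
        rw [List.getD_eq_getElem?_getD, List.getElem?_eq_getElem hi]
        exact List.getElem_mem hi
      exact dig_packList W _ (hll _ hmem).2 j
    · have h0 : ll[i]? = none := List.getElem?_eq_none (by omega)
      have h1 : (ll.map (packList W)).getD i 0 = 0 := by
        simp [List.getD_eq_getElem?_getD, h0]
      have h2 : ll.getD i [] = [] := by
        simp [List.getD_eq_getElem?_getD, h0]
      rw [h1, h2]
      simp [dig_eq]
  · intro d hd
    obtain ⟨l, hl, rfl⟩ := List.mem_map.1 hd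
    have h := hll l hl
    calc packList W l < 2 ^ (W * l.length) := packList_lt W l h.2
      _ ≤ 2 ^ (W * n) := Nat.pow_le_pow_right (by norm_num) (Nat.mul_le_mul_left _ h.1)

end Cfsg.Agent.Lib.Helper36
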