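import Cfsg.Agent.Lib.Helper36.ChevE
import Cfsg.Agent.Lib.Helper36.Pack

set_option autoImplicit false

namespace Cfsg.Agent.Lib.Helper36

open Cfsg Cfsg.Lie

/-- the chain entry of the root `s` in a row -/
def findEntry (row : Row) (s : ℕ) : List (ℕ × ℤ) :=
  match row.find? (fun e => Nat.beq e.1 s) with
  | some e => e.2.toList
  | none => []

theorem findEntry_nil (s : ℕ) : findEntry [] s = [] := rfl

theorem findEntry_cons (e : ℕ × Array (ℕ × ℤ)) (row : Row) (s : ℕ) :
    findEntry (e :: row) s = if e.1 = s then e.2.toList else findEntry row s := by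
  unfold findEntry
  by_cases h : e.1 = s
  · have : Nat.beq e.1 s = true := by simpa using h
    simp [List.find?_cons, this, h]
  · have : Nat.beq e.1 s = false := by
      rw [Bool.eq_false_iff]; simpa using h
    simp [List.find?_cons, this, h]

theorem findEntry_eq_nil_of_lt (row : Row) (s : ℕ) (h : ∀ e ∈ row, s < e.1) : findEntry row s = [] := by
  induction row with
  | nil => rfl
  | cons e row ih =>
    rw [findEntry_cons, if_neg (by have := h e (List.mem_cons_self ..); omega)]
    exact ih (fun e' he' => h e' (List.mem_cons_of_mem _ he'))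

theorem chainCol_eq_of_sorted (row : Row) (hs : (row.map (·.1)).Pairwise (· < ·)) (s k : ℕ) :
    chainCol row s k = entryCol (findEntry row s) k := by
  induction row with
  | nil => simp [chainCol_nil, findEntry_nil, entryCol]
  | cons e row ih =>
    rw [List.map_cons, List.pairwise_cons] at hs
    rw [chainCol_cons, findEntry_cons, ih hs.2]
    by_cases h : e.1 = s
    · rw [if_pos h, if_pos h]
      have : findEntry row s = [] := by
        apply findEntry_eq_nil_of_lt
        intro e' he'
        rw [← h]
        exact hs.1 e'.1 (List.mem_map.2 ⟨e', he', rfl⟩)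
      rw [this]
      simp [entryCol]
    · rw [if_neg h, if_neg h, List.nil_append]

def encQ (q : ℕ × ℤ) : ℕ := (q.1 + 1) * 8 + (q.2 + 4).toNat

def encL : List (ℕ × ℤ) → ℕ
  | [] => 0
  | [a] => encQ a
  | [a, b] => encQ a + 4096 * encQ b
  | [a, b, c] => encQ a + 4096 * encQ b + 4096 * 4096 * encQ c
  | _ => 0

/-- a chain entry small enough to be encoded -/
def okQ (q : ℕ × ℤ) : Prop := q.1 < 511 ∧ -4 ≤ q.2 ∧ q.2 < 4

instance (q : ℕ × ℤ) : Decidable (okQ q) := by unfold okQ; infer_instance

theorem encQ_lt (q : ℕ × ℤ) (h : okQ q) : encQ q < 4096 := by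
  obtain ⟨h1, h2, h3⟩ := h
  unfold encQ
  have : (q.2 + 4).toNat < 8 := by omega
  omega

theorem encQ_pos (q : ℕ × ℤ) : 8 ≤ encQ q := by
  unfold encQ
  omega

/-- decode the `k`-th element of an encoded chain entry as a sparse column -/
def decCol (d k : ℕ) : SVec :=
  let c := d / 4096 ^ (k - 1) % 4096
  if c = 0 then [] else [(.inr (c / 8 - 1), ((c % 8 : ℕ) : ℤ) - 4)]

theorem decQ_encQ (q : ℕ × ℤ) (h : okQ q) :
    (Sum.inr (encQ q / 8 - 1), ((encQ q % 8 : ℕ) : ℤ) - 4) = ((Sum.inr q.1, q.2) : BIdx × ℤ) := by
  obtain ⟨h1, h2, h3⟩ := h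
  unfold encQ
  have h4 : (q.2 + 4).toNat < 8 := by omega
  have h5 : ((q.2 + 4).toNat : ℤ) = q.2 + 4 := Int.toNat_of_nonneg (by omega)
  have h6 : ((q.1 + 1) * 8 + (q.2 + 4).toNat) / 8 - 1 = q.1 := by omega
  have h7 : ((q.1 + 1) * 8 + (q.2 + 4).toNat) % 8 = (q.2 + 4).toNat := by omega
  rw [h6, h7, h5]
  congr 1
  ring

def decC (c : ℕ) : SVec := if c = 0 then [] else [(.inr (c / 8 - 1), ((c % 8 : ℕ) : ℤ) - 4)]

theorem decCol_one (d : ℕ) : decCol d 1 = decC (d % 4096) := by
  simp [decCol, decC]

theorem decCol_two (d : ℕ) : decCol d 2 = decC (d / 4096 % 4096) := by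
  simp [decCol, decC]

theorem decCol_three (d : ℕ) : decCol d 3 = decC (d / 16777216 % 4096) := by
  simp [decCol, decC]

theorem decC_zero : decC 0 = [] := rfl

theorem decC_encQ (q : ℕ × ℤ) (h : okQ q) : decC (encQ q) = [(.inr q.1, q.2)] := by
  unfold decC
  rw [if_neg (by have := encQ_pos q; omega), decQ_encQ q h]

theorem decCol_encL (L : List (ℕ × ℤ)) (hL : L.length ≤ 3) (hq : ∀ q ∈ L, okQ q) (k : ℕ) (hk1 : 1 ≤ k)
    (hk3 : k ≤ 3) : decCol (encL L) k = entryCol L k := by
  rcases L with _ | ⟨a, _ | ⟨b, _ | ⟨c, _ | ⟨d, L⟩⟩⟩⟩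
  · interval_cases k <;> simp [decCol_one, decCol_two, decCol_three, encL, entryCol, decC_zero]
  · have ha := encQ_lt a (hq a (by simp))
    have e := decC_encQ a (hq a (by simp))
    interval_cases k
    · rw [decCol_one, encL, show encQ a % 4096 = encQ a by omega, e]; rfl
    · rw [decCol_two, encL, show encQ a / 4096 % 4096 = 0 by omega]; rfl
    · rw [decCol_three, encL, show encQ a / 16777216 % 4096 = 0 by omega]; rfl
  · have ha := encQ_lt a (hq a (by simp))
    have ea := decC_encQ a (hq a (by simp))
    have hb := encQ_lt b (hq b (by simp))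
    have eb := decC_encQ b (hq b (by simp))
    interval_cases k
    · rw [decCol_one, encL, show (encQ a + 4096 * encQ b) % 4096 = encQ a by omega, ea]; rfl
    · rw [decCol_two, encL, show (encQ a + 4096 * encQ b) / 4096 % 4096 = encQ b by omega, eb]; rfl
    · rw [decCol_three, encL, show (encQ a + 4096 * encQ b) / 16777216 % 4096 = 0 by omega]; rfl
  · have ha := encQ_lt a (hq a (by simp))
    have ea := decC_encQ a (hq a (by simp))
    have hb := encQ_lt b (hq b (by simp))
    have eb := decC_encQ b (hq b (by simp))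
    have hc := encQ_lt c (hq c (by simp))
    have ec := decC_encQ c (hq c (by simp))
    interval_cases k
    · rw [decCol_one, encL, show (encQ a + 4096 * encQ b + 4096 * 4096 * encQ c) % 4096 = encQ a by omega, ea]
      rfl
    · rw [decCol_two, encL,
        show (encQ a + 4096 * encQ b + 4096 * 4096 * encQ c) / 4096 % 4096 = encQ b by omega, eb]
      rfl
    · rw [decCol_three, encL,
        show (encQ a + 4096 * encQ b + 4096 * 4096 * encQ c) / 16777216 % 4096 = encQ c by omega, ec]
      rfl
  · simp at hL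
    omega

theorem encL_lt (L : List (ℕ × ℤ)) (hq : ∀ q ∈ L, okQ q) : encL L < 2 ^ 36 := by
  rcases L with _ | ⟨a, _ | ⟨b, _ | ⟨c, _ | ⟨d, L⟩⟩⟩⟩
  · simp [encL]
  · have ha := encQ_lt a (hq a (by simp))
    simp only [encL]; omega
  · have ha := encQ_lt a (hq a (by simp))
    have hb := encQ_lt b (hq b (by simp))
    simp only [encL]; omega
  · have ha := encQ_lt a (hq a (by simp))
    have hb := encQ_lt b (hq b (by simp))
    have hc := encQ_lt c (hq c (by simp))
    simp only [encL]; omega
  · simp [encL]

/-- dense digit list of a sorted row: position `j` holds the code of the entry with key `s0 + j` -/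
def dens : (fuel s0 : ℕ) → Row → List ℕ
  | 0, _, _ => []
  | fuel + 1, s0, [] => 0 :: dens fuel (s0 + 1) []
  | fuel + 1, s0, e :: rest =>
      if Nat.beq e.1 s0 then encL e.2.toList :: dens fuel (s0 + 1) rest
      else 0 :: dens fuel (s0 + 1) (e :: rest)

theorem dens_length (fuel s0 : ℕ) (row : Row) : (dens fuel s0 row).length = fuel := by
  induction fuel generalizing s0 row with
  | zero => simp [dens]
  | succ fuel ih =>
    rcases row with _ | ⟨e, rest⟩
    · simp [dens, ih]
    · simp only [dens]
      split_ifs <;> simp [ih]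

theorem dens_getD (fuel : ℕ) : ∀ (s0 : ℕ) (row : Row), (row.map (·.1)).Pairwise (· < ·) →
    (∀ e ∈ row, s0 ≤ e.1) → ∀ j, j < fuel → (dens fuel s0 row).getD j 0 = encL (findEntry row (s0 + j)) := by
  induction fuel with
  | zero => intro s0 row _ _ j hj; omega
  | succ fuel ih =>
    intro s0 row hs hge j hj
    rcases row with _ | ⟨e, rest⟩
    · simp only [dens, findEntry_nil, encL]
      cases j with
      | zero => simp
      | succ j =>
        rw [List.getD_cons_succ, ih (s0 + 1) [] (by simp) (by simp) j (by omega), findEntry_nil]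
        rfl
    · have hs' := hs
      rw [List.map_cons, List.pairwise_cons] at hs'
      simp only [dens]
      by_cases he : e.1 = s0
      · have hb : Nat.beq e.1 s0 = true := by simpa using he
        rw [if_pos hb]
        cases j with
        | zero => simp [findEntry_cons, he]
        | succ j =>
          rw [List.getD_cons_succ, ih (s0 + 1) rest hs'.2
            (fun e' he' => by
              have := hs'.1 e'.1 (List.mem_map.2 ⟨e', he', rfl⟩); omega) j (by omega),
            findEntry_cons, if_neg (by omega)]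
          congr 2
          omega
      · have hb : ¬ (Nat.beq e.1 s0 = true) := by simpa using he
        rw [if_neg hb]
        have hlt : s0 < e.1 := by
          have := hge e (List.mem_cons_self ..); omega
        cases j with
        | zero =>
          rw [List.getD_cons_zero, Nat.add_zero, findEntry_eq_nil_of_lt]
          · rfl
          · intro e' he'
            rcases List.mem_cons.1 he' with rfl | he'
            · exact hlt
            · have := hs'.1 e'.1 (List.mem_map.2 ⟨e', he', rfl⟩); omega
        | succ j =>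
          rw [List.getD_cons_succ, ih (s0 + 1) (e :: rest) hs
            (fun e' he' => by
              rcases List.mem_cons.1 he' with rfl | he'
              · omega
              · have := hs'.1 e'.1 (List.mem_map.2 ⟨e', he', rfl⟩); omega) j (by omega)]
          congr 2
          omega

theorem dens_lt (fuel : ℕ) : ∀ (s0 : ℕ) (row : Row), (∀ e ∈ row, ∀ q ∈ e.2.toList, okQ q) →
    ∀ d ∈ dens fuel s0 row, d < 2 ^ 36 := by
  induction fuel with
  | zero => intro s0 row _ d hd; simp [dens] at hd
  | succ fuel ih =>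
    intro s0 row hq d hd
    rcases row with _ | ⟨e, rest⟩
    · simp only [dens, List.mem_cons] at hd
      rcases hd with rfl | hd
      · norm_num
      · exact ih _ _ (by simp) d hd
    · simp only [dens] at hd
      split_ifs at hd
      · rcases List.mem_cons.1 hd with rfl | hd
        · exact encL_lt _ (hq e (List.mem_cons_self ..))
        · exact ih _ _ (fun e' he' => hq e' (List.mem_cons_of_mem _ he')) d hd
      · rcases List.mem_cons.1 hd with rfl | hd
        · norm_num
        · exact ih _ _ hq d hd

/-- packed tables of a Chevalley datum -/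
structure FastTab where
  n : ℕ
  l : ℕ
  negT : ℕ
  carT : ℕ
  corT : ℕ
  chT : ℕ

def encZ (z : ℤ) : ℕ := (z + 8).toNat

def mkFast (D : ChevalleyDatum) : FastTab where
  n := D.nroots
  l := D.rank
  negT := packList 8 D.negIdx.toList
  carT := pack2 4 D.nroots (D.cartanSR.toList.map fun row => row.toList.map encZ)
  corT := pack2 4 D.rank (D.coroot.toList.map fun row => row.toList.map encZ)
  chT := pack2 36 D.nroots (D.chain.toList.map fun row => dens D.nroots 0 row.toList)

/-- table conditions making the packed tables faithful -/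
def wfFast (D : ChevalleyDatum) : Bool :=
  (D.negIdx.toList.all fun d => decide (d < 256)) &&
  decide (D.cartanSR.size = D.rank) &&
  (D.cartanSR.toList.all fun row => decide (row.size = D.nroots) && row.toList.all fun z => decide (-8 ≤ z ∧ z < 8)) &&
  decide (D.coroot.size = D.nroots) &&
  (D.coroot.toList.all fun row => decide (row.size = D.rank) && row.toList.all fun z => decide (-8 ≤ z ∧ z < 8)) &&
  (D.chain.toList.all fun row =>
    decide ((row.toList.map (·.1)).Pairwise (· < ·)) &&
    row.toList.all fun e => decide (e.2.size ≤ 3) && e.2.toList.all fun q => decide (okQ q))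

variable (D : ChevalleyDatum)

theorem encZ_lt (z : ℤ) (h : -8 ≤ z ∧ z < 8) : encZ z < 2 ^ 4 := by
  unfold encZ; omega

theorem encZ_cast (z : ℤ) (h : -8 ≤ z ∧ z < 8) : ((encZ z : ℕ) : ℤ) - 8 = z := by
  unfold encZ
  rw [Int.toNat_of_nonneg (by omega)]
  ring

theorem fast_neg (h : wfFast D = true) (r : ℕ) : dig 8 (mkFast D).negT r = D.neg r := by
  unfold wfFast at h
  simp only [Bool.and_eq_true, List.all_eq_true, decide_eq_true_eq] at h
  obtain ⟨⟨⟨⟨⟨h1, -⟩, -⟩, -⟩, -⟩, -⟩ := h
  show dig 8 (packList 8 D.negIdx.toList) r = D.negIdx.getD r 0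
  rw [dig_packList 8 _ (fun d hd => by have := h1 d hd; norm_num; exact this)]
  simp [List.getD_eq_getElem?_getD]

theorem get2Z (tbl : Array (Array ℤ)) (n : ℕ)
    (h : ∀ row ∈ tbl.toList, row.size = n ∧ ∀ z ∈ row.toList, -8 ≤ z ∧ z < 8) (i j : ℕ)
    (hi : i < tbl.size) (hj : j < n) :
    ((get2 4 n (pack2 4 n (tbl.toList.map fun row => row.toList.map encZ)) i j : ℕ) : ℤ) - 8
      = (tbl.getD i #[]).getD j 0 := by
  rw [get2_pack2]
  · have hi' : i < tbl.toList.length := by simpa using hi
    have hrow : tbl[i] ∈ tbl.toList := by simp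
    have h1 : (tbl.toList.map fun row => row.toList.map encZ).getD i [] = (tbl[i]).toList.map encZ := by
      simp [List.getD_eq_getElem?_getD, hi]
    have hsz := (h _ hrow).1
    have hj' : j < (tbl[i]).size := by omega
    rw [h1]
    have h2 : ((tbl[i]).toList.map encZ).getD j 0 = encZ ((tbl[i])[j]) := by
      simp [List.getD_eq_getElem?_getD, hj']
    rw [h2, encZ_cast _ ((h _ hrow).2 _ (by simp))]
    simp [Array.getD, hi, hj']
  · intro l hl
    obtain ⟨row, hrow, rfl⟩ := List.mem_map.1 hl
    have := h row hrow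
    refine ⟨by simp [this.1], ?_⟩
    intro d hd
    obtain ⟨z, hz, rfl⟩ := List.mem_map.1 hd
    exact encZ_lt z (this.2 z hz)

theorem fast_cartan (h : wfFast D = true) (i s : ℕ) (hi : i < D.rank) (hs : s < D.nroots) :
    ((get2 4 (mkFast D).n (mkFast D).carT i s : ℕ) : ℤ) - 8 = D.cartan i s := by
  unfold wfFast at h
  simp only [Bool.and_eq_true, List.all_eq_true, decide_eq_true_eq] at h
  obtain ⟨⟨⟨⟨⟨-, h1⟩, h2⟩, -⟩, -⟩, -⟩ := h
  exact get2Z D.cartanSR D.nroots (fun row hrow => ⟨(h2 row hrow).1, (h2 row hrow).2⟩) i s (by omega) hs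

theorem fast_coroot (h : wfFast D = true) (r i : ℕ) (hr : r < D.nroots) (hi : i < D.rank) :
    ((get2 4 (mkFast D).l (mkFast D).corT r i : ℕ) : ℤ) - 8 = (D.coroot.getD r #[]).getD i 0 := by
  unfold wfFast at h
  simp only [Bool.and_eq_true, List.all_eq_true, decide_eq_true_eq] at h
  obtain ⟨⟨⟨-, h1⟩, h2⟩, -⟩ := h
  exact get2Z D.coroot D.rank (fun row hrow => ⟨(h2 row hrow).1, (h2 row hrow).2⟩) r i (by omega) hi

theorem wfFast_row (h : wfFast D = true) (r : ℕ) :
    (((D.chain.getD r #[]).toList.map (·.1)).Pairwise (· < ·)) ∧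
    ∀ e ∈ (D.chain.getD r #[]).toList, e.2.toList.length ≤ 3 ∧ ∀ q ∈ e.2.toList, okQ q := by
  unfold wfFast at h
  simp only [Bool.and_eq_true, List.all_eq_true, decide_eq_true_eq] at h
  obtain ⟨-, h1⟩ := h
  by_cases hr : r < D.chain.size
  · have hrow : D.chain.getD r #[] ∈ D.chain.toList := by
      simp [Array.getD, hr]
    have := h1 _ hrow
    refine ⟨this.1, fun e he => ⟨by simpa using (this.2 e he).1, (this.2 e he).2⟩⟩
  · have : D.chain.getD r #[] = #[] := by simp [Array.getD, hr]
    rw [this]
    simp

theorem fast_chain (h : wfFast D = true) (r s : ℕ) (hs : s < D.nroots) :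
    get2 36 (mkFast D).n (mkFast D).chT r s = encL (findEntry (D.chain.getD r #[]).toList s) := by
  show get2 36 D.nroots (pack2 36 D.nroots (D.chain.toList.map fun row => dens D.nroots 0 row.toList)) r s = _
  rw [get2_pack2]
  · have h1 : (D.chain.toList.map fun row => dens D.nroots 0 row.toList).getD r []
        = dens D.nroots 0 (D.chain.getD r #[]).toList ∨
        ((D.chain.toList.map fun row => dens D.nroots 0 row.toList).getD r [] = [] ∧ D.chain.getD r #[] = #[]) := by
      by_cases hr : r < D.chain.size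
      · left; simp [List.getD_eq_getElem?_getD, Array.getD, hr]
      · right; simp [List.getD_eq_getElem?_getD, Array.getD, hr]
    rcases h1 with h1 | ⟨h1, h2⟩
    · rw [h1, dens_getD D.nroots 0 _ (wfFast_row D h r).1 (by simp) s hs, Nat.zero_add]
    · rw [h1, h2]
      simp [findEntry_nil, encL]
  · intro l hl
    obtain ⟨row, hrow, rfl⟩ := List.mem_map.1 hl
    refine ⟨by rw [dens_length], ?_⟩
    apply dens_lt
    unfold wfFast at h
    simp only [Bool.and_eq_true, List.all_eq_true, decide_eq_true_eq] at h
    obtain ⟨-, h1⟩ := h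
    intro e he q hq
    exact ((h1 row hrow).2 e he).2 q hq

/-- fast version of `E`, reading the packed tables -/
def Efast (T : FastTab) (r k : ℕ) : SMat := fun c =>
  match c with
  | .inl i =>
      if k = 0 then [(.inl i, 1)]
      else if k = 1 then [(.inr r, - (((get2 4 T.n T.carT i r : ℕ) : ℤ) - 8))] else []
  | .inr s =>
      if s = r then (if k = 0 then [(.inr r, 1)] else [])
      else if s = dig 8 T.negT r then
        (if k = 0 then [(.inr s, 1)]
         else if k = 1 then (List.range T.l).map (fun i => (.inl i, ((get2 4 T.l T.corT r i : ℕ) : ℤ) - 8))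
         else if k = 2 then [(.inr r, -1)] else [])
      else
        (if k = 0 then [(.inr s, 1)] else decCol (get2 36 T.n T.chT r s) k)

theorem findEntry_nil_or_mem (row : Row) (s : ℕ) :
    findEntry row s = [] ∨ ∃ e ∈ row, findEntry row s = e.2.toList := by
  induction row with
  | nil => left; rfl
  | cons e row ih =>
    rw [findEntry_cons]
    by_cases h : e.1 = s
    · right; exact ⟨e, List.mem_cons_self .., by rw [if_pos h]⟩
    · rw [if_neg h]
      rcases ih with ih | ⟨e', he', ih⟩
      · left; exact ih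
      · right; exact ⟨e', List.mem_cons_of_mem _ he', ih⟩

variable (D : ChevalleyDatum)

theorem Efast_eq (h : wfFast D = true) (r : ℕ) (hr : r < D.nroots) (k : ℕ) (hk : k ≤ 3) (c : BIdx)
    (hc : inb D c) : Efast (mkFast D) r k c = E D r k c := by
  rcases c with i | s
  · simp only [Efast, E]
    rw [fast_cartan D h i r hc hr]
  · simp only [Efast, E]
    rw [fast_neg D h r]
    have hl : (mkFast D).l = D.rank := rfl
    have h1 : (List.range (mkFast D).l).map (fun i => ((Sum.inl i : BIdx),
        ((get2 4 (mkFast D).l (mkFast D).corT r i : ℕ) : ℤ) - 8))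
        = (List.range D.rank).map (fun i => ((Sum.inl i : BIdx), (D.coroot.getD r #[]).getD i 0)) := by
      apply List.map_congr_left
      intro i hi
      rw [fast_coroot D h r i hr (List.mem_range.1 hi)]
    rw [h1]
    by_cases hk0 : k = 0
    · simp [hk0]
    · have h2 : decCol (get2 36 (mkFast D).n (mkFast D).chT r s) k
          = chainCol (D.chain.getD r #[]).toList s k := by
        rw [fast_chain D h r s hc, chainCol_eq_of_sorted _ (wfFast_row D h r).1]
        have hrow := (wfFast_row D h r).2
        rcases findEntry_nil_or_mem (D.chain.getD r #[]).toList s with hf | ⟨e, he, hf⟩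
        · rw [hf]
          exact decCol_encL [] (by simp) (by simp) k (by omega) hk
        · rw [hf]
          exact decCol_encL _ (hrow e he).1 (hrow e he).2 k (by omega) hk
      rw [h2]

theorem dig_lt (W T i : ℕ) : dig W T i < 2 ^ W := Nat.mod_lt _ (Nat.two_pow_pos W)

theorem decCol_nil_of_ge (d k : ℕ) (hd : d < 2 ^ 36) (hk : 4 ≤ k) : decCol d k = [] := by
  unfold decCol
  have h1 : (2 : ℕ) ^ 36 ≤ 4096 ^ (k - 1) := by
    calc (2 : ℕ) ^ 36 = 4096 ^ 3 := by norm_num
      _ ≤ 4096 ^ (k - 1) := Nat.pow_le_pow_right (by norm_num) (by omega)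
  have h2 : d / 4096 ^ (k - 1) = 0 := Nat.div_eq_of_lt (by omega)
  simp [h2]

theorem Efast_eq' (hwf : wf D = true) (h : wfFast D = true) (r : ℕ) (hr : r < D.nroots) (k : ℕ) (c : BIdx)
    (hc : inb D c) : Efast (mkFast D) r k c = E D r k c := by
  by_cases hk : k ≤ 3
  · exact Efast_eq D h r hr k hk c hc
  · rw [E_ge_four D hwf r hr k (by omega)]
    have h0 : k ≠ 0 := by omega
    have h1 : k ≠ 1 := by omega
    have h2 : k ≠ 2 := by omega
    rcases c with i | s
    · simp [Efast, h0, h1]
    · simp only [Efast, if_neg h0, if_neg h1, if_neg h2]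
      split_ifs
      · rfl
      · rfl
      · exact decCol_nil_of_ge _ _ (dig_lt _ _ _) (by omega)

/-- expressions for sparse integer matrices -/
inductive MExp
  | E (r k : ℕ)
  | lit (A : SMat)
  | comp (a b : MExp)
  | smul (z : ℤ) (a : MExp)
  | add (a b : MExp)

/-- slow (specification) evaluation -/
def MExp.evalS : MExp → SMat
  | .E r k => Helper36.E D r k
  | .lit A => A
  | .comp a b => Helper36.comp a.evalS b.evalS
  | .smul z a => smulM z a.evalS
  | .add a b => addM a.evalS b.evalS

/-- fast evaluation on packed tables -/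
def MExp.evalF (T : FastTab) : MExp → SMat
  | .E r k => Efast T r k
  | .lit A => A
  | .comp a b => Helper36.comp (a.evalF T) (b.evalF T)
  | .smul z a => smulM z (a.evalF T)
  | .add a b => addM (a.evalF T) (b.evalF T)

/-- matrix semantics -/
def MExp.sem : MExp → Matrix D.Idx D.Idx ℤ
  | .E r k => toMat D (Helper36.E D r k)
  | .lit A => toMat D A
  | .comp a b => a.sem * b.sem
  | .smul z a => z • a.sem
  | .add a b => a.sem + b.sem

/-- well-formedness: roots in range, literal matrices map in-range columns to in-range vectors -/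
def MExp.WF : MExp → Prop
  | .E r _ => r < D.nroots
  | .lit A => ∀ c, inb D c → InRange D (A c)
  | .comp a b => a.WF ∧ b.WF
  | .smul _ a => a.WF
  | .add a b => a.WF ∧ b.WF

theorem MExp.inRange (hwf : wf D = true) (e : MExp) (he : e.WF D) (c : BIdx) (hc : inb D c) :
    InRange D (e.evalS D c) := by
  induction e generalizing c with
  | E r k => exact E_inRange D hwf r he k c hc
  | lit A => exact he c hc
  | comp a b iha ihb =>
    intro p hp
    simp only [MExp.evalS, Helper36.comp, List.mem_flatMap, List.mem_map] at hp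
    obtain ⟨q, hq, p', hp', rfl⟩ := hp
    exact iha he.1 q.1 (ihb he.2 c hc q hq) p' hp'
  | smul z a iha =>
    intro p hp
    simp only [MExp.evalS, smulM, List.mem_map] at hp
    obtain ⟨p', hp', rfl⟩ := hp
    exact iha he c hc p' hp'
  | add a b iha ihb =>
    intro p hp
    simp only [MExp.evalS, addM, List.mem_append] at hp
    rcases hp with hp | hp
    · exact iha he.1 c hc p hp
    · exact ihb he.2 c hc p hp

theorem MExp.toMat_evalS (hwf : wf D = true) (e : MExp) (he : e.WF D) : toMat D (e.evalS D) = e.sem D := by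
  induction e with
  | E r k => rfl
  | lit A => rfl
  | comp a b iha ihb =>
    simp only [MExp.evalS, MExp.sem]
    rw [toMat_comp D _ _ (fun col => MExp.inRange D hwf b he.2 _ (inb_enc D col)), iha he.1, ihb he.2]
  | smul z a iha =>
    simp only [MExp.evalS, MExp.sem]
    rw [toMat_smulM, iha he]
  | add a b iha ihb =>
    simp only [MExp.evalS, MExp.sem]
    rw [toMat_addM, iha he.1, ihb he.2]

theorem MExp.evalF_eq (hwf : wf D = true) (h : wfFast D = true) (e : MExp) (he : e.WF D) (c : BIdx)
    (hc : inb D c) : e.evalF (mkFast D) c = e.evalS D c := by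
  induction e generalizing c with
  | E r k => exact Efast_eq' D hwf h r he k c hc
  | lit A => rfl
  | comp a b iha ihb =>
    simp only [MExp.evalF, MExp.evalS, Helper36.comp]
    rw [ihb he.2 c hc]
    apply List.flatMap_congr
    intro q hq
    rw [iha he.1 q.1 (MExp.inRange D hwf b he.2 c hc q hq)]
  | smul z a iha =>
    simp only [MExp.evalF, MExp.evalS, smulM]
    rw [iha he c hc]
  | add a b iha ihb =>
    simp only [MExp.evalF, MExp.evalS, addM]
    rw [iha he.1 c hc, ihb he.2 c hc]

/-- main soundness principle: a column-wise fast check proves a matrix identity -/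
theorem MExp.sem_eq_of_check (hwf : wf D = true) (h : wfFast D = true) (e₁ e₂ : MExp) (h₁ : e₁.WF D)
    (h₂ : e₂.WF D) (cols : List BIdx) (s₁ : SuppIn D (e₁.evalS D) cols) (s₂ : SuppIn D (e₂.evalS D) cols)
    (hchk : ∀ c ∈ cols, inb D c → vecEq (e₁.evalF (mkFast D) c) (e₂.evalF (mkFast D) c) = true) :
    e₁.sem D = e₂.sem D := by
  rw [← MExp.toMat_evalS D hwf e₁ h₁, ← MExp.toMat_evalS D hwf e₂ h₂]
  apply toMat_eq_of_forall
  intro c hc
  by_cases hcc : c ∈ cols
  · rw [← MExp.evalF_eq D hwf h e₁ h₁ c hc, ← MExp.evalF_eq D hwf h e₂ h₂ c hc]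
    exact hchk c hcc hc
  · rw [s₁ c hc hcc, s₂ c hc hcc]
    rfl

/-- version checking all columns -/
theorem MExp.sem_eq_of_check_all (hwf : wf D = true) (h : wfFast D = true) (e₁ e₂ : MExp) (h₁ : e₁.WF D)
    (h₂ : e₂.WF D)
    (hchk : ∀ c ∈ allCols D, vecEq (e₁.evalF (mkFast D) c) (e₂.evalF (mkFast D) c) = true) :
    e₁.sem D = e₂.sem D := by
  rw [← MExp.toMat_evalS D hwf e₁ h₁, ← MExp.toMat_evalS D hwf e₂ h₂]
  apply toMat_eq_of_forall
  intro c hc
  rw [← MExp.evalF_eq D hwf h e₁ h₁ c hc, ← MExp.evalF_eq D hwf h e₂ h₂ c hc]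
  exact hchk c ((mem_allCols_iff D c).2 hc)

end Cfsg.Agent.Lib.Helper36
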