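import Cfsg.Agent.Lib.Helper36.ChevBN

/-! # G = G' for Chevalley groups (helper36) -/

set_option autoImplicit false

namespace Cfsg.Agent.Lib.Helper36

open Cfsg Cfsg.Lie
open scoped commutatorElement

variable (D : ChevalleyDatum) (hD : D ∈ [chevG2, chevB2, chevD4, chevF4, chevE6, chevE7, chevE8])

section perf
variable (F : Type*) [Field F]

/-- the statement of the commutator formula (S1025) -/
def HComm : Prop :=
  ∀ (r s : ℕ), r < D.nroots → s < D.nroots → s ≠ r → s ≠ D.neg r → ∀ t u : F,
    D.x F s u * D.x F r t = D.x F r t * D.x F s u * D.wordMat F (D.commWord F r s t u)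

/-- the derived subgroup of the Chevalley group, inside the general linear group -/
def derGL : Subgroup (GL D.Idx F) := ⁅D.group F, D.group F⁆

theorem derGL_le : derGL D F ≤ D.group F := by
  unfold derGL
  rw [Subgroup.commutator_le]
  intro g₁ h₁ g₂ h₂
  exact mul_mem (mul_mem (mul_mem h₁ h₂) (inv_mem h₁)) (inv_mem h₂)

theorem conj_mem_derGL (g c : GL D.Idx F) (hg : g ∈ D.group F) (hc : c ∈ derGL D F) :
    g * c * g⁻¹ ∈ derGL D F := by
  have h1 : ⁅g, c⁆ ∈ derGL D F := Subgroup.commutator_mem_commutator hg (derGL_le D F hc)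
  have e : g * c * g⁻¹ = ⁅g, c⁆ * c := by
    rw [commutatorElement_def]; group
  rw [e]
  exact mul_mem h1 hc

include hD in
theorem commWord_mem (hcomm : HComm D F) (r s : ℕ) (hr : r < D.nroots) (hs : s < D.nroots) (hrs : s ≠ r)
    (hneg : s ≠ D.neg r) (t u : F) : wordGL D hD F (D.commWord F r s t u) ∈ derGL D F := by
  have h := hcomm r s hr hs hrs hneg t u
  have e : xGL D hD F s u * xGL D hD F r t =
      xGL D hD F r t * xGL D hD F s u * wordGL D hD F (D.commWord F r s t u) := by
    apply Units.ext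
    rw [Units.val_mul, Units.val_mul, Units.val_mul, xGL_coe, xGL_coe, wordGL_coe]
    exact h
  have e2 : wordGL D hD F (D.commWord F r s t u) = ⁅(xGL D hD F s u)⁻¹, (xGL D hD F r t)⁻¹⁆ := by
    rw [commutatorElement_def, inv_inv, inv_inv]
    have : wordGL D hD F (D.commWord F r s t u) =
        (xGL D hD F r t * xGL D hD F s u)⁻¹ * (xGL D hD F s u * xGL D hD F r t) := by
      rw [e]; group
    rw [this]; group
  rw [e2]
  exact Subgroup.commutator_mem_commutator (inv_mem (xGL_mem_group D hD F s u))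
    (inv_mem (xGL_mem_group D hD F r t))

include hD in
/-- a commutator with a single term -/
theorem perf_c1 (hcomm : HComm D F) (r s γ : ℕ) (c : ℤ) (hr : r < D.nroots) (hs : s < D.nroots) (hrs : s ≠ r)
    (hneg : s ≠ D.neg r) (hterms : D.commTerms r s = [(γ, c, 1, 1)]) (hc : c = 1 ∨ c = -1) (v : F) :
    xGL D hD F γ v ∈ derGL D F := by
  have h := commWord_mem D hD F hcomm r s hr hs hrs hneg (-(c : F)) v
  unfold ChevalleyDatum.commWord at h
  rw [hterms] at h
  simp only [List.map_cons, List.map_nil, wordGL, List.prod_cons, List.prod_nil, mul_one, pow_one, neg_neg] at h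
  have e : (c : F) * (c : F) * v = v := by
    rcases hc with rfl | rfl <;> simp
  rwa [e] at h

include hD in
/-- the torus argument -/
theorem perf_torus (a : F) (ha0 : a ≠ 0) (ha1 : a ≠ 1) (j γ : ℕ) (hj : j < D.rank) (hγ : γ < D.nroots)
    (hc : D.cartan j γ = 1 ∨ D.cartan j γ = -1) (v : F) : xGL D hD F γ v ∈ derGL D F := by
  have hp := (chkN2_spec D (chkN2_all D hD) j hj).1
  have hne : a ^ (D.cartan j γ) - 1 ≠ 0 := by
    rw [sub_ne_zero]
    rcases hc with h | h <;> rw [h]
    · simpa using ha1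
    · rw [zpow_neg, zpow_one]
      intro e
      exact ha1 (inv_eq_one.1 e)
  have hconj := hGL_conj_xGL D hD F (D.simple j) γ hp hγ a ha0 (v / (a ^ (D.cartan j γ) - 1))
  rw [gc_simple D hD j γ hj] at hconj
  have hmem : ⁅hGL D hD F (D.simple j) a, xGL D hD F γ (v / (a ^ (D.cartan j γ) - 1))⁆ ∈ derGL D F :=
    Subgroup.commutator_mem_commutator (diagonal_le_group D hD F (hGL_mem_diag D hD F _ hp a ha0))
      (xGL_mem_group D hD F _ _)
  rw [commutatorElement_def, hconj, xGL_inv, ← xGL_add] at hmem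
  have e : a ^ D.cartan j γ * (v / (a ^ D.cartan j γ - 1)) + -(v / (a ^ D.cartan j γ - 1)) = v := by
    field_simp
    ring
  rwa [e] at hmem

include hD in
theorem perf_reflect (i r : ℕ) (hi : i < D.rank) (hr : r < D.nroots)
    (h : ∀ v : F, xGL D hD F r v ∈ derGL D F) (v : F) : xGL D hD F (D.reflectRoot i r) v ∈ derGL D F := by
  rw [xGL_reflect D hD F i r hi hr v]
  exact conj_mem_derGL D F _ _ (monomial_le_group D hD F (nS_mem_monomial D hD F i hi)) (h _)

include hD in
/-- if all fundamental root subgroups lie in the derived group then the group is perfect -/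
theorem perfect_of_simple (h : ∀ i < D.rank, ∀ v : F, xGL D hD F (D.simple i) v ∈ derGL D F) :
    commutator ↥(D.group F) = ⊤ := by
  have hall : ∀ r < D.nroots, ∀ v : F, xGL D hD F r v ∈ derGL D F :=
    root_induction D hD (fun r => ∀ v : F, xGL D hD F r v ∈ derGL D F) h
      (fun i hi r hr ih => perf_reflect D hD F i r hi hr ih)
  have hle : D.group F ≤ derGL D F := group_le D hD F _ hall
  have heq : derGL D F = D.group F := le_antisymm (derGL_le D F) hle
  apply Subgroup.map_injective (D.group F).subtype_injective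
  rw [commutator_def, Subgroup.map_commutator, ← MonoidHom.range_eq_map, Subgroup.range_subtype]
  exact heq

/-- every fundamental root is the sum of two roots whose commutator has a single term -/
def chkPerf1 : Bool :=
  (List.range D.rank).all fun i => (List.range D.rank).any fun j =>
    let r := D.reflectRoot j (D.simple i)
    let s := D.neg (D.simple j)
    decide (r < D.nroots) && decide (s < D.nroots) && (s != r) && (s != D.neg r) &&
      (D.commTerms r s == [(D.simple i, 1, 1, 1)] || D.commTerms r s == [(D.simple i, -1, 1, 1)])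

include hD in
theorem perfect_of_chkPerf1 (hcomm : HComm D F) (hchk : chkPerf1 D = true) :
    commutator ↥(D.group F) = ⊤ := by
  apply perfect_of_simple D hD F
  intro i hi v
  unfold chkPerf1 at hchk
  rw [List.all_eq_true] at hchk
  have h1 := hchk i (List.mem_range.2 hi)
  rw [List.any_eq_true] at h1
  obtain ⟨j, -, h2⟩ := h1
  simp only [Bool.and_eq_true, Bool.or_eq_true, decide_eq_true_eq, bne_iff_ne, ne_eq, beq_iff_eq] at h2
  obtain ⟨⟨⟨⟨hr, hs⟩, hrs⟩, hneg⟩, hterms⟩ := h2
  rcases hterms with ht | ht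
  · exact perf_c1 D hD F hcomm _ _ _ 1 hr hs hrs hneg ht (Or.inl rfl) v
  · exact perf_c1 D hD F hcomm _ _ _ (-1) hr hs hrs hneg ht (Or.inr rfl) v

theorem chkPerf1_D4 : chkPerf1 chevD4 = true := by decide +kernel
theorem chkPerf1_F4 : chkPerf1 chevF4 = true := by decide +kernel
theorem chkPerf1_E6 : chkPerf1 chevE6 = true := by decide +kernel
theorem chkPerf1_E7 : chkPerf1 chevE7 = true := by decide +kernel
theorem chkPerf1_E8 : chkPerf1 chevE8 = true := by decide +kernel

theorem g2_facts : chevG2.rank = 2 ∧ chevG2.nroots = 12 ∧ chevG2.simple 0 = 7 ∧ chevG2.simple 1 = 6 ∧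
    chevG2.cartan 1 7 = -1 ∧ chevG2.neg 1 = 10 ∧ chevG2.commTerms 1 11 = [(6, -1, 1, 1)] := by decide +kernel

theorem perfect_G2 (hcomm : HComm chevG2 F) (a : F) (ha0 : a ≠ 0) (ha1 : a ≠ 1) :
    commutator ↥(chevG2.group F) = ⊤ := by
  obtain ⟨hrank, hn, hs0, hs1, hc, hneg, hterms⟩ := g2_facts
  have hD : chevG2 ∈ [chevG2, chevB2, chevD4, chevF4, chevE6, chevE7, chevE8] := by simp
  apply perfect_of_simple chevG2 hD F
  intro i hi v
  rw [hrank] at hi
  interval_cases i
  · rw [hs0]
    exact perf_torus chevG2 hD F a ha0 ha1 1 7 (by rw [hrank]; norm_num) (by rw [hn]; norm_num)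
      (Or.inr hc) v
  · rw [hs1]
    exact perf_c1 chevG2 hD F hcomm 1 11 6 (-1) (by rw [hn]; norm_num) (by rw [hn]; norm_num) (by norm_num)
      (by rw [hneg]; norm_num) hterms (Or.inr rfl) v

theorem b2_facts : chevB2.rank = 2 ∧ chevB2.nroots = 8 ∧ chevB2.simple 0 = 5 ∧ chevB2.simple 1 = 4 ∧
    chevB2.cartan 1 5 = -1 ∧ chevB2.neg 7 = 0 ∧ chevB2.reflectRoot 1 5 = 6 ∧
    chevB2.commTerms 7 2 = [(6, -1, 1, 1), (4, -1, 1, 2)] := by decide +kernel

theorem perfect_B2 (hcomm : HComm chevB2 F) (a : F) (ha0 : a ≠ 0) (ha1 : a ≠ 1) :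
    commutator ↥(chevB2.group F) = ⊤ := by
  obtain ⟨hrank, hn, hs0, hs1, hc, hneg, hrefl, hterms⟩ := b2_facts
  have hD : chevB2 ∈ [chevG2, chevB2, chevD4, chevF4, chevE6, chevE7, chevE8] := by simp
  have h5 : ∀ v : F, xGL chevB2 hD F 5 v ∈ derGL chevB2 F := fun v =>
    perf_torus chevB2 hD F a ha0 ha1 1 5 (by rw [hrank]; norm_num) (by rw [hn]; norm_num) (Or.inr hc) v
  have h6 : ∀ v : F, xGL chevB2 hD F 6 v ∈ derGL chevB2 F := by
    intro v
    have := perf_reflect chevB2 hD F 1 5 (by rw [hrank]; norm_num) (by rw [hn]; norm_num) h5 v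
    rwa [hrefl] at this
  apply perfect_of_simple chevB2 hD F
  intro i hi v
  rw [hrank] at hi
  interval_cases i
  · rw [hs0]; exact h5 v
  · rw [hs1]
    have h := commWord_mem chevB2 hD F hcomm 7 2 (by rw [hn]; norm_num) (by rw [hn]; norm_num) (by norm_num)
      (by rw [hneg]; norm_num) v 1
    unfold ChevalleyDatum.commWord at h
    rw [hterms] at h
    simp only [List.map_cons, List.map_nil, wordGL, List.prod_cons, List.prod_nil, mul_one, pow_one,
      one_pow, Int.cast_neg, Int.cast_one, neg_mul, one_mul, neg_neg] at h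
    have h6' := h6 v
    exact (Subgroup.mul_mem_cancel_left _ h6').1 h

end perf

end Cfsg.Agent.Lib.Helper36
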