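import Cfsg.Agent.Lib.Helper36.ChevBV

/-! # B = UH is solvable (helper36) -/

set_option autoImplicit false
set_option linter.style.haveILetI false

namespace Cfsg.Agent.Lib.Helper36

open Cfsg Cfsg.Lie

variable (D : ChevalleyDatum) (hD : D ∈ [chevG2, chevB2, chevD4, chevF4, chevE6, chevE7, chevE8])

include hD in
theorem diagonal_comm (F : Type*) [Field F] (a b : GL D.Idx F) (ha : a ∈ D.diagonalSubgroup F)
    (hb : b ∈ D.diagonalSubgroup F) : a * b = b * a := by
  apply Units.ext
  rw [Units.val_mul, Units.val_mul]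
  have h1 := (Matrix.isDiag_iff_diagonal_diag _).1 (isDiag_of_mem_diagonal D hD F a ha)
  have h2 := (Matrix.isDiag_iff_diagonal_diag _).1 (isDiag_of_mem_diagonal D hD F b hb)
  rw [← h1, ← h2, Matrix.diagonal_mul_diagonal, Matrix.diagonal_mul_diagonal]
  congr 1
  funext i
  exact mul_comm _ _

include hD in
theorem borel_le_normalizer_pos (F : Type*) [Field F] :
    D.borelSubgroup F ≤ Subgroup.normalizer (D.posUnipotent F : Set (GL D.Idx F)) :=
  sup_le Subgroup.le_normalizer (diagonal_le_normalizer_pos D hD F)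

include hD in
theorem borel_isSolvable (F : Type*) [Field F] : Group.IsSolvable (D.borelSubgroup F) := by
  have hUB : D.posUnipotent F ≤ D.borelSubgroup F := le_sup_left
  have hHB : D.diagonalSubgroup F ≤ D.borelSubgroup F := le_sup_right
  haveI hn : ((D.posUnipotent F).subgroupOf (D.borelSubgroup F)).Normal :=
    (Subgroup.normal_subgroupOf_iff_le_normalizer hUB).2 (borel_le_normalizer_pos D hD F)
  haveI : Group.IsNilpotent (D.posUnipotent F) :=
    isNilpotent_of_le_raises _ (posUnipotent_le_raises D hD F)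
  haveI : Group.IsSolvable (D.posUnipotent F) := IsNilpotent.to_isSolvable
  haveI : Group.IsSolvable (D.borelSubgroup F ⧸ (D.posUnipotent F).subgroupOf (D.borelSubgroup F)) := by
    apply Group.isSolvable_of_comm
    -- every class is the class of an element of H
    have key : ∀ a : D.borelSubgroup F ⧸ (D.posUnipotent F).subgroupOf (D.borelSubgroup F),
        ∃ h : GL D.Idx F, ∃ hh : h ∈ D.diagonalSubgroup F,
          a = QuotientGroup.mk (⟨h, hHB hh⟩ : D.borelSubgroup F) := by
      intro a
      induction a using QuotientGroup.induction_on with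
      | H b =>
        obtain ⟨u, hu, h, hh, e⟩ := (mem_borel_iff D hD F b.1).1 b.2
        refine ⟨h, hh, ?_⟩
        have eb : b = (⟨u, hUB hu⟩ : D.borelSubgroup F) * ⟨h, hHB hh⟩ := Subtype.ext e.symm
        rw [eb, QuotientGroup.mk_mul]
        have : (QuotientGroup.mk (⟨u, hUB hu⟩ : D.borelSubgroup F) :
            D.borelSubgroup F ⧸ (D.posUnipotent F).subgroupOf (D.borelSubgroup F)) = 1 := by
          rw [QuotientGroup.eq_one_iff, Subgroup.mem_subgroupOf]
          exact hu
        rw [this, one_mul]
    intro a b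
    obtain ⟨h1, hh1, rfl⟩ := key a
    obtain ⟨h2, hh2, rfl⟩ := key b
    rw [← QuotientGroup.mk_mul, ← QuotientGroup.mk_mul]
    congr 1
    exact Subtype.ext (diagonal_comm D hD F h1 h2 hh1 hh2)
  refine Group.isSolvable_of_ker_le_range (Subgroup.inclusion hUB)
    (QuotientGroup.mk' ((D.posUnipotent F).subgroupOf (D.borelSubgroup F))) ?_
  rw [QuotientGroup.ker_mk']
  intro x hx
  exact ⟨⟨x.1, hx⟩, Subtype.ext rfl⟩

end Cfsg.Agent.Lib.Helper36
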