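import Cfsg.Agent.Lib.Helper36.ChevIrr
import Cfsg.Agent.Lib.Helper36.ChevPerf
import Cfsg.Agent.Lib.Helper36.ChevSolv
import Cfsg.Agent.S0319

/-! # Simplicity of the Chevalley groups from the (B,N)-pair (helper36) -/

set_option autoImplicit false

namespace Cfsg.Agent.Lib.Helper36

open Cfsg Cfsg.Lie

variable (D : ChevalleyDatum) (hD : D ∈ [chevG2, chevB2, chevD4, chevF4, chevE6, chevE7, chevE8])

section simple
variable (F : Type*) [Field F]

include hD in
theorem comm_not_mem_borel (i j : ℕ) (hi : i < D.rank) (hj : j < D.rank)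
    (hadj : wRoot D [i, j, i, j] (D.simple j) ≠ D.simple j) :
    nGL D hD F (D.simple i) 1 * nGL D hD F (D.simple j) 1 * (nGL D hD F (D.simple i) 1)⁻¹ *
      (nGL D hD F (D.simple j) 1)⁻¹ ∉ D.borelSubgroup F := by
  intro h
  have hNi := nS_mem_monomial D hD F i hi
  have hNj := nS_mem_monomial D hD F j hj
  have hH : nGL D hD F (D.simple i) 1 * nGL D hD F (D.simple j) 1 * (nGL D hD F (D.simple i) 1)⁻¹ *
      (nGL D hD F (D.simple j) 1)⁻¹ ∈ D.diagonalSubgroup F := by
    rw [← borel_inf_monomial D hD F]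
    exact Subgroup.mem_inf.2 ⟨h, mul_mem (mul_mem (mul_mem hNi hNj) (inv_mem hNi)) (inv_mem hNj)⟩
  have hw : nWordGL D hD F [i, j, i, j] ∈ D.diagonalSubgroup F := by
    have e : nWordGL D hD F [i, j, i, j] =
        (nGL D hD F (D.simple i) 1 * nGL D hD F (D.simple j) 1 * (nGL D hD F (D.simple i) 1)⁻¹ *
          (nGL D hD F (D.simple j) 1)⁻¹) *
        (nGL D hD F (D.simple j) 1 * (nGL D hD F (D.simple i) 1 * nGL D hD F (D.simple i) 1) *
          (nGL D hD F (D.simple j) 1)⁻¹) *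
        (nGL D hD F (D.simple j) 1 * nGL D hD F (D.simple j) 1) := by
      simp only [nWordGL, List.map_cons, List.map_nil, List.prod_cons, List.prod_nil, mul_one]
      group
    rw [e]
    exact mul_mem (mul_mem hH (conj_mem_diag_of_mem_monomial D hD F _ _ hNj (nS_sq_mem_diag D hD F i hi)))
      (nS_sq_mem_diag D hD F j hj)
  have hl : ∀ k ∈ [i, j, i, j], k < D.rank := by
    intro k hk
    simp only [List.mem_cons, List.not_mem_nil, or_false] at hk
    rcases hk with rfl | rfl | rfl | rfl <;> assumption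
  have hpj := (chkN2_spec D (chkN2_all D hD) j hj).1
  have h1 := wPerm_eq_of_mem_diagonal D hD F [i, j, i, j] hl hw ⟨D.simple j, hpj⟩
  have h2 := wPerm_val D hD [i, j, i, j] hl ⟨D.simple j, hpj⟩
  rw [h1] at h2
  exact hadj h2.symm

include hD in
theorem comm_not_mem_borel' (i j : ℕ) (hi : i < D.rank) (hj : j < D.rank) (hadj : adjS D i j = true) :
    nGL D hD F (D.simple i) 1 * nGL D hD F (D.simple j) 1 * (nGL D hD F (D.simple i) 1)⁻¹ *
      (nGL D hD F (D.simple j) 1)⁻¹ ∉ D.borelSubgroup F := by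
  unfold adjS at hadj
  simp only [Bool.or_eq_true, bne_iff_ne, ne_eq] at hadj
  rcases hadj with h | h
  · exact comm_not_mem_borel D hD F i j hi hj h
  · intro hmem
    apply comm_not_mem_borel D hD F j i hj hi h
    have := inv_mem hmem
    simpa [mul_assoc] using this

include hD in
theorem rank_pos : 0 < D.rank := by
  simp only [List.mem_cons, List.not_mem_nil, or_false] at hD
  rcases hD with rfl | rfl | rfl | rfl | rfl | rfl | rfl <;> decide

include hD in
theorem nontrivial_group : Nontrivial ↥(D.group F) := by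
  have hi := rank_pos D hD
  have hp := (chkN2_spec D (chkN2_all D hD) 0 hi).1
  refine ⟨⟨⟨xGL D hD F (D.simple 0) 1, xGL_mem_group D hD F _ _⟩, 1, ?_⟩⟩
  intro h
  have h1 : xGL D hD F (D.simple 0) 1 = 1 := congrArg Subtype.val h
  have h2 : D.x F (D.simple 0) 1 = 1 := by rw [← xGL_coe D hD F, h1, Units.val_one]
  exact one_ne_zero (x_eq_one_iff D hD F _ hp 1 h2)

include hD in
theorem simple_of_bn (h45 : ∀ i < D.rank, H45 D F i) (hperf : commutator ↥(D.group F) = ⊤) :
    IsSimpleGroup ↥(D.group F) ∧ ¬ IsMulCommutative ↥(D.group F) := by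
  obtain ⟨P, hB, hN, hS⟩ := exists_bnPair D hD F h45
  have := nontrivial_group D hD F
  have hNG := monomial_le_group D hD F
  have hBG := borel_le_group D hD F
  refine ⟨Cfsg.Agent.S0319.result P ?_ ?_ hperf ?_, ?_⟩
  · -- irreducible
    intro J hJ hJne hJc
    let sG : (i : ℕ) → i < D.rank → ↥(D.group F) := fun i hi =>
      ⟨nGL D hD F (D.simple i) 1, hNG (nS_mem_monomial D hD F i hi)⟩
    have hsG : ∀ i (hi : i < D.rank), sG i hi ∈ P.S := by
      intro i hi
      rw [hS]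
      exact ⟨i, hi, nGL_coe D hD F _ _⟩
    have hS' : ∀ s ∈ P.S, ∃ i, ∃ hi : i < D.rank, s = sG i hi := by
      intro s hs
      rw [hS] at hs
      obtain ⟨i, hi, e⟩ := hs
      exact ⟨i, hi, Subtype.ext (Units.ext (by rw [e]; exact (nGL_coe D hD F _ _).symm))⟩
    obtain ⟨s0, hs0⟩ := hJne
    obtain ⟨s1, hs1, hs1'⟩ := hJc
    obtain ⟨i0, hi0, rfl⟩ := hS' s0 (hJ hs0)
    obtain ⟨j0, hj0, rfl⟩ := hS' s1 hs1
    obtain ⟨i, j, hi, hj, ⟨hi', hpi⟩, hpj, hadj⟩ := exists_adj D hD (fun i => ∃ hi : i < D.rank, sG i hi ∈ J)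
      i0 j0 hi0 hj0 ⟨hi0, hs0⟩ (fun ⟨_, h⟩ => hs1' h)
    refine ⟨sG i hi, hpi, sG j hj, ⟨hsG j hj, fun h => hpj ⟨hj, h⟩⟩, ?_⟩
    rw [hB, Subgroup.mem_subgroupOf]
    exact comm_not_mem_borel' D hD F i j hi hj hadj
  · -- solvable
    rw [hB]
    have := borel_isSolvable D hD F
    exact Group.isSolvable_of_isSolvable_injective
      (f := (Subgroup.subgroupOfEquivOfLe hBG).toMonoidHom) (Subgroup.subgroupOfEquivOfLe hBG).injective
  · -- core
    rw [hB]
    exact borel_normalCore D hD F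
  · -- not commutative
    intro hcomm
    have hbot : commutator ↥(D.group F) = ⊥ := by
      rw [commutator_def, eq_bot_iff, Subgroup.commutator_le]
      intro g₁ _ g₂ _
      rw [Subgroup.mem_bot, commutatorElement_eq_one_iff_mul_comm]
      exact hcomm.is_comm.comm g₁ g₂
    rw [hbot] at hperf
    exact bot_ne_top hperf

include hD in
theorem perfect_all (hcomm : HComm D F) (h2 : D = chevG2 ∨ D = chevB2 → ∃ a : F, a ≠ 0 ∧ a ≠ 1) :
    commutator ↥(D.group F) = ⊤ := by
  simp only [List.mem_cons, List.not_mem_nil, or_false] at hD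
  rcases hD with rfl | rfl | rfl | rfl | rfl | rfl | rfl
  · obtain ⟨a, ha0, ha1⟩ := h2 (Or.inl rfl)
    exact perfect_G2 F hcomm a ha0 ha1
  · obtain ⟨a, ha0, ha1⟩ := h2 (Or.inr rfl)
    exact perfect_B2 F hcomm a ha0 ha1
  · exact perfect_of_chkPerf1 chevD4 (by simp) F hcomm chkPerf1_D4
  · exact perfect_of_chkPerf1 chevF4 (by simp) F hcomm chkPerf1_F4
  · exact perfect_of_chkPerf1 chevE6 (by simp) F hcomm chkPerf1_E6
  · exact perfect_of_chkPerf1 chevE7 (by simp) F hcomm chkPerf1_E7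
  · exact perfect_of_chkPerf1 chevE8 (by simp) F hcomm chkPerf1_E8

include hD in
theorem simple_all (h45 : ∀ i < D.rank, H45 D F i) (hcomm : HComm D F)
    (h2 : D = chevG2 ∨ D = chevB2 → ∃ a : F, a ≠ 0 ∧ a ≠ 1) :
    IsSimpleGroup ↥(D.group F) ∧ ¬ IsMulCommutative ↥(D.group F) :=
  simple_of_bn D hD F h45 (perfect_all D hD F hcomm h2)

end simple

end Cfsg.Agent.Lib.Helper36
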