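import Cfsg.Agent.Lib.Helper36.ChevTwW

/-! # The (B,N)-pair of a twisted group (helper36) -/

set_option autoImplicit false
set_option linter.unusedSectionVars false

namespace Cfsg.Agent.Lib.Helper36

open Cfsg Cfsg.Lie Cfsg.Agent.Lib.Helper18

/-- all the table checks for a twisted group -/
structure TwOK (D : ChevalleyDatum) (G : GraphTab) (orbs fund : List (List ℕ))
    (steps : List (List ℕ × List ℕ × List ℕ)) : Prop where
  hG : GraphOK D G
  orb : chkOrb D G orbs = true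
  fnd : chkFund D G orbs fund = true
  reach : chkReach2 D orbs fund steps = true
  fw : chkFundW D G fund = true

section
variable (D : ChevalleyDatum) (hD : D ∈ [chevG2, chevB2, chevD4, chevF4, chevE6, chevE7, chevE8])
variable (F : Type*) [Field F]

include hD in
/-- words acting in the same way on the roots give the same monomial element modulo `H` -/
theorem mem_diag_of_wRoot_eq (l l' : List ℕ) (hl : ∀ i ∈ l, i < D.rank) (hl' : ∀ i ∈ l', i < D.rank)
    (h : ∀ r < D.nroots, wRoot D l r = wRoot D l' r) :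
    (nWordGL D hD F l')⁻¹ * nWordGL D hD F l ∈ D.diagonalSubgroup F := by
  obtain ⟨h₀, hh₀, e⟩ := nWord_inv_eq D hD F l' hl'
  have hlr : ∀ i ∈ l'.reverse, i < D.rank := fun i hi => hl' i (List.mem_reverse.1 hi)
  have hl'' : ∀ i ∈ l'.reverse ++ l, i < D.rank := by
    intro i hi
    rcases List.mem_append.1 hi with h | h
    · exact hlr i h
    · exact hl i h
  have hmem : nWordGL D hD F (l'.reverse ++ l) ∈ D.diagonalSubgroup F := by
    apply nWord_mem_diag_of_pos D hD F _ hl''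
    intro s hs
    rw [wRoot_append, h s hs.1, wRoot_reverse' D hD l' hl' s hs.1]
    exact hs
  rw [nWordGL_append] at hmem
  have hnN : nWordGL D hD F l ∈ D.monomialSubgroup F := nWordGL_mem D hD F l hl
  have h2 : (nWordGL D hD F l)⁻¹ * h₀ * nWordGL D hD F l ∈ D.diagonalSubgroup F :=
    conj_mem_diag D hD F _ _ hnN hh₀
  have e2 : (nWordGL D hD F l')⁻¹ * nWordGL D hD F l =
      (nWordGL D hD F l'.reverse * nWordGL D hD F l) * ((nWordGL D hD F l)⁻¹ * h₀ * nWordGL D hD F l) := by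
    rw [e]; group
  rw [e2]
  exact mul_mem hmem h2

include hD in
/-- the double coset axiom for a product of fundamental reflections -/
theorem bn4_list (J : List ℕ) (hJ : ∀ j ∈ J, j < D.rank) (l : List ℕ) (hl : ∀ j ∈ l, j < D.rank)
    (h : GL D.Idx F) (hh : h ∈ D.diagonalSubgroup F) (b : GL D.Idx F) (hb : b ∈ D.borelSubgroup F) :
    ∃ J' : List ℕ, J'.Sublist J ∧
      InBnB D F (nWordGL D hD F J * b * (nWordGL D hD F l * h)) (nWordGL D hD F (J' ++ l) * h) := by
  have h45 : ∀ i < D.rank, H45 D F i := fun i hi => Cfsg.Agent.S1045.result D hD i hi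
  induction J generalizing b with
  | nil =>
    refine ⟨[], List.Sublist.refl _, b, hb, 1, one_mem _, ?_⟩
    simp [nWordGL]
  | cons i J ih =>
    have hi := hJ i (List.mem_cons_self ..)
    have hJ' : ∀ j ∈ J, j < D.rank := fun j hj => hJ j (List.mem_cons_of_mem _ hj)
    obtain ⟨J', hJ's, b1, hb1, b2, hb2, e⟩ := ih hJ' b hb
    have hJ'l : ∀ j ∈ J' ++ l, j < D.rank := by
      intro j hj
      rcases List.mem_append.1 hj with h | h
      · exact hJ' j (hJ's.subset h)
      · exact hl j h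
    have key := bn4_word D hD F i hi (h45 i hi) (J' ++ l) hJ'l h hh b1 hb1
    have e2 : nWordGL D hD F (i :: J) * b * (nWordGL D hD F l * h) =
        (nGL D hD F (D.simple i) 1 * b1 * (nWordGL D hD F (J' ++ l) * h)) * b2 := by
      rw [nWordGL_cons, mul_assoc (nGL D hD F (D.simple i) 1), mul_assoc (nGL D hD F (D.simple i) 1), e]
      group
    rcases key with ⟨c1, hc1, c2, hc2, e3⟩ | ⟨c1, hc1, c2, hc2, e3⟩
    · refine ⟨i :: J', hJ's.cons_cons i, c1, hc1, c2 * b2, mul_mem hc2 hb2, ?_⟩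
      rw [e2, e3, List.cons_append, nWordGL_cons]
      group
    · refine ⟨J', hJ's.cons i, c1, hc1, c2 * b2, mul_mem hc2 hb2, ?_⟩
      rw [e2, e3]
      group

end

section
variable (D : ChevalleyDatum) (hD : D ∈ [chevG2, chevB2, chevD4, chevF4, chevE6, chevE7, chevE8])
variable (G : GraphTab) (hG : GraphOK D G)

include hD hG in
theorem rhoComm_of_eq (l₁ l₂ : List ℕ) (hl₁ : ∀ i ∈ l₁, i < D.rank) (hl₂ : ∀ i ∈ l₂, i < D.rank)
    (h : ∀ r < D.nroots, wRoot D l₁ r = wRoot D l₂ r) (h2 : RhoComm D G l₂) : RhoComm D G l₁ := by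
  intro r hr
  obtain ⟨h3, h4, -⟩ := graph_lt D G hG r hr
  have e1 := rho_wRoot D hD G hG l₁ hl₁ _ h4
  have e2 := rho_wRoot D hD G hG l₂ hl₂ _ h4
  rw [((graph2_spec D G hG).1 r hr).2.2.2.2.2.1] at e1 e2
  rw [← e1, h _ h4, e2, h2 r hr, h r hr]

include hD hG in
theorem rhoComm_cancel (J l : List ℕ) (hl : ∀ i ∈ l, i < D.rank)
    (h : RhoComm D G (J ++ l)) (h2 : RhoComm D G l) : RhoComm D G J := by
  intro r hr
  have hl' : ∀ i ∈ l.map G.ρs, i < D.rank := by
    intro i hi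
    obtain ⟨j, hj, rfl⟩ := List.mem_map.1 hi
    exact (graph_s_lt D G hG j (hl j hj)).1
  have hlr : ∀ i ∈ (l.map G.ρs).reverse, i < D.rank := fun i hi => hl' i (List.mem_reverse.1 hi)
  set r'' := wRoot D (l.map G.ρs).reverse r with hr''
  have hr''lt : r'' < D.nroots := wRoot_lt D hD _ hlr r hr
  have e : wRoot D (l.map G.ρs) r'' = r := wRoot_reverse D hD _ hl' r hr
  have h3 := h r'' hr''lt
  rw [List.map_append, wRoot_append, wRoot_append, e] at h3
  rw [h3, ← h2 r'' hr''lt, e]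

end

section main
variable (D : ChevalleyDatum) (hD : D ∈ [chevG2, chevB2, chevD4, chevF4, chevE6, chevE7, chevE8])
variable (G : GraphTab) (orbs fund : List (List ℕ)) (steps : List (List ℕ × List ℕ × List ℕ))
variable (hok : TwOK D G orbs fund steps)
variable (F : Type*) [Field F] [Fintype F] (φ : F →+* F)

include hok in
theorem fund_lt (J : List ℕ) (hJ : J ∈ fund) : ∀ j ∈ J, j < D.rank :=
  (chkFund_spec D G orbs fund hok.fnd J hJ).1

include hD hok in
/-- Bruhat form of an element of the twisted group -/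
theorem tw_descent (g : GL D.Idx F) (hg : g ∈ twGroup D hD G F φ fund) :
    ∃ l : List ℕ, (∀ i ∈ l, i < D.rank) ∧ RhoComm D G l ∧
      ∃ u₁ ∈ D.posUnipotent F ⊓ twGroup D hD G F φ fund, ∃ h₁ ∈ D.diagonalSubgroup F,
      ∃ u ∈ D.posUnipotent F ⊓ twGroup D hD G F φ fund,
        g = u₁ * (h₁ * nWordGL D hD F l) * u ∧ h₁ * nWordGL D hD F l ∈ twGroup D hD G F φ fund := by
  have hgG := twGroup_le_group D hD G orbs fund F φ hok.fnd hg
  have hσ := sigma_twGroup D hD G hok.hG orbs fund F φ hok.orb hok.fnd g hg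
  obtain ⟨l, hl, hrc, u₁, hu₁, h₁, hh₁, u, hu, e, hσ1, hσ2, -⟩ := sigma_descent D hD G hok.hG F φ g hgG hσ
  have hu₁T := posFixed_mem D hD G hok.hG orbs fund F φ hok.orb hok.fnd steps hok.reach u₁ hu₁ hσ1
  have huU := sGens_le_pos D F l hu
  have huT := posFixed_mem D hD G hok.hG orbs fund F φ hok.orb hok.fnd steps hok.reach u huU hσ2
  refine ⟨l, hl, hrc, u₁, ⟨hu₁, hu₁T⟩, h₁, hh₁, u, ⟨huU, huT⟩, e, ?_⟩
  have : h₁ * nWordGL D hD F l = u₁⁻¹ * g * u⁻¹ := by rw [e]; group
  rw [this]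
  exact mul_mem (mul_mem (inv_mem hu₁T) hg) (inv_mem huT)

include hD hok in
/-- monomial elements of the twisted group -/
theorem tw_mono (n : GL D.Idx F) (hn : n ∈ D.monomialSubgroup F) (hnT : n ∈ twGroup D hD G F φ fund) :
    ∃ l : List ℕ, (∀ i ∈ l, i < D.rank) ∧ RhoComm D G l ∧ ∃ h ∈ D.diagonalSubgroup F,
      n = nWordGL D hD F l * h := by
  obtain ⟨l, hl, h, hh, e⟩ := isNWordH_of_mem D hD F n hn
  refine ⟨l, hl, ?_, h, hh, e⟩
  have hσ := sigma_twGroup D hD G hok.hG orbs fund F φ hok.orb hok.fnd n hnT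
  rw [e, map_mul, sigma_nWordGL D hD G hok.hG F φ l hl] at hσ
  have hσh : sigma D G hok.hG F φ h ∈ D.diagonalSubgroup F :=
    sigma_diag_le D hD G hok.hG F φ (Subgroup.mem_map_of_mem _ hh)
  have hl' : ∀ i ∈ l.map G.ρs, i < D.rank := by
    intro i hi
    obtain ⟨j, hj, rfl⟩ := List.mem_map.1 hi
    exact (graph_s_lt D G hok.hG j (hl j hj)).1
  have hmem : (nWordGL D hD F l)⁻¹ * nWordGL D hD F (l.map G.ρs) ∈ D.diagonalSubgroup F := by
    have : (nWordGL D hD F l)⁻¹ * nWordGL D hD F (l.map G.ρs) = h * (sigma D G hok.hG F φ h)⁻¹ := by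
      rw [eq_mul_inv_iff_mul_eq, mul_assoc, hσ]; group
    rw [this]
    exact mul_mem hh (inv_mem hσh)
  intro r hr
  exact (wRoot_eq_of_mem_diag D hD F l _ hl hl' hmem r hr).symm

include hD in
/-- two descriptions of the Bruhat cell of an element -/
theorem cell_word_eq (l l₂ : List ℕ) (hl : ∀ i ∈ l, i < D.rank) (hl₂ : ∀ i ∈ l₂, i < D.rank)
    (h h₁ : GL D.Idx F) (hh : h ∈ D.diagonalSubgroup F) (hh₁ : h₁ ∈ D.diagonalSubgroup F) (g : GL D.Idx F)
    (hg : InBnB D F g (nWordGL D hD F l * h)) (u₁ u : GL D.Idx F) (hu₁ : u₁ ∈ D.posUnipotent F)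
    (hu : u ∈ D.posUnipotent F) (e : g = u₁ * (h₁ * nWordGL D hD F l₂) * u) :
    (∀ r < D.nroots, wRoot D l r = wRoot D l₂ r) ∧
      (h₁ * nWordGL D hD F l₂) * (nWordGL D hD F l * h)⁻¹ ∈ D.diagonalSubgroup F := by
  have h45 : ∀ i < D.rank, H45 D F i := fun i hi => Cfsg.Agent.S1045.result D hD i hi
  have hHN := diagonal_le_monomial D F
  have hnN : nWordGL D hD F l ∈ D.monomialSubgroup F := nWordGL_mem D hD F l hl
  have hn₂N : nWordGL D hD F l₂ ∈ D.monomialSubgroup F := nWordGL_mem D hD F l₂ hl₂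
  have hN1 : nWordGL D hD F l * h ∈ D.monomialSubgroup F := mul_mem hnN (hHN hh)
  have hN2 : h₁ * nWordGL D hD F l₂ ∈ D.monomialSubgroup F := mul_mem (hHN hh₁) hn₂N
  have hc2 : g ∈ cell D F (h₁ * nWordGL D hD F l₂) :=
    ⟨u₁, pos_le_borel D F hu₁, u, pos_le_borel D F hu, e⟩
  have h0 := bruhat_unique' D hD F h45 _ _ g hN1 hN2 hg hc2
  constructor
  · have h1 : (nWordGL D hD F l)⁻¹ * h₁⁻¹ * nWordGL D hD F l ∈ D.diagonalSubgroup F :=
      conj_mem_diag D hD F _ _ hnN (inv_mem hh₁)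
    have h2 : (nWordGL D hD F l)⁻¹ * nWordGL D hD F l₂ ∈ D.diagonalSubgroup F := by
      have : (nWordGL D hD F l)⁻¹ * nWordGL D hD F l₂ =
          ((nWordGL D hD F l)⁻¹ * h₁⁻¹ * nWordGL D hD F l) *
            (h * ((nWordGL D hD F l * h)⁻¹ * (h₁ * nWordGL D hD F l₂))) := by group
      rw [this]
      exact mul_mem h1 (mul_mem hh h0)
    exact wRoot_eq_of_mem_diag D hD F l l₂ hl hl₂ h2
  · have := conj_mem_diag D hD F (nWordGL D hD F l * h)⁻¹ _ (inv_mem hN1) h0
    have e2 : (nWordGL D hD F l * h)⁻¹⁻¹ * ((nWordGL D hD F l * h)⁻¹ * (h₁ * nWordGL D hD F l₂)) *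
        (nWordGL D hD F l * h)⁻¹ = (h₁ * nWordGL D hD F l₂) * (nWordGL D hD F l * h)⁻¹ := by group
    rw [e2] at this
    exact this

include hD hok in
/-- the folded reflections are monomial elements of the twisted group whose squares lie in `H` -/
theorem tw_nJ (J : List ℕ) (hJ : J ∈ fund) :
    nWordGL D hD F J ∈ D.monomialSubgroup F ∧ nWordGL D hD F J ∈ twGroup D hD G F φ fund ∧
      nWordGL D hD F J * nWordGL D hD F J ∈ D.diagonalSubgroup F := by
  have hJr := fund_lt D G orbs fund steps hok J hJ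
  refine ⟨nWordGL_mem D hD F J hJr, nWord_fund_mem D hD G orbs fund F φ hok.orb hok.fnd J hJ, ?_⟩
  rw [← nWordGL_append]
  have hJJ : ∀ i ∈ J ++ J, i < D.rank := by
    intro i hi
    rcases List.mem_append.1 hi with h | h <;> exact hJr i h
  apply nWord_mem_diag_of_pos D hD F _ hJJ
  intro s hs
  rw [wRoot_append, ((chkFundW_spec D G fund hok.fw).2 J hJ).2.2.2.2.1 s hs.1]
  exact hs

include hD hok in
/-- distinct folded reflections are distinct modulo `B` -/
theorem tw_inj (J J' : List ℕ) (hJ : J ∈ fund) (hJ' : J' ∈ fund)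
    (h : (nWordGL D hD F J)⁻¹ * nWordGL D hD F J' ∈ D.borelSubgroup F) : J = J' := by
  have hJr := fund_lt D G orbs fund steps hok J hJ
  have hJ'r := fund_lt D G orbs fund steps hok J' hJ'
  have hN : (nWordGL D hD F J)⁻¹ * nWordGL D hD F J' ∈ D.monomialSubgroup F :=
    mul_mem (inv_mem (nWordGL_mem D hD F J hJr)) (nWordGL_mem D hD F J' hJ'r)
  have hH : (nWordGL D hD F J)⁻¹ * nWordGL D hD F J' ∈ D.diagonalSubgroup F := by
    rw [← borel_inf_monomial D hD F]; exact ⟨h, hN⟩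
  by_contra hne
  obtain ⟨r, hr, hne'⟩ := ((chkFundW_spec D G fund hok.fw).2 J hJ).2.2.2.2.2.2.1 J' hJ' hne
  exact hne' (wRoot_eq_of_mem_diag D hD F J J' hJr hJ'r hH r hr)

include hD hok in
/-- monomial elements of the twisted group are products of folded reflections modulo `H` -/
theorem tw_mono_folded (n : GL D.Idx F) (hn : n ∈ D.monomialSubgroup F) (hnT : n ∈ twGroup D hD G F φ fund) :
    ∃ Js : List (List ℕ), (∀ J ∈ Js, J ∈ fund) ∧ ∃ h ∈ D.diagonalSubgroup F ⊓ twGroup D hD G F φ fund,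
      n = (Js.map fun J => nWordGL D hD F J).prod * h := by
  obtain ⟨l, hl, hrc, h, hh, e⟩ := tw_mono D hD G orbs fund steps hok F φ n hn hnT
  obtain ⟨Js, hJs, hw⟩ := folded_exists D hD G hok.hG fund F hok.fw (fund_lt D G orbs fund steps hok) l hl hrc
  have hfl : ∀ i ∈ Js.flatten, i < D.rank := by
    intro i hi
    obtain ⟨J, hJ, hiJ⟩ := List.mem_flatten.1 hi
    exact fund_lt D G orbs fund steps hok J (hJs J hJ) i hiJ
  have hprod : nWordGL D hD F Js.flatten = (Js.map fun J => nWordGL D hD F J).prod := by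
    clear hw hfl hJs
    induction Js with
    | nil => simp [nWordGL]
    | cons J Js ih => rw [List.flatten_cons, nWordGL_append, ih, List.map_cons, List.prod_cons]
  have hmem := mem_diag_of_wRoot_eq D hD F l Js.flatten hl hfl (fun r hr => (hw r hr).symm)
  have hprodT : (Js.map fun J => nWordGL D hD F J).prod ∈ twGroup D hD G F φ fund := by
    apply Subgroup.list_prod_mem
    intro x hx
    obtain ⟨J, hJ, rfl⟩ := List.mem_map.1 hx
    exact (tw_nJ D hD G orbs fund steps hok F φ J (hJs J hJ)).2.1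
  refine ⟨Js, hJs, ((Js.map fun J => nWordGL D hD F J).prod)⁻¹ * n,
    Subgroup.mem_inf.2 ⟨?_, mul_mem (inv_mem hprodT) hnT⟩, by group⟩
  rw [← hprod, e, ← mul_assoc]
  exact mul_mem hmem hh

include hD hok in
/-- the double coset axiom in the twisted group -/
theorem tw_bn4 (J : List ℕ) (hJ : J ∈ fund) (n : GL D.Idx F) (hn : n ∈ D.monomialSubgroup F)
    (hnT : n ∈ twGroup D hD G F φ fund) (b : GL D.Idx F) (hb : b ∈ D.borelSubgroup F)
    (hbT : b ∈ twGroup D hD G F φ fund) :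
    ∃ b1 ∈ D.borelSubgroup F ⊓ twGroup D hD G F φ fund, ∃ b2 ∈ D.borelSubgroup F ⊓ twGroup D hD G F φ fund,
      nWordGL D hD F J * b * n = b1 * (nWordGL D hD F J * n) * b2 ∨ nWordGL D hD F J * b * n = b1 * n * b2 := by
  have hJr := fund_lt D G orbs fund steps hok J hJ
  obtain ⟨hJN, hJT, -⟩ := tw_nJ D hD G orbs fund steps hok F φ J hJ
  obtain ⟨l, hl, hrc, h, hh, rfl⟩ := tw_mono D hD G orbs fund steps hok F φ n hn hnT
  obtain ⟨J', hJ's, hcell⟩ := bn4_list D hD F J hJr l hl h hh b hb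
  set g := nWordGL D hD F J * b * (nWordGL D hD F l * h) with hg
  have hgT : g ∈ twGroup D hD G F φ fund := mul_mem (mul_mem hJT hbT) hnT
  obtain ⟨l₂, hl₂, hrc₂, u₁, hu₁, h₁, hh₁, u, hu, e, hmT⟩ := tw_descent D hD G orbs fund steps hok F φ g hgT
  have hJ'r : ∀ i ∈ J', i < D.rank := fun i hi => hJr i (hJ's.subset hi)
  have hJ'l : ∀ i ∈ J' ++ l, i < D.rank := by
    intro i hi
    rcases List.mem_append.1 hi with h | h
    · exact hJ'r i h
    · exact hl i h
  obtain ⟨hw, hdiag⟩ := cell_word_eq D hD F (J' ++ l) l₂ hJ'l hl₂ h h₁ hh hh₁ g hcell u₁ u hu₁.1 hu.1 e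
  have hrcJ'l : RhoComm D G (J' ++ l) := rhoComm_of_eq D hD G hok.hG _ _ hJ'l hl₂ hw hrc₂
  have hrcJ' : RhoComm D G J' := rhoComm_cancel D hD G hok.hG J' l hl hrcJ'l hrc
  have hUB := pos_le_borel D F
  have hHB := diagonal_le_borel D F
  set h' := (h₁ * nWordGL D hD F l₂) * (nWordGL D hD F (J' ++ l) * h)⁻¹ with hh'
  have em : h₁ * nWordGL D hD F l₂ = h' * (nWordGL D hD F (J' ++ l) * h) := by rw [hh']; group
  rcases ((chkFundW_spec D G fund hok.fw).2 J hJ).2.2.2.2.2.1 J' hJ's hrcJ' with hJ'e | hJ'e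
  · -- J' = []
    subst hJ'e
    rw [List.nil_append] at hh' em
    have hh'T : h' ∈ twGroup D hD G F φ fund := by
      rw [hh']; exact mul_mem hmT (inv_mem hnT)
    refine ⟨u₁ * h', ⟨mul_mem (hUB hu₁.1) (hHB hdiag), mul_mem hu₁.2 hh'T⟩, u, ⟨hUB hu.1, hu.2⟩, Or.inr ?_⟩
    rw [e, em]; group
  · -- J' = J
    subst hJ'e
    rw [nWordGL_append] at hh' em
    have hh'T : h' ∈ twGroup D hD G F φ fund := by
      rw [hh', mul_assoc (nWordGL D hD F J')]; exact mul_mem hmT (inv_mem (mul_mem hJT hnT))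
    refine ⟨u₁ * h', ⟨mul_mem (hUB hu₁.1) (hHB hdiag), mul_mem hu₁.2 hh'T⟩, u, ⟨hUB hu.1, hu.2⟩, Or.inl ?_⟩
    rw [e, em]; group

include hD hok in
/-- the folded reflections do not normalise `B` -/
theorem tw_conj_ne (J : List ℕ) (hJ : J ∈ fund) :
    ∃ x ∈ D.borelSubgroup F ⊓ twGroup D hD G F φ fund,
      nWordGL D hD F J * x * nWordGL D hD F J ∉ D.borelSubgroup F := by
  have hJr := fund_lt D G orbs fund steps hok J hJ
  obtain ⟨hJN, hJT, hJsq⟩ := tw_nJ D hD G orbs fund steps hok F φ J hJ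
  obtain ⟨h1, h2, h3, h4, h5, h6⟩ := chkFund_spec D G orbs fund hok.fnd J hJ
  obtain ⟨hJne, -, -, -, -, -, -, hJneg⟩ := (chkFundW_spec D G fund hok.fw).2 J hJ
  set x := wordGL D hD F ((pBlock D J).map fun r => (r, (1 : F))) with hx
  have hxT : x ∈ twGroup D hD G F φ fund := by
    apply Subgroup.subset_closure
    refine ⟨J, hJ, pBlock D J, by simp, fun _ => 1, ?_, rfl⟩
    intro r hr
    unfold tw
    rw [(h6 r (List.mem_append_left _ hr)).2, map_one]
    simp
  have hxU : x ∈ D.posUnipotent F := by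
    apply wordGL_mem
    intro p hp
    obtain ⟨r, hr, rfl⟩ := List.mem_map.1 hp
    obtain ⟨j, hj, rfl⟩ := List.mem_map.1 hr
    exact xGL_mem_pos D hD F _ (isPosRoot_simple D hD j (hJr j hj)) _
  refine ⟨x, ⟨pos_le_borel D F hxU, hxT⟩, fun hmem => ?_⟩
  -- the conjugate lies in V
  have hV : nWordGL D hD F J * x * (nWordGL D hD F J)⁻¹ ∈ D.negUnipotent F := by
    have e : nWordGL D hD F J * x * (nWordGL D hD F J)⁻¹ = MulAut.conj (nWordGL D hD F J) x := by
      rw [MulAut.conj_apply]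
    rw [e, hx]
    unfold wordGL
    rw [map_list_prod]
    apply Subgroup.list_prod_mem
    intro y hy
    rw [List.map_map, List.map_map] at hy
    obtain ⟨r, hr, rfl⟩ := List.mem_map.1 hy
    obtain ⟨j, hj, rfl⟩ := List.mem_map.1 hr
    have hp := (chkN2_spec D (chkN2_all D hD) j (hJr j hj)).1
    obtain ⟨ε, -, hc⟩ := nWordGL_conj D hD F J hJr _ hp
    simp only [Function.comp_apply, MulAut.conj_apply]
    rw [hc]
    exact Subgroup.subset_closure ⟨_, _, hJneg j hj, xGL_coe D hD F _ _⟩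
  have hB : nWordGL D hD F J * x * (nWordGL D hD F J)⁻¹ ∈ D.borelSubgroup F := by
    have e : nWordGL D hD F J * x * (nWordGL D hD F J)⁻¹ =
        (nWordGL D hD F J * x * nWordGL D hD F J) * (nWordGL D hD F J * nWordGL D hD F J)⁻¹ := by group
    rw [e]
    exact mul_mem hmem (inv_mem (diagonal_le_borel D F hJsq))
  have h1' : nWordGL D hD F J * x * (nWordGL D hD F J)⁻¹ = 1 := by
    have : nWordGL D hD F J * x * (nWordGL D hD F J)⁻¹ ∈ D.borelSubgroup F ⊓ D.negUnipotent F := ⟨hB, hV⟩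
    rw [borel_inf_neg D hD F] at this
    exact Subgroup.mem_bot.1 this
  have hx1 : x = 1 := by
    have : x = (nWordGL D hD F J)⁻¹ * (nWordGL D hD F J * x * (nWordGL D hD F J)⁻¹) * nWordGL D hD F J := by group
    rw [this, h1']; group
  -- contradiction with the uniqueness of coefficients
  obtain ⟨j, hj⟩ := List.exists_mem_of_ne_nil J hJne
  have h0 := word_eq_one_of_zero D hD F (pBlock D J) (fun _ => (0 : F)) (fun _ _ => rfl)
  have := block_unique D hD G orbs F hok.orb (pBlock D J) h3 (fun _ => 1) (fun _ => 0) (by rw [h0, ← hx1]) (D.simple j)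
    (List.mem_map.2 ⟨j, hj, rfl⟩)
  exact one_ne_zero this

include hD hok in
/-- the (B,N)-pair of the twisted group -/
theorem exists_bnPair_tw :
    ∃ P : Cfsg.BNPair ↥(twGroup D hD G F φ fund),
      P.B = (D.borelSubgroup F ⊓ twGroup D hD G F φ fund).subgroupOf (twGroup D hD G F φ fund) ∧
      P.N = (D.monomialSubgroup F ⊓ twGroup D hD G F φ fund).subgroupOf (twGroup D hD G F φ fund) ∧
      P.S = {n : ↥(twGroup D hD G F φ fund) | ∃ J ∈ fund, (n : GL D.Idx F) = nWordGL D hD F J} := by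
  set T := twGroup D hD G F φ fund with hT
  have hmB : ∀ x : ↥T, x ∈ (D.borelSubgroup F ⊓ T).subgroupOf T ↔ (x : GL D.Idx F) ∈ D.borelSubgroup F := by
    intro x
    rw [Subgroup.mem_subgroupOf, Subgroup.mem_inf]
    exact ⟨fun h => h.1, fun h => ⟨h, x.2⟩⟩
  have hmN : ∀ x : ↥T, x ∈ (D.monomialSubgroup F ⊓ T).subgroupOf T ↔ (x : GL D.Idx F) ∈ D.monomialSubgroup F := by
    intro x
    rw [Subgroup.mem_subgroupOf, Subgroup.mem_inf]
    exact ⟨fun h => h.1, fun h => ⟨h, x.2⟩⟩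
  have hHB := diagonal_le_borel D F
  have hHN := diagonal_le_monomial D F
  refine ⟨{
    B := (D.borelSubgroup F ⊓ T).subgroupOf T
    N := (D.monomialSubgroup F ⊓ T).subgroupOf T
    S := {n : ↥T | ∃ J ∈ fund, (n : GL D.Idx F) = nWordGL D hD F J}
    sup_eq_top := ?_
    conj_mem := ?_
    subset := ?_
    sq_mem := ?_
    inj := ?_
    closure_sup := ?_
    mul_mem_union := ?_
    conj_ne := ?_ }, rfl, rfl, rfl⟩
  · -- sup_eq_top
    rw [eq_top_iff]
    intro g _
    obtain ⟨l, hl, -, u₁, hu₁, h₁, hh₁, u, hu, e, hmT⟩ := tw_descent D hD G orbs fund steps hok F φ g.1 g.2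
    have hm : h₁ * nWordGL D hD F l ∈ D.monomialSubgroup F := mul_mem (hHN hh₁) (nWordGL_mem D hD F l hl)
    have eg : g = (⟨u₁, hu₁.2⟩ : ↥T) * ⟨h₁ * nWordGL D hD F l, hmT⟩ * ⟨u, hu.2⟩ := Subtype.ext e
    rw [eg]
    refine mul_mem (mul_mem (Subgroup.mem_sup_left ?_) (Subgroup.mem_sup_right ?_)) (Subgroup.mem_sup_left ?_)
    · rw [hmB]; exact pos_le_borel D F hu₁.1
    · rw [hmN]; exact hm
    · rw [hmB]; exact pos_le_borel D F hu.1
  · -- conj_mem
    intro n hn t ht
    rw [hmN] at hn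
    rw [hmB]
    have htH : (t : GL D.Idx F) ∈ D.diagonalSubgroup F := by
      rw [← borel_inf_monomial D hD F]
      exact ⟨(hmB t).1 ht.1, (hmN t).1 ht.2⟩
    have := conj_mem_diag D hD F (n : GL D.Idx F)⁻¹ _ (inv_mem hn) htH
    rw [inv_inv] at this
    exact hHB this
  · -- subset
    rintro s ⟨J, hJ, e⟩
    show s ∈ (D.monomialSubgroup F ⊓ T).subgroupOf T
    rw [hmN, e]
    exact (tw_nJ D hD G orbs fund steps hok F φ J hJ).1
  · -- sq_mem
    rintro s ⟨J, hJ, e⟩
    rw [hmB, Subgroup.coe_mul, e]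
    exact hHB (tw_nJ D hD G orbs fund steps hok F φ J hJ).2.2
  · -- inj
    rintro s ⟨J, hJ, e⟩ s' ⟨J', hJ', e'⟩ h
    rw [hmB, Subgroup.coe_mul, Subgroup.coe_inv, e, e'] at h
    have := tw_inj D hD G orbs fund steps hok F J J' hJ hJ' h
    apply Subtype.ext
    rw [e, e', this]
  · -- closure_sup
    apply le_antisymm
    · apply sup_le _ inf_le_right
      rw [Subgroup.closure_le]
      rintro s ⟨J, hJ, e⟩
      rw [SetLike.mem_coe, hmN, e]
      exact (tw_nJ D hD G orbs fund steps hok F φ J hJ).1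
    · intro n hn
      rw [hmN] at hn
      obtain ⟨Js, hJs, h, hh', e⟩ := tw_mono_folded D hD G orbs fund steps hok F φ n.1 hn n.2
      have hh := Subgroup.mem_inf.1 hh'
      have hprod : ∀ (Js : List (List ℕ)), (∀ J ∈ Js, J ∈ fund) →
          ∀ hp : (Js.map fun J => nWordGL D hD F J).prod ∈ T,
            (⟨(Js.map fun J => nWordGL D hD F J).prod, hp⟩ : ↥T) ∈
              Subgroup.closure {n : ↥T | ∃ J ∈ fund, (n : GL D.Idx F) = nWordGL D hD F J} := by
        intro Js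
        induction Js with
        | nil => intro _ hp; exact one_mem _
        | cons J Js ih =>
          intro hJs hp
          have hJ := hJs J (List.mem_cons_self ..)
          have hJs' : ∀ J' ∈ Js, J' ∈ fund := fun J' hJ' => hJs J' (List.mem_cons_of_mem _ hJ')
          have hJT := (tw_nJ D hD G orbs fund steps hok F φ J hJ).2.1
          have hp' : (Js.map fun J => nWordGL D hD F J).prod ∈ T := by
            apply Subgroup.list_prod_mem
            intro x hx
            obtain ⟨J', hJ', rfl⟩ := List.mem_map.1 hx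
            exact (tw_nJ D hD G orbs fund steps hok F φ J' (hJs' J' hJ')).2.1
          have e2 : (⟨((J :: Js).map fun J => nWordGL D hD F J).prod, hp⟩ : ↥T) =
              ⟨nWordGL D hD F J, hJT⟩ * ⟨(Js.map fun J => nWordGL D hD F J).prod, hp'⟩ := by
            apply Subtype.ext
            simp
          rw [e2]
          exact mul_mem (Subgroup.subset_closure ⟨J, hJ, rfl⟩) (ih hJs' hp')
      have hpT : (Js.map fun J => nWordGL D hD F J).prod ∈ T := by
        apply Subgroup.list_prod_mem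
        intro x hx
        obtain ⟨J', hJ', rfl⟩ := List.mem_map.1 hx
        exact (tw_nJ D hD G orbs fund steps hok F φ J' (hJs J' hJ')).2.1
      have en : n = (⟨(Js.map fun J => nWordGL D hD F J).prod, hpT⟩ : ↥T) * ⟨h, hh.2⟩ := Subtype.ext e
      rw [en]
      refine mul_mem (Subgroup.mem_sup_left (hprod Js hJs hpT)) (Subgroup.mem_sup_right (Subgroup.mem_inf.2 ⟨?_, ?_⟩))
      · rw [hmB]; exact hHB hh.1
      · rw [hmN]; exact hHN hh.1
  · -- mul_mem_union
    rintro s ⟨J, hJ, e⟩ n hn b hb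
    rw [hmN] at hn
    rw [hmB] at hb
    obtain ⟨b1, hb1, b2, hb2, key⟩ := tw_bn4 D hD G orbs fund steps hok F φ J hJ n.1 hn n.2 b.1 hb b.2
    rcases key with e1 | e1
    · left
      rw [DoubleCoset.mem_doubleCoset]
      refine ⟨⟨b1, hb1.2⟩, (hmB _).2 hb1.1, ⟨b2, hb2.2⟩, (hmB _).2 hb2.1, ?_⟩
      apply Subtype.ext
      simp only [Subgroup.coe_mul, e]
      exact e1
    · right
      rw [DoubleCoset.mem_doubleCoset]
      refine ⟨⟨b1, hb1.2⟩, (hmB _).2 hb1.1, ⟨b2, hb2.2⟩, (hmB _).2 hb2.1, ?_⟩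
      apply Subtype.ext
      simp only [Subgroup.coe_mul, e]
      exact e1
  · -- conj_ne
    rintro s ⟨J, hJ, e⟩ heq
    obtain ⟨x, hx, hnot⟩ := tw_conj_ne D hD G orbs fund steps hok F φ J hJ
    have hmem : s * ⟨x, hx.2⟩ * s ∈ (((D.borelSubgroup F ⊓ T).subgroupOf T : Subgroup ↥T) : Set ↥T) := by
      rw [← heq]
      exact ⟨⟨x, hx.2⟩, (hmB _).2 hx.1, rfl⟩
    rw [SetLike.mem_coe, hmB, Subgroup.coe_mul, Subgroup.coe_mul, e] at hmem
    exact hnot hmem

end main

end Cfsg.Agent.Lib.Helper36
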