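import Cfsg.Agent.Lib.Helper36.ChevTwist
import Cfsg.Agent.Lib.Helper36.ChevCells

/-! # Bruhat descent for the fixed points of the twisting automorphism (helper36) -/

set_option autoImplicit false

namespace Cfsg.Agent.Lib.Helper36

open Cfsg Cfsg.Lie Cfsg.Agent.Lib.Helper18

section
variable (D : ChevalleyDatum) (hD : D ∈ [chevG2, chevB2, chevD4, chevF4, chevE6, chevE7, chevE8])
variable (F : Type*) [Field F]

include hD in
/-- `n_l⁻¹ = n_{l.reverse} h` -/
theorem nWord_inv_eq (l : List ℕ) (hl : ∀ i ∈ l, i < D.rank) :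
    ∃ h ∈ D.diagonalSubgroup F, (nWordGL D hD F l)⁻¹ = nWordGL D hD F l.reverse * h := by
  induction l with
  | nil => exact ⟨1, one_mem _, by simp [nWordGL]⟩
  | cons i l ih =>
    have hi := hl i (List.mem_cons_self ..)
    have hl' : ∀ i' ∈ l, i' < D.rank := fun i' hi' => hl i' (List.mem_cons_of_mem _ hi')
    obtain ⟨h, hh, e⟩ := ih hl'
    set n := nGL D hD F (D.simple i) 1 with hn
    have hnN : n ∈ D.monomialSubgroup F := nS_mem_monomial D hD F i hi
    have h1 : n⁻¹ * h * n ∈ D.diagonalSubgroup F := conj_mem_diag D hD F n h hnN hh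
    have h2 : n⁻¹ * n⁻¹ ∈ D.diagonalSubgroup F := nGL_simple_sq_mem D hD F i hi
    refine ⟨(n⁻¹ * h * n) * (n⁻¹ * n⁻¹), mul_mem h1 h2, ?_⟩
    rw [nWordGL_cons, mul_inv_rev, e, List.reverse_cons, nWordGL_append]
    have : nWordGL D hD F [i] = n := by simp [nWordGL, hn]
    rw [this, ← hn]
    group

include hD in
/-- words whose monomial elements agree modulo `H` act in the same way on the roots -/
theorem wRoot_eq_of_mem_diag (l l' : List ℕ) (hl : ∀ i ∈ l, i < D.rank) (hl' : ∀ i ∈ l', i < D.rank)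
    (h : (nWordGL D hD F l)⁻¹ * nWordGL D hD F l' ∈ D.diagonalSubgroup F) (r : ℕ) (hr : r < D.nroots) :
    wRoot D l r = wRoot D l' r := by
  obtain ⟨h₁, hh₁, e⟩ := nWord_inv_eq D hD F l hl
  have hlr : ∀ i ∈ l.reverse, i < D.rank := fun i hi => hl i (List.mem_reverse.1 hi)
  have hl'' : ∀ i ∈ l.reverse ++ l', i < D.rank := by
    intro i hi
    rcases List.mem_append.1 hi with h | h
    · exact hlr i h
    · exact hl' i h
  have hn'N : nWordGL D hD F l' ∈ D.monomialSubgroup F := nWordGL_mem D hD F l' hl'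
  have hmem : nWordGL D hD F (l.reverse ++ l') ∈ D.diagonalSubgroup F := by
    rw [nWordGL_append]
    have h2 : (nWordGL D hD F l')⁻¹ * h₁⁻¹ * nWordGL D hD F l' ∈ D.diagonalSubgroup F :=
      conj_mem_diag D hD F _ _ hn'N (inv_mem hh₁)
    have e2 : nWordGL D hD F l.reverse * nWordGL D hD F l' =
        ((nWordGL D hD F l)⁻¹ * nWordGL D hD F l') * ((nWordGL D hD F l')⁻¹ * h₁⁻¹ * nWordGL D hD F l') := by
      rw [e]; group
    rw [e2]
    exact mul_mem h h2
  have h3 := wPerm_eq_of_mem_diagonal D hD F _ hl'' hmem ⟨r, hr⟩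
  have h4 := wPerm_val D hD _ hl'' ⟨r, hr⟩
  rw [h3, wRoot_append] at h4
  have h5 := wRoot_reverse D hD l hl (wRoot D l' r) (wRoot_lt D hD l' hl' r hr)
  rw [← h4] at h5
  exact h5

end

section
variable (D : ChevalleyDatum) (hD : D ∈ [chevG2, chevB2, chevD4, chevF4, chevE6, chevE7, chevE8])
variable (G : GraphTab) (hG : GraphOK D G) (F : Type*) [Field F] (φ : F →+* F)

include hD in
/-- an element of the Chevalley group fixed by `σ` is `u₁ m u` with `u₁ ∈ U`, `m ∈ N`, `u ∈ U_w⁻` all fixed by `σ`,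
and the Weyl element `w` commutes with the graph symmetry -/
theorem sigma_descent (g : GL D.Idx F) (hg : g ∈ D.group F) (hσ : sigma D G hG F φ g = g) :
    ∃ l : List ℕ, (∀ i ∈ l, i < D.rank) ∧ (∀ r < D.nroots, wRoot D (l.map G.ρs) r = wRoot D l r) ∧
      ∃ u₁ ∈ D.posUnipotent F, ∃ h₁ ∈ D.diagonalSubgroup F, ∃ u ∈ Subgroup.closure (sGens D F l),
        g = u₁ * (h₁ * nWordGL D hD F l) * u ∧ sigma D G hG F φ u₁ = u₁ ∧ sigma D G hG F φ u = u ∧
        sigma D G hG F φ (h₁ * nWordGL D hD F l) = h₁ * nWordGL D hD F l := by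
  have h45 : ∀ i < D.rank, H45 D F i := fun i hi => Cfsg.Agent.S1045.result D hD i hi
  obtain ⟨l, hl, b, hb, u, hu, e3⟩ := bruhat_form D hD F g hg
  set σ := sigma D G hG F φ with hσdef
  set n := nWordGL D hD F l with hn
  set l' := l.map G.ρs with hl'def
  have hl' : ∀ i ∈ l', i < D.rank := by
    intro i hi
    obtain ⟨j, hj, rfl⟩ := List.mem_map.1 hi
    exact (graph_s_lt D G hG j (hl j hj)).1
  set n' := nWordGL D hD F l' with hn'
  have hσn : σ n = n' := sigma_nWordGL D hD G hG F φ l hl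
  have hnN : n ∈ D.monomialSubgroup F := nWordGL_mem D hD F l hl
  have hn'N : n' ∈ D.monomialSubgroup F := nWordGL_mem D hD F l' hl'
  have hUB : D.posUnipotent F ≤ D.borelSubgroup F := by
    unfold ChevalleyDatum.borelSubgroup; exact le_sup_left
  have hHB : D.diagonalSubgroup F ≤ D.borelSubgroup F := by
    unfold ChevalleyDatum.borelSubgroup; exact le_sup_right
  have hσb : σ b ∈ D.borelSubgroup F := sigma_borel_le D hD G hG F φ (Subgroup.mem_map_of_mem _ hb)
  have hσu' : σ u ∈ Subgroup.closure (sGens D F l') :=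
    sigma_sGens_le D hD G hG F φ l hl (Subgroup.mem_map_of_mem _ hu)
  have hσuU : σ u ∈ D.posUnipotent F := sGens_le_pos D F l' hσu'
  -- both cells contain g
  have e4 : g = σ b * n' * σ u := by
    rw [← hσn, ← map_mul, ← map_mul, ← e3, hσ]
  have hc1 : g ∈ cell D F n := ⟨b, hb, u, hUB (sGens_le_pos D F l hu), e3⟩
  have hc2 : g ∈ cell D F n' := ⟨σ b, hσb, σ u, hUB hσuU, e4⟩
  have h0 := bruhat_unique' D hD F h45 n n' g hnN hn'N hc1 hc2
  have hperm : ∀ r < D.nroots, wRoot D l' r = wRoot D l r :=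
    fun r hr => (wRoot_eq_of_mem_diag D hD F l l' hl hl' h0 r hr).symm
  -- the generators of U_w⁻ agree
  have hsg : sGens D F l' = sGens D F l := by
    ext x
    constructor
    · rintro ⟨s, t, hs, hws, hx⟩
      exact ⟨s, t, hs, by rw [← hperm s hs.1]; exact hws, hx⟩
    · rintro ⟨s, t, hs, hws, hx⟩
      exact ⟨s, t, hs, by rw [hperm s hs.1]; exact hws, hx⟩
  rw [hsg] at hσu'
  -- rewrite σ g in the cell form for n
  set h₀ := n⁻¹ * n' with hh₀
  have hnh : n * h₀ * n⁻¹ ∈ D.diagonalSubgroup F := by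
    have := conj_mem_diag D hD F n⁻¹ h₀ (inv_mem hnN) h0
    rwa [inv_inv] at this
  have e5 : b * n * u = (σ b * (n * h₀ * n⁻¹)) * n * σ u := by
    rw [← e3, e4, hh₀]; group
  obtain ⟨hbb, huu⟩ := cell_unique D hD F l n (actsBy_nWordGL D hD F l hl) b (σ b * (n * h₀ * n⁻¹)) u (σ u)
    hb (mul_mem hσb (hHB hnh)) hu hσu' e5
  -- split b
  obtain ⟨u1, hu1, h1, hh1, hb1⟩ := (mem_borel_iff D hD F b).1 hb
  have hσu1 : σ u1 ∈ D.posUnipotent F := sigma_pos_le D hD G hG F φ (Subgroup.mem_map_of_mem _ hu1)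
  have hσh1 : σ h1 ∈ D.diagonalSubgroup F := sigma_diag_le D hD G hG F φ (Subgroup.mem_map_of_mem _ hh1)
  have e6 : u1 * h1 = σ u1 * (σ h1 * (n * h₀ * n⁻¹)) := by
    rw [hb1, ← mul_assoc, ← map_mul, hb1]; exact hbb
  have e7 : (σ u1)⁻¹ * u1 = (σ h1 * (n * h₀ * n⁻¹)) * h1⁻¹ := by
    rw [inv_mul_eq_iff_eq_mul, ← mul_assoc, ← e6]; group
  have e8 : (σ u1)⁻¹ * u1 ∈ D.posUnipotent F ⊓ D.diagonalSubgroup F :=
    Subgroup.mem_inf.2 ⟨mul_mem (inv_mem hσu1) hu1, by
      rw [e7]; exact mul_mem (mul_mem hσh1 hnh) (inv_mem hh1)⟩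
  rw [pos_inf_diagonal D hD F, Subgroup.mem_bot] at e8
  have hu1fix : σ u1 = u1 := (inv_mul_eq_one.1 e8)
  have hh1eq : h1 = σ h1 * (n * h₀ * n⁻¹) := by
    rw [hu1fix] at e6
    exact mul_left_cancel e6
  refine ⟨l, hl, hperm, u1, hu1, h1, hh1, u, hu, ?_, hu1fix, huu.symm, ?_⟩
  · rw [← hn, e3, ← hb1]; group
  · rw [← hn, map_mul, hσn]
    conv_rhs => rw [hh1eq]
    rw [hh₀]; group

end

end Cfsg.Agent.Lib.Helper36
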