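import Cfsg.Agent.Lib.Helper36.ReeMain

/-! # The Ree groups `²G₂`: the (B,N)-pair (helper36) -/

set_option autoImplicit false

namespace Cfsg.Agent.Lib.Helper36

open Cfsg Cfsg.Lie Cfsg.Agent.Lib.Helper18

section
variable {K : Type*} [Field K] [Fintype K] {m : ℕ}

theorem reeNN_mem_mono' (hK : Fintype.card K = 3 ^ (2 * m + 1)) :
    reeNN (3 ^ m) (1 : K) ∈ chevG2.monomialSubgroup K := by
  have := ree_charP hK
  exact reeNN_one_mem_mono (3 ^ m) (by positivity)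

/-- `n U n⁻¹ ⊆ V` -/
theorem ree_nn_conj_pos (hK : Fintype.card K = 3 ^ (2 * m + 1)) (u : GL chevG2.Idx K)
    (hu : u ∈ chevG2.posUnipotent K) :
    reeNN (3 ^ m) (1 : K) * u * (reeNN (3 ^ m) (1 : K))⁻¹ ∈ chevG2.negUnipotent K := by
  obtain ⟨σ, hσ⟩ := exists_reeSig hK
  obtain ⟨h₀, hh₀, hn⟩ := reeNN_eq_n0 hK hσ
  have h3 : reeNN (3 ^ m) (1 : K) * u * (reeNN (3 ^ m) (1 : K))⁻¹ = reeN0 K * (h₀ * u * h₀⁻¹) * (reeN0 K)⁻¹ := by
    rw [hn]; group
  rw [h3, ← posUnipotent_map_conj chevG2 hG2 K]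
  exact ⟨_, diag_conj_pos h₀ u hh₀ hu, rfl⟩

/-- `n⁻¹ V n ⊆ U` -/
theorem ree_nn_conj_neg (hK : Fintype.card K = 3 ^ (2 * m + 1)) (v : GL chevG2.Idx K)
    (hv : v ∈ chevG2.negUnipotent K) :
    (reeNN (3 ^ m) (1 : K))⁻¹ * v * reeNN (3 ^ m) (1 : K) ∈ chevG2.posUnipotent K := by
  obtain ⟨σ, hσ⟩ := exists_reeSig hK
  obtain ⟨h₀, hh₀, hn⟩ := reeNN_eq_n0 hK hσ
  rw [← posUnipotent_map_conj chevG2 hG2 K] at hv
  obtain ⟨u, hu, rfl⟩ := hv
  have h3 : (reeNN (3 ^ m) (1 : K))⁻¹ * (MulAut.conj (nWordGL chevG2 hG2 K (w0word chevG2))).toMonoidHom u *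
      reeNN (3 ^ m) (1 : K) = h₀⁻¹ * u * h₀⁻¹⁻¹ := by
    rw [hn]
    show (reeN0 K * h₀)⁻¹ * (reeN0 K * u * (reeN0 K)⁻¹) * (reeN0 K * h₀) = _
    group
  rw [h3]
  exact diag_conj_pos _ u (inv_mem hh₀) hu

/-- `n² ∈ H` -/
theorem reeNN_sq (hK : Fintype.card K = 3 ^ (2 * m + 1)) :
    reeNN (3 ^ m) (1 : K) * reeNN (3 ^ m) (1 : K) ∈ chevG2.diagonalSubgroup K := by
  have := ree_charP hK
  have hθ : 3 ^ m ≠ 0 := by positivity
  rw [reeNN_eq _ hθ, one_pow]
  have hc : nGL chevG2 hG2 K 10 (1 : K) * nGL chevG2 hG2 K 8 1 = nGL chevG2 hG2 K 8 1 * nGL chevG2 hG2 K 10 1 := by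
    unfold nGL
    apply wordGL_comm
    intro p hp q hq a b
    have hp' : p.1 ∈ [10, 1] := by
      have n10 : chevG2.neg 10 = 1 := rfl
      simp only [ChevalleyDatum.nWord, List.mem_cons, List.not_mem_nil, or_false, n10] at hp
      rcases hp with rfl | rfl | rfl <;> simp
    have hq' : q.1 ∈ [8, 3] := by
      have n8 : chevG2.neg 8 = 3 := rfl
      simp only [ChevalleyDatum.nWord, List.mem_cons, List.not_mem_nil, or_false, n8] at hq
      rcases hq with rfl | rfl | rfl <;> simp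
    exact (comm_orth (K := K) q.1 hq' p.1 hp' b a).symm
  have hsq : ∀ r < 12, nGL chevG2 hG2 K r (1 : K) * nGL chevG2 hG2 K r 1 ∈ chevG2.diagonalSubgroup K := by
    intro r hr
    have h1 : nGL chevG2 hG2 K r (1 : K) * nGL chevG2 hG2 K r 1 = (hGL chevG2 hG2 K r (-1))⁻¹ := by
      rw [hGL_eq, ← nGL_inv' chevG2 hG2 K r 1, mul_inv_rev, inv_inv]
    rw [h1]
    exact inv_mem (hGL_mem_diag chevG2 hG2 K r hr (-1) (neg_ne_zero.2 one_ne_zero))
  have e : nGL chevG2 hG2 K 8 (1 : K) * nGL chevG2 hG2 K 10 1 * (nGL chevG2 hG2 K 8 1 * nGL chevG2 hG2 K 10 1) =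
      (nGL chevG2 hG2 K 8 1 * nGL chevG2 hG2 K 8 1) * (nGL chevG2 hG2 K 10 1 * nGL chevG2 hG2 K 10 1) := by
    calc _ = nGL chevG2 hG2 K 8 (1 : K) * (nGL chevG2 hG2 K 10 1 * nGL chevG2 hG2 K 8 1) * nGL chevG2 hG2 K 10 1 := by
          group
      _ = _ := by rw [hc]; group
  rw [e]
  exact mul_mem (hsq 8 (by decide)) (hsq 10 (by decide))

/-- the elements of `N ∩ ²G₂` -/
theorem ree_mono_cases (hK : Fintype.card K = 3 ^ (2 * m + 1)) (g : GL chevG2.Idx K)
    (hgN : g ∈ chevG2.monomialSubgroup K) (hgT : g ∈ twistedG2 K (3 ^ m)) :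
    g ∈ chevG2.diagonalSubgroup K ∨ (reeNN (3 ^ m) (1 : K))⁻¹ * g ∈ chevG2.diagonalSubgroup K := by
  have h45 : ∀ i < chevG2.rank, H45 chevG2 K i := fun i hi => Cfsg.Agent.S1045.result chevG2 hG2 i hi
  rcases ree_cases hK g hgT with h | ⟨t, u, v, s, t', u', v', e⟩
  · left
    rw [← borel_inf_monomial chevG2 hG2 K]
    exact Subgroup.mem_inf.2 ⟨h, hgN⟩
  · right
    have hc : g ∈ cell chevG2 K (reeNN (3 ^ m) (1 : K)) :=
      ⟨_, mul_mem (pos_le_borel chevG2 K (reeU_mem_pos _ _ _ _)) (diagonal_le_borel chevG2 K (reeHm_mem_diag _ s)),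
        _, pos_le_borel chevG2 K (reeU_mem_pos _ _ _ _), e⟩
    exact bruhat_unique' chevG2 hG2 K h45 _ _ g (reeNN_mem_mono' hK) hgN hc ⟨1, one_mem _, 1, one_mem _, by group⟩

/-- the element `n` of the twisted group -/
noncomputable def reeNel (K : Type*) [Field K] (m : ℕ) : ↥(twistedG2 K (3 ^ m)) :=
  ⟨reeNN (3 ^ m) (1 : K), reeNN_mem _ _⟩

omit [Fintype K] in
theorem ree_one_eq : reeUel m ((0, 0, 0) : K × K × K) = 1 := by
  have hθ : 3 ^ m ≠ 0 := by positivity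
  unfold reeUel
  rw [reeWordU_eq, wordGL_uWord]
  have z1 : (0 : K) ^ 3 ^ m = 0 := zero_pow hθ
  have z2 : (0 : K) ^ (3 ^ m + 1) = 0 := zero_pow (Nat.succ_ne_zero _)
  have z3 : (0 : K) ^ (2 * 3 ^ m + 1) = 0 := zero_pow (Nat.succ_ne_zero _)
  simp only [z1, z2, z3, add_zero, xGL_zero, mul_one]

/-- the subgroups `B¹`, `N¹` of the twisted group -/
def reeB (K : Type*) [Field K] (m : ℕ) : Subgroup ↥(twistedG2 K (3 ^ m)) :=
  (chevG2.borelSubgroup K ⊓ twistedG2 K (3 ^ m)).subgroupOf (twistedG2 K (3 ^ m))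

def reeNs (K : Type*) [Field K] (m : ℕ) : Subgroup ↥(twistedG2 K (3 ^ m)) :=
  (chevG2.monomialSubgroup K ⊓ twistedG2 K (3 ^ m)).subgroupOf (twistedG2 K (3 ^ m))

omit [Fintype K] in
theorem mem_reeB (x : ↥(twistedG2 K (3 ^ m))) :
    x ∈ reeB K m ↔ (x : GL chevG2.Idx K) ∈ chevG2.borelSubgroup K := by
  unfold reeB
  rw [Subgroup.mem_subgroupOf, Subgroup.mem_inf]
  exact ⟨fun h => h.1, fun h => ⟨h, x.2⟩⟩

omit [Fintype K] in
theorem mem_reeNs (x : ↥(twistedG2 K (3 ^ m))) :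
    x ∈ reeNs K m ↔ (x : GL chevG2.Idx K) ∈ chevG2.monomialSubgroup K := by
  unfold reeNs
  rw [Subgroup.mem_subgroupOf, Subgroup.mem_inf]
  exact ⟨fun h => h.1, fun h => ⟨h, x.2⟩⟩

omit [Fintype K] in
theorem reeNel_coe : ((reeNel K m : ↥(twistedG2 K (3 ^ m))) : GL chevG2.Idx K) = reeNN (3 ^ m) (1 : K) := rfl

theorem reeNel_mem_Ns (hK : Fintype.card K = 3 ^ (2 * m + 1)) : reeNel K m ∈ reeNs K m := by
  rw [mem_reeNs]; exact reeNN_mem_mono' hK

/-- the elements of the twisted group: `B¹` or `b n u` -/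
theorem ree_cases' (hK : Fintype.card K = 3 ^ (2 * m + 1)) (g : ↥(twistedG2 K (3 ^ m))) :
    g ∈ reeB K m ∨ ∃ b ∈ reeB K m, ∃ u ∈ reeB K m, g = b * reeNel K m * u := by
  have hHB := diagonal_le_borel chevG2 K
  have hUB := pos_le_borel chevG2 K
  rcases ree_cases hK g.1 g.2 with h | ⟨t, u, v, s, t', u', v', e⟩
  · exact Or.inl ((mem_reeB g).2 h)
  · right
    refine ⟨⟨reeUel m (t, u, v) * reeHm (3 ^ m) s, mul_mem (reeUel_mem _) (reeHm_mem hK s)⟩, ?_,
      ⟨reeUel m (t', u', v'), reeUel_mem _⟩, ?_, Subtype.ext e⟩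
    · rw [mem_reeB]; exact mul_mem (hUB (reeUel_mem_pos _)) (hHB (reeHm_mem_diag _ s))
    · rw [mem_reeB]; exact hUB (reeUel_mem_pos _)

/-- the elements of `N¹` -/
theorem ree_mono_cases' (hK : Fintype.card K = 3 ^ (2 * m + 1)) (x : ↥(twistedG2 K (3 ^ m))) (hx : x ∈ reeNs K m) :
    (x ∈ reeB K m ∧ x ∈ reeNs K m) ∨ ((reeNel K m)⁻¹ * x ∈ reeB K m ∧ (reeNel K m)⁻¹ * x ∈ reeNs K m) := by
  have hHB := diagonal_le_borel chevG2 K
  have hHN := diagonal_le_monomial chevG2 K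
  rcases ree_mono_cases hK x.1 ((mem_reeNs x).1 hx) x.2 with h | h
  · exact Or.inl ⟨(mem_reeB x).2 (hHB h), hx⟩
  · exact Or.inr ⟨(mem_reeB _).2 (hHB h), (mem_reeNs _).2 (hHN h)⟩

theorem reeNel_sq (hK : Fintype.card K = 3 ^ (2 * m + 1)) : reeNel K m * reeNel K m ∈ reeB K m := by
  rw [mem_reeB, Subgroup.coe_mul, reeNel_coe]
  exact diagonal_le_borel chevG2 K (reeNN_sq hK)

theorem ree_conj_ne (hK : Fintype.card K = 3 ^ (2 * m + 1)) :
    (fun b : ↥(twistedG2 K (3 ^ m)) => reeNel K m * b * reeNel K m) '' (reeB K m : Set ↥(twistedG2 K (3 ^ m))) ≠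
      (reeB K m : Set ↥(twistedG2 K (3 ^ m))) := by
  have hHB := diagonal_le_borel chevG2 K
  have hUB := pos_le_borel chevG2 K
  intro heq
  have huB : (⟨reeUel m (0, 0, 1), reeUel_mem _⟩ : ↥(twistedG2 K (3 ^ m))) ∈ reeB K m := by
    rw [mem_reeB]; exact hUB (reeUel_mem_pos _)
  have h1 : reeNel K m * ⟨reeUel m (0, 0, 1), reeUel_mem _⟩ * reeNel K m ∈ (reeB K m : Set ↥(twistedG2 K (3 ^ m))) := by
    rw [← heq]; exact ⟨_, huB, rfl⟩
  rw [SetLike.mem_coe, mem_reeB] at h1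
  simp only [Subgroup.coe_mul, reeNel_coe] at h1
  have h2 : reeNN (3 ^ m) (1 : K) * reeUel m (0, 0, 1) * (reeNN (3 ^ m) (1 : K))⁻¹ ∈
      chevG2.borelSubgroup K ⊓ chevG2.negUnipotent K := by
    refine Subgroup.mem_inf.2 ⟨?_, ree_nn_conj_pos hK _ (reeUel_mem_pos _)⟩
    have e : reeNN (3 ^ m) (1 : K) * reeUel m (0, 0, 1) * (reeNN (3 ^ m) (1 : K))⁻¹ =
        (reeNN (3 ^ m) (1 : K) * reeUel m (0, 0, 1) * reeNN (3 ^ m) (1 : K)) *
          (reeNN (3 ^ m) (1 : K) * reeNN (3 ^ m) (1 : K))⁻¹ := by group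
    rw [e]
    exact mul_mem h1 (inv_mem (hHB (reeNN_sq hK)))
  rw [borel_inf_neg chevG2 hG2 K, Subgroup.mem_bot] at h2
  have h3 : reeUel m ((0, 0, 1) : K × K × K) = 1 := by
    have e : reeUel m ((0, 0, 1) : K × K × K) = (reeNN (3 ^ m) (1 : K))⁻¹ *
        (reeNN (3 ^ m) (1 : K) * reeUel m (0, 0, 1) * (reeNN (3 ^ m) (1 : K))⁻¹) * reeNN (3 ^ m) (1 : K) := by group
    rw [e, h2]; group
  rw [← ree_one_eq (K := K) (m := m)] at h3
  have h4 := reeUel_inj _ _ h3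
  simp only [Prod.mk.injEq, one_ne_zero, and_false] at h4

theorem ree_mul_mem_union (hK : Fintype.card K = 3 ^ (2 * m + 1)) (x : ↥(twistedG2 K (3 ^ m))) (hx : x ∈ reeNs K m)
    (b : ↥(twistedG2 K (3 ^ m))) (hb : b ∈ reeB K m) :
    reeNel K m * b * x ∈ DoubleCoset.doubleCoset (reeNel K m * x) (reeB K m : Set ↥(twistedG2 K (3 ^ m))) (reeB K m) ∪
      DoubleCoset.doubleCoset x (reeB K m : Set ↥(twistedG2 K (3 ^ m))) (reeB K m) := by
  rcases ree_mono_cases' hK x hx with ⟨h, -⟩ | ⟨h, -⟩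
  · left
    rw [DoubleCoset.mem_doubleCoset]
    exact ⟨1, one_mem _, x⁻¹ * b * x, mul_mem (mul_mem (inv_mem h) hb) h, by group⟩
  · have hnx : reeNel K m * x ∈ reeB K m := by
      have e : reeNel K m * x = (reeNel K m * reeNel K m) * ((reeNel K m)⁻¹ * x) := by group
      rw [e]
      exact mul_mem (reeNel_sq hK) h
    rcases ree_cases' hK (reeNel K m * b * x) with h2 | ⟨b₁, hb₁, u, hu, e⟩
    · left
      rw [DoubleCoset.mem_doubleCoset]
      exact ⟨reeNel K m * b * x * (reeNel K m * x)⁻¹, mul_mem h2 (inv_mem hnx), 1, one_mem _, by group⟩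
    · right
      rw [DoubleCoset.mem_doubleCoset]
      refine ⟨b₁, hb₁, ((reeNel K m)⁻¹ * x)⁻¹ * u, mul_mem (inv_mem h) hu, ?_⟩
      rw [e]; group

/-- the (B,N)-pair of `²G₂(q)` -/
theorem ree_bnPair (hK : Fintype.card K = 3 ^ (2 * m + 1)) :
    ∃ P : Cfsg.BNPair ↥(twistedG2 K (3 ^ m)), P.B = reeB K m ∧ P.N = reeNs K m ∧ P.S = {reeNel K m} := by
  refine ⟨{
    B := reeB K m
    N := reeNs K m
    S := {reeNel K m}
    sup_eq_top := ?_
    conj_mem := ?_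
    subset := ?_
    sq_mem := ?_
    inj := ?_
    closure_sup := ?_
    mul_mem_union := ?_
    conj_ne := ?_ }, rfl, rfl, rfl⟩
  · -- sup_eq_top
    rw [eq_top_iff]
    intro g _
    rcases ree_cases' hK g with h | ⟨b, hb, u, hu, rfl⟩
    · exact Subgroup.mem_sup_left h
    · exact mul_mem (mul_mem (Subgroup.mem_sup_left hb) (Subgroup.mem_sup_right (reeNel_mem_Ns hK)))
        (Subgroup.mem_sup_left hu)
  · -- conj_mem
    intro x hx t ht
    rw [mem_reeNs] at hx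
    rw [mem_reeB]
    have htH : (t : GL chevG2.Idx K) ∈ chevG2.diagonalSubgroup K := by
      rw [← borel_inf_monomial chevG2 hG2 K]
      exact ⟨(mem_reeB t).1 ht.1, (mem_reeNs t).1 ht.2⟩
    have := conj_mem_diag chevG2 hG2 K (x : GL chevG2.Idx K)⁻¹ _ (inv_mem hx) htH
    rw [inv_inv] at this
    exact diagonal_le_borel chevG2 K this
  · -- subset
    intro s hs
    rw [Set.mem_singleton_iff] at hs
    rw [hs]
    exact reeNel_mem_Ns hK
  · -- sq_mem
    intro s hs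
    rw [Set.mem_singleton_iff] at hs
    rw [hs]
    exact reeNel_sq hK
  · -- inj
    intro s hs s' hs' _
    rw [Set.mem_singleton_iff] at hs hs'
    rw [hs, hs']
  · -- closure_sup
    apply le_antisymm
    · apply sup_le
      · rw [Subgroup.closure_le]
        intro s hs
        rw [Set.mem_singleton_iff] at hs
        rw [hs]
        exact reeNel_mem_Ns hK
      · exact inf_le_right
    · intro g hg
      rcases ree_mono_cases' hK g hg with h | h
      · exact Subgroup.mem_sup_right h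
      · have eg : g = reeNel K m * ((reeNel K m)⁻¹ * g) := by group
        rw [eg]
        exact mul_mem (Subgroup.mem_sup_left (Subgroup.subset_closure rfl)) (Subgroup.mem_sup_right h)
  · -- mul_mem_union
    intro s hs x hx b hb
    rw [Set.mem_singleton_iff] at hs
    rw [hs]
    exact ree_mul_mem_union hK x hx b hb
  · -- conj_ne
    intro s hs
    rw [Set.mem_singleton_iff] at hs
    rw [hs]
    exact ree_conj_ne hK

open Classical in
/-- the sign of an element of `N ∩ ²G₂` -/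
noncomputable def reeSign (g : GL chevG2.Idx K) : Multiplicative (ZMod 2) :=
  if g ∈ chevG2.diagonalSubgroup K then 1 else Multiplicative.ofAdd 1

theorem reeSign_mul (hK : Fintype.card K = 3 ^ (2 * m + 1)) (a b : GL chevG2.Idx K)
    (ha : a ∈ chevG2.monomialSubgroup K ⊓ twistedG2 K (3 ^ m))
    (hb : b ∈ chevG2.monomialSubgroup K ⊓ twistedG2 K (3 ^ m)) :
    reeSign (a * b) = reeSign a * reeSign b := by
  unfold reeSign
  have hnN := reeNN_mem_mono' hK
  by_cases h1 : a ∈ chevG2.diagonalSubgroup K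
  · by_cases h2 : b ∈ chevG2.diagonalSubgroup K
    · rw [if_pos h1, if_pos h2, if_pos (mul_mem h1 h2), one_mul]
    · have h3 : a * b ∉ chevG2.diagonalSubgroup K := by
        intro h
        apply h2
        have : b = a⁻¹ * (a * b) := by group
        rw [this]; exact mul_mem (inv_mem h1) h
      rw [if_pos h1, if_neg h2, if_neg h3, one_mul]
  · by_cases h2 : b ∈ chevG2.diagonalSubgroup K
    · have h3 : a * b ∉ chevG2.diagonalSubgroup K := by
        intro h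
        apply h1
        have : a = (a * b) * b⁻¹ := by group
        rw [this]; exact mul_mem h (inv_mem h2)
      rw [if_neg h1, if_pos h2, if_neg h3, mul_one]
    · have ha' := (ree_mono_cases hK a ha.1 ha.2).resolve_left h1
      have hb' := (ree_mono_cases hK b hb.1 hb.2).resolve_left h2
      have h3 : a * b ∈ chevG2.diagonalSubgroup K := by
        have e : a * b = (reeNN (3 ^ m) (1 : K) * reeNN (3 ^ m) (1 : K)) *
            ((reeNN (3 ^ m) (1 : K))⁻¹ * ((reeNN (3 ^ m) (1 : K))⁻¹ * a) * reeNN (3 ^ m) (1 : K)) *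
              ((reeNN (3 ^ m) (1 : K))⁻¹ * b) := by group
        rw [e]
        exact mul_mem (mul_mem (reeNN_sq hK) (conj_mem_diag chevG2 hG2 K _ _ hnN ha')) hb'
      rw [if_neg h1, if_neg h2, if_pos h3]
      rfl

/-- `N¹ / H¹` has order two -/
theorem ree_weyl_hom (hK : Fintype.card K = 3 ^ (2 * m + 1)) :
    ∃ φ : ↥(chevG2.monomialSubgroup K ⊓ twistedG2 K (3 ^ m)) →* Multiplicative (ZMod 2), Function.Surjective φ ∧
      φ.ker = (chevG2.diagonalSubgroup K ⊓ twistedG2 K (3 ^ m)).subgroupOf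
        (chevG2.monomialSubgroup K ⊓ twistedG2 K (3 ^ m)) := by
  let φ : ↥(chevG2.monomialSubgroup K ⊓ twistedG2 K (3 ^ m)) →* Multiplicative (ZMod 2) :=
    MonoidHom.mk' (fun g => reeSign (g : GL chevG2.Idx K)) (fun a b => reeSign_mul hK a b a.2 b.2)
  have hφ : ∀ g, φ g = reeSign (g : GL chevG2.Idx K) := fun g => rfl
  have hne : (Multiplicative.ofAdd (1 : ZMod 2)) ≠ 1 := by decide
  refine ⟨φ, ?_, ?_⟩
  · intro y
    have hy : y = 1 ∨ y = Multiplicative.ofAdd 1 := by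
      revert y; decide
    rcases hy with rfl | rfl
    · exact ⟨1, map_one φ⟩
    · refine ⟨⟨reeNN (3 ^ m) (1 : K), reeNN_mem_mono' hK, reeNN_mem _ _⟩, ?_⟩
      rw [hφ]
      unfold reeSign
      rw [if_neg]
      intro h
      exact reeNN_not_borel hK (diagonal_le_borel chevG2 K h)
  · ext g
    rw [MonoidHom.mem_ker, hφ, Subgroup.mem_subgroupOf, Subgroup.mem_inf]
    unfold reeSign
    constructor
    · intro h
      by_cases h1 : (g : GL chevG2.Idx K) ∈ chevG2.diagonalSubgroup K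
      · exact ⟨h1, g.2.2⟩
      · rw [if_neg h1] at h
        exact absurd h hne
    · rintro ⟨h1, -⟩
      rw [if_pos h1]


end

end Cfsg.Agent.Lib.Helper36
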