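import Cfsg.Agent.Lib.Helper36.ReeBN

/-! # The Ree groups `²G₂`: the action of the torus on `U¹` and the core of `B¹` (helper36) -/

set_option autoImplicit false

namespace Cfsg.Agent.Lib.Helper36

open Cfsg Cfsg.Lie Cfsg.Agent.Lib.Helper18

section
variable {K : Type*} [Field K]

/-- the character of the torus at the root `r` -/
def torChi (x y : Kˣ) (r : ℕ) : K := (x : K) ^ chevG2.cartan 0 r * (y : K) ^ chevG2.cartan 1 r

theorem conj_mul3 (h A B : GL chevG2.Idx K) : h * (A * B) * h⁻¹ = (h * A * h⁻¹) * (h * B * h⁻¹) := by group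

theorem torPair_conj_uWord (x y : Kˣ) (a b c d e f : K) :
    torusHom chevG2 K (torPair x y) * wordGL chevG2 hG2 K (uWord a b c d e f) * (torusHom chevG2 K (torPair x y))⁻¹ =
      wordGL chevG2 hG2 K (uWord (torChi x y 7 * a) (torChi x y 6 * b) (torChi x y 8 * c) (torChi x y 9 * d)
        (torChi x y 10 * e) (torChi x y 11 * f)) := by
  rw [wordGL_uWord, wordGL_uWord]
  simp only [conj_mul3]
  rw [torPair_conj x y 7 (by decide), torPair_conj x y 6 (by decide), torPair_conj x y 8 (by decide),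
    torPair_conj x y 9 (by decide), torPair_conj x y 10 (by decide), torPair_conj x y 11 (by decide)]
  rfl

end

section fin
variable {K : Type*} [Field K] [Fintype K] {m : ℕ}

/-- the action of `h(s)` on `U¹` -/
theorem ree_conj (hK : Fintype.card K = 3 ^ (2 * m + 1)) (s : Kˣ) (p : K × K × K) :
    reeHm (3 ^ m) s * reeUel m p * (reeHm (3 ^ m) s)⁻¹ =
      reeUel m (torChi (s ^ 3 ^ m) s 6 * p.1, torChi (s ^ 3 ^ m) s 10 * p.2.1, torChi (s ^ 3 ^ m) s 11 * p.2.2) := by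
  have h1 : reeHm (3 ^ m) s * reeUel m p * (reeHm (3 ^ m) s)⁻¹ ∈ chevG2.posUnipotent K ⊓ twistedG2 K (3 ^ m) :=
    Subgroup.mem_inf.2 ⟨diag_conj_pos _ _ (reeHm_mem_diag _ s) (reeUel_mem_pos p),
      mul_mem (mul_mem (reeHm_mem hK s) (reeUel_mem p)) (inv_mem (reeHm_mem hK s))⟩
  obtain ⟨t, u, v, e⟩ := (ree_pos_inf hK _).1 h1
  have e2 := e
  unfold reeUel at e2
  rw [reeHm_apply, reeWordU_eq, torPair_conj_uWord, reeWordU_eq] at e2
  obtain ⟨-, h6, -, -, h10, h11⟩ := uWord_inj _ _ _ _ _ _ _ _ _ _ _ _ e2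
  rw [e]
  unfold reeUel
  rw [h6, h10, h11]

omit [Fintype K] in
theorem torChi_11 (x y : Kˣ) : torChi x y 11 = (y : K) := by
  unfold torChi
  have c : chevG2.cartan 0 11 = 0 ∧ chevG2.cartan 1 11 = 1 := by decide
  rw [c.1, c.2, zpow_zero, zpow_one, one_mul]

/-- the elements of the core of `B¹` are diagonal -/
theorem ree_core_diag (hK : Fintype.card K = 3 ^ (2 * m + 1)) (g : ↥(twistedG2 K (3 ^ m)))
    (hg : g ∈ (reeB K m).normalCore) : (g : GL chevG2.Idx K) ∈ chevG2.diagonalSubgroup K := by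
  have hHB := diagonal_le_borel chevG2 K
  have hUB := pos_le_borel chevG2 K
  have h1 : g ∈ reeB K m := Subgroup.normalCore_le _ hg
  have h2 : reeNel K m * g * (reeNel K m)⁻¹ ∈ reeB K m := hg (reeNel K m)
  rw [mem_reeB] at h1 h2
  simp only [Subgroup.coe_mul, Subgroup.coe_inv, reeNel_coe] at h2
  obtain ⟨u, hu, h, hh, e⟩ := (mem_borel_iff chevG2 hG2 K _).1 h1
  have hnN := reeNN_mem_mono' hK
  have h3 : reeNN (3 ^ m) (1 : K) * h * (reeNN (3 ^ m) (1 : K))⁻¹ ∈ chevG2.diagonalSubgroup K := by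
    have := conj_mem_diag chevG2 hG2 K (reeNN (3 ^ m) (1 : K))⁻¹ h (inv_mem hnN) hh
    rwa [inv_inv] at this
  have h4 : reeNN (3 ^ m) (1 : K) * u * (reeNN (3 ^ m) (1 : K))⁻¹ ∈ chevG2.borelSubgroup K ⊓ chevG2.negUnipotent K := by
    refine Subgroup.mem_inf.2 ⟨?_, ree_nn_conj_pos hK u hu⟩
    have e2 : reeNN (3 ^ m) (1 : K) * u * (reeNN (3 ^ m) (1 : K))⁻¹ =
        (reeNN (3 ^ m) (1 : K) * (u * h) * (reeNN (3 ^ m) (1 : K))⁻¹) *
          (reeNN (3 ^ m) (1 : K) * h * (reeNN (3 ^ m) (1 : K))⁻¹)⁻¹ := by group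
    rw [e2, e]
    exact mul_mem h2 (inv_mem (hHB h3))
  rw [borel_inf_neg chevG2 hG2 K, Subgroup.mem_bot] at h4
  have h5 : u = 1 := by
    have e3 : u = (reeNN (3 ^ m) (1 : K))⁻¹ * (reeNN (3 ^ m) (1 : K) * u * (reeNN (3 ^ m) (1 : K))⁻¹) *
        reeNN (3 ^ m) (1 : K) := by group
    rw [e3, h4]; group
  rw [← e, h5, one_mul]
  exact hh

/-- the core of `B¹` in `²G₂(q)` is trivial -/
theorem ree_core (hK : Fintype.card K = 3 ^ (2 * m + 1)) : (reeB K m).normalCore = ⊥ := by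
  rw [eq_bot_iff]
  intro g hg
  rw [Subgroup.mem_bot]
  have hgH := ree_core_diag hK g hg
  obtain ⟨s, hs⟩ := (ree_diag_inf hK _).1 ⟨hgH, g.2⟩
  -- conjugate by u₁
  set u₁ : ↥(twistedG2 K (3 ^ m)) := ⟨reeUel m (0, 0, 1), reeUel_mem _⟩ with hu₁
  have hconj : u₁ * g * u₁⁻¹ ∈ (reeB K m).normalCore :=
    (Subgroup.normalCore_normal (reeB K m)).conj_mem g hg u₁
  have h2 := ree_core_diag hK _ hconj
  simp only [Subgroup.coe_mul, Subgroup.coe_inv, hu₁] at h2
  have h3 : (g : GL chevG2.Idx K)⁻¹ * reeUel m (0, 0, 1) * (g : GL chevG2.Idx K) * (reeUel m ((0, 0, 1) : K × K × K))⁻¹ ∈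
      chevG2.posUnipotent K ⊓ chevG2.diagonalSubgroup K := by
    refine Subgroup.mem_inf.2 ⟨?_, ?_⟩
    · have := diag_conj_pos _ _ (inv_mem hgH) (reeUel_mem_pos ((0, 0, 1) : K × K × K) (m := m))
      rw [inv_inv] at this
      exact mul_mem this (inv_mem (reeUel_mem_pos _))
    · have e : (g : GL chevG2.Idx K)⁻¹ * reeUel m (0, 0, 1) * (g : GL chevG2.Idx K) *
          (reeUel m ((0, 0, 1) : K × K × K))⁻¹ =
          (g : GL chevG2.Idx K)⁻¹ * (reeUel m (0, 0, 1) * (g : GL chevG2.Idx K) *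
            (reeUel m ((0, 0, 1) : K × K × K))⁻¹) := by group
      rw [e]
      exact mul_mem (inv_mem hgH) h2
  rw [pos_inf_diagonal chevG2 hG2 K, Subgroup.mem_bot] at h3
  have h4 : (g : GL chevG2.Idx K) * reeUel m (0, 0, 1) * (g : GL chevG2.Idx K)⁻¹ = reeUel m ((0, 0, 1) : K × K × K) := by
    have e : reeUel m ((0, 0, 1) : K × K × K) * (g : GL chevG2.Idx K) =
        (g : GL chevG2.Idx K) * ((g : GL chevG2.Idx K)⁻¹ * reeUel m (0, 0, 1) * (g : GL chevG2.Idx K) *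
          (reeUel m ((0, 0, 1) : K × K × K))⁻¹) * reeUel m ((0, 0, 1) : K × K × K) := by group
    rw [h3, mul_one] at e
    rw [← e]; group
  rw [hs, ree_conj hK] at h4
  have h5 := reeUel_inj _ _ h4
  simp only [Prod.mk.injEq, mul_zero, mul_one, true_and] at h5
  rw [torChi_11] at h5
  have hs1 : s = 1 := Units.ext h5
  apply Subtype.ext
  rw [hs, hs1, map_one]
  rfl

end fin

end Cfsg.Agent.Lib.Helper36
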