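import Cfsg.Agent.Lib.Helper36.ReeCore
import Cfsg.Agent.Lib.Helper36.ChevTri

/-! # The Ree groups `²G₂`: the coordinate homomorphism on `U` and the group law of `U¹` in low levels (helper36) -/

set_option autoImplicit false

namespace Cfsg.Agent.Lib.Helper36

open Cfsg Cfsg.Lie Cfsg.Agent.Lib.Helper18

section
variable {K : Type*} [Field K]

/-- the coordinate of an element of `U` at the fundamental root `b` -/
def tauU (g : GL chevG2.Idx K) : K :=
  (g : Matrix chevG2.Idx chevG2.Idx K) (Sum.inr ⟨8, by decide⟩) (Sum.inr ⟨7, by decide⟩)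

theorem tau_x_aux (r : ℕ) (hr : r ∈ [6, 8, 9, 10, 11]) (t : K) (l : List (ℕ × ℤ))
    (hl : chevG2.chainCoeff r 7 8 = l) :
    chevG2.x K r t (Sum.inr ⟨8, by decide⟩) (Sum.inr ⟨7, by decide⟩) =
      (l.map fun km => ((km.2 : ℤ) : K) * t ^ km.1).sum := by
  have hr12 : r < chevG2.nroots := by
    simp only [List.mem_cons, List.not_mem_nil, or_false] at hr
    rcases hr with rfl | rfl | rfl | rfl | rfl <;> decide
  have hne : r ≠ 7 := by
    simp only [List.mem_cons, List.not_mem_nil, or_false] at hr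
    rcases hr with rfl | rfl | rfl | rfl | rfl <;> decide
  have hneg : chevG2.negIdx.getD r 0 ≠ 7 := by
    simp only [List.mem_cons, List.not_mem_nil, or_false] at hr
    rcases hr with rfl | rfl | rfl | rfl | rfl <;> decide
  unfold ChevalleyDatum.x
  rw [dif_pos hr12]
  unfold ChevalleyDatum.xMat
  simp only [Matrix.of_apply]
  rw [if_neg (by intro h; exact hne (congrArg Fin.val h).symm), if_neg (by intro h; exact hneg h.symm),
    if_neg (by decide), zero_add, hl]

theorem tauU_xGL (r : ℕ) (hr : r ∈ [7, 6, 8, 9, 10, 11]) (t : K) :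
    tauU (xGL chevG2 hG2 K r t) = if r = 6 then t else 0 := by
  unfold tauU
  rw [xGL_coe]
  simp only [List.mem_cons, List.not_mem_nil, or_false] at hr
  rcases hr with rfl | rfl | rfl | rfl | rfl | rfl
  · rw [if_neg (by decide)]
    unfold ChevalleyDatum.x
    rw [dif_pos (by decide)]
    unfold ChevalleyDatum.xMat
    simp only [Matrix.of_apply]
    rw [if_pos trivial, if_neg (by decide)]
  · rw [tau_x_aux 6 (by simp) t [(1, 1)] (by decide), if_pos rfl]; simp
  · rw [tau_x_aux 8 (by simp) t [] (by decide), if_neg (by decide)]; simp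
  · rw [tau_x_aux 9 (by simp) t [] (by decide), if_neg (by decide)]; simp
  · rw [tau_x_aux 10 (by simp) t [] (by decide), if_neg (by decide)]; simp
  · rw [tau_x_aux 11 (by simp) t [] (by decide), if_neg (by decide)]; simp

/-- additivity of the coordinate on `U` -/
theorem tauU_mul (g g' : GL chevG2.Idx K) (hg : g ∈ chevG2.posUnipotent K) (hg' : g' ∈ chevG2.posUnipotent K) :
    tauU (g * g') = tauU g + tauU g' := by
  have h1 : Raises (lvI chevG2) 1 ((g : Matrix chevG2.Idx chevG2.Idx K) - 1) := posUnipotent_le_raises chevG2 hG2 K hg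
  have h2 : Raises (lvI chevG2) 1 ((g' : Matrix chevG2.Idx chevG2.Idx K) - 1) :=
    posUnipotent_le_raises chevG2 hG2 K hg'
  have h3 := h1.mul h2
  have e : ((g * g' : GL chevG2.Idx K) : Matrix chevG2.Idx chevG2.Idx K) =
      ((g : Matrix chevG2.Idx chevG2.Idx K) - 1) * ((g' : Matrix chevG2.Idx chevG2.Idx K) - 1) +
        (g : Matrix chevG2.Idx chevG2.Idx K) + ((g' : Matrix chevG2.Idx chevG2.Idx K) - 1) := by
    rw [Units.val_mul]; noncomm_ring
  unfold tauU
  rw [e, Matrix.add_apply, Matrix.add_apply, Matrix.sub_apply]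
  have h4 : (((g : Matrix chevG2.Idx chevG2.Idx K) - 1) * ((g' : Matrix chevG2.Idx chevG2.Idx K) - 1))
      (Sum.inr ⟨8, by decide⟩) (Sum.inr ⟨7, by decide⟩) = 0 := by
    by_contra hne
    have := h3 _ _ hne
    have l8 : lvI chevG2 (Sum.inr ⟨8, by decide⟩) = 2 := by decide
    have l7 : lvI chevG2 (Sum.inr ⟨7, by decide⟩) = 1 := by decide
    rw [l8, l7] at this
    omega
  rw [h4, Matrix.one_apply_ne (by decide)]
  ring

theorem tauU_one : tauU (1 : GL chevG2.Idx K) = 0 := by
  unfold tauU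
  rw [Units.val_one, Matrix.one_apply_ne (by decide)]

theorem tauU_inv (g : GL chevG2.Idx K) (hg : g ∈ chevG2.posUnipotent K) : tauU g⁻¹ = -tauU g := by
  have := tauU_mul g g⁻¹ hg (inv_mem hg)
  rw [mul_inv_cancel, tauU_one] at this
  linear_combination -this

theorem tauU_uWord (a b c d e f : K) : tauU (wordGL chevG2 hG2 K (uWord a b c d e f)) = b := by
  have hp : ∀ r ∈ [7, 6, 8, 9, 10, 11], ∀ t : K, xGL chevG2 hG2 K r t ∈ chevG2.posUnipotent K := by
    intro r hr t
    refine Subgroup.subset_closure ⟨r, t, ?_, xGL_coe chevG2 hG2 K _ _⟩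
    revert r; decide
  rw [wordGL_uWord]
  rw [tauU_mul _ _ (mul_mem (hp 7 (by simp) a) (hp 6 (by simp) b))
      (mul_mem (mul_mem (mul_mem (hp 8 (by simp) c) (hp 9 (by simp) d)) (hp 10 (by simp) e)) (hp 11 (by simp) f)),
    tauU_mul _ _ (hp 7 (by simp) a) (hp 6 (by simp) b),
    tauU_mul _ _ (mul_mem (mul_mem (hp 8 (by simp) c) (hp 9 (by simp) d)) (hp 10 (by simp) e)) (hp 11 (by simp) f),
    tauU_mul _ _ (mul_mem (hp 8 (by simp) c) (hp 9 (by simp) d)) (hp 10 (by simp) e),
    tauU_mul _ _ (hp 8 (by simp) c) (hp 9 (by simp) d),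
    tauU_xGL 7 (by simp), tauU_xGL 6 (by simp), tauU_xGL 8 (by simp), tauU_xGL 9 (by simp), tauU_xGL 10 (by simp),
    tauU_xGL 11 (by simp)]
  simp

theorem tauU_reeUel (m : ℕ) (p : K × K × K) : tauU (reeUel m p) = p.1 := by
  unfold reeUel
  rw [reeWordU_eq, tauU_uWord]

end

end Cfsg.Agent.Lib.Helper36
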