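import Cfsg.Agent.Lib.Helper36.ReeBruhat

/-! # The Ree groups `²G₂`: the structure of the group of fixed points (helper36) -/

set_option autoImplicit false

namespace Cfsg.Agent.Lib.Helper36

open Cfsg Cfsg.Lie Cfsg.Agent.Lib.Helper18

section unique
variable {K : Type*} [Field K]

theorem diag_conj_pos (h x : GL chevG2.Idx K) (hh : h ∈ chevG2.diagonalSubgroup K) (hx : x ∈ chevG2.posUnipotent K) :
    h * x * h⁻¹ ∈ chevG2.posUnipotent K := by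
  have := diagonal_le_normalizer_pos chevG2 hG2 K hh
  rw [Subgroup.mem_set_normalizer_iff] at this
  exact (this x).1 hx

/-- uniqueness of the expression `u h` -/
theorem borel_unique (u u' h h' : GL chevG2.Idx K) (hu : u ∈ chevG2.posUnipotent K) (hu' : u' ∈ chevG2.posUnipotent K)
    (hh : h ∈ chevG2.diagonalSubgroup K) (hh' : h' ∈ chevG2.diagonalSubgroup K) (e : u * h = u' * h') :
    u = u' ∧ h = h' := by
  have h1 : u'⁻¹ * u = h' * h⁻¹ := by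
    have : u = u' * h' * h⁻¹ := by rw [← e]; group
    rw [this]; group
  have h2 : u'⁻¹ * u ∈ chevG2.posUnipotent K ⊓ chevG2.diagonalSubgroup K :=
    Subgroup.mem_inf.2 ⟨mul_mem (inv_mem hu') hu, by rw [h1]; exact mul_mem hh' (inv_mem hh)⟩
  rw [pos_inf_diagonal chevG2 hG2 K, Subgroup.mem_bot] at h2
  have h3 : u = u' := (inv_mul_eq_one.1 h2).symm
  refine ⟨h3, ?_⟩
  rw [h3] at e
  exact mul_left_cancel e

/-- uniqueness of the expression `u h n u'` in the big cell -/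
theorem big_cell_unique (n h₀ : GL chevG2.Idx K) (hn : n = reeN0 K * h₀) (hh₀ : h₀ ∈ chevG2.diagonalSubgroup K)
    (u₁ u₁' u₂ u₂' h h' : GL chevG2.Idx K)
    (hu₁ : u₁ ∈ chevG2.posUnipotent K) (hu₁' : u₁' ∈ chevG2.posUnipotent K)
    (hu₂ : u₂ ∈ chevG2.posUnipotent K) (hu₂' : u₂' ∈ chevG2.posUnipotent K)
    (hh : h ∈ chevG2.diagonalSubgroup K) (hh' : h' ∈ chevG2.diagonalSubgroup K)
    (e : u₁ * h * n * u₂ = u₁' * h' * n * u₂') : u₁ = u₁' ∧ h = h' ∧ u₂ = u₂' := by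
  have hUB := pos_le_borel chevG2 K
  have hHB := diagonal_le_borel chevG2 K
  set x := u₂' * u₂⁻¹ with hx
  have hxU : x ∈ chevG2.posUnipotent K := mul_mem hu₂' (inv_mem hu₂)
  have h1 : (u₁' * h')⁻¹ * (u₁ * h) = n * x * n⁻¹ := by
    have : u₁ * h = u₁' * h' * n * u₂' * u₂⁻¹ * n⁻¹ := by rw [← e]; group
    rw [this, hx]; group
  have h2 : n * x * n⁻¹ ∈ chevG2.negUnipotent K := by
    have h3 : n * x * n⁻¹ = reeN0 K * (h₀ * x * h₀⁻¹) * (reeN0 K)⁻¹ := by rw [hn]; group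
    rw [h3, ← posUnipotent_map_conj chevG2 hG2 K]
    exact ⟨_, diag_conj_pos h₀ x hh₀ hxU, rfl⟩
  have h4 : n * x * n⁻¹ ∈ chevG2.borelSubgroup K ⊓ chevG2.negUnipotent K :=
    Subgroup.mem_inf.2 ⟨by
      rw [← h1]
      exact mul_mem (inv_mem (mul_mem (hUB hu₁') (hHB hh'))) (mul_mem (hUB hu₁) (hHB hh)), h2⟩
  rw [borel_inf_neg chevG2 hG2 K, Subgroup.mem_bot] at h4
  have h5 : x = 1 := by
    have : x = n⁻¹ * (n * x * n⁻¹) * n := by group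
    rw [this, h4]; group
  have h6 : u₂ = u₂' := by
    rw [hx, mul_inv_eq_one] at h5
    exact h5.symm
  rw [h4, inv_mul_eq_one] at h1
  obtain ⟨h7, h8⟩ := borel_unique _ _ _ _ hu₁' hu₁ hh' hh h1
  exact ⟨h7.symm, h8.symm, h6⟩

end unique

section main
variable {K : Type*} [Field K] [Fintype K] {m : ℕ} {σ : ↥(chevG2.group K) →* ↥(chevG2.group K)}

theorem twisted_le_fix (hK : Fintype.card K = 3 ^ (2 * m + 1)) (hσ : IsReeSig K (3 ^ m) σ) :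
    twistedG2 K (3 ^ m) ≤ reeFix σ := by
  unfold twistedG2 ChevalleyDatum.genSubgroup
  rw [Subgroup.closure_le]
  rintro g ⟨w, ⟨t, u, v, rfl | rfl⟩, hg⟩
  · have : g = wordGL chevG2 hG2 K (reeWordU (3 ^ m) t u v) := Units.ext (by rw [hg, wordGL_coe])
    rw [this]
    exact ⟨wordGL_mem chevG2 hG2 K _ _ (fun q _ => xGL_mem_group chevG2 hG2 K _ _), reeU_fixed hK hσ t u v⟩
  · have : g = wordGL chevG2 hG2 K (reeWordV (3 ^ m) t u v) := Units.ext (by rw [hg, wordGL_coe])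
    rw [this]
    exact ⟨wordGL_mem chevG2 hG2 K _ _ (fun q _ => xGL_mem_group chevG2 hG2 K _ _), reeV_fixed hK hσ t u v⟩

omit [Fintype K] in
theorem reeU_mem_pos (θ : ℕ) (t u v : K) : wordGL chevG2 hG2 K (reeWordU θ t u v) ∈ chevG2.posUnipotent K := by
  rw [reeWordU_eq]
  exact uWord_mem_pos _ _ _ _ _ _

omit [Fintype K] in
theorem reeHm_mem_diag (θ : ℕ) (s : Kˣ) : reeHm θ s ∈ chevG2.diagonalSubgroup K :=
  torPair_mem_diag _ _

/-- the fixed points in `B` -/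
theorem fix_borel (hK : Fintype.card K = 3 ^ (2 * m + 1)) (hσ : IsReeSig K (3 ^ m) σ)
    (g : GL chevG2.Idx K) (hg : g ∈ reeFix σ) (hb : g ∈ chevG2.borelSubgroup K) :
    ∃ t u v : K, ∃ s : Kˣ, g = wordGL chevG2 hG2 K (reeWordU (3 ^ m) t u v) * reeHm (3 ^ m) s := by
  obtain ⟨u, hu, h, hh, rfl⟩ := (mem_borel_iff chevG2 hG2 K g).1 hb
  have hfix := hg.2
  rw [sgl_mul σ _ _ (posUnipotent_le_group chevG2 hG2 K hu) (diagonal_le_group chevG2 hG2 K hh)] at hfix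
  obtain ⟨h1, h2⟩ := borel_unique _ _ _ _ (sgl_pos hσ u hu) hu (sgl_diag hσ (ree_odd m) h hh) hh hfix
  obtain ⟨t, u', v, rfl⟩ := fix_pos hK hσ u hu h1
  obtain ⟨s, rfl⟩ := fix_diag hσ h hh h2
  exact ⟨t, u', v, s, rfl⟩

omit [Fintype K] in
theorem nGL10_comm_x8 [CharP K 3] (t u : K) :
    nGL chevG2 hG2 K 10 t * xGL chevG2 hG2 K 8 u = xGL chevG2 hG2 K 8 u * nGL chevG2 hG2 K 10 t := by
  have h8 : xGL chevG2 hG2 K 8 u = wordGL chevG2 hG2 K [(8, u)] := by simp [wordGL]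
  rw [h8]
  unfold nGL
  apply wordGL_comm
  intro p hp q hq a b
  have hp' : p.1 ∈ [10, 1] := by
    have n10 : chevG2.neg 10 = 1 := rfl
    simp only [ChevalleyDatum.nWord, List.mem_cons, List.not_mem_nil, or_false, n10] at hp
    rcases hp with rfl | rfl | rfl <;> simp
  have hq' : q.1 ∈ [8, 3] := by
    simp only [List.mem_cons, List.not_mem_nil, or_false] at hq
    rw [hq]; simp
  exact (comm_orth (K := K) q.1 hq' p.1 hp' b a).symm

theorem reeNN_not_borel (hK : Fintype.card K = 3 ^ (2 * m + 1)) :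
    reeNN (3 ^ m) (1 : K) ∉ chevG2.borelSubgroup K := by
  have hc := ree_charP hK
  have hθ : 3 ^ m ≠ 0 := by positivity
  intro hB
  have hN := reeNN_one_mem_mono (K := K) (3 ^ m) hθ
  have hH : reeNN (3 ^ m) (1 : K) ∈ chevG2.diagonalSubgroup K := by
    rw [← borel_inf_monomial chevG2 hG2 K]
    exact Subgroup.mem_inf.2 ⟨hB, hN⟩
  have hx8 : xGL chevG2 hG2 K 8 1 ∈ chevG2.posUnipotent K :=
    Subgroup.subset_closure ⟨8, 1, by decide, xGL_coe chevG2 hG2 K _ _⟩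
  have hy := diag_conj_pos _ _ hH hx8
  have e : reeNN (3 ^ m) (1 : K) * xGL chevG2 hG2 K 8 1 * (reeNN (3 ^ m) (1 : K))⁻¹ = xGL chevG2 hG2 K 3 (-1) := by
    rw [reeNN_eq _ hθ, one_pow, mul_assoc (nGL chevG2 hG2 K 8 1), nGL10_comm_x8, ← mul_assoc,
      (rank1Rel_all chevG2 hG2 K 8 (by decide)).1 1]
    have n8 : chevG2.neg 8 = 3 := rfl
    rw [n8]
    group
  rw [e] at hy
  have hV : xGL chevG2 hG2 K 3 (-1 : K) ∈ chevG2.negUnipotent K :=
    Subgroup.subset_closure ⟨3, -1, by decide, xGL_coe chevG2 hG2 K _ _⟩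
  have h1 : xGL chevG2 hG2 K 3 (-1 : K) ∈ chevG2.borelSubgroup K ⊓ chevG2.negUnipotent K :=
    Subgroup.mem_inf.2 ⟨pos_le_borel chevG2 K hy, hV⟩
  rw [borel_inf_neg chevG2 hG2 K, Subgroup.mem_bot] at h1
  have h2 := x_eq_one_iff chevG2 hG2 K 3 (by decide) (-1) (by rw [← xGL_coe chevG2 hG2 K, h1, Units.val_one])
  exact one_ne_zero (neg_eq_zero.1 h2)

theorem reeNN_eq_n0 (hK : Fintype.card K = 3 ^ (2 * m + 1)) (hσ : IsReeSig K (3 ^ m) σ) :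
    ∃ h₀ ∈ chevG2.diagonalSubgroup K, reeNN (3 ^ m) (1 : K) = reeN0 K * h₀ := by
  have h45 : ∀ i < chevG2.rank, H45 chevG2 K i := fun i hi => Cfsg.Agent.S1045.result chevG2 hG2 i hi
  have hθ : 3 ^ m ≠ 0 := by positivity
  have hc := ree_charP hK
  have hfix := twisted_le_fix hK hσ (reeNN_mem (3 ^ m) (1 : K))
  rcases fix_cases hσ (ree_odd m) _ hfix with h | h
  · exact absurd h (reeNN_not_borel hK)
  · have h0 := bruhat_unique' chevG2 hG2 K h45 (reeN0 K) (reeNN (3 ^ m) (1 : K)) _ reeN0_mem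
      (reeNN_one_mem_mono (3 ^ m) hθ) h ⟨1, one_mem _, 1, one_mem _, by group⟩
    exact ⟨_, h0, by group⟩

/-- the fixed points in the big cell -/
theorem fix_big (hK : Fintype.card K = 3 ^ (2 * m + 1)) (hσ : IsReeSig K (3 ^ m) σ)
    (g : GL chevG2.Idx K) (hg : g ∈ reeFix σ) (hc : g ∈ cell chevG2 K (reeN0 K)) :
    ∃ t u v : K, ∃ s : Kˣ, ∃ t' u' v' : K,
      g = wordGL chevG2 hG2 K (reeWordU (3 ^ m) t u v) * reeHm (3 ^ m) s * reeNN (3 ^ m) (1 : K) *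
        wordGL chevG2 hG2 K (reeWordU (3 ^ m) t' u' v') := by
  have hcp := ree_charP hK
  have hθ : 3 ^ m ≠ 0 := by positivity
  obtain ⟨h₀, hh₀, hn⟩ := reeNN_eq_n0 hK hσ
  set n := reeNN (3 ^ m) (1 : K) with hndef
  have hnN : n ∈ chevG2.monomialSubgroup K := reeNN_one_mem_mono (3 ^ m) hθ
  have hnG : n ∈ chevG2.group K := monomial_le_group chevG2 hG2 K hnN
  have hnfix : sgl σ n = n := (twisted_le_fix hK hσ (reeNN_mem (3 ^ m) (1 : K))).2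
  obtain ⟨b₁, hb₁, b₂, hb₂, e⟩ := hc
  obtain ⟨u₁, hu₁, h₁, hh₁, rfl⟩ := (mem_borel_iff chevG2 hG2 K b₁).1 hb₁
  obtain ⟨u, hu, h, hh, e2⟩ := (mem_borel_iff chevG2 hG2 K b₂⁻¹).1 (inv_mem hb₂)
  have hH' : n * (h₀⁻¹ * h⁻¹) * n⁻¹ ∈ chevG2.diagonalSubgroup K := by
    have := conj_mem_diag chevG2 hG2 K n⁻¹ (h₀⁻¹ * h⁻¹) (inv_mem hnN) (mul_mem (inv_mem hh₀) (inv_mem hh))
    rwa [inv_inv] at this
  set hh' := h₁ * (n * (h₀⁻¹ * h⁻¹) * n⁻¹) with hh'def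
  have hhh' : hh' ∈ chevG2.diagonalSubgroup K := mul_mem hh₁ hH'
  have hu₂ : u⁻¹ ∈ chevG2.posUnipotent K := inv_mem hu
  have e3 : g = u₁ * hh' * n * u⁻¹ := by
    have hb₂' : b₂ = h⁻¹ * u⁻¹ := by
      rw [← inv_inv b₂, ← e2]; group
    have hn0 : reeN0 K = n * h₀⁻¹ := by rw [hn]; group
    rw [e, hb₂', hn0, hh'def]; group
  have hUG := posUnipotent_le_group chevG2 hG2 K
  have hHG := diagonal_le_group chevG2 hG2 K
  have hfix := hg.2
  have e4 : sgl σ g = sgl σ u₁ * sgl σ hh' * n * sgl σ u⁻¹ := by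
    rw [e3, sgl_mul σ _ _ (mul_mem (mul_mem (hUG hu₁) (hHG hhh')) hnG) (hUG hu₂),
      sgl_mul σ _ _ (mul_mem (hUG hu₁) (hHG hhh')) hnG, sgl_mul σ _ _ (hUG hu₁) (hHG hhh'), hnfix]
  rw [hfix] at e4
  rw [e3] at e4
  obtain ⟨f1, f2, f3⟩ := big_cell_unique n h₀ hn hh₀ _ _ _ _ _ _ hu₁ (sgl_pos hσ u₁ hu₁) hu₂ (sgl_pos hσ _ hu₂)
    hhh' (sgl_diag hσ (ree_odd m) _ hhh') e4
  obtain ⟨t, u', v, e5⟩ := fix_pos hK hσ u₁ hu₁ f1.symm
  obtain ⟨s, e6⟩ := fix_diag hσ hh' hhh' f2.symm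
  obtain ⟨t', u'', v', e7⟩ := fix_pos hK hσ u⁻¹ hu₂ f3.symm
  refine ⟨t, u', v, s, t', u'', v', ?_⟩
  rw [e3, e5, e6, e7]
  rfl

/-- the twisted group is the group of fixed points -/
theorem twisted_eq_fix (hK : Fintype.card K = 3 ^ (2 * m + 1)) (hσ : IsReeSig K (3 ^ m) σ) :
    twistedG2 K (3 ^ m) = reeFix σ := by
  apply le_antisymm (twisted_le_fix hK hσ)
  intro g hg
  rcases fix_cases hσ (ree_odd m) g hg with h | h
  · obtain ⟨t, u, v, s, rfl⟩ := fix_borel hK hσ g hg h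
    exact mul_mem (reeU_mem _ _ _ _) (reeHm_mem hK s)
  · obtain ⟨t, u, v, s, t', u', v', rfl⟩ := fix_big hK hσ g hg h
    exact mul_mem (mul_mem (mul_mem (reeU_mem _ _ _ _) (reeHm_mem hK s)) (reeNN_mem _ _)) (reeU_mem _ _ _ _)

end main

end Cfsg.Agent.Lib.Helper36
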