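import Cfsg.Agent.Lib.Helper2.G2iRel
import Cfsg.Agent.S2326

/-! # G2i mini-hive (S2177, owner helper2), leaf G2I-SYL (helper36):
an involution of `G₂(F)`, `F` finite of characteristic 2, is conjugate into `U` (Sylow) -/

set_option autoImplicit false

namespace Cfsg.Agent.Lib.Helper2.G2i

open Cfsg Cfsg.Lie Cfsg.Agent.Lib.Helper36 Cfsg.Agent.Lib.Helper20.G2c

variable (F : Type*) [Field F]

/-- G2I-SYL -/
theorem syl_conj [Fintype F] [CharP F 2] (g : GL chevG2.Idx F) (hg : g ∈ chevG2.group F) (ho : orderOf g = 2) :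
    ∃ h ∈ chevG2.group F, h * g * h⁻¹ ∈ chevG2.posUnipotent F := by
  classical
  have : Fact (Nat.Prime 2) := ⟨Nat.prime_two⟩
  obtain ⟨P, hP⟩ := Cfsg.Agent.S2326.result (F := F) 2 chevG2 hG2
  set g' : ↥(chevG2.group F) := ⟨g, hg⟩ with hg'
  have ho' : orderOf g' = 2 := by
    rw [← ho, ← Subgroup.orderOf_coe g']
  have hpg : IsPGroup 2 (Subgroup.zpowers g') := by
    apply IsPGroup.of_card (n := 1)
    rw [Nat.card_zpowers, ho', pow_one]
  obtain ⟨Q, hQ⟩ := hpg.exists_le_sylow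
  obtain ⟨k, hk⟩ := MulAction.exists_smul_eq (↥(chevG2.group F)) Q P
  have hmem : k * g' * k⁻¹ ∈ (P : Subgroup ↥(chevG2.group F)) := by
    rw [← hk, Sylow.coe_subgroup_smul, Subgroup.mem_pointwise_smul_iff_inv_smul_mem]
    apply hQ
    have : (MulAut.conj k)⁻¹ • (k * g' * k⁻¹) = g' := by
      rw [MulAut.smul_def, ← map_inv, MulAut.conj_apply]
      group
    rw [this]
    exact Subgroup.mem_zpowers g'
  rw [hP, Subgroup.mem_subgroupOf] at hmem
  refine ⟨(k : GL chevG2.Idx F), k.2, ?_⟩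
  simpa using hmem

end Cfsg.Agent.Lib.Helper2.G2i
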