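import Cfsg.Agent.Lib.Helper36.ChevGrade
import Cfsg.Agent.Lib.Helper36.ChevPerf

/-! # Levi decomposition of the standard parabolic subgroups (helper36) -/

set_option autoImplicit false
set_option maxRecDepth 100000

namespace Cfsg.Agent.Lib.Helper36

open Cfsg Cfsg.Lie

/-- root coordinates and coroot coordinates have the same signs -/
def chkMC (D : ChevalleyDatum) : Bool :=
  (List.range D.nroots).all fun r => (List.range D.rank).all fun i =>
    decide (Int.sign (cor D r i) = Int.sign (mF D i r))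

theorem chkMC_G2 : chkMC chevG2 = true := by decide +kernel
theorem chkMC_B2 : chkMC chevB2 = true := by decide +kernel
theorem chkMC_D4 : chkMC chevD4 = true := by decide +kernel
theorem chkMC_F4 : chkMC chevF4 = true := by decide +kernel
theorem chkMC_E6 : chkMC chevE6 = true := by decide +kernel
theorem chkMC_E7 : chkMC chevE7 = true := by decide +kernel
theorem chkMC_E8 : chkMC chevE8 = true := by decide +kernel

theorem chkMC_all (D : ChevalleyDatum) (hD : D ∈ [chevG2, chevB2, chevD4, chevF4, chevE6, chevE7, chevE8]) :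
    chkMC D = true :=
  seven_cases (P := fun D => chkMC D = true) D hD chkMC_G2 chkMC_B2 chkMC_D4 chkMC_F4 chkMC_E6 chkMC_E7 chkMC_E8

variable (D : ChevalleyDatum) (hD : D ∈ [chevG2, chevB2, chevD4, chevF4, chevE6, chevE7, chevE8])

include hD in
theorem sign_cor_eq (r i : ℕ) (hr : r < D.nroots) (hi : i < D.rank) :
    Int.sign (cor D r i) = Int.sign (mF D i r) := by
  have h := chkMC_all D hD
  unfold chkMC at h
  simp only [List.all_eq_true, decide_eq_true_eq] at h
  exact h r (List.mem_range.2 hr) i (List.mem_range.2 hi)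

include hD in
theorem isPosRoot_iff_mF (r : ℕ) (hr : r < D.nroots) : D.IsPosRoot r ↔ ∀ i < D.rank, 0 ≤ mF D i r := by
  rw [isPosRoot_iff D (wfFast_all D hD) r hr]
  constructor
  · intro h i hi
    have := sign_cor_eq D hD r i hr hi
    have h1 := h i hi
    rw [← Int.sign_nonneg_iff] at h1 ⊢
    rwa [← this]
  · intro h i hi
    have := sign_cor_eq D hD r i hr hi
    have h1 := h i hi
    rw [← Int.sign_nonneg_iff] at h1 ⊢
    rwa [this]

include hD in
theorem inRootSub_iff_mF (J : Set ℕ) (r : ℕ) :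
    D.InRootSub J r ↔ r < D.nroots ∧ ∀ i < D.rank, i ∉ J → mF D i r = 0 := by
  rw [inRootSub_iff]
  constructor
  · rintro ⟨hr, h⟩
    refine ⟨hr, fun i hi hiJ => ?_⟩
    have := sign_cor_eq D hD r i hr hi
    rw [h i hi hiJ, Int.sign_zero] at this
    exact Int.sign_eq_zero_iff_zero.1 this.symm
  · rintro ⟨hr, h⟩
    refine ⟨hr, fun i hi hiJ => ?_⟩
    have := sign_cor_eq D hD r i hr hi
    rw [h i hi hiJ, Int.sign_zero] at this
    exact Int.sign_eq_zero_iff_zero.1 this

open Classical in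
/-- the weights of the `J`-height: `0` on `J` and `1` outside -/
noncomputable def wJ (J : Set ℕ) (i : ℕ) : ℤ := if i ∈ J then 0 else 1

include hD in
theorem htW_wJ_of_inRootSub (J : Set ℕ) (r : ℕ) (hr : D.InRootSub J r) : htW D (wJ J) r = 0 := by
  obtain ⟨-, h⟩ := (inRootSub_iff_mF D hD J r).1 hr
  unfold htW
  apply List.sum_eq_zero
  intro x hx
  obtain ⟨i, hi, rfl⟩ := List.mem_map.1 hx
  unfold wJ
  split_ifs with hiJ
  · simp
  · rw [h i (List.mem_range.1 hi) hiJ]; simp

theorem list_sum_pos_of_mem (l : List ℕ) (f : ℕ → ℤ) (h0 : ∀ i ∈ l, 0 ≤ f i) (i0 : ℕ) (hi0 : i0 ∈ l)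
    (h1 : 1 ≤ f i0) : 1 ≤ (l.map f).sum := by
  induction l with
  | nil => simp at hi0
  | cons a l ih =>
    rw [List.map_cons, List.sum_cons]
    have ha := h0 a (List.mem_cons_self ..)
    have hl : 0 ≤ (l.map f).sum := by
      apply List.sum_nonneg
      intro x hx
      obtain ⟨i, hi, rfl⟩ := List.mem_map.1 hx
      exact h0 i (List.mem_cons_of_mem _ hi)
    rcases List.mem_cons.1 hi0 with rfl | hmem
    · omega
    · have := ih (fun i hi => h0 i (List.mem_cons_of_mem _ hi)) hmem
      omega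

include hD in
theorem htW_wJ_pos (J : Set ℕ) (r : ℕ) (hpos : D.IsPosRoot r) (hr : ¬ D.InRootSub J r) :
    1 ≤ htW D (wJ J) r := by
  have hlt := hpos.1
  have h0 := (isPosRoot_iff_mF D hD r hlt).1 hpos
  rw [inRootSub_iff_mF D hD J r] at hr
  push Not at hr
  obtain ⟨i0, hi0, hi0J, hne⟩ := hr hlt
  unfold htW
  apply list_sum_pos_of_mem _ _ _ i0 (List.mem_range.2 hi0)
  · unfold wJ
    rw [if_neg hi0J, one_mul]
    have := h0 i0 hi0
    omega
  · intro i hi
    unfold wJ
    split_ifs
    · simp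
    · rw [one_mul]; exact h0 i (List.mem_range.1 hi)

include hD in
theorem chainRoot_mF (r s i k : ℕ) (hr : r < D.nroots) (hi : 1 ≤ i) (h : D.chainRoot r s i = some k) :
    k < D.nroots ∧ ∀ l < D.rank, mF D l k = mF D l s + (i : ℤ) * mF D l r := by
  unfold ChevalleyDatum.chainRoot ChevalleyDatum.chainEntry at h
  cases hf : (D.chain.getD r #[]).toList.find? (fun e => e.1 = s) with
  | none => rw [hf] at h; simp at h
  | some e =>
    rw [hf] at h
    have he := List.mem_of_find?_eq_some hf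
    have hes : e.1 = s := by
      have := List.find?_some hf
      simpa using this
    simp only [Option.map_eq_some_iff] at h
    obtain ⟨q, hq, rfl⟩ := h
    refine ⟨(wf_chain D (wf_all D hD) r hr e he).2 q (List.mem_of_getElem? hq), fun l hl => ?_⟩
    have := (chkUpM_spec D l (chkUpM_all D hD l hl) r hr).2 e he (i - 1) q hq
    rw [this, hes]
    congr 2
    push_cast [hi]
    ring

include hD in
theorem commTerms_mF (r s : ℕ) (hr : r < D.nroots) (hs : s < D.nroots) (k : ℕ) (c : ℤ) (i j : ℕ)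
    (hmem : (k, c, i, j) ∈ D.commTerms r s) :
    k < D.nroots ∧ 1 ≤ i ∧ 1 ≤ j ∧ ∀ l < D.rank, mF D l k = (i : ℤ) * mF D l r + (j : ℤ) * mF D l s := by
  unfold ChevalleyDatum.commTerms at hmem
  simp only [List.mem_filterMap, List.mem_cons, List.not_mem_nil, or_false, Option.map_eq_some_iff] at hmem
  obtain ⟨cand, hcand, k', hk', he⟩ := hmem
  have hk : k' = k := congrArg Prod.fst he
  have h2 : cand.2 = (c, i, j) := congrArg Prod.snd he
  subst hk
  rcases hcand with rfl | rfl | rfl | rfl | rfl | rfl | rfl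
  · simp only [Prod.mk.injEq] at h2
    obtain ⟨-, rfl, rfl⟩ := h2
    obtain ⟨h1, h3⟩ := chainRoot_mF D hD r s 1 k' hr le_rfl hk'
    refine ⟨h1, le_rfl, le_rfl, fun l hl => ?_⟩
    rw [h3 l hl]; push_cast; ring
  · simp only [Prod.mk.injEq] at h2
    obtain ⟨-, rfl, rfl⟩ := h2
    obtain ⟨h1, h3⟩ := chainRoot_mF D hD r s 2 k' hr (by norm_num) hk'
    refine ⟨h1, by norm_num, le_rfl, fun l hl => ?_⟩
    rw [h3 l hl]; push_cast; ring
  · simp only [Prod.mk.injEq] at h2
    obtain ⟨-, rfl, rfl⟩ := h2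
    obtain ⟨h1, h3⟩ := chainRoot_mF D hD s r 2 k' hs (by norm_num) hk'
    refine ⟨h1, le_rfl, by norm_num, fun l hl => ?_⟩
    rw [h3 l hl]; push_cast; ring
  · simp only [Prod.mk.injEq] at h2
    obtain ⟨-, rfl, rfl⟩ := h2
    obtain ⟨h1, h3⟩ := chainRoot_mF D hD r s 3 k' hr (by norm_num) hk'
    refine ⟨h1, by norm_num, le_rfl, fun l hl => ?_⟩
    rw [h3 l hl]; push_cast; ring
  · simp only [Prod.mk.injEq] at h2
    obtain ⟨-, rfl, rfl⟩ := h2
    obtain ⟨h1, h3⟩ := chainRoot_mF D hD s r 3 k' hs (by norm_num) hk'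
    refine ⟨h1, le_rfl, by norm_num, fun l hl => ?_⟩
    rw [h3 l hl]; push_cast; ring
  · simp only [Prod.mk.injEq] at h2
    obtain ⟨-, rfl, rfl⟩ := h2
    simp only [Option.bind_eq_some_iff] at hk'
    obtain ⟨k₁, hk₁, hk₂⟩ := hk'
    obtain ⟨h1, h3⟩ := chainRoot_mF D hD r s 3 k₁ hr (by norm_num) hk₁
    obtain ⟨h4, h5⟩ := chainRoot_mF D hD k₁ s 1 k' h1 le_rfl hk₂
    refine ⟨h4, by norm_num, by norm_num, fun l hl => ?_⟩
    rw [h5 l hl, h3 l hl]; push_cast; ring
  · simp only [Prod.mk.injEq] at h2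
    obtain ⟨-, rfl, rfl⟩ := h2
    simp only [Option.bind_eq_some_iff] at hk'
    obtain ⟨k₁, hk₁, hk₂⟩ := hk'
    obtain ⟨h1, h3⟩ := chainRoot_mF D hD s r 3 k₁ hs (by norm_num) hk₁
    obtain ⟨h4, h5⟩ := chainRoot_mF D hD k₁ r 1 k' h1 le_rfl hk₂
    refine ⟨h4, by norm_num, by norm_num, fun l hl => ?_⟩
    rw [h5 l hl, h3 l hl]; push_cast; ring

include hD in
theorem isNegRoot_iff_mF (r : ℕ) (hr : r < D.nroots) : D.IsNegRoot r ↔ ∀ i < D.rank, mF D i r ≤ 0 := by
  rw [isNegRoot_iff D (wfFast_all D hD) r hr]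
  constructor
  · intro h i hi
    have := sign_cor_eq D hD r i hr hi
    have h1 := h i hi
    rw [← Int.sign_nonpos_iff] at h1 ⊢
    rwa [← this]
  · intro h i hi
    have := sign_cor_eq D hD r i hr hi
    have h1 := h i hi
    rw [← Int.sign_nonpos_iff] at h1 ⊢
    rwa [this]

include hD in
/-- a witness coordinate for a positive root outside `Φ_J` -/
theorem exists_coord (J : Set ℕ) (r : ℕ) (hpos : D.IsPosRoot r) (hr : ¬ D.InRootSub J r) :
    ∃ l < D.rank, l ∉ J ∧ 1 ≤ mF D l r := by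
  have hlt := hpos.1
  have h0 := (isPosRoot_iff_mF D hD r hlt).1 hpos
  rw [inRootSub_iff_mF D hD J r] at hr
  push Not at hr
  obtain ⟨l, hl, hlJ, hne⟩ := hr hlt
  have := h0 l hl
  exact ⟨l, hl, hlJ, by omega⟩

include hD in
theorem coord_nonneg (J : Set ℕ) (s : ℕ) (hs : s < D.nroots) (h : D.IsPosRoot s ∨ D.InRootSub J s)
    (l : ℕ) (hl : l < D.rank) (hlJ : l ∉ J) : 0 ≤ mF D l s := by
  rcases h with h | h
  · exact (isPosRoot_iff_mF D hD s hs).1 h l hl
  · rw [((inRootSub_iff_mF D hD J s).1 h).2 l hl hlJ]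

include hD in
theorem term_mem (J : Set ℕ) (r s : ℕ) (hpos : D.IsPosRoot r) (hr : ¬ D.InRootSub J r) (hs : s < D.nroots)
    (h : D.IsPosRoot s ∨ D.InRootSub J s) (k : ℕ) (c : ℤ) (i j : ℕ) (hmem : (k, c, i, j) ∈ D.commTerms s r) :
    D.IsPosRoot k ∧ ¬ D.InRootSub J k := by
  obtain ⟨l, hl, hlJ, h1⟩ := exists_coord D hD J r hpos hr
  have h2 := coord_nonneg D hD J s hs h l hl hlJ
  obtain ⟨hk, hi, hj, hm⟩ := commTerms_mF D hD s r hs hpos.1 k c i j hmem
  have h3 : 1 ≤ mF D l k := by
    rw [hm l hl]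
    have : (1 : ℤ) ≤ (j : ℤ) := by exact_mod_cast hj
    have : (0 : ℤ) ≤ (i : ℤ) := by positivity
    nlinarith
  constructor
  · rcases pos_or_neg D hD k hk with hp | hn
    · exact hp
    · have := (isNegRoot_iff_mF D hD k hk).1 hn l hl
      omega
  · intro hJ
    have := ((inRootSub_iff_mF D hD J k).1 hJ).2 l hl hlJ
    omega

section levi
variable (F : Type*) [Field F]

include hD in
theorem unipotentRadical_le_raises (J : Set ℕ) :
    D.unipotentRadical F J ≤ raisesSubgroup (lvIW D (wJ J)) F 1 le_rfl := by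
  unfold ChevalleyDatum.unipotentRadical
  rw [Subgroup.closure_le]
  rintro g ⟨r, t, hpos, hr, hg⟩
  show Raises (lvIW D (wJ J)) 1 ((g : Matrix D.Idx D.Idx F) - 1)
  rw [hg]
  exact x_sub_one_raisesW D hD (wJ J) F r hpos.1 (htW_wJ_pos D hD J r hpos hr) t

theorem Graded0.mul (w : ℕ → ℤ) {M N : Matrix D.Idx D.Idx F} (hM : Graded0 D w M) (hN : Graded0 D w N) :
    Graded0 D w (M * N) := by
  intro row col hne
  rw [Matrix.mul_apply] at hne
  obtain ⟨k, -, hk⟩ := Finset.exists_ne_zero_of_sum_ne_zero hne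
  rw [hM row k (left_ne_zero_of_mul hk), hN k col (right_ne_zero_of_mul hk)]

theorem Graded0.of_isDiag (w : ℕ → ℤ) {M : Matrix D.Idx D.Idx F} (hM : M.IsDiag) : Graded0 D w M := by
  intro row col hne
  by_cases h : row = col
  · rw [h]
  · exact absurd (hM h) hne

include hD in
theorem leviSubgroup_graded0 (J : Set ℕ) (g : GL D.Idx F) (hg : g ∈ D.leviSubgroup F J) :
    Graded0 D (wJ J) (g : Matrix D.Idx D.Idx F) := by
  unfold ChevalleyDatum.leviSubgroup at hg
  rw [← Subgroup.closure_eq (D.diagonalSubgroup F), ← Subgroup.closure_union] at hg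
  induction hg using Subgroup.closure_induction'' with
  | one => rw [Units.val_one]; exact Graded0.of_isDiag D F _ Matrix.isDiag_one
  | mem x hx =>
    rcases hx with hx | ⟨r, t, hr, hx⟩
    · exact Graded0.of_isDiag D F _ (isDiag_of_mem_diagonal D hD F x hx)
    · rw [hx]
      exact x_graded0 D hD (wJ J) F r hr.1 (htW_wJ_of_inRootSub D hD J r hr) t
  | inv_mem x hx =>
    rcases hx with hx | ⟨r, t, hr, hx⟩
    · exact Graded0.of_isDiag D F _ (isDiag_of_mem_diagonal D hD F x⁻¹ (inv_mem hx))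
    · have : x = xGL D hD F r t := Units.ext (by rw [hx, xGL_coe])
      rw [this, xGL_inv, xGL_coe]
      exact x_graded0 D hD (wJ J) F r hr.1 (htW_wJ_of_inRootSub D hD J r hr) (-t)
  | mul x y _ _ hx hy =>
    rw [Units.val_mul]
    exact Graded0.mul D F _ hx hy

include hD in
/-- `U_J ∩ L_J = 1` -/
theorem unipotentRadical_inf_levi (J : Set ℕ) : D.unipotentRadical F J ⊓ D.leviSubgroup F J = ⊥ := by
  rw [eq_bot_iff]
  intro g hg
  obtain ⟨hU, hL⟩ := Subgroup.mem_inf.1 hg
  have h1 : Raises (lvIW D (wJ J)) 1 ((g : Matrix D.Idx D.Idx F) - 1) := unipotentRadical_le_raises D hD F J hU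
  have h2 := leviSubgroup_graded0 D hD F J g hL
  rw [Subgroup.mem_bot]
  apply Units.ext
  rw [Units.val_one, ← sub_eq_zero]
  ext row col
  by_contra hne
  have h3 := h1 row col hne
  by_cases h : row = col
  · subst h; omega
  · have h4 : (g : Matrix D.Idx D.Idx F) row col ≠ 0 := by
      intro h0
      apply hne
      rw [Matrix.sub_apply, h0, Matrix.one_apply_ne h, sub_zero]
      rfl
    have := h2 row col h4
    omega

include hD in
/-- `P_J = U_J L_J` -/
theorem unipotentRadical_sup_levi (J : Set ℕ) :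
    D.unipotentRadical F J ⊔ D.leviSubgroup F J = D.parabolicSubgroup F J := by
  rw [parabolic_eq D hD F J]
  apply le_antisymm
  · apply sup_le
    · refine le_trans ?_ le_sup_right
      unfold ChevalleyDatum.unipotentRadical
      apply Subgroup.closure_mono
      rintro g ⟨r, t, hpos, -, hg⟩
      exact ⟨r, t, Or.inl hpos, hg⟩
    · unfold ChevalleyDatum.leviSubgroup
      apply sup_le le_sup_left
      refine le_trans ?_ le_sup_right
      apply Subgroup.closure_mono
      rintro g ⟨r, t, hr, hg⟩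
      exact ⟨r, t, Or.inr hr, hg⟩
  · apply sup_le
    · refine le_trans ?_ (le_sup_right : D.leviSubgroup F J ≤ _)
      unfold ChevalleyDatum.leviSubgroup
      exact le_sup_left
    · rw [Subgroup.closure_le]
      rintro g ⟨r, t, hr, hg⟩
      by_cases hJ : D.InRootSub J r
      · apply (le_sup_right : D.leviSubgroup F J ≤ _)
        unfold ChevalleyDatum.leviSubgroup
        exact (le_sup_right : _ ≤ D.diagonalSubgroup F ⊔ _) (Subgroup.subset_closure ⟨r, t, hJ, hg⟩)
      · rcases hr with hr | hr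
        · apply (le_sup_left : D.unipotentRadical F J ≤ _)
          exact Subgroup.subset_closure ⟨r, t, hr, hJ, hg⟩
        · exact absurd hr hJ

include hD in
theorem conj_x_mem_unipotentRadical (hcomm : HComm D F) (J : Set ℕ) (r s : ℕ) (hpos : D.IsPosRoot r)
    (hr : ¬ D.InRootSub J r) (hs : s < D.nroots) (h : D.IsPosRoot s ∨ D.InRootSub J s) (t u : F) :
    (xGL D hD F s u)⁻¹ * xGL D hD F r t * xGL D hD F s u ∈ D.unipotentRadical F J := by
  have hmemr : xGL D hD F r t ∈ D.unipotentRadical F J :=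
    Subgroup.subset_closure ⟨r, t, hpos, hr, xGL_coe D hD F r t⟩
  by_cases hsr : s = r
  · subst hsr
    rw [xGL_inv, ← xGL_add, ← xGL_add]
    exact Subgroup.subset_closure ⟨s, _, hpos, hr, xGL_coe D hD F _ _⟩
  obtain ⟨l, hl, hlJ, h1⟩ := exists_coord D hD J r hpos hr
  have h2 := coord_nonneg D hD J s hs h l hl hlJ
  have hne1 : r ≠ s := fun e => hsr e.symm
  have hne2 : r ≠ D.neg s := by
    intro e
    have := (chkUpM_spec D l (chkUpM_all D hD l hl) s hs).1
    rw [← e] at this
    omega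
  have hc := hcomm s r hs hpos.1 hne1 hne2 u t
  have e : xGL D hD F r t * xGL D hD F s u =
      xGL D hD F s u * xGL D hD F r t * wordGL D hD F (D.commWord F s r u t) := by
    apply Units.ext
    rw [Units.val_mul, Units.val_mul, Units.val_mul, xGL_coe, xGL_coe, wordGL_coe]
    exact hc
  have e2 : (xGL D hD F s u)⁻¹ * xGL D hD F r t * xGL D hD F s u =
      xGL D hD F r t * wordGL D hD F (D.commWord F s r u t) := by
    rw [mul_assoc, e]; group
  rw [e2]
  refine mul_mem hmemr (wordGL_mem D hD F _ _ ?_)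
  intro p hp
  unfold ChevalleyDatum.commWord at hp
  obtain ⟨⟨k, c, i, j⟩, hmem, rfl⟩ := List.mem_map.1 hp
  obtain ⟨hkpos, hkJ⟩ := term_mem D hD J r s hpos hr hs h k c i j hmem
  exact Subgroup.subset_closure ⟨k, _, hkpos, hkJ, xGL_coe D hD F _ _⟩

include hD in
/-- `U_J ⊴ P_J` -/
theorem parabolic_le_normalizer (hcomm : HComm D F) (J : Set ℕ) :
    D.parabolicSubgroup F J ≤ Subgroup.normalizer (D.unipotentRadical F J : Set (GL D.Idx F)) := by
  rw [parabolic_eq D hD F J]
  apply sup_le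
  · intro h hh
    unfold ChevalleyDatum.unipotentRadical
    obtain ⟨χ, hχ, e⟩ := exists_character_of_mem_diagonal D hD F h hh
    obtain ⟨χ', hχ', e'⟩ := exists_character_of_mem_diagonal D hD F h⁻¹ (inv_mem hh)
    apply mem_normalizer_closure
    · rintro g ⟨r, t, hpos, hr, hg⟩
      have eg : g = xGL D hD F r t := Units.ext (by rw [hg, xGL_coe])
      rw [eg, diag_conj_xGL D hD F h χ hχ e r hpos.1 t]
      exact Subgroup.subset_closure ⟨r, _, hpos, hr, xGL_coe D hD F _ _⟩
    · rintro g ⟨r, t, hpos, hr, hg⟩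
      have eg : g = xGL D hD F r t := Units.ext (by rw [hg, xGL_coe])
      have := diag_conj_xGL D hD F h⁻¹ χ' hχ' e' r hpos.1 t
      rw [inv_inv] at this
      rw [eg, this]
      exact Subgroup.subset_closure ⟨r, _, hpos, hr, xGL_coe D hD F _ _⟩
  · rw [Subgroup.closure_le]
    rintro g ⟨s, u, hs, hg⟩
    have hslt : s < D.nroots := by
      rcases hs with hs | hs
      · exact hs.1
      · exact hs.1
    have eg : g = xGL D hD F s u := Units.ext (by rw [hg, xGL_coe])
    rw [SetLike.mem_coe, eg]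
    unfold ChevalleyDatum.unipotentRadical
    apply mem_normalizer_closure
    · rintro y ⟨r, t, hpos, hr, hy⟩
      have ey : y = xGL D hD F r t := Units.ext (by rw [hy, xGL_coe])
      have := conj_x_mem_unipotentRadical D hD F hcomm J r s hpos hr hslt hs t (-u)
      rw [← xGL_inv, inv_inv] at this
      rw [ey]
      exact this
    · rintro y ⟨r, t, hpos, hr, hy⟩
      have ey : y = xGL D hD F r t := Units.ext (by rw [hy, xGL_coe])
      rw [ey]
      exact conj_x_mem_unipotentRadical D hD F hcomm J r s hpos hr hslt hs t u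

include hD in
/-- the Levi decomposition of `P_J` (S1048), given the commutator formula -/
theorem levi_decomposition (hcomm : HComm D F) (J : Set ℕ) :
    D.parabolicSubgroup F J ≤ Subgroup.normalizer (D.unipotentRadical F J : Set (GL D.Idx F)) ∧
      D.unipotentRadical F J ⊔ D.leviSubgroup F J = D.parabolicSubgroup F J ∧
      D.unipotentRadical F J ⊓ D.leviSubgroup F J = ⊥ :=
  ⟨parabolic_le_normalizer D hD F hcomm J, unipotentRadical_sup_levi D hD F J,
    unipotentRadical_inf_levi D hD F J⟩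

end levi

end Cfsg.Agent.Lib.Helper36
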