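import Mathlib

set_option autoImplicit false

namespace Cfsg.Agent.Lib.Helper36

open Module LinearMap

/-- A finite-dimensional space carrying a nondegenerate alternating bilinear form has even dimension. -/
theorem even_finrank_of_isAlt_nondegenerate_aux {K : Type*} [Field K] :
    ∀ (n : ℕ) (V : Type*) [AddCommGroup V] [Module K V] [FiniteDimensional K V]
      (B : LinearMap.BilinForm K V), B.IsAlt → B.Nondegenerate → finrank K V = n → Even n := by
  intro n
  induction n using Nat.strong_induction_on with
  | _ n ih =>
    intro V _ _ _ B halt hnd hn
    rcases Nat.eq_zero_or_pos n with h0 | hpos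
    · rw [h0]; exact Even.zero
    · have hrefl : B.IsRefl := halt.isRefl
      have : 0 < finrank K V := by rw [hn]; exact hpos
      have hnt : Nontrivial V := Module.finrank_pos_iff.mp this
      obtain ⟨u, hu⟩ := exists_ne (0 : V)
      have : ∃ v, B u v ≠ 0 := by
        by_contra hcon
        push Not at hcon
        exact hu (hnd.1 u hcon)
      obtain ⟨v, huv⟩ := this
      have hvu : B v u = - B u v := (halt.neg_eq u v).symm
      set W : Submodule K V := Submodule.span K {u, v} with hW
      have huW : u ∈ W := Submodule.subset_span (by simp)
      have hvW : v ∈ W := Submodule.subset_span (by simp)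
      have hdisj : Disjoint W (B.orthogonal W) := by
        rw [Submodule.disjoint_def]
        intro x hxW hxO
        rw [hW, Submodule.mem_span_pair] at hxW
        obtain ⟨a, b, rfl⟩ := hxW
        have h1 : B u (a • u + b • v) = 0 := hxO u huW
        have h2 : B v (a • u + b • v) = 0 := hxO v hvW
        simp only [map_add, map_smul, smul_eq_mul, halt u, halt v, mul_zero, zero_add, add_zero] at h1 h2
        have hb : b = 0 := by
          rcases mul_eq_zero.mp h1 with h | h
          · exact h
          · exact absurd h huv
        have ha : a = 0 := by
          rw [hvu] at h2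
          rcases mul_eq_zero.mp h2 with h | h
          · exact h
          · exact absurd (neg_eq_zero.mp h) huv
        rw [ha, hb]; simp
      have hcompl : IsCompl W (B.orthogonal W) :=
        (LinearMap.BilinForm.isCompl_orthogonal_iff_disjoint hrefl).mpr hdisj
      have hli : LinearIndependent K ![u, v] := by
        rw [LinearIndependent.pair_iff]
        intro s t hst
        have h1 : B u (s • u + t • v) = 0 := by rw [hst]; simp
        have h2 : B v (s • u + t • v) = 0 := by rw [hst]; simp
        simp only [map_add, map_smul, smul_eq_mul, halt u, halt v, mul_zero, zero_add, add_zero] at h1 h2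
        refine ⟨?_, ?_⟩
        · rw [hvu] at h2
          rcases mul_eq_zero.mp h2 with h | h
          · exact h
          · exact absurd (neg_eq_zero.mp h) huv
        · rcases mul_eq_zero.mp h1 with h | h
          · exact h
          · exact absurd h huv
      have hWdim : finrank K W = 2 := by
        have h1 := finrank_span_eq_card hli
        have h2 : Set.range ![u, v] = {u, v} := by
          ext x; simp [eq_comm]; tauto
        rw [h2, Fintype.card_fin] at h1
        rw [hW]; exact h1
      have hOdim : finrank K (B.orthogonal W) = n - 2 := by
        rw [LinearMap.BilinForm.finrank_orthogonal hnd W, hn, hWdim]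
      have hle : 2 ≤ n := by
        have := Submodule.finrank_le W
        omega
      have hnd' : (B.restrict (B.orthogonal W)).Nondegenerate := by
        apply LinearMap.BilinForm.nondegenerate_restrict_of_disjoint_orthogonal B hrefl
        rw [LinearMap.BilinForm.orthogonal_orthogonal hnd hrefl W]
        exact hdisj.symm
      have halt' : (B.restrict (B.orthogonal W)).IsAlt := fun x => halt x
      have := ih (n - 2) (by omega) (B.orthogonal W) (B.restrict (B.orthogonal W)) halt' hnd' hOdim
      obtain ⟨k, hk⟩ := this
      exact ⟨k + 1, by omega⟩

theorem even_finrank_of_isAlt_nondegenerate {K : Type*} [Field K] {V : Type*} [AddCommGroup V]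
    [Module K V] [FiniteDimensional K V] (B : LinearMap.BilinForm K V) (halt : B.IsAlt)
    (hnd : B.Nondegenerate) : Even (finrank K V) :=
  even_finrank_of_isAlt_nondegenerate_aux _ V B halt hnd rfl

end Cfsg.Agent.Lib.Helper36
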