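import Cfsg.Agent.Lib.Helper75.C2gGen
import Cfsg.Agent.Lib.Helper44.C2gA2

/-! # S2405, rank-2 part, leaf C2G-G2A (helper36): the short root groups of `G₂(F)`, `|F| > 2` -/

set_option autoImplicit false

namespace Cfsg.Agent.Lib.Helper67.C2g

open Cfsg Cfsg.Lie Cfsg.Agent.Lib.Helper36 Cfsg.Agent.Lib.Helper40.C2g

theorem g2a_tables : gc chevG2 11 7 = 0 ∧ gc chevG2 11 10 = 1 ∧ gc chevG2 11 3 = -1 ∧
    chevG2.commTerms 10 7 = [] ∧ chevG2.commTerms 10 3 = [] ∧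
    coxRoot chevG2 7 = 9 ∧ coxRoot chevG2 9 = 8 ∧ coxRoot chevG2 8 = 4 ∧ coxRoot chevG2 4 = 2 ∧
    coxRoot chevG2 2 = 3 ∧ coxRoot chevG2 3 = 7 := by decide

theorem g2_short (F : Type*) [Field F] [Fintype F] (hq : 2 < Fintype.card F) (k : F) (hk : k ≠ 0)
    (hgen : ∀ t : F, t ≠ 0 → ∃ m : ℕ, t = k ^ m) :
    let g1 := hGL chevG2 hG2 F 11 k * xGL chevG2 hG2 F 7 1 * xGL chevG2 hG2 F 10 1
    let K0 := Subgroup.closure ({g1, coxN chevG2 hG2 F} : Set (GL chevG2.Idx F))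
    (∀ s ∈ [2, 3, 4, 7, 8, 9], PX chevG2 hG2 F K0 s) ∧
      hGL chevG2 hG2 F 11 k * xGL chevG2 hG2 F 10 1 ∈ K0 := by
  intro g1 K0
  obtain ⟨gc7, gc10, gc3, ct7, ct3, c7, c9, c8, c4, c2, c3⟩ := g2a_tables
  have hg1 : g1 ∈ K0 := Subgroup.subset_closure (Set.mem_insert _ _)
  have hn : coxN chevG2 hG2 F ∈ K0 := Subgroup.subset_closure (Set.mem_insert_of_mem _ rfl)
  have hnr : chevG2.nroots = 12 := rfl
  -- `k ≠ 1`
  have hk1 : k ≠ 1 := by
    intro h1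
    have hall : ∀ t : F, t ≠ 0 → t = 1 := by
      intro t ht
      obtain ⟨m, rfl⟩ := hgen t ht
      rw [h1, one_pow]
    have hcard : Fintype.card F ≤ 2 := by
      classical
      have hsub : (Finset.univ : Finset F) ⊆ {0, 1} := by
        intro t _
        by_cases ht : t = 0
        · simp [ht]
        · simp [hall t ht]
      calc Fintype.card F = (Finset.univ : Finset F).card := rfl
        _ ≤ ({0, 1} : Finset F).card := Finset.card_le_card hsub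
        _ ≤ 2 := Finset.card_le_two
    omega
  -- commutation
  have hab : ∀ s t : F, xGL chevG2 hG2 F 7 s * xGL chevG2 hG2 F 10 t =
      xGL chevG2 hG2 F 10 t * xGL chevG2 hG2 F 7 s := fun s t =>
    xGL_comm_of_nil chevG2 hG2 F 10 7 (by decide) (by decide) (by decide) (by decide) ct7 t s
  have h103 : ∀ s t : F, xGL chevG2 hG2 F 3 s * xGL chevG2 hG2 F 10 t =
      xGL chevG2 hG2 F 10 t * xGL chevG2 hG2 F 3 s := fun s t =>
    xGL_comm_of_nil chevG2 hG2 F 10 3 (by decide) (by decide) (by decide) (by decide) ct3 t s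
  -- the torus element
  have hha : ∀ t : F, hGL chevG2 hG2 F 11 k * xGL chevG2 hG2 F 7 t * (hGL chevG2 hG2 F 11 k)⁻¹ =
      xGL chevG2 hG2 F 7 t := by
    intro t
    rw [hGL_conj_xGL chevG2 hG2 F 11 7 (by decide) (by decide) k hk t, gc7, zpow_zero, one_mul]
  have hhb : ∀ t : F, hGL chevG2 hG2 F 11 k * xGL chevG2 hG2 F 10 t * (hGL chevG2 hG2 F 11 k)⁻¹ =
      xGL chevG2 hG2 F 10 (k * t) := by
    intro t
    rw [hGL_conj_xGL chevG2 hG2 F 11 10 (by decide) (by decide) k hk t, gc10, zpow_one]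
  have hh3 : ∀ t : F, hGL chevG2 hG2 F 11 k * xGL chevG2 hG2 F 3 t * (hGL chevG2 hG2 F 11 k)⁻¹ =
      xGL chevG2 hG2 F 3 (k⁻¹ * t) := by
    intro t
    rw [hGL_conj_xGL chevG2 hG2 F 11 3 (by decide) (by decide) k hk t, gc3, zpow_neg, zpow_one]
  have hhq : hGL chevG2 hG2 F 11 k ^ (Fintype.card F - 1) = 1 := by
    rw [hGL_pow' chevG2 hG2 F 11 (by decide) k hk, FiniteField.pow_card_sub_one_eq_one k hk,
      hGL_one' chevG2 hG2 F 11 (by decide)]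
  -- step 1: `x_7(1) ∈ K0`
  have hP := pow3_abstract (xGL chevG2 hG2 F 7) (xGL chevG2 hG2 F 10) (hGL chevG2 hG2 F 11 k)
    (xGL_add' chevG2 hG2 F 7) (xGL_add' chevG2 hG2 F 10) hab hha k hhb hk1 hk hhq
  have hx7m : xGL chevG2 hG2 F 7 (-1) ∈ K0 := by
    rw [← hP]
    exact pow_mem hg1 _
  have hx7 : xGL chevG2 hG2 F 7 1 ∈ K0 := by
    have := inv_mem hx7m
    rwa [xGL_inv', neg_neg] at this
  -- step 2: the Coxeter orbit of `x_7(1)`
  have hx9 : xGL chevG2 hG2 F 9 1 ∈ K0 := by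
    have := xGL_cox_one chevG2 hG2 F K0 hn 7 (by decide) hx7
    rwa [c7] at this
  have hx8 : xGL chevG2 hG2 F 8 1 ∈ K0 := by
    have := xGL_cox_one chevG2 hG2 F K0 hn 9 (by decide) hx9
    rwa [c9] at this
  have hx4 : xGL chevG2 hG2 F 4 1 ∈ K0 := by
    have := xGL_cox_one chevG2 hG2 F K0 hn 8 (by decide) hx8
    rwa [c8] at this
  have hx2 : xGL chevG2 hG2 F 2 1 ∈ K0 := by
    have := xGL_cox_one chevG2 hG2 F K0 hn 4 (by decide) hx4
    rwa [c4] at this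
  have hx3 : xGL chevG2 hG2 F 3 1 ∈ K0 := by
    have := xGL_cox_one chevG2 hG2 F K0 hn 2 (by decide) hx2
    rwa [c2] at this
  -- step 3: `g1' = h_11(k) x_10(1) ∈ K0`
  have hg1' : hGL chevG2 hG2 F 11 k * xGL chevG2 hG2 F 10 1 ∈ K0 := by
    have e : hGL chevG2 hG2 F 11 k * xGL chevG2 hG2 F 10 1 = g1 * (xGL chevG2 hG2 F 7 1)⁻¹ := by
      show _ = hGL chevG2 hG2 F 11 k * xGL chevG2 hG2 F 7 1 * xGL chevG2 hG2 F 10 1 *
        (xGL chevG2 hG2 F 7 1)⁻¹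
      rw [mul_assoc (hGL chevG2 hG2 F 11 k), hab 1 1]
      group
    rw [e]
    exact mul_mem hg1 (inv_mem hx7)
  -- `g1'` acts on `X_3` through `k⁻¹`
  have hconj3 : ∀ t : F, (hGL chevG2 hG2 F 11 k * xGL chevG2 hG2 F 10 1) * xGL chevG2 hG2 F 3 t *
      (hGL chevG2 hG2 F 11 k * xGL chevG2 hG2 F 10 1)⁻¹ = xGL chevG2 hG2 F 3 (k⁻¹ * t) := by
    intro t
    rw [← hh3 t]
    have e : xGL chevG2 hG2 F 10 1 * xGL chevG2 hG2 F 3 t = xGL chevG2 hG2 F 3 t * xGL chevG2 hG2 F 10 1 :=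
      (h103 t 1).symm
    calc hGL chevG2 hG2 F 11 k * xGL chevG2 hG2 F 10 1 * xGL chevG2 hG2 F 3 t *
          (hGL chevG2 hG2 F 11 k * xGL chevG2 hG2 F 10 1)⁻¹
        = hGL chevG2 hG2 F 11 k * (xGL chevG2 hG2 F 10 1 * xGL chevG2 hG2 F 3 t) *
          (xGL chevG2 hG2 F 10 1)⁻¹ * (hGL chevG2 hG2 F 11 k)⁻¹ := by group
      _ = hGL chevG2 hG2 F 11 k * (xGL chevG2 hG2 F 3 t * xGL chevG2 hG2 F 10 1) *
          (xGL chevG2 hG2 F 10 1)⁻¹ * (hGL chevG2 hG2 F 11 k)⁻¹ := by rw [e]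
      _ = _ := by group
  have hcl : AddSubgroup.closure {x : F | ∃ j : ℕ, x = k⁻¹ ^ j} = ⊤ := by
    rw [eq_top_iff]
    intro t _
    by_cases ht : t = 0
    · rw [ht]; exact zero_mem _
    · apply AddSubgroup.subset_closure
      obtain ⟨m, hm⟩ := hgen t⁻¹ (inv_ne_zero ht)
      exact ⟨m, by rw [inv_pow, ← hm, inv_inv]⟩
  have hP3 : PX chevG2 hG2 F K0 3 :=
    PX_fill_gen chevG2 hG2 F K0 3 _ hg1' k⁻¹ hconj3 hx3 hcl
  -- step 4: the Coxeter orbit of `X_3`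
  have hP7 : PX chevG2 hG2 F K0 7 := by
    have := PX_cox chevG2 hG2 F K0 hn 3 (by decide) hP3
    rwa [c3] at this
  have hP9 : PX chevG2 hG2 F K0 9 := by
    have := PX_cox chevG2 hG2 F K0 hn 7 (by decide) hP7
    rwa [c7] at this
  have hP8 : PX chevG2 hG2 F K0 8 := by
    have := PX_cox chevG2 hG2 F K0 hn 9 (by decide) hP9
    rwa [c9] at this
  have hP4 : PX chevG2 hG2 F K0 4 := by
    have := PX_cox chevG2 hG2 F K0 hn 8 (by decide) hP8
    rwa [c8] at this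
  have hP2 : PX chevG2 hG2 F K0 2 := by
    have := PX_cox chevG2 hG2 F K0 hn 4 (by decide) hP4
    rwa [c4] at this
  refine ⟨?_, hg1'⟩
  intro s hs
  simp only [List.mem_cons, List.not_mem_nil, or_false] at hs
  rcases hs with rfl | rfl | rfl | rfl | rfl | rfl
  · exact hP2
  · exact hP3
  · exact hP4
  · exact hP7
  · exact hP8
  · exact hP9

end Cfsg.Agent.Lib.Helper67.C2g
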