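import Cfsg.Agent.Lib.Helper36.ChevFast
import Cfsg.Agent.Lib.Helper36.ChevAdd

/-! # Fast check of the additivity identities (helper36) -/

set_option autoImplicit false

namespace Cfsg.Agent.Lib.Helper36

open Cfsg Cfsg.Lie

/-- fast engine check of `AddProp` -/
def chkAddF (D : ChevalleyDatum) : Bool :=
  (List.range D.nroots).all fun r => (activeCols D r).all fun c => addPairs.all fun ij =>
    vecEq ((MExp.comp (.E r ij.1) (.E r ij.2)).evalF (mkFast D) c)
      ((MExp.smul ((Nat.choose (ij.1 + ij.2) ij.1 : ℕ) : ℤ) (.E r (ij.1 + ij.2))).evalF (mkFast D) c)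

theorem addProp_of_chkF (D : ChevalleyDatum) (hwf : wf D = true) (hf : wfFast D = true)
    (h : chkAddF D = true) : AddProp D := by
  intro r hr i hi j hj
  unfold chkAddF at h
  rw [List.all_eq_true] at h
  have h1 := h r (List.mem_range.2 hr)
  rw [List.all_eq_true] at h1
  have hij : (i, j) ∈ addPairs := by
    simp only [List.mem_cons, List.not_mem_nil, or_false] at hi hj
    rcases hi with rfl | rfl | rfl <;> rcases hj with rfl | rfl | rfl <;> simp [addPairs]
  have hj1 : 1 ≤ j := by
    simp only [List.mem_cons, List.not_mem_nil, or_false] at hj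
    omega
  have hij1 : 1 ≤ i + j := by omega
  have := MExp.sem_eq_of_check D hwf hf (MExp.comp (.E r i) (.E r j))
    (MExp.smul ((Nat.choose (i + j) i : ℕ) : ℤ) (.E r (i + j))) ⟨hr, hr⟩ hr (activeCols D r)
    (comp_suppIn D _ _ _ (E_suppIn D r j hj1)) (smulM_suppIn D _ _ _ (E_suppIn D r (i + j) hij1))
    (fun c hc _ => by
      have h2 := h1 c hc
      rw [List.all_eq_true] at h2
      exact h2 (i, j) hij)
  exact this

end Cfsg.Agent.Lib.Helper36
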