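import Cfsg.Agent.Lib.Helper36.ChevTabG2
import Cfsg.Agent.Lib.Helper36.ChevTabB2
import Cfsg.Agent.Lib.Helper36.ChevTabD4
import Cfsg.Agent.Lib.Helper36.ChevTabF4
import Cfsg.Agent.Lib.Helper36.ChevTabE6
import Cfsg.Agent.Lib.Helper36.ChevTabE7
import Cfsg.Agent.Lib.Helper36.ChevTabE8

/-! # Table facts for all seven Chevalley data (helper36) -/

set_option autoImplicit false

namespace Cfsg.Agent.Lib.Helper36

open Cfsg Cfsg.Lie

/-- the seven tabulated data -/
def sevenData : List ChevalleyDatum := [chevG2, chevB2, chevD4, chevF4, chevE6, chevE7, chevE8]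

theorem seven_cases {P : ChevalleyDatum → Prop} (D : ChevalleyDatum)
    (hD : D ∈ [chevG2, chevB2, chevD4, chevF4, chevE6, chevE7, chevE8])
    (hG2 : P chevG2) (hB2 : P chevB2) (hD4 : P chevD4) (hF4 : P chevF4) (hE6 : P chevE6) (hE7 : P chevE7)
    (hE8 : P chevE8) : P D := by
  simp only [List.mem_cons, List.not_mem_nil, or_false] at hD
  rcases hD with rfl | rfl | rfl | rfl | rfl | rfl | rfl <;> assumption

theorem wf_all (D : ChevalleyDatum) (hD : D ∈ [chevG2, chevB2, chevD4, chevF4, chevE6, chevE7, chevE8]) :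
    wf D = true :=
  seven_cases (P := fun D => wf D = true) D hD wf_G2 wf_B2 wf_D4 wf_F4 wf_E6 wf_E7 wf_E8

theorem wfFast_all (D : ChevalleyDatum) (hD : D ∈ [chevG2, chevB2, chevD4, chevF4, chevE6, chevE7, chevE8]) :
    wfFast D = true :=
  seven_cases (P := fun D => wfFast D = true) D hD wfFast_G2 wfFast_B2 wfFast_D4 wfFast_F4 wfFast_E6
    wfFast_E7 wfFast_E8

theorem addProp_all (D : ChevalleyDatum) (hD : D ∈ [chevG2, chevB2, chevD4, chevF4, chevE6, chevE7, chevE8]) :
    AddProp D :=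
  seven_cases (P := AddProp) D hD addProp_G2 addProp_B2 addProp_D4 addProp_F4 addProp_E6 addProp_E7 addProp_E8

/-- additivity of root elements for the seven data -/
theorem x_add (D : ChevalleyDatum) (hD : D ∈ [chevG2, chevB2, chevD4, chevF4, chevE6, chevE7, chevE8])
    {F : Type*} [Field F] (r : ℕ) (hr : r < D.nroots) (t₁ t₂ : F) :
    D.x F r t₁ * D.x F r t₂ = D.x F r (t₁ + t₂) :=
  x_mul_x_of_addProp D (wf_all D hD) (addProp_all D hD) r hr t₁ t₂

end Cfsg.Agent.Lib.Helper36
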