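import Cfsg.Agent.Lib.Helper18.ChevBruhat
import Cfsg.Agent.Lib.Helper36.ChevChar
import Cfsg.Agent.Lib.Helper36.ChevBN
import Cfsg.Agent.Lib.Helper36.ChevSolv
import Cfsg.Agent.S1045

/-! # Centraliser of a torus element in Bruhat normal form (helper36)

If `t ∈ H` commutes with `g = b n u` (`b ∈ B`, `n ∈ N`, `u ∈ U_n⁻`), then `t` commutes with `b`, `n` and `u`
(and with the `U`- and `H`-parts of `b`). Generic in the datum. -/

set_option autoImplicit false

namespace Cfsg.Agent.Lib.Helper36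

open Cfsg Cfsg.Lie Cfsg.Agent.Lib.Helper18

variable (D : ChevalleyDatum) (hD : D ∈ [chevG2, chevB2, chevD4, chevF4, chevE6, chevE7, chevE8])
variable (F : Type*) [Field F]

include hD in
/-- conjugation by a torus element preserves `U_n⁻` -/
theorem bruhatcent_conj_uMinus (t n u : GL D.Idx F) (ht : t ∈ D.diagonalSubgroup F)
    (hu : u ∈ Subgroup.closure (uMinusGens D F n)) :
    t * u * t⁻¹ ∈ Subgroup.closure (uMinusGens D F n) := by
  obtain ⟨χ, hχ, ek⟩ := exists_character_of_mem_diagonal D hD F t ht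
  induction hu using Subgroup.closure_induction'' with
  | one => rw [mul_one, mul_inv_cancel]; exact one_mem _
  | mem x hx =>
    obtain ⟨r, c, hr, hle, hx⟩ := hx
    have e : x = xGL D hD F r c := Units.ext (by rw [hx, xGL_coe])
    rw [e, diag_conj_xGL D hD F t χ hχ ek r hr.1 c]
    exact Subgroup.subset_closure ⟨r, _, hr, hle, xGL_coe D hD F r _⟩
  | inv_mem x hx =>
    obtain ⟨r, c, hr, hle, hx⟩ := hx
    have e : x = xGL D hD F r c := Units.ext (by rw [hx, xGL_coe])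
    rw [e, xGL_inv, diag_conj_xGL D hD F t χ hχ ek r hr.1 (-c)]
    exact Subgroup.subset_closure ⟨r, _, hr, hle, xGL_coe D hD F r _⟩
  | mul x y _ _ hx hy =>
    have : t * (x * y) * t⁻¹ = (t * x * t⁻¹) * (t * y * t⁻¹) := by group
    rw [this]
    exact mul_mem hx hy

include hD in
/-- `t ∈ H` commuting with `u h` (`u ∈ U`, `h ∈ H`) commutes with `u` -/
theorem bruhatcent_borel (t u h k : GL D.Idx F) (ht : t ∈ D.diagonalSubgroup F)
    (hu : u ∈ D.posUnipotent F) (hh : h ∈ D.diagonalSubgroup F) (hk : k ∈ D.diagonalSubgroup F)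
    (hc : u * h = t * (u * h) * t⁻¹ * k) : t * u = u * t ∧ k = 1 := by
  have hth : t * h * t⁻¹ = h := by
    rw [diagonal_comm D hD F t h ht hh, mul_inv_cancel_right]
  have hconj : t * u * t⁻¹ ∈ D.posUnipotent F :=
    (Subgroup.mem_normalizer_iff.1 (diagonal_le_normalizer_pos D hD F ht) u).1 hu
  -- (t u t⁻¹)⁻¹ u = h k h⁻¹
  have h1 : (t * u * t⁻¹)⁻¹ * u = h * k * h⁻¹ := by
    have e : t * (u * h) * t⁻¹ * k = (t * u * t⁻¹) * (t * h * t⁻¹) * k := by group
    rw [e, hth] at hc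
    calc (t * u * t⁻¹)⁻¹ * u = (t * u * t⁻¹)⁻¹ * (u * h) * h⁻¹ := by group
      _ = (t * u * t⁻¹)⁻¹ * (t * u * t⁻¹ * h * k) * h⁻¹ := by rw [← hc]
      _ = h * k * h⁻¹ := by group
  have hmem : (t * u * t⁻¹)⁻¹ * u ∈ D.posUnipotent F ⊓ D.diagonalSubgroup F := by
    refine Subgroup.mem_inf.2 ⟨mul_mem (inv_mem hconj) hu, ?_⟩
    rw [h1]
    exact mul_mem (mul_mem hh hk) (inv_mem hh)
  rw [pos_inf_diagonal D hD F, Subgroup.mem_bot] at hmem
  constructor
  · have : u = t * u * t⁻¹ := (inv_mul_eq_one.1 hmem).symm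
    calc t * u = (t * u * t⁻¹) * t := by group
      _ = u * t := by rw [← this]
  · rw [hmem] at h1
    have := congrArg (fun z => h⁻¹ * z * h) h1
    simp only [mul_one, inv_mul_cancel] at this
    rw [this]; group

include hD in
/-- the centraliser of a torus element, in Bruhat normal form -/
theorem bruhat_cent (t b n u : GL D.Idx F) (ht : t ∈ D.diagonalSubgroup F) (hb : b ∈ D.borelSubgroup F)
    (hn : n ∈ D.monomialSubgroup F) (hu : u ∈ Subgroup.closure (uMinusGens D F n))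
    (hc : t * (b * n * u) = b * n * u * t) :
    t * b = b * t ∧ t * n = n * t ∧ t * u = u * t := by
  have h45 : ∀ i < D.rank, H45 D F i := fun i hi => Cfsg.Agent.S1045.result D hD i hi
  obtain ⟨P, hB, hN, -⟩ := exists_bnPair D hD F h45
  have hHB := diagonal_le_borel D F
  -- k = t n t⁻¹ n⁻¹ ∈ H
  set k : GL D.Idx F := t * (n * t⁻¹ * n⁻¹) with hk
  have hkH : k ∈ D.diagonalSubgroup F :=
    mul_mem ht (conj_mem_diag_of_mem_monomial D hD F n t⁻¹ hn (inv_mem ht))
  have hu' := bruhatcent_conj_uMinus D hD F t n u ht hu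
  have hb' : t * b * t⁻¹ * k ∈ D.borelSubgroup F :=
    mul_mem (mul_mem (mul_mem (hHB ht) hb) (inv_mem (hHB ht))) (hHB hkH)
  have heq : b * n * u = (t * b * t⁻¹ * k) * n * (t * u * t⁻¹) := by
    have : (t * b * t⁻¹ * k) * n * (t * u * t⁻¹) = t * (b * n * u) * t⁻¹ := by
      rw [hk]; group
    rw [this, hc, mul_inv_cancel_right]
  obtain ⟨-, h2⟩ := bruhat_unique D hD F P hB hN b (t * b * t⁻¹ * k) n n u (t * u * t⁻¹) hb hb' hn hn hu hu' heq
  obtain ⟨hbb, huu⟩ := h2 rfl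
  obtain ⟨u1, hu1, h1, hh1, rfl⟩ := (mem_borel_iff D hD F b).1 hb
  obtain ⟨hcu, hk1⟩ := bruhatcent_borel D hD F t u1 h1 k ht hu1 hh1 hkH hbb
  refine ⟨?_, ?_, ?_⟩
  · rw [← mul_assoc, hcu, mul_assoc, diagonal_comm D hD F t h1 ht hh1, mul_assoc]
  · have : t * n * t⁻¹ * n⁻¹ = 1 := by
      rw [← hk1, hk]; group
    calc t * n = (t * n * t⁻¹ * n⁻¹) * n * t := by group
      _ = n * t := by rw [this, one_mul]
  · calc t * u = (t * u * t⁻¹) * t := by group
      _ = u * t := by rw [← huu]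

end Cfsg.Agent.Lib.Helper36
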