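import Mathlib

set_option autoImplicit false

namespace Cfsg.Agent.Lib.Helper36

section poin

variable {W : Type*} [Group W] {Φ : Type*} [Finite Φ] [MulAction W Φ]
  (pos : Φ → Prop) (neg : Φ → Φ)

/-- the number of positive roots made negative by `w` -/
noncomputable def invN (w : W) : ℕ := {r : Φ | pos r ∧ ¬ pos (w • r)}.ncard

/-- the number of positive roots on which `c` is negative -/
noncomputable def negN (c : Φ → ℤ) : ℕ := {r : Φ | pos r ∧ c r < 0}.ncard

variable {pos neg}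

omit [Finite Φ] in
theorem count_split_neg (a : Φ) (Q : Φ → Prop) (hQ : ¬ Q a) :
    {r : Φ | pos r ∧ Q r}.ncard = {r : Φ | pos r ∧ r ≠ a ∧ Q r}.ncard := by
  congr 1
  ext r
  constructor
  · rintro ⟨h1, h2⟩
    refine ⟨h1, ?_, h2⟩
    rintro rfl
    exact hQ h2
  · rintro ⟨h1, -, h2⟩
    exact ⟨h1, h2⟩

theorem count_split_pos (a : Φ) (ha : pos a) (Q : Φ → Prop) (hQ : Q a) :
    {r : Φ | pos r ∧ Q r}.ncard = {r : Φ | pos r ∧ r ≠ a ∧ Q r}.ncard + 1 := by
  have e : {r : Φ | pos r ∧ Q r} = insert a {r : Φ | pos r ∧ r ≠ a ∧ Q r} := by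
    ext r
    simp only [Set.mem_setOf_eq, Set.mem_insert_iff]
    constructor
    · rintro ⟨h1, h2⟩
      by_cases h : r = a
      · exact Or.inl h
      · exact Or.inr ⟨h1, h, h2⟩
    · rintro (rfl | ⟨h1, -, h2⟩)
      · exact ⟨ha, hQ⟩
      · exact ⟨h1, h2⟩
  rw [e, Set.ncard_insert_of_notMem _ (Set.toFinite _)]
  rintro ⟨-, h, -⟩
  exact h rfl

omit [Finite Φ] in
theorem count_refl (hneg : ∀ r, pos (neg r) ↔ ¬ pos r) (σ : W) (a : Φ) (hσ : σ * σ = 1) (ha : pos a)
    (hσa : σ • a = neg a) (hσpos : ∀ r, pos r → r ≠ a → pos (σ • r)) (Q : Φ → Prop) :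
    {r : Φ | pos r ∧ r ≠ a ∧ Q (σ • r)}.ncard = {r : Φ | pos r ∧ r ≠ a ∧ Q r}.ncard := by
  have hσσ : ∀ r : Φ, σ • σ • r = r := fun r => by rw [smul_smul, hσ, one_smul]
  have hne : ∀ r, pos r → r ≠ a → σ • r ≠ a := by
    intro r hr _ h
    have : r = neg a := by rw [← hσa, ← h, hσσ]
    rw [this] at hr
    exact (hneg a).1 hr ha
  apply Set.ncard_congr (fun r _ => σ • r)
  · intro r hr
    exact ⟨hσpos r hr.1 hr.2.1, hne r hr.1 hr.2.1, hr.2.2⟩
  · intro r r' _ _ h
    have := congrArg (fun x => σ • x) h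
    simpa [hσσ] using this
  · intro r hr
    refine ⟨σ • r, ⟨hσpos r hr.1 hr.2.1, hne r hr.1 hr.2.1, ?_⟩, hσσ r⟩
    show Q (σ • σ • r)
    rw [hσσ]
    exact hr.2.2

theorem count_mul_refl (hneg : ∀ r, pos (neg r) ↔ ¬ pos r)
    (σ : W) (a : Φ) (hσ : σ * σ = 1) (ha : pos a)
    (hσa : σ • a = neg a) (hσpos : ∀ r, pos r → r ≠ a → pos (σ • r)) (Q : Φ → Prop) :
    (Q a → ¬ Q (neg a) → {r : Φ | pos r ∧ Q r}.ncard = {r : Φ | pos r ∧ Q (σ • r)}.ncard + 1) ∧
    (¬ Q a → Q (neg a) → {r : Φ | pos r ∧ Q r}.ncard + 1 = {r : Φ | pos r ∧ Q (σ • r)}.ncard) ∧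
    (¬ Q a → ¬ Q (neg a) → {r : Φ | pos r ∧ Q r}.ncard = {r : Φ | pos r ∧ Q (σ • r)}.ncard) := by
  have hc := count_refl hneg σ a hσ ha hσa hσpos Q
  refine ⟨fun h1 h2 => ?_, fun h1 h2 => ?_, fun h1 h2 => ?_⟩
  · rw [count_split_pos a ha Q h1, count_split_neg a (fun r => Q (σ • r)) (by rw [hσa]; exact h2), hc]
  · rw [count_split_neg a Q h1, count_split_pos a ha (fun r => Q (σ • r)) (by rw [hσa]; exact h2), hc]
  · rw [count_split_neg a Q h1, count_split_neg a (fun r => Q (σ • r)) (by rw [hσa]; exact h2), hc]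

theorem invN_mul_refl (hneg : ∀ r, pos (neg r) ↔ ¬ pos r) (hwneg : ∀ (w : W) r, w • neg r = neg (w • r))
    (σ : W) (a : Φ) (hσ : σ * σ = 1) (ha : pos a)
    (hσa : σ • a = neg a) (hσpos : ∀ r, pos r → r ≠ a → pos (σ • r)) (w : W) :
    (pos (w • a) → invN pos (w * σ) = invN pos w + 1) ∧
      (¬ pos (w • a) → invN pos (w * σ) + 1 = invN pos w) := by
  obtain ⟨h1, h2, -⟩ := count_mul_refl hneg σ a hσ ha hσa hσpos (fun r => ¬ pos (w • r))
  have e : invN pos (w * σ) = {r : Φ | pos r ∧ ¬ pos (w • σ • r)}.ncard := by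
    unfold invN
    simp only [mul_smul]
  rw [e]
  constructor
  · intro h
    exact (h2 (not_not.2 h) (by rw [hwneg, hneg]; exact not_not.2 h)).symm
  · intro h
    exact (h1 h (by rw [hwneg, hneg]; exact not_not.2 h)).symm

theorem negN_mul_refl (hneg : ∀ r, pos (neg r) ↔ ¬ pos r) (hwneg : ∀ (w : W) r, w • neg r = neg (w • r))
    (σ : W) (a : Φ) (hσ : σ * σ = 1) (ha : pos a)
    (hσa : σ • a = neg a) (hσpos : ∀ r, pos r → r ≠ a → pos (σ • r))
    (p₀ : Φ → ℤ) (hp₀neg : ∀ r, p₀ (neg r) = - p₀ r) (w : W) :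
    (0 < p₀ (w • a) → negN pos (fun r => p₀ ((w * σ) • r)) = negN pos (fun r => p₀ (w • r)) + 1) ∧
      (p₀ (w • a) < 0 → negN pos (fun r => p₀ ((w * σ) • r)) + 1 = negN pos (fun r => p₀ (w • r))) ∧
      (p₀ (w • a) = 0 → negN pos (fun r => p₀ ((w * σ) • r)) = negN pos (fun r => p₀ (w • r))) := by
  obtain ⟨h1, h2, h3⟩ := count_mul_refl hneg σ a hσ ha hσa hσpos (fun r => p₀ (w • r) < 0)
  have e : negN pos (fun r => p₀ ((w * σ) • r)) = {r : Φ | pos r ∧ p₀ (w • σ • r) < 0}.ncard := by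
    unfold negN
    simp only [mul_smul]
  rw [e]
  have e2 : p₀ (w • neg a) = - p₀ (w • a) := by rw [hwneg, hp₀neg]
  refine ⟨fun h => ?_, fun h => ?_, fun h => ?_⟩
  · exact (h2 (by show ¬ _ < 0; omega) (by show _ < 0; omega)).symm
  · exact (h1 h (by show ¬ _ < 0; omega)).symm
  · exact (h3 (by show ¬ _ < 0; omega) (by show ¬ _ < 0; omega)).symm

omit [Finite Φ] in
theorem invN_inv (hneg : ∀ r, pos (neg r) ↔ ¬ pos r) (hwneg : ∀ (w : W) r, w • neg r = neg (w • r))
    (hnn : ∀ r, neg (neg r) = r) (w : W) : invN pos w⁻¹ = invN pos w := by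
  unfold invN
  apply Set.ncard_congr (fun r _ => neg (w⁻¹ • r))
  · rintro r ⟨h1, h2⟩
    refine ⟨(hneg _).2 h2, ?_⟩
    rw [hwneg, smul_inv_smul, hneg]
    exact not_not.2 h1
  · intro r r' _ _ h
    have h' := congrArg neg h
    rw [hnn, hnn] at h'
    exact smul_left_cancel _ h'
  · rintro r ⟨h1, h2⟩
    refine ⟨neg (w • r), ⟨(hneg _).2 h2, ?_⟩, ?_⟩
    · rw [hwneg, inv_smul_smul, hneg]
      exact not_not.2 h1
    · show neg (w⁻¹ • neg (w • r)) = r
      rw [hwneg, inv_smul_smul, hnn]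

theorem invN_refl_mul (hneg : ∀ r, pos (neg r) ↔ ¬ pos r) (hwneg : ∀ (w : W) r, w • neg r = neg (w • r))
    (hnn : ∀ r, neg (neg r) = r)
    (σ : W) (a : Φ) (hσ : σ * σ = 1) (ha : pos a)
    (hσa : σ • a = neg a) (hσpos : ∀ r, pos r → r ≠ a → pos (σ • r)) (w : W) :
    (pos (w⁻¹ • a) → invN pos (σ * w) = invN pos w + 1) ∧
      (¬ pos (w⁻¹ • a) → invN pos (σ * w) + 1 = invN pos w) := by
  have hσi : σ⁻¹ = σ := inv_eq_of_mul_eq_one_right hσ
  have e : invN pos (σ * w) = invN pos (w⁻¹ * σ) := by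
    rw [← invN_inv hneg hwneg hnn (σ * w), mul_inv_rev, hσi]
  rw [e, ← invN_inv hneg hwneg hnn w]
  exact invN_mul_refl hneg hwneg σ a hσ ha hσa hσpos w⁻¹

/-- the Poincare sum of a subset of `W` -/
noncomputable def poin [Finite W] (pos : Φ → Prop) (q : ℕ) (K : Set W) : ℕ :=
  ∑ w ∈ (Set.toFinite K).toFinset, q ^ invN pos w

theorem poin_step [Finite W] (hneg : ∀ r, pos (neg r) ↔ ¬ pos r)
    (hwneg : ∀ (w : W) r, w • neg r = neg (w • r))
    {I : Type*} (σ : I → W) (a : I → Φ) (J : Set I)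
    (hσ : ∀ j ∈ J, σ j * σ j = 1)
    (ha : ∀ j ∈ J, pos (a j))
    (hσa : ∀ j ∈ J, σ j • a j = neg (a j))
    (hσpos : ∀ j ∈ J, ∀ r, pos r → r ≠ a j → pos (σ j • r))
    (p₀ : Φ → ℤ) (hp₀pos : ∀ r, pos r → 0 ≤ p₀ r) (hp₀neg : ∀ r, p₀ (neg r) = - p₀ r)
    {Λ : Type*} (f : W → Λ) (p : Λ → Φ → ℤ) (hp : ∀ w r, p (f w) r = p₀ (w • r))
    (ρ : I → Λ → Λ) (hρ : ∀ j ∈ J, ∀ w, f (w * σ j) = ρ j (f w))
    (hH : ∀ j ∈ J, ∀ w, p (f w) (a j) = 0 → f (w * σ j) = f w)
    (q : ℕ) (hq : 0 < q) :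
    poin pos q (Subgroup.closure (σ '' J) : Set W) =
      poin pos q {w | w ∈ Subgroup.closure (σ '' J) ∧ f w = f 1} *
        ∑ l ∈ ((Set.toFinite (Subgroup.closure (σ '' J) : Set W)).image f).toFinset, q ^ negN pos (p l) := by
  classical
  set K := Subgroup.closure (σ '' J) with hK
  have hσK : ∀ j ∈ J, σ j ∈ K := fun j hj => Subgroup.subset_closure ⟨j, hj, rfl⟩
  -- sign facts
  have hp₀pos' : ∀ r, 0 < p₀ r → pos r := by
    intro r hr
    by_contra h
    have := hp₀pos _ ((hneg r).2 h)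
    rw [hp₀neg] at this
    omega
  have hp₀neg' : ∀ r, p₀ r < 0 → ¬ pos r := by
    intro r hr h
    have := hp₀pos r h
    omega
  let g : Λ → ℕ := fun l => poin pos q {w | w ∈ K ∧ f w = l}
  have hpf : ∀ w, p (f w) = fun r => p₀ (w • r) := fun w => funext (hp w)
  -- the fibre sums
  have hfib : ∀ w ∈ K, ∀ j ∈ J,
      g (f (w * σ j)) = ∑ v ∈ (Set.toFinite {v | v ∈ K ∧ f v = f w}).toFinset, q ^ invN pos (v * σ j) := by
    intro w _ j hj
    show poin pos q _ = _
    unfold poin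
    symm
    apply Finset.sum_nbij' (fun v => v * σ j) (fun v => v * σ j)
    · intro v hv
      simp only [Set.Finite.mem_toFinset, Set.mem_setOf_eq] at hv ⊢
      exact ⟨mul_mem hv.1 (hσK j hj), by rw [hρ j hj, hρ j hj, hv.2]⟩
    · intro v hv
      simp only [Set.Finite.mem_toFinset, Set.mem_setOf_eq] at hv ⊢
      refine ⟨mul_mem hv.1 (hσK j hj), ?_⟩
      have := hρ j hj (v)
      rw [this, hv.2, ← hρ j hj, mul_assoc, hσ j hj, mul_one]
    · intro v _
      rw [mul_assoc, hσ j hj, mul_one]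
    · intro v _
      rw [mul_assoc, hσ j hj, mul_one]
    · intro v _
      rfl
  have hstep : ∀ w ∈ K, ∀ j ∈ J, g (f w) = q ^ negN pos (p (f w)) * g (f 1) →
      g (f (w * σ j)) = q ^ negN pos (p (f (w * σ j))) * g (f 1) := by
    intro w hw j hj ih
    obtain ⟨n1, n2, n3⟩ := negN_mul_refl hneg hwneg (σ j) (a j) (hσ j hj) (ha j hj) (hσa j hj)
      (hσpos j hj) p₀ hp₀neg w
    rcases lt_trichotomy (p₀ (w • a j)) 0 with hlt | heq | hgt
    · -- negative: lengths go down
      have e1 : q * g (f (w * σ j)) = g (f w) := by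
        rw [hfib w hw j hj, Finset.mul_sum]
        show _ = poin pos q _
        unfold poin
        apply Finset.sum_congr rfl
        intro v hv
        simp only [Set.Finite.mem_toFinset, Set.mem_setOf_eq] at hv
        have hva : ¬ pos (v • a j) := by
          apply hp₀neg'
          rw [← hp, hv.2, hp]
          exact hlt
        have := (invN_mul_refl hneg hwneg (σ j) (a j) (hσ j hj) (ha j hj) (hσa j hj) (hσpos j hj) v).2 hva
        rw [← this, pow_succ, mul_comm]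
      have e2 : negN pos (p (f (w * σ j))) + 1 = negN pos (p (f w)) := by
        rw [hpf, hpf]
        exact n2 hlt
      apply Nat.eq_of_mul_eq_mul_left hq
      rw [e1, ih, ← e2, pow_succ]
      ring
    · rw [hH j hj w (by rw [hp]; exact heq)]
      exact ih
    · have e1 : g (f (w * σ j)) = q * g (f w) := by
        rw [hfib w hw j hj]
        show _ = q * poin pos q _
        unfold poin
        rw [Finset.mul_sum]
        apply Finset.sum_congr rfl
        intro v hv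
        simp only [Set.Finite.mem_toFinset, Set.mem_setOf_eq] at hv
        have hva : pos (v • a j) := by
          apply hp₀pos'
          rw [← hp, hv.2, hp]
          exact hgt
        rw [(invN_mul_refl hneg hwneg (σ j) (a j) (hσ j hj) (ha j hj) (hσa j hj) (hσpos j hj) v).1 hva,
          pow_succ, mul_comm]
      have e2 : negN pos (p (f (w * σ j))) = negN pos (p (f w)) + 1 := by
        rw [hpf, hpf]
        exact n1 hgt
      rw [e1, ih, e2, pow_succ]
      ring
  have hall : ∀ w ∈ K, g (f w) = q ^ negN pos (p (f w)) * g (f 1) := by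
    intro w hw
    induction hw using Subgroup.closure_induction_right with
    | one =>
      have : negN pos (p (f 1)) = 0 := by
        unfold negN
        rw [Set.ncard_eq_zero (Set.toFinite _)]
        ext r
        simp only [Set.mem_setOf_eq, Set.mem_empty_iff_false, iff_false, not_and, not_lt]
        intro hr
        rw [hp, one_smul]
        exact hp₀pos r hr
      rw [this, pow_zero, one_mul]
    | mul_right x hx y hy ih =>
      obtain ⟨j, hj, rfl⟩ := hy
      exact hstep x hx j hj ih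
    | mul_inv_cancel x hx y hy ih =>
      obtain ⟨j, hj, rfl⟩ := hy
      have : (σ j)⁻¹ = σ j := inv_eq_of_mul_eq_one_right (hσ j hj)
      rw [this]
      exact hstep x hx j hj ih
  -- fibrewise summation
  have hsum : poin pos q (K : Set W) =
      ∑ l ∈ ((Set.toFinite (K : Set W)).image f).toFinset, g l := by
    unfold poin
    rw [← Finset.sum_fiberwise_of_maps_to (s := (Set.toFinite (K : Set W)).toFinset)
      (t := ((Set.toFinite (K : Set W)).image f).toFinset) (g := f)]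
    · apply Finset.sum_congr rfl
      intro l _
      show _ = poin pos q _
      unfold poin
      apply Finset.sum_congr _ (fun _ _ => rfl)
      ext w
      simp
    · intro w hw
      simp only [Set.Finite.mem_toFinset, SetLike.mem_coe, Set.mem_image] at hw ⊢
      exact ⟨w, hw, rfl⟩
  rw [hsum, Finset.mul_sum]
  apply Finset.sum_congr rfl
  intro l hl
  simp only [Set.Finite.mem_toFinset, Set.mem_image, SetLike.mem_coe] at hl
  obtain ⟨w, hw, rfl⟩ := hl
  rw [hall w hw, mul_comm]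

end poin

end Cfsg.Agent.Lib.Helper36
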