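import Cfsg.Agent.Lib.Helper36.ChevBN
import Cfsg.Agent.Lib.Helper36.WeylPoin

/-! # The Weyl group acting on the roots; Poincare sums along a parabolic chain (helper36) -/

set_option autoImplicit false
set_option maxRecDepth 100000

namespace Cfsg.Agent.Lib.Helper36

open Cfsg Cfsg.Lie Cfsg.Agent.Lib.Helper18

/-- no root is both positive and negative; a positive root supported on one fundamental root is fundamental;
distinct roots have distinct coroot coordinates -/
def chkOnly (D : ChevalleyDatum) : Bool :=
  (List.range D.nroots).all fun r =>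
    !(decide (D.IsPosRoot r) && decide (D.IsNegRoot r)) &&
    ((List.range D.rank).all fun i =>
      !(decide (D.IsPosRoot r)) || r == D.simple i ||
        (List.range D.rank).any fun j => j != i && corF D r j != 0) &&
    ((List.range r).all fun r' => (List.range D.rank).any fun j => corF D r j != corF D r' j)

theorem chkOnly_G2 : chkOnly chevG2 = true := by decide +kernel
theorem chkOnly_B2 : chkOnly chevB2 = true := by decide +kernel
theorem chkOnly_D4 : chkOnly chevD4 = true := by decide +kernel
theorem chkOnly_F4 : chkOnly chevF4 = true := by decide +kernel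
theorem chkOnly_E6 : chkOnly chevE6 = true := by decide +kernel
theorem chkOnly_E7 : chkOnly chevE7 = true := by decide +kernel
theorem chkOnly_E8 : chkOnly chevE8 = true := by decide +kernel

variable (D : ChevalleyDatum) (hD : D ∈ [chevG2, chevB2, chevD4, chevF4, chevE6, chevE7, chevE8])

include hD in
theorem chkOnly_all : chkOnly D = true :=
  seven_cases (P := fun D => chkOnly D = true) D hD chkOnly_G2 chkOnly_B2 chkOnly_D4 chkOnly_F4 chkOnly_E6
    chkOnly_E7 chkOnly_E8

include hD in
theorem corF_eq_cor (r j : ℕ) (hr : r < D.nroots) (hj : j < D.rank) : corF D r j = cor D r j := by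
  unfold corF cor
  exact fast_coroot D (wfFast_all D hD) r j hr hj

include hD in
theorem not_pos_and_neg (r : ℕ) (hp : D.IsPosRoot r) (hn : D.IsNegRoot r) : False := by
  have h := chkOnly_all D hD
  unfold chkOnly at h
  rw [List.all_eq_true] at h
  have := h r (List.mem_range.2 hp.1)
  simp only [Bool.and_eq_true, Bool.not_eq_true', Bool.and_eq_false_iff, decide_eq_false_iff_not] at this
  rcases this.1.1 with h1 | h1
  · exact h1 hp
  · exact h1 hn

include hD in
theorem exists_cor_ne (r i : ℕ) (hi : i < D.rank) (hp : D.IsPosRoot r) (hne : r ≠ D.simple i) :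
    ∃ j < D.rank, j ≠ i ∧ 0 < cor D r j := by
  have h := chkOnly_all D hD
  unfold chkOnly at h
  rw [List.all_eq_true] at h
  have := h r (List.mem_range.2 hp.1)
  simp only [Bool.and_eq_true, List.all_eq_true, Bool.or_eq_true, Bool.not_eq_true', decide_eq_false_iff_not,
    beq_iff_eq, List.any_eq_true, bne_iff_ne, ne_eq, List.mem_range] at this
  rcases this.1.2 i hi with (h1 | h1) | ⟨j, hj, hji, hc⟩
  · exact absurd hp h1
  · exact absurd h1 hne
  · refine ⟨j, hj, hji, ?_⟩
    rw [corF_eq_cor D hD r j hp.1 hj] at hc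
    have := (isPosRoot_iff D (wfFast_all D hD) r hp.1).1 hp j hj
    omega

include hD in
theorem cor_injective (r r' : ℕ) (hr : r < D.nroots) (hr' : r' < D.nroots)
    (h : ∀ j < D.rank, cor D r j = cor D r' j) : r = r' := by
  have hc := chkOnly_all D hD
  unfold chkOnly at hc
  rw [List.all_eq_true] at hc
  by_contra hne
  rcases Nat.lt_or_gt_of_ne hne with hlt | hlt
  · have := hc r' (List.mem_range.2 hr')
    simp only [Bool.and_eq_true, List.all_eq_true, List.any_eq_true, bne_iff_ne, ne_eq, List.mem_range] at this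
    obtain ⟨j, hj, hcj⟩ := this.2 r hlt
    rw [corF_eq_cor D hD r' j hr' hj, corF_eq_cor D hD r j hr hj] at hcj
    exact hcj (h j hj).symm
  · have := hc r (List.mem_range.2 hr)
    simp only [Bool.and_eq_true, List.all_eq_true, List.any_eq_true, bne_iff_ne, ne_eq, List.mem_range] at this
    obtain ⟨j, hj, hcj⟩ := this.2 r' hlt
    rw [corF_eq_cor D hD r' j hr' hj, corF_eq_cor D hD r j hr hj] at hcj
    exact hcj (h j hj)

include hD in
/-- a fundamental reflection permutes the other positive roots -/
theorem reflect_pos (i r : ℕ) (hi : i < D.rank) (hp : D.IsPosRoot r) (hne : r ≠ D.simple i) :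
    D.IsPosRoot (D.reflectRoot i r) := by
  obtain ⟨j, hj, hji, hc⟩ := exists_cor_ne D hD r i hi hp hne
  have hlt := reflectRoot_lt D hD i r hi hp.1
  rcases pos_or_neg D hD _ hlt with h | h
  · exact h
  · exfalso
    have h1 := (isNegRoot_iff D (wfFast_all D hD) _ hlt).1 h j hj
    rw [cor_reflect D hD i r j hi hp.1 hj, if_neg hji] at h1
    omega

section act
variable (M : CoxeterMatrix (Fin D.rank)) (A : Matrix (Fin D.rank) (Fin D.rank) ℤ)
  (hA : M.IsLiftable (reflMat A))
  (hAc : ∀ i j : Fin D.rank, A i j = D.cartan j (D.simple i))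

include hD in
theorem wFin_wFin_apply (i : Fin D.rank) (r : Fin D.nroots) : wFin D i (wFin D i r) = r := by
  obtain ⟨-, -, -, -, hs'⟩ := chkN2_spec D (chkN2_all D hD) i i.isLt
  apply Fin.ext
  rw [wFin_val D (chkN2_all D hD) i i.isLt, wFin_val D (chkN2_all D hD) i i.isLt]
  exact (hs' r r.isLt).2.2.2.2.2.1

include hD in
theorem wFin_eq_reflect (i : Fin D.rank) (r : Fin D.nroots) :
    ((wFin D i r : Fin D.nroots) : ℕ) = D.reflectRoot i r := by
  obtain ⟨-, -, -, -, hs'⟩ := chkN2_spec D (chkN2_all D hD) i i.isLt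
  rw [wFin_val D (chkN2_all D hD) i i.isLt]
  exact (hs' r r.isLt).2.1

/-- the fundamental reflection as a permutation of the roots -/
def wEquiv (i : Fin D.rank) : Equiv.Perm (Fin D.nroots) where
  toFun := wFin D i
  invFun := wFin D i
  left_inv := wFin_wFin_apply D hD i
  right_inv := wFin_wFin_apply D hD i

include hD hAc in
theorem cvec_wFin (i : Fin D.rank) (r : Fin D.nroots) :
    cvec D (wFin D i r) = Matrix.vecMul (cvec D r) (reflMat A i) := by
  rw [wFin_eq_reflect D hD i r]
  exact cvec_reflect D hD A hAc i r r.isLt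

include hD in
theorem cvec_injective (r r' : Fin D.nroots) (h : cvec D r = cvec D r') : r = r' := by
  apply Fin.ext
  apply cor_injective D hD r r' r.isLt r'.isLt
  intro j hj
  exact congrFun h ⟨j, hj⟩

include hA hAc in
theorem wEquiv_liftable : M.IsLiftable (wEquiv D hD) := by
  intro i j
  have key : ∀ (m : ℕ) (r : Fin D.nroots), cvec D (((wEquiv D hD i * wEquiv D hD j) ^ m) r) =
      Matrix.vecMul (cvec D r) ((reflMat A j * reflMat A i) ^ m) := by
    intro m
    induction m with
    | zero => intro r; simp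
    | succ m ih =>
      intro r
      rw [pow_succ, Equiv.Perm.mul_apply, ih, pow_succ', ← Matrix.vecMul_vecMul]
      congr 1
      show cvec D (wFin D i (wFin D j r)) = _
      rw [cvec_wFin D hD A hAc, cvec_wFin D hD A hAc, Matrix.vecMul_vecMul]
  ext r
  congr 1
  apply cvec_injective D hD
  have h1 := key (M i j) r
  have h2 := hA j i
  rw [← M.symmetric i j] at h2
  rw [h1, h2, Matrix.vecMul_one]
  rfl

/-- the Weyl group acting on the root indices -/
noncomputable def piW : M.Group →* Equiv.Perm (Fin D.nroots) :=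
  M.toCoxeterSystem.lift ⟨wEquiv D hD, wEquiv_liftable D hD M A hA hAc⟩

theorem piW_simple (i : Fin D.rank) (r : Fin D.nroots) :
    piW D hD M A hA hAc (M.simple i) r = wFin D i r := by
  unfold piW
  have := M.toCoxeterSystem.lift_apply_simple (wEquiv_liftable D hD M A hA hAc) i
  rw [show M.simple i = M.toCoxeterSystem.simple i from rfl, this]
  rfl

theorem cvec_piW (w : M.Group) (r : Fin D.nroots) :
    cvec D (piW D hD M A hA hAc w r) = Matrix.vecMul (cvec D r) (rho M A hA w⁻¹) := by
  induction w using M.toCoxeterSystem.simple_induction_left generalizing r with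
  | one => simp
  | mul_simple_left w i ih =>
    rw [map_mul, Equiv.Perm.mul_apply]
    show cvec D (piW D hD M A hA hAc (M.simple i) _) = _
    rw [piW_simple, cvec_wFin D hD A hAc, ih, Matrix.vecMul_vecMul, mul_inv_rev, map_mul]
    congr 2
    show _ = rho M A hA (M.simple i)⁻¹
    rw [simple_inv, rho_simple]

theorem piW_wordProd (ω : List (Fin D.rank)) (r : Fin D.nroots) :
    piW D hD M A hA hAc (M.toCoxeterSystem.wordProd ω) r = wPerm D (ω.map Fin.val) r := by
  induction ω with
  | nil => simp [wPerm]
  | cons i ω ih =>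
    rw [CoxeterSystem.wordProd_cons, map_mul, Equiv.Perm.mul_apply, ih]
    show piW D hD M A hA hAc (M.simple i) _ = _
    rw [piW_simple]
    rfl

/-- `-r` as a root index -/
def negFin (r : Fin D.nroots) : Fin D.nroots := ⟨D.neg r, wf_neg D (wf_all D hD) r r.isLt⟩

theorem cvec_negFin (r : Fin D.nroots) : cvec D (negFin D hD r) = - cvec D r := by
  funext j
  exact cor_neg D hD r r.isLt j j.isLt

theorem piW_negFin (w : M.Group) (r : Fin D.nroots) :
    piW D hD M A hA hAc w (negFin D hD r) = negFin D hD (piW D hD M A hA hAc w r) := by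
  apply cvec_injective D hD
  rw [cvec_piW, cvec_negFin, cvec_negFin, cvec_piW, Matrix.neg_vecMul]

theorem pos_negFin (r : Fin D.nroots) : D.IsPosRoot (negFin D hD r) ↔ ¬ D.IsPosRoot r := by
  constructor
  · intro h h'
    have h1 := (isPosRoot_iff D (wfFast_all D hD) _ (negFin D hD r).isLt).1 h
    have h2 := (isPosRoot_iff D (wfFast_all D hD) _ r.isLt).1 h'
    apply not_pos_and_neg D hD r h'
    rw [isNegRoot_iff D (wfFast_all D hD) _ r.isLt]
    intro j hj
    have := h1 j hj
    rw [show ((negFin D hD r : Fin D.nroots) : ℕ) = D.neg r from rfl, cor_neg D hD r r.isLt j hj] at this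
    omega
  · intro h
    rcases pos_or_neg D hD r r.isLt with h' | h'
    · exact absurd h' h
    · exact isPosRoot_neg D hD r h'

/-- the action of the Weyl group on the root indices -/
noncomputable def rootAct : MulAction M.Group (Fin D.nroots) :=
  MulAction.compHom _ (piW D hD M A hA hAc)

/-- the Poincare sum `∑_{w ∈ K} q^{N(w)}` -/
noncomputable def poinW (hfin : Finite M.Group) (q : ℕ) (K : Set M.Group) : ℕ :=
  @poin M.Group _ (Fin D.nroots) (rootAct D hD M A hA hAc) hfin (fun r => D.IsPosRoot r) q K

/-- the number of positive roots on which the weight `v` is negative -/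
noncomputable def negCnt (v : Fin D.rank → ℤ) : ℕ :=
  {r : Fin D.nroots | D.IsPosRoot r ∧ cvec D r ⬝ᵥ v < 0}.ncard

include hD in
theorem simple_pos (i : ℕ) (hi : i < D.rank) : D.IsPosRoot (D.simple i) := by
  have hp := (chkN2_spec D (chkN2_all D hD) i hi).1
  rw [isPosRoot_iff D (wfFast_all D hD) _ hp]
  intro j hj
  rw [cor_simple D hD i j hi hj]
  split_ifs <;> omega

include hD in
theorem cvec_simple (j : Fin D.rank) : cvec D (D.simple j) = Pi.single j 1 := by
  funext k
  show cor D (D.simple j) k = _
  rw [cor_simple D hD j k j.isLt k.isLt]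
  simp [Pi.single_apply, Fin.ext_iff]

theorem gens_eq_image (J : List (Fin D.rank)) : gens M J = M.simple '' {j | j ∈ J} := by
  ext x
  constructor
  · rintro ⟨j, hj, rfl⟩
    exact ⟨j, hj, rfl⟩
  · rintro ⟨j, hj, rfl⟩
    exact ⟨j, hj, rfl⟩

theorem level_poin (hfin : Finite M.Group) (k : Fin D.rank) (J J' : List (Fin D.rank)) (hJ' : gens M J' ⊆ gens M J)
    (base : Fin D.rank → ℤ) (hbase : base = Pi.single k 1)
    (reps : List M.Group) (h1 : (1 : M.Group) ∈ reps)
    (hP : ∀ u ∈ reps, u ∈ Subgroup.closure (gens M J) ∧ ∀ x ∈ gens M J,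
      ∃ h ∈ Subgroup.closure (gens M J'), ∃ u' ∈ reps, u * x = h * u')
    (hfix : ∀ h ∈ gens M J', ∀ w, fvec M A hA base (h * w) = fvec M A hA base w)
    (vecs : List (Fin D.rank → ℤ)) (hmap : reps.map (fvec M A hA base) = vecs)
    (hnd : (reps.map (fvec M A hA base)).Nodup)
    (q : ℕ) (hq : 0 < q) :
    poinW D hD M A hA hAc hfin q (Subgroup.closure (gens M J) : Set M.Group) =
      poinW D hD M A hA hAc hfin q (Subgroup.closure (gens M J') : Set M.Group) *
        (vecs.map fun v => q ^ negCnt D v).sum := by
  let _ := rootAct D hD M A hA hAc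
  have hsm : ∀ (w : M.Group) (r : Fin D.nroots), w • r = piW D hD M A hA hAc w r := fun _ _ => rfl
  have hfw : ∀ w : M.Group, ∀ r : Fin D.nroots,
      cvec D r ⬝ᵥ fvec M A hA base w = cor D ((w • r : Fin D.nroots) : ℕ) k := by
    intro w r
    unfold fvec
    rw [Matrix.dotProduct_mulVec, ← cvec_piW D hD M A hA hAc, hbase, dotProduct_single, mul_one, hsm]
    rfl
  have hstep := poin_step (W := M.Group) (Φ := Fin D.nroots) (pos := fun r => D.IsPosRoot r)
    (neg := negFin D hD) (pos_negFin D hD)
    (fun w r => by rw [hsm, hsm]; exact piW_negFin D hD M A hA hAc w r)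
    (σ := M.simple) (a := fun i => ⟨D.simple i, (chkN2_spec D (chkN2_all D hD) i i.isLt).1⟩)
    {j | j ∈ J}
    (fun j _ => simple_sq M j)
    (fun j _ => simple_pos D hD j j.isLt)
    (fun j _ => by
      rw [hsm, piW_simple]
      apply Fin.ext
      rw [wFin_eq_reflect D hD]
      exact reflectRoot_simple D j)
    (fun j _ r hr hne => by
      rw [hsm, piW_simple, wFin_eq_reflect D hD]
      exact reflect_pos D hD j r j.isLt hr (fun h => hne (Fin.ext h)))
    (fun r => cor D (r : ℕ) k)
    (fun r hr => (isPosRoot_iff D (wfFast_all D hD) r r.isLt).1 hr k k.isLt)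
    (fun r => cor_neg D hD r r.isLt k k.isLt)
    (fvec M A hA base) (fun v r => cvec D r ⬝ᵥ v) hfw
    (fun j => Cfsg.Agent.Lib.Helper18.reflVec A j)
    (fun j _ w => fvec_mul_simple M A hA base w j)
    (fun j _ w h0 => by
      rw [fvec_mul_simple]
      have h0' : cvec D (D.simple j) ⬝ᵥ fvec M A hA base w = 0 := h0
      rw [cvec_simple D hD j, single_dotProduct, one_mul] at h0'
      funext j'
      simp [Cfsg.Agent.Lib.Helper18.reflVec, h0'])
    q hq
  rw [← gens_eq_image] at hstep
  have hker := level_ker (gens M J) (gens M J') (gens_inv M J) reps h1 (fun u hu => (hP u hu).2)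
    (fvec M A hA base) hfix hnd
  have hfixc := fix_closure (gens M J') (fvec M A hA base) hfix
  have hsurj := surj_closure (gens M J) (gens M J') (gens_inv M J) reps h1 (fun u hu => (hP u hu).2)
  have hset : {w | w ∈ Subgroup.closure (gens M J) ∧ fvec M A hA base w = fvec M A hA base 1} =
      (Subgroup.closure (gens M J') : Set M.Group) := by
    ext w
    constructor
    · rintro ⟨h1, h2⟩
      exact hker w h1 h2
    · intro hw
      refine ⟨Subgroup.closure_mono hJ' hw, ?_⟩
      have := hfixc w hw 1
      rwa [mul_one] at this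
  have himg : ((Set.toFinite (Subgroup.closure (gens M J) : Set M.Group)).image
      (fvec M A hA base)).toFinset = vecs.toFinset := by
    ext v
    simp only [Set.Finite.mem_toFinset, Set.mem_image, SetLike.mem_coe, List.mem_toFinset]
    constructor
    · rintro ⟨w, hw, rfl⟩
      obtain ⟨h, hh, u, hu, rfl⟩ := hsurj w hw
      rw [hfixc h hh, ← hmap]
      exact List.mem_map.2 ⟨u, hu, rfl⟩
    · intro hv
      rw [← hmap] at hv
      obtain ⟨u, hu, rfl⟩ := List.mem_map.1 hv
      exact ⟨u, (hP u hu).1, rfl⟩
  unfold poinW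
  rw [hstep, hset, himg, List.sum_toFinset _ (hmap ▸ hnd)]
  rfl

theorem poinW_bot (hfin : Finite M.Group) (q : ℕ) :
    poinW D hD M A hA hAc hfin q ((⊥ : Subgroup M.Group) : Set M.Group) = 1 := by
  let _ := rootAct D hD M A hA hAc
  unfold poinW poin
  have : (Set.toFinite ((⊥ : Subgroup M.Group) : Set M.Group)).toFinset = {1} := by
    ext w
    simp
  rw [this, Finset.sum_singleton]
  have h0 : invN (fun r : Fin D.nroots => D.IsPosRoot r) (1 : M.Group) = 0 := by
    unfold invN
    rw [Set.ncard_eq_zero (Set.toFinite _)]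
    ext r
    simp
  rw [h0, pow_zero]

end act

/-! ### computing the orbit exponents -/

theorem ncard_fin_eq_countP (n : ℕ) (P : ℕ → Prop) [DecidablePred P] :
    {r : Fin n | P r}.ncard = (List.range n).countP (fun r => decide (P r)) := by
  classical
  rw [Set.ncard_eq_toFinset_card']
  have h1 : {r : Fin n | P r}.toFinset = Finset.univ.filter (fun r : Fin n => P r) := by
    ext r; simp
  rw [h1]
  have h2 : ((Finset.univ.filter (fun r : Fin n => P r)).map Fin.valEmbedding) = (Finset.range n).filter P := by
    ext r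
    simp only [Finset.mem_map, Finset.mem_filter, Finset.mem_univ, true_and, Fin.valEmbedding_apply,
      Finset.mem_range]
    constructor
    · rintro ⟨a, ha, rfl⟩
      exact ⟨a.isLt, ha⟩
    · rintro ⟨h, hp⟩
      exact ⟨⟨r, h⟩, hp, rfl⟩
  rw [← Finset.card_map Fin.valEmbedding, h2]
  rw [List.countP_eq_length_filter]
  rfl

/-- dot product of two integer lists -/
def dotL : List ℤ → List ℤ → ℤ
  | a :: as, b :: bs => a * b + dotL as bs
  | _, _ => 0

theorem dotL_eq (n : ℕ) (c : ℕ → ℤ) (v : Fin n → ℤ) :
    dotL ((List.range n).map c) (List.ofFn v) = ∑ j : Fin n, c j * v j := by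
  induction n generalizing c with
  | zero => simp [dotL]
  | succ n ih =>
    rw [List.range_succ_eq_map, List.map_cons, List.ofFn_succ, dotL, List.map_map, Fin.sum_univ_succ]
    congr 1
    exact ih (c ∘ Nat.succ) (fun i => v i.succ)

/-- the coroot coordinate rows of the positive roots -/
def posRows : List (List ℤ) :=
  ((List.range D.nroots).filter fun r => decide (D.IsPosRoot r)).map fun r => (List.range D.rank).map (cor D r)

/-- the number of rows with negative dot product with `v` -/
def cntNeg (rows : List (List ℤ)) (v : List ℤ) : ℕ := rows.countP fun row => decide (dotL row v < 0)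

theorem negCnt_eq (v : Fin D.rank → ℤ) : negCnt D v = cntNeg (posRows D) (List.ofFn v) := by
  unfold negCnt cntNeg posRows
  rw [List.countP_map, List.countP_filter]
  have := ncard_fin_eq_countP D.nroots (fun r => D.IsPosRoot r ∧ (∑ j : Fin D.rank, cor D r j * v j) < 0)
  rw [← List.countP_congr (l := List.range D.nroots)
    (p := fun r => decide (D.IsPosRoot r ∧ (∑ j : Fin D.rank, cor D r j * v j) < 0)), ← this]
  · rfl
  · intro r _
    simp only [Function.comp_apply, dotL_eq, Bool.and_eq_true, decide_eq_true_eq, and_comm]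

theorem map_negCnt (vecs : List (Fin D.rank → ℤ)) (q : ℕ) :
    (vecs.map fun v => q ^ negCnt D v).sum =
      ((vecs.map fun v => cntNeg (posRows D) (List.ofFn v)).map fun e => q ^ e).sum := by
  rw [List.map_map]
  congr 1
  apply List.map_congr_left
  intro v _
  rw [Function.comp_apply, negCnt_eq]

/-! ### versions with the rank as a numeral -/

section gen
variable (n : ℕ) (hn : D.rank = n) (M : CoxeterMatrix (Fin n)) (A : Matrix (Fin n) (Fin n) ℤ)
  (hA : M.IsLiftable (reflMat A))
  (hAc : ∀ i j : Fin n, A i j = D.cartan j (D.simple i)) (hfin : Finite M.Group)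

/-- the Poincare sum `∑_{w ∈ K} q^{N(w)}` -/
noncomputable def poinW' (q : ℕ) (K : Set M.Group) : ℕ := by
  subst hn
  exact poinW D hD M A hA hAc hfin q K

theorem level_poin' (k : Fin n) (J J' : List (Fin n)) (hJ' : gens M J' ⊆ gens M J)
    (base : Fin n → ℤ) (hbase : base = Pi.single k 1)
    (reps : List M.Group) (h1 : (1 : M.Group) ∈ reps)
    (hP : ∀ u ∈ reps, u ∈ Subgroup.closure (gens M J) ∧ ∀ x ∈ gens M J,
      ∃ h ∈ Subgroup.closure (gens M J'), ∃ u' ∈ reps, u * x = h * u')
    (hfix : ∀ h ∈ gens M J', ∀ w, fvec M A hA base (h * w) = fvec M A hA base w)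
    (vecs : List (Fin n → ℤ)) (hmap : reps.map (fvec M A hA base) = vecs)
    (hnd : (reps.map (fvec M A hA base)).Nodup)
    (q : ℕ) (hq : 0 < q) :
    poinW' D hD n hn M A hA hAc hfin q (Subgroup.closure (gens M J) : Set M.Group) =
      poinW' D hD n hn M A hA hAc hfin q (Subgroup.closure (gens M J') : Set M.Group) *
        ((vecs.map fun v => cntNeg (posRows D) (List.ofFn v)).map fun e => q ^ e).sum := by
  subst hn
  rw [← map_negCnt]
  exact level_poin D hD M A hA hAc hfin k J J' hJ' base hbase reps h1 hP hfix vecs hmap hnd q hq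

theorem poinW'_bot (q : ℕ) :
    poinW' D hD n hn M A hA hAc hfin q ((⊥ : Subgroup M.Group) : Set M.Group) = 1 := by
  subst hn
  exact poinW_bot D hD M A hA hAc hfin q

end gen

end Cfsg.Agent.Lib.Helper36
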