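import Cfsg.Agent.Lib.Helper36.ChevFieldFix2
import Cfsg.Agent.Lib.Helper36.ChevW0d
import Cfsg.Agent.Lib.Helper36.ChevUN
import Cfsg.Agent.Lib.Helper36.ChevPoin
import Cfsg.Agent.S0312

/-! # The centraliser of the root elements `x_r(1)` in a Chevalley group is trivial (helper36) -/

set_option autoImplicit false

namespace Cfsg.Agent.Lib.Helper36

open Cfsg Cfsg.Lie Cfsg.Agent.Lib.Helper18

variable (D : ChevalleyDatum) (hD : D ∈ [chevG2, chevB2, chevD4, chevF4, chevE6, chevE7, chevE8])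
variable (F : Type*) [Field F]

include hD in
/-- the Bruhat normal form `g = b n_l u` with `u ∈ U_w⁻` -/
theorem bruhat_form (g : GL D.Idx F) (hg : g ∈ D.group F) :
    ∃ l : List ℕ, (∀ i ∈ l, i < D.rank) ∧ ∃ b ∈ D.borelSubgroup F, ∃ u ∈ Subgroup.closure (sGens D F l),
      g = b * nWordGL D hD F l * u := by
  have h45 : ∀ i < D.rank, H45 D F i := fun i hi => Cfsg.Agent.S1045.result D hD i hi
  obtain ⟨P, hB, hN, -⟩ := exists_bnPair D hD F h45
  obtain ⟨n, hn, hgn⟩ := Cfsg.Agent.S0308.result P ⟨g, hg⟩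
  rw [hN, Subgroup.mem_subgroupOf] at hn
  rw [DoubleCoset.mem_doubleCoset] at hgn
  obtain ⟨x, hx, y, hy, e⟩ := hgn
  rw [SetLike.mem_coe, hB, Subgroup.mem_subgroupOf] at hx hy
  have e' : g = (x : GL D.Idx F) * (n : GL D.Idx F) * (y : GL D.Idx F) := congrArg Subtype.val e
  obtain ⟨l, hl, h, hh, hnl⟩ := isNWordH_of_mem D hD F _ hn
  have hHB : D.diagonalSubgroup F ≤ D.borelSubgroup F := by
    unfold ChevalleyDatum.borelSubgroup; exact le_sup_right
  obtain ⟨b, hb, u, hu, e2⟩ := cell_form D hD F l hl (nWordGL D hD F l) (nWordGL_mem D hD F l hl)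
    (actsBy_nWordGL D hD F l hl) x (h * y) hx (mul_mem (hHB hh) hy)
  refine ⟨l, hl, b, hb, u, hu, ?_⟩
  rw [e', hnl, ← e2]; group

include hD in
/-- an element commuting with all `x_r(1)`, `r` positive, lies in `B n` with `n` preserving the positive roots -/
theorem cent_step1 (g : GL D.Idx F) (hg : g ∈ D.group F)
    (hc : ∀ r, D.IsPosRoot r → g * xGL D hD F r 1 = xGL D hD F r 1 * g) :
    ∃ l : List ℕ, (∀ i ∈ l, i < D.rank) ∧ (∀ s, D.IsPosRoot s → D.IsPosRoot (wRoot D l s)) ∧
      ∃ b ∈ D.borelSubgroup F, g = b * nWordGL D hD F l := by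
  obtain ⟨l, hl, b, hb, u, hu, e⟩ := bruhat_form D hD F g hg
  have hUB : D.posUnipotent F ≤ D.borelSubgroup F := by
    unfold ChevalleyDatum.borelSubgroup; exact le_sup_left
  have hnone : ∀ s, D.IsPosRoot s → ¬ D.IsNegRoot (wRoot D l s) := by
    intro s hs hneg
    have hx : xGL D hD F s 1 ∈ Subgroup.closure (sGens D F l) :=
      Subgroup.subset_closure ⟨s, 1, hs, hneg, xGL_coe D hD F s 1⟩
    have hxU : xGL D hD F s 1 ∈ D.borelSubgroup F := by
      apply hUB
      unfold ChevalleyDatum.posUnipotent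
      exact Subgroup.subset_closure ⟨s, 1, hs, xGL_coe D hD F s 1⟩
    have e1 : b * nWordGL D hD F l * (u * xGL D hD F s 1) = (xGL D hD F s 1 * b) * nWordGL D hD F l * u := by
      have := hc s hs
      rw [e] at this
      rw [← mul_assoc, this]; group
    obtain ⟨-, h2⟩ := cell_unique D hD F l (nWordGL D hD F l) (actsBy_nWordGL D hD F l hl)
      b (xGL D hD F s 1 * b) (u * xGL D hD F s 1) u hb (mul_mem hxU hb) (mul_mem hu hx) hu e1
    have h3 : xGL D hD F s 1 = 1 := by
      have : u * xGL D hD F s 1 = u * 1 := by rw [h2, mul_one]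
      exact mul_left_cancel this
    have h4 : D.x F s 1 = 1 := by
      rw [← xGL_coe D hD F s 1, h3, Units.val_one]
    exact one_ne_zero (x_eq_one_iff D hD F s hs.1 1 h4)
  have hempty : sGens D F l = ∅ := by
    rw [Set.eq_empty_iff_forall_notMem]
    rintro x ⟨s, t, hs, hneg, -⟩
    exact hnone s hs hneg
  rw [hempty, Subgroup.closure_empty, Subgroup.mem_bot] at hu
  refine ⟨l, hl, ?_, b, hb, by rw [e, hu, mul_one]⟩
  intro s hs
  rcases pos_or_neg D hD _ (wRoot_lt D hD l hl s hs.1) with h | h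
  · exact h
  · exact absurd h (hnone s hs)

include hD in
theorem wRoot_reverse' (l : List ℕ) (hl : ∀ i ∈ l, i < D.rank) (r : ℕ) (hr : r < D.nroots) :
    wRoot D l.reverse (wRoot D l r) = r := by
  have h := wRoot_reverse D hD l.reverse (fun i hi => hl i (List.mem_reverse.1 hi)) r hr
  rwa [List.reverse_reverse] at h

include hD in
/-- a word preserving the positive roots maps them onto the positive roots -/
theorem wRoot_pos_surj (l : List ℕ) (hl : ∀ i ∈ l, i < D.rank)
    (hpos : ∀ s, D.IsPosRoot s → D.IsPosRoot (wRoot D l s)) (s : ℕ) (hs : D.IsPosRoot s) :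
    D.IsPosRoot (wRoot D l.reverse s) := by
  classical
  set P : Finset ℕ := (Finset.range D.nroots).filter fun r => D.IsPosRoot r with hP
  have hmemP : ∀ r, r ∈ P ↔ D.IsPosRoot r := by
    intro r
    rw [hP, Finset.mem_filter, Finset.mem_range]
    exact ⟨fun h => h.2, fun h => ⟨h.1, h⟩⟩
  have hinj : Set.InjOn (wRoot D l) (P : Set ℕ) := by
    intro a ha b hb hab
    have ha' := ((hmemP a).1 ha).1
    have hb' := ((hmemP b).1 hb).1
    rw [← wRoot_reverse' D hD l hl a ha', ← wRoot_reverse' D hD l hl b hb', hab]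
  have himg : P.image (wRoot D l) = P := by
    apply Finset.eq_of_subset_of_card_le
    · intro x hx
      obtain ⟨a, ha, rfl⟩ := Finset.mem_image.1 hx
      exact (hmemP _).2 (hpos a ((hmemP a).1 ha))
    · rw [Finset.card_image_of_injOn hinj]
  have : s ∈ P.image (wRoot D l) := by rw [himg]; exact (hmemP s).2 hs
  obtain ⟨a, ha, rfl⟩ := Finset.mem_image.1 this
  rw [wRoot_reverse' D hD l hl a ((hmemP a).1 ha).1]
  exact (hmemP a).1 ha

include hD in
/-- `n_l` normalises `U` when `w_l` preserves the positive roots -/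
theorem nWord_normalizes_pos (l : List ℕ) (hl : ∀ i ∈ l, i < D.rank)
    (hpos : ∀ s, D.IsPosRoot s → D.IsPosRoot (wRoot D l s)) :
    nWordGL D hD F l ∈ Subgroup.normalizer (D.posUnipotent F : Set (GL D.Idx F)) := by
  unfold ChevalleyDatum.posUnipotent
  apply mem_normalizer_closure
  · rintro x ⟨s, t, hs, hx⟩
    have ex : x = xGL D hD F s t := Units.ext (by rw [hx, xGL_coe])
    obtain ⟨c, -, hc⟩ := actsBy_nWordGL D hD F l hl s hs.1
    rw [ex, hc t]
    exact Subgroup.subset_closure ⟨_, _, hpos s hs, xGL_coe D hD F _ _⟩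
  · rintro x ⟨s, t, hs, hx⟩
    have ex : x = xGL D hD F s t := Units.ext (by rw [hx, xGL_coe])
    have hs' := wRoot_pos_surj D hD l hl hpos s hs
    obtain ⟨c, hc0, hc⟩ := actsBy_nWordGL D hD F l hl _ hs'.1
    rw [wRoot_reverse D hD l hl s hs.1] at hc
    have e2 : (nWordGL D hD F l)⁻¹ * x * nWordGL D hD F l = xGL D hD F (wRoot D l.reverse s) (c⁻¹ * t) := by
      have := hc (c⁻¹ * t)
      rw [← mul_assoc, mul_inv_cancel₀ hc0, one_mul] at this
      rw [ex, ← this]; group
    rw [e2]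
    exact Subgroup.subset_closure ⟨_, _, hs', xGL_coe D hD F _ _⟩

include hD in
/-- `n_l ∈ H` when `w_l` preserves the positive roots -/
theorem nWord_mem_diag_of_pos (l : List ℕ) (hl : ∀ i ∈ l, i < D.rank)
    (hpos : ∀ s, D.IsPosRoot s → D.IsPosRoot (wRoot D l s)) :
    nWordGL D hD F l ∈ D.diagonalSubgroup F := by
  have h45 : ∀ i < D.rank, H45 D F i := fun i hi => Cfsg.Agent.S1045.result D hD i hi
  obtain ⟨P, hB, hN, -⟩ := exists_bnPair D hD F h45
  set n := nWordGL D hD F l with hn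
  have hnN : n ∈ D.monomialSubgroup F := nWordGL_mem D hD F l hl
  have hnG : n ∈ D.group F := monomial_le_group D hD F hnN
  have h1 := nWord_normalizes_pos D hD F l hl hpos
  have h2 := monomial_le_normalizer D hD F hnN
  have hBn : ∀ x, x ∈ D.borelSubgroup F → n * x * n⁻¹ ∈ D.borelSubgroup F ∧ n⁻¹ * x * n ∈ D.borelSubgroup F := by
    intro x hx
    obtain ⟨u, hu, h, hh, rfl⟩ := (mem_borel_iff D hD F x).1 hx
    have hHB : D.diagonalSubgroup F ≤ D.borelSubgroup F := by
      unfold ChevalleyDatum.borelSubgroup; exact le_sup_right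
    have hUB : D.posUnipotent F ≤ D.borelSubgroup F := by
      unfold ChevalleyDatum.borelSubgroup; exact le_sup_left
    constructor
    · have e : n * (u * h) * n⁻¹ = (n * u * n⁻¹) * (n * h * n⁻¹) := by group
      rw [e]
      exact mul_mem (hUB ((Subgroup.mem_normalizer_iff.1 h1 u).1 hu)) (hHB ((Subgroup.mem_normalizer_iff.1 h2 h).1 hh))
    · have e : n⁻¹ * (u * h) * n = (n⁻¹ * u * n) * (n⁻¹ * h * n) := by group
      rw [e]
      have h1' := Subgroup.inv_mem _ h1
      have h2' := Subgroup.inv_mem _ h2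
      have a1 := (Subgroup.mem_normalizer_iff.1 h1' u).1 hu
      have a2 := (Subgroup.mem_normalizer_iff.1 h2' h).1 hh
      rw [inv_inv] at a1 a2
      exact mul_mem (hUB a1) (hHB a2)
  have hnorm : (⟨n, hnG⟩ : ↥(D.group F)) ∈ Subgroup.normalizer (P.parabolic ∅ : Set ↥(D.group F)) := by
    have hpar : P.parabolic ∅ = P.B := by
      unfold BNPair.parabolic
      rw [Subgroup.closure_empty, sup_bot_eq]
    rw [hpar, hB, Subgroup.mem_normalizer_iff]
    intro x
    rw [Subgroup.mem_subgroupOf, Subgroup.mem_subgroupOf]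
    constructor
    · intro hx
      exact (hBn _ hx).1
    · intro hx
      have := (hBn _ hx).2
      have e : n⁻¹ * ((⟨n, hnG⟩ : ↥(D.group F)) * x * (⟨n, hnG⟩ : ↥(D.group F))⁻¹ : ↥(D.group F)) * n = x := by
        show n⁻¹ * (n * (x : GL D.Idx F) * n⁻¹) * n = x
        group
      rw [e] at this
      exact this
  rw [Cfsg.Agent.S0312.result P (Set.empty_subset _)] at hnorm
  have hpar : P.parabolic ∅ = P.B := by
    unfold BNPair.parabolic
    rw [Subgroup.closure_empty, sup_bot_eq]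
  rw [hpar, hB, Subgroup.mem_subgroupOf] at hnorm
  have : n ∈ D.borelSubgroup F ⊓ D.monomialSubgroup F := ⟨hnorm, hnN⟩
  rw [borel_inf_monomial D hD F] at this
  exact this

include hD in
theorem cent_le_borel (g : GL D.Idx F) (hg : g ∈ D.group F)
    (hc : ∀ r, D.IsPosRoot r → g * xGL D hD F r 1 = xGL D hD F r 1 * g) : g ∈ D.borelSubgroup F := by
  obtain ⟨l, hl, hpos, b, hb, e⟩ := cent_step1 D hD F g hg hc
  have hHB : D.diagonalSubgroup F ≤ D.borelSubgroup F := by
    unfold ChevalleyDatum.borelSubgroup; exact le_sup_right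
  rw [e]
  exact mul_mem hb (hHB (nWord_mem_diag_of_pos D hD F l hl hpos))

include hD in
/-- `n₀ B n₀⁻¹ = V H` -/
theorem borel_map_conj_w0 :
    (D.borelSubgroup F).map (MulAut.conj (nWordGL D hD F (w0word D))).toMonoidHom =
      D.negUnipotent F ⊔ D.diagonalSubgroup F := by
  obtain ⟨h1, -, -⟩ := chkW0_spec D hD
  have hnN : nWordGL D hD F (w0word D) ∈ D.monomialSubgroup F := nWordGL_mem D hD F _ h1
  unfold ChevalleyDatum.borelSubgroup
  rw [Subgroup.map_sup, posUnipotent_map_conj D hD F]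
  congr 1
  have h2 := monomial_le_normalizer D hD F hnN
  apply le_antisymm
  · rintro _ ⟨x, hx, rfl⟩
    exact (Subgroup.mem_normalizer_iff.1 h2 x).1 hx
  · intro x hx
    have h2' := Subgroup.inv_mem _ h2
    have a := (Subgroup.mem_normalizer_iff.1 h2' x).1 hx
    rw [inv_inv] at a
    refine ⟨_, a, ?_⟩
    show nWordGL D hD F (w0word D) * ((nWordGL D hD F (w0word D))⁻¹ * x * nWordGL D hD F (w0word D)) *
      (nWordGL D hD F (w0word D))⁻¹ = x
    group

include hD in
/-- an element of the Chevalley group commuting with every `x_r(1)` is trivial -/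
theorem cent_trivial (g : GL D.Idx F) (hg : g ∈ D.group F)
    (hc : ∀ r < D.nroots, g * xGL D hD F r 1 = xGL D hD F r 1 * g) : g = 1 := by
  obtain ⟨h1, -, -⟩ := chkW0_spec D hD
  set n₀ := nWordGL D hD F (w0word D) with hn₀
  have hnN : n₀ ∈ D.monomialSubgroup F := nWordGL_mem D hD F _ h1
  have hnG : n₀ ∈ D.group F := monomial_le_group D hD F hnN
  have hc' : ∀ r < D.nroots, ∀ ε : F, ε * ε = 1 → g * xGL D hD F r ε = xGL D hD F r ε * g := by
    intro r hr ε hε
    have : (ε - 1) * (ε + 1) = 0 := by ring_nf; rw [← pow_two] at *; linear_combination hε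
    rcases mul_eq_zero.1 this with h | h
    · rw [sub_eq_zero.1 h]; exact hc r hr
    · have e : ε = -1 := eq_neg_of_add_eq_zero_left h
      rw [e, ← xGL_inv]
      have := hc r hr
      calc g * (xGL D hD F r 1)⁻¹ = (xGL D hD F r 1)⁻¹ * (xGL D hD F r 1 * g) * (xGL D hD F r 1)⁻¹ := by group
        _ = (xGL D hD F r 1)⁻¹ * (g * xGL D hD F r 1) * (xGL D hD F r 1)⁻¹ := by rw [this]
        _ = (xGL D hD F r 1)⁻¹ * g := by group
  have hB1 : g ∈ D.borelSubgroup F := cent_le_borel D hD F g hg (fun r hr => hc r hr.1)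
  have hB2 : n₀⁻¹ * g * n₀ ∈ D.borelSubgroup F := by
    apply cent_le_borel D hD F _ (mul_mem (mul_mem (inv_mem hnG) hg) hnG)
    intro r hr
    obtain ⟨ε, hε, hconj⟩ := nWordGL_conj D hD F (w0word D) h1 r hr.1
    have e1 := hconj 1
    rw [mul_one] at e1
    have e2 := hc' _ (wRoot_lt D hD _ h1 r hr.1) ε hε
    rw [← e1] at e2
    calc n₀⁻¹ * g * n₀ * xGL D hD F r 1 = n₀⁻¹ * (g * (n₀ * xGL D hD F r 1 * n₀⁻¹)) * n₀ := by group
      _ = n₀⁻¹ * ((n₀ * xGL D hD F r 1 * n₀⁻¹) * g) * n₀ := by rw [e2]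
      _ = xGL D hD F r 1 * (n₀⁻¹ * g * n₀) := by group
  have hB3 : g ∈ D.negUnipotent F ⊔ D.diagonalSubgroup F := by
    rw [← borel_map_conj_w0 D hD F]
    refine ⟨_, hB2, ?_⟩
    show n₀ * (n₀⁻¹ * g * n₀) * n₀⁻¹ = g
    group
  have hH : g ∈ D.diagonalSubgroup F := by
    rw [← borel_inf_neg_sup_diagonal D hD F]
    exact ⟨hB1, hB3⟩
  obtain ⟨χ, hχ, hgχ⟩ := exists_character_of_mem_diagonal D hD F g hH
  have hχ1 : ∀ r < D.nroots, (χ r : F) = 1 := by
    intro r hr
    have e1 := diag_conj_xGL D hD F g χ hχ hgχ r hr 1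
    rw [mul_one] at e1
    have e2 : g * xGL D hD F r 1 * g⁻¹ = xGL D hD F r 1 := by
      rw [hc r hr]; group
    rw [e2] at e1
    have := congrArg Units.val e1
    rw [xGL_coe, xGL_coe] at this
    exact (x_injective D hD r hr _ _ this).symm
  apply Units.ext
  rw [hgχ, Units.val_one]
  unfold ChevalleyDatum.charDiag
  rw [← Matrix.diagonal_one]
  congr 1
  funext i
  rcases i with i | i
  · rfl
  · exact hχ1 i.val i.isLt

end Cfsg.Agent.Lib.Helper36
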