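import Cfsg.Agent.Lib.Helper36.ChevCentRoot

/-! # Centralisers of root elements normalised by `B`: the table checks (helper36) -/

set_option autoImplicit false

namespace Cfsg.Agent.Lib.Helper36

open Cfsg Cfsg.Lie Cfsg.Agent.Lib.Helper18

section defs
variable (D : ChevalleyDatum)

/-- all commutator constants of the pair `(r, s)` vanish modulo `p`, and `s ≠ ±r` -/
def commVanish (p : ℤ) (r s : ℕ) : Bool :=
  s != r && s != D.neg r && decide (s < D.nroots) && (D.commTerms r s).all fun c => c.2.1 % p == 0

def chkCent (p : ℤ) (ρ i₀ : ℕ) : Bool :=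
  decide (ρ < D.nroots) && decide (i₀ < D.rank) &&
  (D.posRoots.all fun s => s == ρ || commVanish D p ρ s) &&
  ((List.range D.rank).all fun j => j == i₀ ||
    (D.reflectRoot j ρ == ρ && D.cartan j ρ == 0 && commVanish D p ρ (D.neg (D.simple j)))) &&
  (D.reflectRoot i₀ ρ != ρ && D.cartan i₀ ρ == 1) &&
  ((List.range D.nroots).all fun s => s == ρ || (D.chainCoeff s (D.neg ρ) ρ).isEmpty)

end defs

variable (D : ChevalleyDatum) (hD : D ∈ [chevG2, chevB2, chevD4, chevF4, chevE6, chevE7, chevE8])
variable (F : Type*) [Field F]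

include hD in
/-- root elements commute when the commutator constants vanish in `F` -/
theorem comm_of_vanish (p : ℤ) (hp : ∀ c : ℤ, c % p = 0 → (c : F) = 0) (r s : ℕ) (hr : r < D.nroots)
    (h : commVanish D p r s = true) (t u : F) :
    xGL D hD F s u * xGL D hD F r t = xGL D hD F r t * xGL D hD F s u := by
  unfold commVanish at h
  simp only [Bool.and_eq_true, bne_iff_ne, ne_eq, decide_eq_true_eq, List.all_eq_true, beq_iff_eq] at h
  obtain ⟨⟨⟨h1, h2⟩, h3⟩, h4⟩ := h
  have hcf := Cfsg.Agent.S1025.result (F := F) D hD r s hr h3 h1 h2 t u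
  have hw : D.wordMat F (D.commWord F r s t u) = 1 := by
    unfold ChevalleyDatum.commWord ChevalleyDatum.wordMat
    rw [List.map_map]
    apply List.prod_eq_one
    intro z hz
    obtain ⟨c, hc, rfl⟩ := List.mem_map.1 hz
    simp only [Function.comp_apply]
    rw [hp _ (h4 c hc), zero_mul, zero_mul]
    exact x_zero D hD _
  rw [hw, mul_one] at hcf
  apply Units.ext
  rw [Units.val_mul, Units.val_mul, xGL_coe, xGL_coe]
  exact hcf

include hD in
theorem centHyp_of_chk (p : ℤ) (hp : ∀ c : ℤ, c % p = 0 → (c : F) = 0) (ρ i₀ : ℕ)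
    (h : chkCent D p ρ i₀ = true) : CentHyp D hD F ρ i₀ := by
  unfold chkCent at h
  simp only [Bool.and_eq_true, decide_eq_true_eq, List.all_eq_true, Bool.or_eq_true, beq_iff_eq,
    bne_iff_ne, ne_eq, List.isEmpty_iff] at h
  obtain ⟨⟨⟨⟨⟨hρ, hi₀⟩, hU⟩, hJ⟩, hi₀'⟩, hcol⟩ := h
  refine ⟨hρ, ?_, hi₀, ?_, hi₀', ?_⟩
  · intro u hu t
    have hle : D.posUnipotent F ≤ Subgroup.centralizer {xGL D hD F ρ t} := by
      unfold ChevalleyDatum.posUnipotent
      rw [Subgroup.closure_le]
      rintro x ⟨s, c, hs, hx⟩
      have hx' : x = xGL D hD F s c := Units.ext hx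
      rw [SetLike.mem_coe, Subgroup.mem_centralizer_iff]
      intro y hy
      rw [Set.mem_singleton_iff] at hy
      subst hy
      rw [hx']
      have hsmem : s ∈ D.posRoots := by
        unfold ChevalleyDatum.posRoots
        rw [List.mem_filter]
        exact ⟨List.mem_range.2 hs.1, decide_eq_true hs⟩
      rcases hU s hsmem with h | h
      · rw [h, ← xGL_add, ← xGL_add, add_comm]
      · exact (comm_of_vanish D hD F p hp ρ s hρ h t c).symm
    have := hle hu
    rw [Subgroup.mem_centralizer_iff] at this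
    exact (this _ rfl).symm
  · intro j hj hne
    rcases hJ j (List.mem_range.2 hj) with h | h
    · exact absurd h hne
    · exact ⟨h.1.1, h.1.2, fun c t => comm_of_vanish D hD F p hp ρ _ hρ h.2 t c⟩
  · intro s hs hne
    rcases hcol s (List.mem_range.2 hs) with h | h
    · exact absurd h hne
    · exact h

theorem chkCent_E6 : chkCent chevE6 0 71 1 = true := by decide +kernel
theorem chkCent_E7 : chkCent chevE7 0 125 0 = true := by decide +kernel
theorem chkCent_E8 : chkCent chevE8 0 239 7 = true := by decide +kernel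
theorem chkCent_F4_long : chkCent chevF4 0 47 3 = true := by decide +kernel
theorem chkCent_F4_short : chkCent chevF4 2 44 0 = true := by decide +kernel
theorem chkCent_G2_long : chkCent chevG2 0 11 1 = true := by decide +kernel

end Cfsg.Agent.Lib.Helper36
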