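import Cfsg.Agent.Lib.Helper36.ChevH2

set_option autoImplicit false

namespace Cfsg.Agent.Lib.Helper36

open Cfsg Cfsg.Lie

/-- the action of the `i`-th fundamental reflection on column indices -/
def wCol (D : ChevalleyDatum) (i : ℕ) : BIdx → BIdx
  | .inl j => .inl j
  | .inr s => .inr (nW D i s)

def colsConj (D : ChevalleyDatum) (i s : ℕ) : List BIdx :=
  activeCols D s ++ (activeCols D (nW D i s)).map (wCol D i)

/-- check of `N_p E_{s,1} = η_s E_{w s,1} N_p` for the `i`-th fundamental root `p` and all roots `s` -/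
def chkConjI (D : ChevalleyDatum) (i : ℕ) : Bool :=
  (List.range D.nroots).all fun s =>
    (colsConj D i s).all fun c =>
      vecEq ((MExp.comp (.lit (Nlit D i)) (.E s 1)).evalF (mkFast D) c)
        ((MExp.smul (nEta D i s) (.comp (.E (nW D i s) 1) (.lit (Nlit D i)))).evalF (mkFast D) c)

/-- `chkConjI` for all fundamental roots -/
def chkConj (D : ChevalleyDatum) : Bool := (List.range D.rank).all fun i => chkConjI D i

variable (D : ChevalleyDatum)

theorem chkConjI_of_chkConj (h : chkConj D = true) (i : ℕ) (hi : i < D.rank) : chkConjI D i = true := by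
  unfold chkConj at h
  rw [List.all_eq_true] at h
  exact h i (List.mem_range.2 hi)

theorem Nlit_WF (h2 : chkN2 D = true) (i : ℕ) (hi : i < D.rank) : (MExp.lit (Nlit D i)).WF D := by
  obtain ⟨hp, -, -, -, hs⟩ := chkN2_spec D h2 i hi
  intro c hc p hp'
  rcases c with j | s
  · simp only [Nlit, List.mem_cons, List.not_mem_nil, or_false] at hp'
    rcases hp' with rfl | rfl
    · exact hc
    · exact hi
  · simp only [Nlit, List.mem_singleton] at hp'
    rw [hp']
    exact (hs s hc).1

theorem SuppIn_mono (A : SMat) (cols cols' : List BIdx) (h : ∀ c ∈ cols, c ∈ cols') (hA : SuppIn D A cols) :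
    SuppIn D A cols' := fun c hc hna => hA c hc (fun hcc => hna (h c hcc))

/-- `N_p E_{s,1} = η_s E_{w s,1} N_p` as integer matrices -/
def ConjProp : Prop := ∀ i < D.rank, ∀ s < D.nroots,
  toMat D (Nlit D i) * toMat D (E D s 1) = nEta D i s • (toMat D (E D (nW D i s) 1) * toMat D (Nlit D i))

theorem conjProp_of_chk (hwf : wf D = true) (hf : wfFast D = true) (h2 : chkN2 D = true)
    (h : ∀ i < D.rank, chkConjI D i = true) : ConjProp D := by
  intro i hi s hs
  obtain ⟨hp, -, -, -, hs'⟩ := chkN2_spec D h2 i hi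
  have hws := (hs' s hs).1
  have hlit := Nlit_WF D h2 i hi
  have key := MExp.sem_eq_of_check D hwf hf (MExp.comp (.lit (Nlit D i)) (.E s 1))
    (MExp.smul (nEta D i s) (.comp (.E (nW D i s) 1) (.lit (Nlit D i)))) ⟨hlit, hs⟩ ⟨hws, hlit⟩
    (colsConj D i s) ?_ ?_ ?_
  · exact key
  · apply SuppIn_mono D _ (activeCols D s) _ (fun c hc => List.mem_append_left _ hc)
    exact comp_suppIn D _ _ _ (E_suppIn D s 1 le_rfl)
  · apply smulM_suppIn
    intro c hc hna
    rcases c with j | s'
    · exfalso
      apply hna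
      apply List.mem_append_left
      exact List.mem_append_left _ (List.mem_map.2 ⟨j, List.mem_range.2 hc, rfl⟩)
    · have hin : inb D (Sum.inr (nW D i s')) := (hs' s' hc).1
      have hna' : (Sum.inr (nW D i s') : BIdx) ∉ activeCols D (nW D i s) := by
        intro hmem
        apply hna
        apply List.mem_append_right
        refine List.mem_map.2 ⟨_, hmem, ?_⟩
        simp only [wCol]
        rw [(hs' s' hc).2.2.2.2.2.1]
      have := E_suppIn D (nW D i s) 1 le_rfl _ hin hna'
      simp only [MExp.evalS, comp, Nlit, List.flatMap_cons, List.flatMap_nil, List.append_nil, this, List.map_nil]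
  · intro c hc _
    have h1 := h i hi
    unfold chkConjI at h1
    rw [List.all_eq_true] at h1
    have h3 := h1 s (List.mem_range.2 hs)
    rw [List.all_eq_true] at h3
    exact h3 c hc

theorem conj_all_k (hA : AddProp D) (hC : ConjProp D) (i s : ℕ) (hi : i < D.rank) (hs : s < D.nroots)
    (hws : nW D i s < D.nroots) :
    toMat D (Nlit D i) * toMat D (E D s 2) =
      (nEta D i s) ^ 2 • (toMat D (E D (nW D i s) 2) * toMat D (Nlit D i)) ∧
    toMat D (Nlit D i) * toMat D (E D s 3) =
      (nEta D i s) ^ 3 • (toMat D (E D (nW D i s) 3) * toMat D (Nlit D i)) := by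
  have a11 : toMat D (E D s 1) * toMat D (E D s 1) = (2 : ℤ) • toMat D (E D s 2) :=
    hA s hs 1 (by simp) 1 (by simp)
  have a12 : toMat D (E D s 1) * toMat D (E D s 2) = (3 : ℤ) • toMat D (E D s 3) :=
    hA s hs 1 (by simp) 2 (by simp)
  have b11 : toMat D (E D (nW D i s) 1) * toMat D (E D (nW D i s) 1) = (2 : ℤ) • toMat D (E D (nW D i s) 2) :=
    hA (nW D i s) hws 1 (by simp) 1 (by simp)
  have b12 : toMat D (E D (nW D i s) 1) * toMat D (E D (nW D i s) 2) = (3 : ℤ) • toMat D (E D (nW D i s) 3) :=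
    hA (nW D i s) hws 1 (by simp) 2 (by simp)
  have h1 : toMat D (Nlit D i) * toMat D (E D s 1) =
      nEta D i s • (toMat D (E D (nW D i s) 1) * toMat D (Nlit D i)) := hC i hi s hs
  generalize toMat D (Nlit D i) = N at *
  generalize nEta D i s = η at *
  generalize toMat D (E D s 1) = A at *
  generalize toMat D (E D s 2) = B at *
  generalize toMat D (E D s 3) = C at *
  generalize toMat D (E D (nW D i s) 1) = A' at *
  generalize toMat D (E D (nW D i s) 2) = B' at *
  generalize toMat D (E D (nW D i s) 3) = C' at *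
  have h2 : N * B = η ^ 2 • (B' * N) := by
    have : (2 : ℤ) • (N * B) = (2 : ℤ) • (η ^ 2 • (B' * N)) := by
      calc (2 : ℤ) • (N * B) = N * (A * A) := by rw [a11, Matrix.mul_smul]
        _ = (N * A) * A := by rw [Matrix.mul_assoc]
        _ = η • (A' * (N * A)) := by rw [h1, Matrix.smul_mul, Matrix.mul_assoc, ← h1]
        _ = η • (A' * (η • (A' * N))) := by rw [h1]
        _ = η ^ 2 • ((A' * A') * N) := by
          rw [Matrix.mul_smul, smul_smul, Matrix.mul_assoc, pow_two]
        _ = (2 : ℤ) • (η ^ 2 • (B' * N)) := by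
          rw [b11, Matrix.smul_mul, smul_comm]
    exact smul_right_injective _ (two_ne_zero) this
  have h3 : N * C = η ^ 3 • (C' * N) := by
    have : (3 : ℤ) • (N * C) = (3 : ℤ) • (η ^ 3 • (C' * N)) := by
      calc (3 : ℤ) • (N * C) = N * (A * B) := by rw [a12, Matrix.mul_smul]
        _ = (N * A) * B := by rw [Matrix.mul_assoc]
        _ = η • (A' * (N * B)) := by rw [h1, Matrix.smul_mul, Matrix.mul_assoc]
        _ = η • (A' * (η ^ 2 • (B' * N))) := by rw [h2]
        _ = η ^ 3 • ((A' * B') * N) := by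
          rw [Matrix.mul_smul, smul_smul, Matrix.mul_assoc, pow_succ' η 2]
        _ = (3 : ℤ) • (η ^ 3 • (C' * N)) := by
          rw [b12, Matrix.smul_mul, smul_comm]
    exact smul_right_injective _ (three_ne_zero) this
  exact ⟨h2, h3⟩


theorem nMat_mul_x (hwf : wf D = true) (hA : AddProp D) (hN : NProp D) (h2 : chkN2 D = true)
    (hC : ConjProp D) (F : Type*) [Field F] (i s : ℕ) (hi : i < D.rank) (hs : s < D.nroots) (t : F) :
    D.nMat F (D.simple i) 1 * D.x F s t =
      D.x F (D.reflectRoot i s) (((nEta D i s : ℤ) : F) * t) * D.nMat F (D.simple i) 1 := by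
  obtain ⟨hp, -, -, -, hs'⟩ := chkN2_spec D h2 i hi
  obtain ⟨hws, hwr, -⟩ := hs' s hs
  rw [← hwr, nMat_simple_eq D hwf F i hp, hN i hi, x_eq_sum D hwf F s hs, x_eq_sum D hwf F _ hws]
  have k1 := hC i hi s hs
  obtain ⟨k2, k3⟩ := conj_all_k D hA hC i s hi hs hws
  have e1 := congrArg (Int.castRingHom F).mapMatrix k1
  have e2 := congrArg (Int.castRingHom F).mapMatrix k2
  have e3 := congrArg (Int.castRingHom F).mapMatrix k3
  simp only [map_mul, map_zsmul, ← EF_eq_mapMatrix] at e1 e2 e3
  rw [← Int.cast_smul_eq_zsmul F] at e1 e2 e3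
  have h0 : EF D F s 0 = 1 := by rw [EF_eq_mapMatrix, toMat_E_zero, map_one]
  have h0' : EF D F (nW D i s) 0 = 1 := by rw [EF_eq_mapMatrix, toMat_E_zero, map_one]
  set N := (Int.castRingHom F).mapMatrix (toMat D (Nlit D i))
  simp only [Finset.sum_range_succ, Finset.sum_range_zero, zero_add, h0, h0', pow_zero, one_smul, pow_one,
    mul_add, add_mul, Matrix.mul_smul, Matrix.smul_mul, e1, e2, e3, mul_one, one_mul, Int.cast_pow]
  module

end Cfsg.Agent.Lib.Helper36
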