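import Cfsg.Agent.Lib.Helper36.ChevEngine

set_option autoImplicit false

namespace Cfsg.Agent.Lib.Helper36

open Cfsg Cfsg.Lie

abbrev Row := List (ℕ × Array (ℕ × ℤ))

def entryCol (L : List (ℕ × ℤ)) (k : ℕ) : SVec :=
  match L[k-1]? with
  | some q => [(.inr q.1, q.2)]
  | none => []

/-- the `k`-th divided power column of a chain-table row at the root `s` (`k ≥ 1`) -/
def chainCol (row : Row) (s k : ℕ) : SVec :=
  (row.filter fun e => Nat.beq e.1 s).flatMap fun e => entryCol e.2.toList k

theorem chainCol_nil (s k : ℕ) : chainCol [] s k = [] := rfl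

theorem chainCol_cons (e : ℕ × Array (ℕ × ℤ)) (row : Row) (s k : ℕ) :
    chainCol (e :: row) s k = (if e.1 = s then entryCol e.2.toList k else []) ++ chainCol row s k := by
  unfold chainCol
  by_cases h : e.1 = s
  · have : Nat.beq e.1 s = true := by simpa using h
    rw [List.filter_cons, if_pos this, List.flatMap_cons, if_pos h]
  · have : ¬ (Nat.beq e.1 s = true) := by simpa using h
    rw [List.filter_cons, if_neg this, if_neg h, List.nil_append]

theorem entry_sum {F : Type*} [Field F] (L : List (ℕ × ℤ)) (hL : L.length ≤ 3) (u : ℕ) (t : F) :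
    (((L.zipIdx).filter (fun q => q.1.1 = u)).map fun q => ((q.1.2 : ℤ) : F) * t ^ (q.2 + 1)).sum
    = t ^ 1 * ((coef (entryCol L 1) (.inr u) : ℤ) : F)
    + t ^ 2 * ((coef (entryCol L 2) (.inr u) : ℤ) : F)
    + t ^ 3 * ((coef (entryCol L 3) (.inr u) : ℤ) : F) := by
  unfold entryCol
  rcases L with _ | ⟨a, _ | ⟨b, _ | ⟨c, _ | ⟨d, L⟩⟩⟩⟩
  · simp
  · by_cases ha : a.1 = u <;> simp [List.zipIdx_cons, ha, coef_cons, mul_comm]
  · by_cases ha : a.1 = u <;> by_cases hb : b.1 = u <;>
      simp [List.zipIdx_cons, ha, hb, coef_cons, mul_comm]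
  · by_cases ha : a.1 = u <;> by_cases hb : b.1 = u <;> by_cases hc : c.1 = u <;>
      simp [List.zipIdx_cons, ha, hb, hc, coef_cons, mul_comm, add_assoc]
  · simp at hL
    omega

def chainCoeffRow (row : Row) (s u : ℕ) : List (ℕ × ℤ) :=
  ((row.filter (fun e => e.1 = s)).flatMap fun e =>
    ((e.2.toList.zipIdx).filter (fun q => q.1.1 = u)).map fun q => (q.2 + 1, q.1.2))

theorem chainCoeff_eq (D : ChevalleyDatum) (r s u : ℕ) :
    D.chainCoeff r s u = chainCoeffRow (D.chain.getD r #[]).toList s u := rfl

theorem chain_sum {F : Type*} [Field F] (row : Row) (hrow : ∀ e ∈ row, e.2.toList.length ≤ 3)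
    (s u : ℕ) (t : F) :
    ((chainCoeffRow row s u).map fun km => ((km.2 : ℤ) : F) * t ^ km.1).sum
    = t ^ 1 * ((coef (chainCol row s 1) (.inr u) : ℤ) : F)
    + t ^ 2 * ((coef (chainCol row s 2) (.inr u) : ℤ) : F)
    + t ^ 3 * ((coef (chainCol row s 3) (.inr u) : ℤ) : F) := by
  induction row with
  | nil => simp [chainCol_nil, chainCoeffRow]
  | cons e row ih =>
    have ih' := ih (fun e' he' => hrow e' (List.mem_cons_of_mem _ he'))
    unfold chainCoeffRow at ih' ⊢
    simp only [chainCol_cons, coef_append, Int.cast_add]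
    by_cases h : e.1 = s
    · rw [List.filter_cons_of_pos (by simpa using h), List.flatMap_cons, List.map_append, List.sum_append, ih']
      simp only [if_pos h]
      have := entry_sum e.2.toList (hrow e (List.mem_cons_self ..)) u t
      simp only [List.map_map] at this ⊢
      rw [show ((fun (km : ℕ × ℤ) => ((km.2 : ℤ) : F) * t ^ km.1) ∘ fun (q : (ℕ × ℤ) × ℕ) => (q.2 + 1, q.1.2))
          = (fun (q : (ℕ × ℤ) × ℕ) => ((q.1.2 : ℤ) : F) * t ^ (q.2 + 1)) from rfl, this]
      ring
    · rw [List.filter_cons_of_neg (by simpa using h), ih']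
      simp [if_neg h]

/-- the sparse integer matrix `E_{r,k}` with `x_r(t) = Σ_k t^k E_{r,k}` -/
def E (D : ChevalleyDatum) (r : ℕ) (k : ℕ) : SMat := fun c =>
  match c with
  | .inl i =>
      if k = 0 then [(.inl i, 1)] else if k = 1 then [(.inr r, - D.cartan i r)] else []
  | .inr s =>
      if s = r then (if k = 0 then [(.inr r, 1)] else [])
      else if s = D.neg r then
        (if k = 0 then [(.inr s, 1)]
         else if k = 1 then (List.range D.rank).map (fun i => (.inl i, (D.coroot.getD r #[]).getD i 0))
         else if k = 2 then [(.inr r, -1)] else [])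
      else
        (if k = 0 then [(.inr s, 1)] else chainCol (D.chain.getD r #[]).toList s k)

/-- table well-formedness: chain entries have at most three terms with targets in range; `neg` is in range -/
def wf (D : ChevalleyDatum) : Bool :=
  (List.range D.nroots).all fun r =>
    decide (D.neg r < D.nroots) &&
    (D.chain.getD r #[]).toList.all fun e => decide (e.2.size ≤ 3) && e.2.toList.all fun q => decide (q.1 < D.nroots)

variable (D : ChevalleyDatum)

theorem wf_neg (h : wf D = true) (r : ℕ) (hr : r < D.nroots) : D.neg r < D.nroots := by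
  unfold wf at h
  rw [List.all_eq_true] at h
  have := h r (List.mem_range.2 hr)
  rw [Bool.and_eq_true] at this
  simpa using this.1

theorem wf_chain (h : wf D = true) (r : ℕ) (hr : r < D.nroots) (e : ℕ × Array (ℕ × ℤ))
    (he : e ∈ (D.chain.getD r #[]).toList) : e.2.toList.length ≤ 3 ∧ ∀ q ∈ e.2.toList, q.1 < D.nroots := by
  unfold wf at h
  rw [List.all_eq_true] at h
  have := h r (List.mem_range.2 hr)
  rw [Bool.and_eq_true, List.all_eq_true] at this
  have h2 := this.2 e he
  rw [Bool.and_eq_true, List.all_eq_true] at h2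
  refine ⟨by simpa using h2.1, fun q hq => by simpa using h2.2 q hq⟩

theorem chainCol_inRange (row : Row) (s k : ℕ) (h : ∀ e ∈ row, ∀ q ∈ e.2.toList, q.1 < D.nroots) :
    InRange D (chainCol row s k) := by
  intro p hp
  unfold chainCol at hp
  rw [List.mem_flatMap] at hp
  obtain ⟨e, he, hp⟩ := hp
  have he' := (List.mem_filter.1 he).1
  unfold entryCol at hp
  cases hq : e.2.toList[k-1]? with
  | none => rw [hq] at hp; simp at hp
  | some q =>
    rw [hq] at hp
    simp only [List.mem_singleton] at hp
    rw [hp]
    exact h e he' q (List.mem_of_getElem? hq)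

theorem E_inRange (h : wf D = true) (r : ℕ) (hr : r < D.nroots) (k : ℕ) (c : BIdx) (hc : inb D c) :
    InRange D (E D r k c) := by
  intro p hp
  rcases c with i | s
  · simp only [E] at hp
    split_ifs at hp with h1 h2
    · simp only [List.mem_singleton] at hp; rw [hp]; exact hc
    · simp only [List.mem_singleton] at hp; rw [hp]; exact hr
    · simp at hp
  · simp only [E] at hp
    split_ifs at hp with h1 h2 h3 h4 h5 h6 h7
    · simp only [List.mem_singleton] at hp; rw [hp]; exact hr
    · simp at hp
    · simp only [List.mem_singleton] at hp; rw [hp]; exact hc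
    · rw [List.mem_map] at hp
      obtain ⟨i, hi, rfl⟩ := hp
      exact List.mem_range.1 hi
    · simp only [List.mem_singleton] at hp; rw [hp]; exact hr
    · simp at hp
    · simp only [List.mem_singleton] at hp; rw [hp]; exact hc
    · exact chainCol_inRange D _ s k (fun e he => (wf_chain D h r hr e he).2) p hp


theorem coef_chainCol_inl (row : Row) (s k i : ℕ) : coef (chainCol row s k) (.inl i) = 0 := by
  apply coef_eq_zero_of_not_mem
  intro p hp
  unfold chainCol at hp
  rw [List.mem_flatMap] at hp
  obtain ⟨e, _, hp⟩ := hp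
  unfold entryCol at hp
  cases hq : e.2.toList[k-1]? with
  | none => rw [hq] at hp; simp at hp
  | some q =>
    rw [hq] at hp
    simp only [List.mem_singleton] at hp
    rw [hp]
    simp

theorem coef_map_inl (n : ℕ) (f : ℕ → ℤ) (b : BIdx) :
    coef ((List.range n).map fun i => (Sum.inl i, f i)) b =
      match b with
      | .inl i => if i < n then f i else 0
      | .inr _ => 0 := by
  induction n with
  | zero => rcases b with i | s <;> simp
  | succ n ih =>
    rw [List.range_succ, List.map_append, coef_append, ih]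
    rcases b with i | s
    · simp only [List.map_cons, List.map_nil, coef_cons, coef_nil, add_zero]
      by_cases h1 : i < n
      · have : ¬ (Sum.inl n : BIdx) = Sum.inl i := by simp; omega
        simp [h1, this]; omega
      · by_cases h2 : i = n
        · subst h2; simp
        · have : ¬ (Sum.inl n : BIdx) = Sum.inl i := by simp; omega
          have h3 : ¬ i < n + 1 := by omega
          simp [h1, this, h3]
    · simp [coef_cons]

/-- cast of the integer matrix `E_{r,k}` to a field -/
noncomputable def EF (F : Type*) [Field F] (r k : ℕ) : Matrix D.Idx D.Idx F :=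
  (toMat D (E D r k)).map (Int.cast : ℤ → F)

theorem x_eq_sum (h : wf D = true) (F : Type*) [Field F] (r : ℕ) (hr : r < D.nroots) (t : F) :
    D.x F r t = ∑ k ∈ Finset.range 4, t ^ k • EF D F r k := by
  unfold ChevalleyDatum.x
  rw [dif_pos hr]
  ext row col
  rw [Matrix.sum_apply]
  simp only [Finset.sum_range_succ, Finset.sum_range_zero, Matrix.smul_apply, EF, Matrix.map_apply,
    toMat_apply, smul_eq_mul, zero_add]
  rcases col with i | s
  · rcases row with i' | u
    · by_cases hi : i' = i
      · subst hi; simp [ChevalleyDatum.xMat, E, enc, coef_cons]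
      · have : ¬ (i : ℕ) = (i' : ℕ) := fun h' => hi (Fin.ext h').symm
        simp [ChevalleyDatum.xMat, E, enc, coef_cons, hi, this]
    · by_cases hu : u = ⟨r, hr⟩
      · subst hu; simp [ChevalleyDatum.xMat, E, enc, coef_cons, ChevalleyDatum.cartan, mul_comm]
      · have : ¬ r = (u : ℕ) := fun h' => hu (Fin.ext h'.symm)
        simp [ChevalleyDatum.xMat, E, enc, coef_cons, ChevalleyDatum.cartan, hu, this]
  · by_cases hsr : s = ⟨r, hr⟩
    · subst hsr
      rcases row with i' | u
      · simp [ChevalleyDatum.xMat, E, enc, coef_cons]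
      · by_cases hu : u = ⟨r, hr⟩
        · subst hu; simp [ChevalleyDatum.xMat, E, enc, coef_cons]
        · have : ¬ r = (u : ℕ) := fun h' => hu (Fin.ext h'.symm)
          simp [ChevalleyDatum.xMat, E, enc, coef_cons, hu, this]
    · have hsr' : ¬ (s : ℕ) = r := fun h' => hsr (Fin.ext h')
      by_cases hsn : (s : ℕ) = D.negIdx.getD r 0
      · have hsn' : (s : ℕ) = D.negIdx[r]?.getD 0 := by simpa using hsn
        rcases row with i' | u
        · simp only [ChevalleyDatum.xMat, E, enc, Matrix.of_apply, Sum.map_inl, Sum.map_inr,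
            ChevalleyDatum.neg, if_neg hsr, if_neg hsr', if_pos hsn]
          simp [coef_map_inl, mul_comm, coef_cons, ← hsn']
        · simp only [ChevalleyDatum.xMat, E, enc, Matrix.of_apply, Sum.map_inl, Sum.map_inr,
            ChevalleyDatum.neg, if_neg hsr, if_neg hsr', if_pos hsn]
          simp [coef_map_inl, coef_cons, ← hsn']
          by_cases hus : u = s
          · subst hus
            have : ¬ r = (u : ℕ) := fun h' => hsr' h'.symm
            simp [this]
          · have h1 : ¬ (s : ℕ) = (u : ℕ) := fun h' => hus (Fin.ext h').symm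
            by_cases hur : u = ⟨r, hr⟩
            · subst hur; simp [hus, h1]
            · have h2 : ¬ r = (u : ℕ) := fun h' => hur (Fin.ext h'.symm)
              simp [hus, h1, hur, h2]
      · have hsn' : ¬ (s : ℕ) = D.neg r := hsn
        rcases row with i' | u
        · simp only [ChevalleyDatum.xMat, E, enc, Matrix.of_apply, Sum.map_inl, Sum.map_inr,
            if_neg hsr, if_neg hsr', if_neg hsn, if_neg hsn']
          simp [coef_cons, coef_chainCol_inl]
        · simp only [ChevalleyDatum.xMat, E, enc, Matrix.of_apply, Sum.map_inl, Sum.map_inr,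
            if_neg hsr, if_neg hsr', if_neg hsn, if_neg hsn']
          rw [chainCoeff_eq, chain_sum _ (fun e he => (wf_chain D h r hr e he).1)]
          simp only [Nat.reduceEqDiff, one_ne_zero, OfNat.ofNat_ne_zero, if_false, if_true]
          by_cases hus : u = s
          · subst hus; simp [coef_cons]; ring
          · have h1 : ¬ (s : ℕ) = (u : ℕ) := fun h' => hus (Fin.ext h').symm
            simp [coef_cons, hus, h1]

theorem EF_eq_mapMatrix (F : Type*) [Field F] (r k : ℕ) :
    EF D F r k = (Int.castRingHom F).mapMatrix (toMat D (E D r k)) := rfl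

theorem E_zero (r : ℕ) (c : BIdx) : E D r 0 c = [(c, 1)] := by
  rcases c with i | s
  · simp [E]
  · simp only [E]
    split_ifs with h1 h2 <;> simp_all

theorem toMat_E_zero (r : ℕ) : toMat D (E D r 0) = 1 := by
  rw [← toMat_oneM]
  ext row col
  simp only [toMat_apply, E_zero, oneM]

theorem entryCol_nil_of_le (L : List (ℕ × ℤ)) (k : ℕ) (h : L.length < k) : entryCol L k = [] := by
  unfold entryCol
  have : L[k - 1]? = none := List.getElem?_eq_none (by omega)
  rw [this]

theorem chainCol_nil_of_ge (row : Row) (s k : ℕ) (h : ∀ e ∈ row, e.2.toList.length < k) :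
    chainCol row s k = [] := by
  unfold chainCol
  rw [List.flatMap_eq_nil_iff]
  intro e he
  exact entryCol_nil_of_le _ _ (h e (List.mem_filter.1 he).1)

theorem E_ge_four (h : wf D = true) (r : ℕ) (hr : r < D.nroots) (k : ℕ) (hk : 4 ≤ k) (c : BIdx) :
    E D r k c = [] := by
  have h0 : k ≠ 0 := by omega
  have h1 : k ≠ 1 := by omega
  have h2 : k ≠ 2 := by omega
  rcases c with i | s
  · simp [E, h0, h1]
  · simp only [E, if_neg h0, if_neg h1, if_neg h2]
    split_ifs
    · rfl
    · rfl
    · exact chainCol_nil_of_ge _ _ _ (fun e he => by have := (wf_chain D h r hr e he).1; omega)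

theorem toMat_E_ge_four (h : wf D = true) (r : ℕ) (hr : r < D.nroots) (k : ℕ) (hk : 4 ≤ k) :
    toMat D (E D r k) = 0 := by
  rw [← toMat_zeroM]
  ext row col
  simp only [toMat_apply, E_ge_four D h r hr k hk, zeroM]

/-- the columns on which `E_{r,k}` (`k ≥ 1`) can be non-zero -/
def activeCols (r : ℕ) : List BIdx :=
  (List.range D.rank).map Sum.inl ++
    (Sum.inr r :: Sum.inr (D.neg r) :: (D.chain.getD r #[]).toList.map fun e => Sum.inr e.1)

/-- `A` vanishes on the in-range columns outside `cols` -/
def SuppIn (A : SMat) (cols : List BIdx) : Prop := ∀ c, inb D c → c ∉ cols → A c = []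

theorem E_suppIn (r k : ℕ) (hk : 1 ≤ k) : SuppIn D (E D r k) (activeCols D r) := by
  intro c hc hna
  have h0 : k ≠ 0 := by omega
  rcases c with i | s
  · exfalso
    apply hna
    exact List.mem_append_left _ (List.mem_map.2 ⟨i, List.mem_range.2 hc, rfl⟩)
  · have hs1 : s ≠ r := by
      rintro rfl; apply hna
      exact List.mem_append_right _ (List.mem_cons_self ..)
    have hs2 : s ≠ D.neg r := by
      rintro rfl; apply hna
      exact List.mem_append_right _ (List.mem_cons_of_mem _ (List.mem_cons_self ..))
    simp only [E, if_neg hs1, if_neg hs2, if_neg h0]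
    unfold chainCol
    rw [List.flatMap_eq_nil_iff]
    intro e he
    exfalso
    apply hna
    have he' := List.mem_filter.1 he
    have hes : e.1 = s := by simpa using he'.2
    refine List.mem_append_right _ (List.mem_cons_of_mem _ (List.mem_cons_of_mem _ ?_))
    exact List.mem_map.2 ⟨e, he'.1, by rw [hes]⟩

theorem comp_suppIn (A B : SMat) (cols : List BIdx) (hB : SuppIn D B cols) : SuppIn D (comp A B) cols := by
  intro c hc hna
  unfold comp
  rw [hB c hc hna]
  rfl

theorem smulM_suppIn (z : ℤ) (A : SMat) (cols : List BIdx) (hA : SuppIn D A cols) :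
    SuppIn D (smulM z A) cols := by
  intro c hc hna
  unfold smulM
  rw [hA c hc hna]
  rfl

theorem addM_suppIn (A B : SMat) (cols : List BIdx) (hA : SuppIn D A cols) (hB : SuppIn D B cols) :
    SuppIn D (addM A B) cols := by
  intro c hc hna
  unfold addM
  rw [hA c hc hna, hB c hc hna]
  rfl

theorem toMat_eq_of_active (A B : SMat) (cols : List BIdx) (hA : SuppIn D A cols) (hB : SuppIn D B cols)
    (h : ∀ c ∈ cols, vecEq (A c) (B c) = true) : toMat D A = toMat D B := by
  apply toMat_eq_of_forall
  intro c hc
  by_cases hcc : c ∈ cols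
  · exact h c hcc
  · rw [hA c hc hcc, hB c hc hcc]
    rfl

end Cfsg.Agent.Lib.Helper36
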