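import Mathlib
import Cfsg.Prelude.Def_ChevStructure

/-!
# A sparse integer-matrix engine for Chevalley data (helper36)

Sparse integer matrices are column functions `BIdx → SVec`, where `BIdx = ℕ ⊕ ℕ` (coroot index / root index)
and `SVec` is a list of (basis index, coefficient).  `toMat D A` is the matrix over `ℤ` indexed by `D.Idx`.
Products, sums, scalar multiples are computed column-wise; equality is checked column-wise by `vecEq`,
so identities of integer matrices can be proved by `decide +kernel`.
-/

set_option autoImplicit false

namespace Cfsg.Agent.Lib.Helper36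

open Cfsg Cfsg.Lie

abbrev BIdx := ℕ ⊕ ℕ
abbrev SVec := List (BIdx × ℤ)
abbrev SMat := BIdx → SVec

/-- boolean equality on basis indices, written for fast kernel evaluation -/
def beqB : BIdx → BIdx → Bool
  | .inl a, .inl b => Nat.beq a b
  | .inr a, .inr b => Nat.beq a b
  | _, _ => false

theorem beqB_iff (a b : BIdx) : beqB a b = true ↔ a = b := by
  rcases a with a | a <;> rcases b with b | b <;> simp [beqB]

theorem beqB_self (a : BIdx) : beqB a a = true := (beqB_iff a a).2 rfl

/-- coefficient of the basis vector `b` in the sparse vector `v` -/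
def coef : SVec → BIdx → ℤ
  | [], _ => 0
  | (p :: v), b => (if beqB p.1 b then p.2 else 0) + coef v b

@[simp] theorem coef_nil (b : BIdx) : coef [] b = 0 := rfl

theorem coef_cons (p : BIdx × ℤ) (v : SVec) (b : BIdx) :
    coef (p :: v) b = (if p.1 = b then p.2 else 0) + coef v b := by
  by_cases h : p.1 = b
  · simp [coef, h, beqB_self]
  · have : beqB p.1 b = false := by
      rw [Bool.eq_false_iff]; intro h'; exact h ((beqB_iff _ _).1 h')
    simp [coef, h, this]

theorem coef_append (v w : SVec) (b : BIdx) : coef (v ++ w) b = coef v b + coef w b := by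
  induction v with
  | nil => simp
  | cons p v ih => rw [List.cons_append, coef_cons, coef_cons, ih, add_assoc]

theorem coef_map_smul (z : ℤ) (v : SVec) (b : BIdx) :
    coef (v.map fun p => (p.1, z * p.2)) b = z * coef v b := by
  induction v with
  | nil => simp
  | cons p v ih =>
    rw [List.map_cons, coef_cons, coef_cons, ih, mul_add]
    by_cases h : p.1 = b <;> simp [h]

theorem coef_map_mul_right (z : ℤ) (v : SVec) (b : BIdx) :
    coef (v.map fun p => (p.1, p.2 * z)) b = coef v b * z := by
  induction v with
  | nil => simp
  | cons p v ih =>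
    rw [List.map_cons, coef_cons, coef_cons, ih, add_mul]
    by_cases h : p.1 = b <;> simp [h]

theorem coef_flatMap {α : Type*} (l : List α) (f : α → SVec) (b : BIdx) :
    coef (l.flatMap f) b = (l.map fun a => coef (f a) b).sum := by
  induction l with
  | nil => simp
  | cons a l ih => rw [List.flatMap_cons, coef_append, ih, List.map_cons, List.sum_cons]

theorem coef_eq_zero_of_not_mem (v : SVec) (b : BIdx) (h : ∀ p ∈ v, p.1 ≠ b) : coef v b = 0 := by
  induction v with
  | nil => rfl
  | cons p v ih =>
    rw [coef_cons, ih (fun q hq => h q (List.mem_cons_of_mem _ hq)), if_neg (h p (List.mem_cons_self ..))]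
    rfl

/-- column-wise equality test -/
def vecEq (v w : SVec) : Bool :=
  (v.all fun p => coef v p.1 == coef w p.1) && (w.all fun p => coef v p.1 == coef w p.1)

theorem coef_eq_of_vecEq (v w : SVec) (h : vecEq v w = true) (b : BIdx) : coef v b = coef w b := by
  unfold vecEq at h
  rw [Bool.and_eq_true, List.all_eq_true, List.all_eq_true] at h
  by_cases hv : ∃ p ∈ v, p.1 = b
  · obtain ⟨p, hp, rfl⟩ := hv
    simpa using h.1 p hp
  · by_cases hw : ∃ p ∈ w, p.1 = b
    · obtain ⟨p, hp, rfl⟩ := hw
      simpa using h.2 p hp
    · push Not at hv hw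
      rw [coef_eq_zero_of_not_mem v b hv, coef_eq_zero_of_not_mem w b hw]

/-! ### Operations on sparse matrices -/

def comp (A B : SMat) : SMat := fun c =>
  (B c).flatMap fun q => (A q.1).map fun p => (p.1, p.2 * q.2)

def smulM (z : ℤ) (A : SMat) : SMat := fun c => (A c).map fun p => (p.1, z * p.2)

def addM (A B : SMat) : SMat := fun c => A c ++ B c

def oneM : SMat := fun c => [(c, 1)]

def zeroM : SMat := fun _ => []

/-! ### Semantics -/

variable (D : ChevalleyDatum)

/-- encoding of the coordinate index set -/
def enc : D.Idx → BIdx := Sum.map Fin.val Fin.val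

theorem enc_injective : Function.Injective (enc D) := by
  intro a b h
  rcases a with a | a <;> rcases b with b | b <;> simp [enc] at h ⊢ <;> exact Fin.ext h

/-- a basis index is in range -/
def inb : BIdx → Prop
  | .inl i => i < D.rank
  | .inr s => s < D.nroots

instance (b : BIdx) : Decidable (inb D b) := by
  rcases b with i | s <;> unfold inb <;> infer_instance

theorem inb_enc (m : D.Idx) : inb D (enc D m) := by
  rcases m with m | m <;> simp [enc, inb]

theorem exists_enc_of_inb (b : BIdx) (h : inb D b) : ∃ m : D.Idx, enc D m = b := by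
  rcases b with i | s
  · exact ⟨Sum.inl ⟨i, h⟩, rfl⟩
  · exact ⟨Sum.inr ⟨s, h⟩, rfl⟩

/-- all keys of a sparse vector are in range -/
def InRange (v : SVec) : Prop := ∀ p ∈ v, inb D p.1

/-- the integer matrix of a sparse matrix -/
def toMat (A : SMat) : Matrix D.Idx D.Idx ℤ := Matrix.of fun row col => coef (A (enc D col)) (enc D row)

theorem toMat_apply (A : SMat) (row col : D.Idx) : toMat D A row col = coef (A (enc D col)) (enc D row) := rfl

theorem toMat_smulM (z : ℤ) (A : SMat) : toMat D (smulM z A) = z • toMat D A := by
  ext row col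
  simp [toMat_apply, smulM, coef_map_smul]

theorem toMat_addM (A B : SMat) : toMat D (addM A B) = toMat D A + toMat D B := by
  ext row col
  simp [toMat_apply, addM, coef_append]

theorem toMat_oneM : toMat D oneM = 1 := by
  ext row col
  rw [toMat_apply, oneM, coef_cons, coef_nil, add_zero, Matrix.one_apply]
  by_cases h : row = col
  · simp [h]
  · have : enc D col ≠ enc D row := fun h' => h (enc_injective D h').symm
    simp [h, this]

theorem toMat_zeroM : toMat D zeroM = 0 := by
  ext row col
  simp [toMat_apply, zeroM]

theorem sum_enc_mul_coef (v : SVec) (hv : InRange D v) (f : BIdx → ℤ) :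
    ∑ m : D.Idx, f (enc D m) * coef v (enc D m) = (v.map fun q => f q.1 * q.2).sum := by
  induction v with
  | nil => simp
  | cons p v ih =>
    have hp : inb D p.1 := hv p (List.mem_cons_self ..)
    obtain ⟨m0, hm0⟩ := exists_enc_of_inb D p.1 hp
    rw [List.map_cons, List.sum_cons, ← ih (fun q hq => hv q (List.mem_cons_of_mem _ hq))]
    simp only [coef_cons, mul_add, Finset.sum_add_distrib]
    congr 1
    rw [Finset.sum_eq_single m0]
    · rw [hm0]; simp
    · intro m _ hm
      have : p.1 ≠ enc D m := by
        rw [← hm0]; intro h; exact hm (enc_injective D h).symm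
      simp [this]
    · intro h; exact absurd (Finset.mem_univ _) h

theorem toMat_comp (A B : SMat) (hB : ∀ col : D.Idx, InRange D (B (enc D col))) :
    toMat D (comp A B) = toMat D A * toMat D B := by
  ext row col
  rw [Matrix.mul_apply]
  simp only [toMat_apply]
  rw [sum_enc_mul_coef D (B (enc D col)) (hB col) (fun b => coef (A b) (enc D row))]
  unfold comp
  rw [coef_flatMap]
  congr 1
  apply List.map_congr_left
  intro q _
  rw [coef_map_mul_right]

/-- the list of all basis indices in range -/
def allCols : List BIdx := (List.range D.rank).map Sum.inl ++ (List.range D.nroots).map Sum.inr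

theorem enc_mem_allCols (m : D.Idx) : enc D m ∈ allCols D := by
  rcases m with m | m
  · exact List.mem_append_left _ (List.mem_map.2 ⟨m.val, List.mem_range.2 m.isLt, rfl⟩)
  · exact List.mem_append_right _ (List.mem_map.2 ⟨m.val, List.mem_range.2 m.isLt, rfl⟩)

theorem mem_allCols_iff (b : BIdx) : b ∈ allCols D ↔ inb D b := by
  constructor
  · intro h
    rcases List.mem_append.1 h with h | h
    · obtain ⟨i, hi, rfl⟩ := List.mem_map.1 h
      exact List.mem_range.1 hi
    · obtain ⟨i, hi, rfl⟩ := List.mem_map.1 h
      exact List.mem_range.1 hi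
  · intro h
    obtain ⟨m, rfl⟩ := exists_enc_of_inb D b h
    exact enc_mem_allCols D m

theorem toMat_eq_of_forall (A B : SMat) (h : ∀ c, inb D c → vecEq (A c) (B c) = true) :
    toMat D A = toMat D B := by
  ext row col
  simp only [toMat_apply]
  exact coef_eq_of_vecEq _ _ (h _ (inb_enc D col)) _

end Cfsg.Agent.Lib.Helper36
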