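import Cfsg.Agent.Lib.Helper36.ChevFieldMap
import Cfsg.Agent.Lib.Helper36.ChevBN
import Cfsg.Agent.Lib.Helper18.ChevCell2
import Cfsg.Agent.Lib.Helper18.ChevNWord
import Cfsg.Agent.Lib.Helper18.ChevOrdMain
import Cfsg.Agent.S0308
import Cfsg.Agent.S1045

/-! # Fixed points of a field automorphism on a Chevalley group (helper36) -/

set_option autoImplicit false

namespace Cfsg.Agent.Lib.Helper36

open Cfsg Cfsg.Lie Cfsg.Agent.Lib.Helper18

variable (D : ChevalleyDatum) (hD : D ∈ [chevG2, chevB2, chevD4, chevF4, chevE6, chevE7, chevE8])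
variable {F₀ F : Type*} [Field F₀] [Field F] (ι : F₀ →+* F) (σ : F →+* F)
  (hfix : ∀ t : F, σ t = t → ∃ s, ι s = t)

include hD hfix in
/-- descent for `U` -/
theorem descent_pos (u : GL D.Idx F) (hu : u ∈ D.posUnipotent F) (hσ : glMap D σ u = u) :
    u ∈ (D.group F₀).map (glMap D ι) := by
  obtain ⟨t, -, ht⟩ := pos_exists D hD F u hu
  have hu' : u = wordGL D hD F (D.posRoots.map fun r => (r, t r)) := Units.ext (by rw [ht, wordGL_coe])
  have h1 : glMap D σ u = wordGL D hD F (D.posRoots.map fun r => (r, σ (t r))) := by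
    rw [hu', glMap_wordGL, List.map_map]
    rfl
  have h2 : ∀ r, D.IsPosRoot r → σ (t r) = t r := by
    intro r hr
    apply pos_unique D hD F (fun r => σ (t r)) t _ r hr
    rw [← wordGL_coe D hD, ← wordGL_coe D hD, ← h1, hσ, hu']
  choose! t₀ ht₀ using fun r => hfix (t r)
  have h3 : u = glMap D ι (wordGL D hD F₀ (D.posRoots.map fun r => (r, t₀ r))) := by
    rw [glMap_wordGL, List.map_map, hu']
    congr 1
    apply List.map_congr_left
    intro r hr
    have hr' : D.IsPosRoot r := by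
      unfold ChevalleyDatum.posRoots at hr
      rw [List.mem_filter] at hr
      exact of_decide_eq_true hr.2
    simp only [Function.comp_apply]
    rw [ht₀ r (h2 r hr')]
  rw [h3]
  apply Subgroup.mem_map_of_mem
  exact wordGL_mem D hD F₀ _ _ (fun p _ => xGL_mem_group D hD F₀ p.1 p.2)

include hD hfix in
/-- descent for `H`, when the parametrisation of `H` by `(Fˣ)^rank` is injective -/
theorem descent_diag
    (hinj : ∀ c c' : ℕ → F, (∀ i, c i ≠ 0) → (∀ i, c' i ≠ 0) → hProd D F c = hProd D F c' → ∀ i < D.rank, c i = c' i)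
    (h : GL D.Idx F) (hh : h ∈ D.diagonalSubgroup F) (hσ : glMap D σ h = h) :
    h ∈ (D.group F₀).map (glMap D ι) := by
  obtain ⟨c, hc, hcoe⟩ := exists_hProd_of_mem_diagonal D hD F h hh
  have h1 : hProd D F (fun i => σ (c i)) = hProd D F c := by
    rw [← hProd_map, ← hcoe, ← coe_glMap, hσ]
  have h2 : ∀ i < D.rank, σ (c i) = c i :=
    hinj _ _ (fun i => (map_ne_zero σ).2 (hc i)) hc h1
  classical
  have hex : ∀ i, ∃ s : F₀, s ≠ 0 ∧ (i < D.rank → ι s = c i) := by
    intro i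
    by_cases hi : i < D.rank
    · obtain ⟨s, hs⟩ := hfix (c i) (h2 i hi)
      refine ⟨s, ?_, fun _ => hs⟩
      intro h0
      rw [h0, map_zero] at hs
      exact hc i hs.symm
    · exact ⟨1, one_ne_zero, fun h => absurd h hi⟩
  choose c₀ hc₀ hc₀' using hex
  have h3 : h = glMap D ι (wordGL D hD F₀ ((List.range D.rank).flatMap fun i => D.hWord (D.simple i) (c₀ i))) := by
    apply Units.ext
    rw [coe_glMap, wordGL_coe, wordMat_hProd D hD F₀ c₀ (fun i _ => hc₀ i), hProd_map, hcoe]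
    exact hProd_congr D F _ _ (fun i hi => (hc₀' i hi).symm)
  rw [h3]
  apply Subgroup.mem_map_of_mem
  exact wordGL_mem D hD F₀ _ _ (fun p _ => xGL_mem_group D hD F₀ p.1 p.2)

include hD in
theorem glMap_sGens_le (l : List ℕ) :
    (Subgroup.closure (sGens D F l)).map (glMap D σ) ≤ Subgroup.closure (sGens D F l) := by
  rw [MonoidHom.map_closure, Subgroup.closure_le]
  rintro _ ⟨x, ⟨s, t, hs, hws, hx⟩, rfl⟩
  have : x = xGL D hD F s t := Units.ext hx
  rw [this, glMap_xGL]
  exact Subgroup.subset_closure ⟨s, σ t, hs, hws, rfl⟩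

theorem sGens_le_pos (F : Type*) [Field F] (l : List ℕ) : Subgroup.closure (sGens D F l) ≤ D.posUnipotent F := by
  unfold ChevalleyDatum.posUnipotent
  apply Subgroup.closure_mono
  rintro x ⟨s, t, hs, -, hx⟩
  exact ⟨s, t, hs, hx⟩

include hD hfix in
/-- an element of the Chevalley group over `F` fixed by the field endomorphism `σ` comes from the fixed field -/
theorem descent
    (hinj : ∀ c c' : ℕ → F, (∀ i, c i ≠ 0) → (∀ i, c' i ≠ 0) → hProd D F c = hProd D F c' → ∀ i < D.rank, c i = c' i)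
    (g : GL D.Idx F) (hg : g ∈ D.group F) (hσ : glMap D σ g = g) :
    g ∈ (D.group F₀).map (glMap D ι) := by
  have h45 : ∀ i < D.rank, H45 D F i := fun i hi => Cfsg.Agent.S1045.result D hD i hi
  -- Bruhat decomposition
  obtain ⟨P, hB, hN, -⟩ := exists_bnPair D hD F h45
  obtain ⟨n, hn, hgn⟩ := Cfsg.Agent.S0308.result P ⟨g, hg⟩
  rw [hN, Subgroup.mem_subgroupOf] at hn
  rw [DoubleCoset.mem_doubleCoset] at hgn
  obtain ⟨x, hx, y, hy, e⟩ := hgn
  rw [SetLike.mem_coe, hB, Subgroup.mem_subgroupOf] at hx hy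
  have e' : g = (x : GL D.Idx F) * (n : GL D.Idx F) * (y : GL D.Idx F) := congrArg Subtype.val e
  obtain ⟨l, hl, h, hh, hnl⟩ := isNWordH_of_mem D hD F _ hn
  have hHB : D.diagonalSubgroup F ≤ D.borelSubgroup F := by
    unfold ChevalleyDatum.borelSubgroup; exact le_sup_right
  have hUB : D.posUnipotent F ≤ D.borelSubgroup F := by
    unfold ChevalleyDatum.borelSubgroup; exact le_sup_left
  obtain ⟨b, hb, u, hu, e2⟩ := cell_form D hD F l hl (nWordGL D hD F l) (nWordGL_mem D hD F l hl)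
    (actsBy_nWordGL D hD F l hl) x (h * y) hx (mul_mem (hHB hh) hy)
  have e3 : g = b * nWordGL D hD F l * u := by
    rw [e', hnl, ← e2]; group
  -- apply σ
  have e4 : b * nWordGL D hD F l * u = glMap D σ b * nWordGL D hD F l * glMap D σ u := by
    rw [← e3, ← hσ, e3, map_mul, map_mul, glMap_nWordGL]
  have hσb : glMap D σ b ∈ D.borelSubgroup F := glMap_borel_le D hD σ (Subgroup.mem_map_of_mem _ hb)
  have hσu : glMap D σ u ∈ Subgroup.closure (sGens D F l) :=
    glMap_sGens_le D hD σ l (Subgroup.mem_map_of_mem _ hu)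
  obtain ⟨hbb, huu⟩ := cell_unique D hD F l (nWordGL D hD F l) (actsBy_nWordGL D hD F l hl)
    b (glMap D σ b) u (glMap D σ u) hb hσb hu hσu e4
  -- split b
  obtain ⟨u1, hu1, h1, hh1, hb1⟩ := (mem_borel_iff D hD F b).1 hb
  have hσu1 : glMap D σ u1 ∈ D.posUnipotent F := glMap_pos_le D hD σ (Subgroup.mem_map_of_mem _ hu1)
  have hσh1 : glMap D σ h1 ∈ D.diagonalSubgroup F := glMap_diag_le D hD σ (Subgroup.mem_map_of_mem _ hh1)
  have e5 : u1 * h1 = glMap D σ u1 * glMap D σ h1 := by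
    rw [← map_mul, hb1, ← hbb]
  have e6 : u1⁻¹ * glMap D σ u1 = h1 * (glMap D σ h1)⁻¹ := by
    rw [inv_mul_eq_iff_eq_mul, ← mul_assoc, e5]; group
  have e7 : u1⁻¹ * glMap D σ u1 ∈ D.posUnipotent F ⊓ D.diagonalSubgroup F :=
    Subgroup.mem_inf.2 ⟨mul_mem (inv_mem hu1) hσu1, by rw [e6]; exact mul_mem hh1 (inv_mem hσh1)⟩
  rw [pos_inf_diagonal D hD F, Subgroup.mem_bot] at e7
  have hu1fix : glMap D σ u1 = u1 := (inv_mul_eq_one.1 e7).symm
  have hh1fix : glMap D σ h1 = h1 := by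
    rw [hu1fix] at e5
    exact (mul_left_cancel e5).symm
  -- assemble
  have m1 := descent_pos D hD ι σ hfix u1 hu1 hu1fix
  have m2 := descent_diag D hD ι σ hfix hinj h1 hh1 hh1fix
  have m3 := descent_pos D hD ι σ hfix u (sGens_le_pos D F l hu) huu.symm
  have m4 : nWordGL D hD F l ∈ (D.group F₀).map (glMap D ι) := by
    rw [← glMap_nWordGL D hD ι l]
    apply Subgroup.mem_map_of_mem
    exact monomial_le_group D hD F₀ (nWordGL_mem D hD F₀ l hl)
  rw [e3, ← hb1]
  exact mul_mem (mul_mem (mul_mem m1 m2) m4) m3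

end Cfsg.Agent.Lib.Helper36
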