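import Cfsg.Agent.Lib.Helper36.ChevCentL
import Cfsg.Agent.Lib.Helper36.ChevSolv

/-! # Normaliser and centraliser of a subfield subgroup of a Chevalley group (helper36) -/

set_option autoImplicit false

namespace Cfsg.Agent.Lib.Helper36

open Cfsg Cfsg.Lie Cfsg.Agent.Lib.Helper18

variable (D : ChevalleyDatum) (hD : D ∈ [chevG2, chevB2, chevD4, chevF4, chevE6, chevE7, chevE8])
variable {F₀ F : Type*} [Field F₀] [Field F] (ι : F₀ →+* F) (σ : F →+* F)
  (hfix : ∀ t : F, σ t = t → ∃ s, ι s = t)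

include hD hfix in
/-- descent without hypothesis on `H`: a `σ`-fixed element is `a h m` with `a, m` rational and `h ∈ H` fixed -/
theorem descent'
    (g : GL D.Idx F) (hg : g ∈ D.group F) (hσ : glMap D σ g = g) :
    ∃ a ∈ (D.group F₀).map (glMap D ι), ∃ h ∈ D.diagonalSubgroup F, glMap D σ h = h ∧
      ∃ m ∈ (D.group F₀).map (glMap D ι), g = a * h * m := by
  obtain ⟨l, hl, b, hb, u, hu, e3⟩ := bruhat_form D hD F g hg
  -- apply σ
  have e4 : b * nWordGL D hD F l * u = glMap D σ b * nWordGL D hD F l * glMap D σ u := by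
    rw [← e3, ← hσ, e3, map_mul, map_mul, glMap_nWordGL]
  have hσb : glMap D σ b ∈ D.borelSubgroup F := glMap_borel_le D hD σ (Subgroup.mem_map_of_mem _ hb)
  have hσu : glMap D σ u ∈ Subgroup.closure (sGens D F l) :=
    glMap_sGens_le D hD σ l (Subgroup.mem_map_of_mem _ hu)
  obtain ⟨hbb, huu⟩ := cell_unique D hD F l (nWordGL D hD F l) (actsBy_nWordGL D hD F l hl)
    b (glMap D σ b) u (glMap D σ u) hb hσb hu hσu e4
  -- split b
  obtain ⟨u1, hu1, h1, hh1, hb1⟩ := (mem_borel_iff D hD F b).1 hb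
  have hσu1 : glMap D σ u1 ∈ D.posUnipotent F := glMap_pos_le D hD σ (Subgroup.mem_map_of_mem _ hu1)
  have hσh1 : glMap D σ h1 ∈ D.diagonalSubgroup F := glMap_diag_le D hD σ (Subgroup.mem_map_of_mem _ hh1)
  have e5 : u1 * h1 = glMap D σ u1 * glMap D σ h1 := by
    rw [← map_mul, hb1, ← hbb]
  have e6 : u1⁻¹ * glMap D σ u1 = h1 * (glMap D σ h1)⁻¹ := by
    rw [inv_mul_eq_iff_eq_mul, ← mul_assoc, e5]; group
  have e7 : u1⁻¹ * glMap D σ u1 ∈ D.posUnipotent F ⊓ D.diagonalSubgroup F :=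
    Subgroup.mem_inf.2 ⟨mul_mem (inv_mem hu1) hσu1, by rw [e6]; exact mul_mem hh1 (inv_mem hσh1)⟩
  rw [pos_inf_diagonal D hD F, Subgroup.mem_bot] at e7
  have hu1fix : glMap D σ u1 = u1 := (inv_mul_eq_one.1 e7).symm
  have hh1fix : glMap D σ h1 = h1 := by
    rw [hu1fix] at e5
    exact (mul_left_cancel e5).symm
  have m1 := descent_pos D hD ι σ hfix u1 hu1 hu1fix
  have m3 := descent_pos D hD ι σ hfix u (sGens_le_pos D F l hu) huu.symm
  have m4 : nWordGL D hD F l ∈ (D.group F₀).map (glMap D ι) := by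
    rw [← glMap_nWordGL D hD ι l]
    apply Subgroup.mem_map_of_mem
    exact monomial_le_group D hD F₀ (nWordGL_mem D hD F₀ l hl)
  refine ⟨u1, m1, h1, hh1, hh1fix, nWordGL D hD F l * u, mul_mem m4 m3, ?_⟩
  rw [e3, ← hb1]; group

include hD hfix in
/-- a `σ`-fixed element of `H` normalises the rational subgroup -/
theorem diag_conj_rational (h : GL D.Idx F) (hh : h ∈ D.diagonalSubgroup F) (hσ : glMap D σ h = h)
    (x : GL D.Idx F) (hx : x ∈ (D.group F₀).map (glMap D ι)) :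
    h * x * h⁻¹ ∈ (D.group F₀).map (glMap D ι) := by
  obtain ⟨χ, hχ, hgχ⟩ := exists_character_of_mem_diagonal D hD F h hh
  have hχfix : ∀ r < D.nroots, σ (χ r : F) = (χ r : F) := by
    intro r hr
    have h1 := congrArg (fun g : GL D.Idx F => (g : Matrix D.Idx D.Idx F) (Sum.inr ⟨r, hr⟩) (Sum.inr ⟨r, hr⟩)) hσ
    simp only [coe_glMap, Matrix.map_apply, hgχ] at h1
    unfold ChevalleyDatum.charDiag at h1
    simpa using h1
  unfold ChevalleyDatum.group at hx ⊢
  rw [MonoidHom.map_closure] at hx ⊢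
  refine conj_mem_closure _ h ?_ x hx
  rintro _ ⟨x₀, ⟨r, t, hx₀⟩, rfl⟩
  have ex₀ : x₀ = xGL D hD F₀ r.val t := by
    apply Units.ext
    rw [hx₀, xGL_coe]
    unfold ChevalleyDatum.x
    rw [dif_pos r.isLt]
  rw [ex₀, glMap_xGL, diag_conj_xGL D hD F h χ hχ hgχ r.val r.isLt]
  obtain ⟨s, hs⟩ := hfix _ (hχfix r.val r.isLt)
  rw [← hs, ← map_mul, ← glMap_xGL D hD ι]
  apply Subgroup.subset_closure
  refine ⟨xGL D hD F₀ r.val (s * t), ⟨r, s * t, ?_⟩, rfl⟩
  rw [xGL_coe]
  unfold ChevalleyDatum.x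
  rw [dif_pos r.isLt]

include hD in
theorem xGL_one_mem_rational (r : ℕ) (_hr : r < D.nroots) :
    xGL D hD F r 1 ∈ (D.group F₀).map (glMap D ι) := by
  have : xGL D hD F r 1 = glMap D ι (xGL D hD F₀ r 1) := by rw [glMap_xGL, map_one]
  rw [this]
  exact Subgroup.mem_map_of_mem _ (xGL_mem_group D hD F₀ r 1)

variable (K : Subgroup (GL D.Idx F)) (hKG : K ≤ D.group F)
  (hLK : (D.group F₀).map (glMap D ι) ≤ K) (hKfix : ∀ κ ∈ K, glMap D σ κ = κ)

include hD hLK in
/-- the centraliser in the Chevalley group of an overgroup of the rational subgroup is trivial -/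
theorem centralizer_rational_eq_bot :
    D.group F ⊓ Subgroup.centralizer (K : Set (GL D.Idx F)) = ⊥ := by
  rw [eq_bot_iff]
  rintro g ⟨hg, hc⟩
  rw [Subgroup.mem_bot]
  apply cent_trivial D hD F g hg
  intro r hr
  have := hc (xGL D hD F r 1) (hLK (xGL_one_mem_rational D hD ι r hr))
  exact this.symm

include hD hfix hKG hLK hKfix in
theorem conj_mem_of_fixed (g : GL D.Idx F) (hg : g ∈ D.group F) (hσ : glMap D σ g = g)
    (κ : GL D.Idx F) (hκ : κ ∈ K) : g * κ * g⁻¹ ∈ K := by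
  obtain ⟨a, ha, h, hh, hhfix, m, hm, e⟩ := descent' D hD ι σ hfix g hg hσ
  have hκ' : m * κ * m⁻¹ ∈ K := mul_mem (mul_mem (hLK hm) hκ) (inv_mem (hLK hm))
  obtain ⟨a', ha', h', hh', -, m', hm', e'⟩ :=
    descent' D hD ι σ hfix _ (hKG hκ') (hKfix _ hκ')
  have hh'K : h' ∈ K := by
    have : h' = a'⁻¹ * (m * κ * m⁻¹) * m'⁻¹ := by rw [e']; group
    rw [this]
    exact mul_mem (mul_mem (inv_mem (hLK ha')) hκ') (inv_mem (hLK hm'))
  have hcomm : h * h' * h⁻¹ = h' := by
    rw [diagonal_comm D hD F h h' hh hh']; group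
  have e2 : g * κ * g⁻¹ = a * ((h * a' * h⁻¹) * (h * h' * h⁻¹) * (h * m' * h⁻¹)) * a⁻¹ := by
    have : κ = m⁻¹ * (a' * h' * m') * m := by rw [← e']; group
    rw [e, this]; group
  rw [e2, hcomm]
  refine mul_mem (mul_mem (hLK ha) (mul_mem (mul_mem ?_ hh'K) ?_)) (inv_mem (hLK ha))
  · exact hLK (diag_conj_rational D hD ι σ hfix h hh hhfix a' ha')
  · exact hLK (diag_conj_rational D hD ι σ hfix h hh hhfix m' hm')

include hD hfix hKG hLK hKfix in
/-- the normaliser in the Chevalley group of an overgroup of the rational subgroup inside the fixed points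
is the group of fixed points -/
theorem mem_normalizer_rational_iff (g : GL D.Idx F) (hg : g ∈ D.group F) :
    g ∈ Subgroup.normalizer (K : Set (GL D.Idx F)) ↔ glMap D σ g = g := by
  constructor
  · intro hn
    have hz : g⁻¹ * glMap D σ g = 1 := by
      apply cent_trivial D hD F _ (mul_mem (inv_mem hg) (glMap_group_le D hD σ (Subgroup.mem_map_of_mem _ hg)))
      intro r hr
      have hx : xGL D hD F r 1 ∈ K := hLK (xGL_one_mem_rational D hD ι r hr)
      have h1 := (Subgroup.mem_normalizer_iff.1 hn _).1 hx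
      have h2 := hKfix _ h1
      have h3 : glMap D σ (xGL D hD F r 1) = xGL D hD F r 1 := by
        rw [glMap_xGL, map_one]
      rw [map_mul, map_mul, map_inv, h3] at h2
      calc g⁻¹ * glMap D σ g * xGL D hD F r 1
          = g⁻¹ * (glMap D σ g * xGL D hD F r 1 * (glMap D σ g)⁻¹) * glMap D σ g := by group
        _ = g⁻¹ * (g * xGL D hD F r 1 * g⁻¹) * glMap D σ g := by rw [h2]
        _ = xGL D hD F r 1 * (g⁻¹ * glMap D σ g) := by group
    exact (inv_mul_eq_one.1 hz).symm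
  · intro hσ
    rw [Subgroup.mem_normalizer_iff]
    intro κ
    constructor
    · exact conj_mem_of_fixed D hD ι σ hfix K hKG hLK hKfix g hg hσ κ
    · intro hκ
      have hσ' : glMap D σ g⁻¹ = g⁻¹ := by rw [map_inv, hσ]
      have := conj_mem_of_fixed D hD ι σ hfix K hKG hLK hKfix g⁻¹ (inv_mem hg) hσ' _ hκ
      have e : g⁻¹ * (g * κ * g⁻¹) * g⁻¹⁻¹ = κ := by group
      rw [e] at this
      exact this

end Cfsg.Agent.Lib.Helper36
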