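import Cfsg.Agent.Lib.Helper36.ChevGL
import Cfsg.Prelude.Def_ChevAutomorphisms
import Cfsg.Agent.S1025

/-! # The Chevalley group is generated by `N` and one or two fundamental root subgroups (helper36) -/

set_option autoImplicit false

namespace Cfsg.Agent.Lib.Helper36

open Cfsg Cfsg.Lie

section defs
variable (D : ChevalleyDatum)

/-- nodes `k`, `k'` joined by a single bond, with `w_k w_{k'} (p_k) = p_{k'}` -/
def adjOK (k k' : ℕ) : Bool :=
  D.bonds k k' == 1 && D.reflectRoot k (D.reflectRoot k' (D.simple k)) == D.simple k'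

def closeStep (S : List ℕ) : List ℕ :=
  S ++ (List.range D.rank).filter fun k' => S.any fun k => adjOK D k k'

def closeN : ℕ → List ℕ → List ℕ
  | 0, S => S
  | n + 1, S => closeN n (closeStep D S)

/-- all nodes are reached from `S` along single bonds -/
def reachAll (S : List ℕ) : Bool :=
  (List.range D.rank).all fun k => (closeN D D.rank S).contains k

theorem closeStep_sound (P : ℕ → Prop)
    (hstep : ∀ k k', k < D.rank → k' < D.rank → adjOK D k k' = true → P k → P k')
    (S : List ℕ) (hS : ∀ k ∈ S, k < D.rank ∧ P k) : ∀ k ∈ closeStep D S, k < D.rank ∧ P k := by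
  intro k hk
  unfold closeStep at hk
  rw [List.mem_append] at hk
  rcases hk with hk | hk
  · exact hS k hk
  · rw [List.mem_filter, List.any_eq_true] at hk
    obtain ⟨hk1, k0, hk0, hadj⟩ := hk
    have hk1 := List.mem_range.1 hk1
    exact ⟨hk1, hstep k0 k (hS k0 hk0).1 hk1 hadj (hS k0 hk0).2⟩

theorem closeN_sound (P : ℕ → Prop)
    (hstep : ∀ k k', k < D.rank → k' < D.rank → adjOK D k k' = true → P k → P k')
    (n : ℕ) (S : List ℕ) (hS : ∀ k ∈ S, k < D.rank ∧ P k) : ∀ k ∈ closeN D n S, k < D.rank ∧ P k := by
  induction n generalizing S with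
  | zero => exact hS
  | succ n ih => exact ih _ (closeStep_sound D P hstep S hS)

theorem reachAll_sound (P : ℕ → Prop)
    (hstep : ∀ k k', k < D.rank → k' < D.rank → adjOK D k k' = true → P k → P k')
    (S : List ℕ) (hS : ∀ k ∈ S, k < D.rank ∧ P k) (h : reachAll D S = true) : ∀ k < D.rank, P k := by
  intro k hk
  unfold reachAll at h
  rw [List.all_eq_true] at h
  have := h k (List.mem_range.2 hk)
  rw [List.contains_iff_mem] at this
  exact (closeN_sound D P hstep _ S hS k this).2

/-- data for producing a long fundamental root subgroup from short root subgroups -/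
def commOK (p : ℤ) (i' j' : ℕ) : Bool :=
  (D.commTerms (D.simple i') (D.reflectRoot i' (D.reflectRoot j' (D.simple i'))) ==
      [(D.reflectRoot i' (D.simple j'), p, 1, 1)]) &&
    (D.reflectRoot i' (D.reflectRoot i' (D.simple j')) == D.simple j') &&
    (D.reflectRoot i' (D.reflectRoot j' (D.simple i')) != D.simple i') &&
    (D.reflectRoot i' (D.reflectRoot j' (D.simple i')) != D.neg (D.simple i'))

def chk16 (p : ℤ) : Bool :=
  (List.range D.rank).all fun i =>
    reachAll D [i] || D.isLong (D.simple i) ||
      ((List.range D.rank).any fun i' => (List.range D.rank).any fun j' =>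
        (closeN D D.rank [i]).contains i' && reachAll D [j', i] && commOK D p i' j')

def chk17 : Bool :=
  (List.range D.rank).all fun i => (List.range D.rank).all fun j =>
    D.isLong (D.simple i) || !D.isLong (D.simple j) || D.bonds i j == 0 || reachAll D [i, j]

end defs

theorem chk16_G2 : chk16 chevG2 3 = true := by decide +kernel
theorem chk16_B2 : chk16 chevB2 2 = true := by decide +kernel
theorem chk16_F4 : chk16 chevF4 2 = true := by decide +kernel
theorem chk16_D4 : chk16 chevD4 2 = true := by decide +kernel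
theorem chk16_E6 : chk16 chevE6 2 = true := by decide +kernel
theorem chk16_E7 : chk16 chevE7 2 = true := by decide +kernel
theorem chk16_E8 : chk16 chevE8 2 = true := by decide +kernel
theorem chk17_G2 : chk17 chevG2 = true := by decide +kernel
theorem chk17_B2 : chk17 chevB2 = true := by decide +kernel
theorem chk17_F4 : chk17 chevF4 = true := by decide +kernel

section main
variable (D : ChevalleyDatum) (hD : D ∈ [chevG2, chevB2, chevD4, chevF4, chevE6, chevE7, chevE8])
  (K : Type*) [Field K] (M : Subgroup (GL D.Idx K)) (hN : D.monomialSubgroup K ≤ M)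

/-- the root subgroup `X_r` lies in `M` -/
def PX (r : ℕ) : Prop := ∀ t : K, xGL D hD K r t ∈ M

include hN in
theorem PX_reflect (i r : ℕ) (hi : i < D.rank) (hr : r < D.nroots) (h : PX D hD K M r) :
    PX D hD K M (D.reflectRoot i r) := by
  intro t
  obtain ⟨hp, -⟩ := chkN2_spec D (chkN2_all D hD) i hi
  rw [xGL_reflect D hD K i r hi hr t]
  have hn : nGL D hD K (D.simple i) 1 ∈ M := hN (nGL_mem_mono D hD K _ hp)
  exact mul_mem (mul_mem hn (h _)) (inv_mem hn)

include hD in
theorem reflectRoot_lt (i r : ℕ) (hi : i < D.rank) (hr : r < D.nroots) : D.reflectRoot i r < D.nroots := by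
  obtain ⟨-, -, -, -, hs'⟩ := chkN2_spec D (chkN2_all D hD) i hi
  obtain ⟨h1, h2, -⟩ := hs' r hr
  rw [← h2]; exact h1

include hD in
theorem simple_lt (i : ℕ) (hi : i < D.rank) : D.simple i < D.nroots :=
  (chkN2_spec D (chkN2_all D hD) i hi).1

include hN in
theorem PX_adj (k k' : ℕ) (hk : k < D.rank) (hk' : k' < D.rank) (hadj : adjOK D k k' = true)
    (h : PX D hD K M (D.simple k)) : PX D hD K M (D.simple k') := by
  unfold adjOK at hadj
  simp only [Bool.and_eq_true, beq_iff_eq] at hadj
  rw [← hadj.2]
  have h1 := PX_reflect D hD K M hN k' _ hk' (simple_lt D hD k hk) h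
  exact PX_reflect D hD K M hN k _ hk (reflectRoot_lt D hD k' _ hk' (simple_lt D hD k hk)) h1

include hN in
theorem group_le_of_simple (h : ∀ k < D.rank, PX D hD K M (D.simple k)) : D.group K ≤ M := by
  apply group_le D hD K M
  intro r hr
  exact root_induction D hD (fun r => PX D hD K M r) h
    (fun i hi r hr ih => PX_reflect D hD K M hN i r hi hr ih) r hr

include hN in
theorem PX_comm (p : ℤ) (hp : (p : K) ≠ 0) (i' j' : ℕ) (hi' : i' < D.rank) (hj' : j' < D.rank)
    (hc : commOK D p i' j' = true) (h : PX D hD K M (D.simple i')) : PX D hD K M (D.simple j') := by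
  unfold commOK at hc
  simp only [Bool.and_eq_true, beq_iff_eq, bne_iff_ne, ne_eq] at hc
  obtain ⟨⟨⟨hterms, hback⟩, hne1⟩, hne2⟩ := hc
  set r1 := D.simple i' with hr1d
  set r2 := D.reflectRoot i' (D.reflectRoot j' r1) with hr2d
  set k := D.reflectRoot i' (D.simple j') with hkd
  have hr1 : r1 < D.nroots := simple_lt D hD i' hi'
  have hr2' : D.reflectRoot j' r1 < D.nroots := reflectRoot_lt D hD j' _ hj' hr1
  have hr2 : r2 < D.nroots := reflectRoot_lt D hD i' _ hi' hr2'
  have hk : k < D.nroots := reflectRoot_lt D hD i' _ hi' (simple_lt D hD j' hj')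
  have h2 : PX D hD K M r2 :=
    PX_reflect D hD K M hN i' _ hi' hr2' (PX_reflect D hD K M hN j' _ hj' hr1 h)
  have hkP : PX D hD K M k := by
    intro s
    have hcf := Cfsg.Agent.S1025.result (F := K) D hD r1 r2 hr1 hr2 hne1 hne2 (-(s / (p : K))) 1
    have hw : D.wordMat K (D.commWord K r1 r2 (-(s / (p : K))) 1) = D.x K k s := by
      unfold ChevalleyDatum.commWord ChevalleyDatum.wordMat
      rw [hterms]
      simp only [List.map_cons, List.map_nil, List.prod_cons, List.prod_nil, mul_one, pow_one, neg_neg]
      congr 1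
      field_simp
    rw [hw] at hcf
    have e : xGL D hD K k s =
        (xGL D hD K r1 (-(s / (p : K))) * xGL D hD K r2 1)⁻¹ *
          (xGL D hD K r2 1 * xGL D hD K r1 (-(s / (p : K)))) := by
      rw [eq_inv_mul_iff_mul_eq]
      apply Units.ext
      simp only [Units.val_mul, xGL_coe]
      exact hcf.symm
    rw [e]
    exact mul_mem (inv_mem (mul_mem (h _) (h2 _))) (mul_mem (h2 _) (h _))
  have := PX_reflect D hD K M hN i' k hi' hk hkP
  rw [hback] at this
  exact this

include hN in
theorem gen16 (p : ℤ) (hchk : chk16 D p = true)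
    (hp : (p : K) ≠ 0 ∨ ∀ i < D.rank, reachAll D [i] = true)
    (i : ℕ) (hi : i < D.rank) (hshort : D.isLong (D.simple i) = false)
    (h : PX D hD K M (D.simple i)) : D.group K ≤ M := by
  apply group_le_of_simple D hD K M hN
  have hstep : ∀ k k', k < D.rank → k' < D.rank → adjOK D k k' = true →
      PX D hD K M (D.simple k) → PX D hD K M (D.simple k') :=
    fun k k' hk hk' hadj hP => PX_adj D hD K M hN k k' hk hk' hadj hP
  have hS : ∀ k ∈ [i], k < D.rank ∧ PX D hD K M (D.simple k) := by
    intro k hk
    rw [List.mem_singleton] at hk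
    subst hk
    exact ⟨hi, h⟩
  by_cases hr : reachAll D [i] = true
  · exact reachAll_sound D (fun k => PX D hD K M (D.simple k)) hstep [i] hS hr
  · have hp' : (p : K) ≠ 0 := by
      rcases hp with hp | hp
      · exact hp
      · exact absurd (hp i hi) hr
    unfold chk16 at hchk
    rw [List.all_eq_true] at hchk
    have h1 := hchk i (List.mem_range.2 hi)
    simp only [Bool.or_eq_true, hshort, hr, false_or, Bool.false_eq_true, List.any_eq_true, Bool.and_eq_true,
      List.mem_range] at h1
    obtain ⟨i', hi', j', hj', ⟨hmem, hreach⟩, hcomm⟩ := h1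
    rw [List.contains_iff_mem] at hmem
    have hPi' : PX D hD K M (D.simple i') :=
      (closeN_sound D (fun k => PX D hD K M (D.simple k)) hstep _ [i] hS i' hmem).2
    have hPj' : PX D hD K M (D.simple j') := PX_comm D hD K M hN p hp' i' j' hi' hj' hcomm hPi'
    refine reachAll_sound D (fun k => PX D hD K M (D.simple k)) hstep [j', i] ?_ hreach
    intro k hk
    simp only [List.mem_cons, List.not_mem_nil, or_false] at hk
    rcases hk with rfl | rfl
    · exact ⟨hj', hPj'⟩
    · exact ⟨hi, h⟩

include hN in
theorem gen17 (hchk : chk17 D = true) (i j : ℕ) (hi : i < D.rank) (hj : j < D.rank)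
    (hshort : D.isLong (D.simple i) = false) (hlong : D.isLong (D.simple j) = true) (hbond : D.bonds i j ≠ 0)
    (h : PX D hD K M (D.simple i)) (h' : PX D hD K M (D.simple j)) : D.group K ≤ M := by
  apply group_le_of_simple D hD K M hN
  have hstep : ∀ k k', k < D.rank → k' < D.rank → adjOK D k k' = true →
      PX D hD K M (D.simple k) → PX D hD K M (D.simple k') :=
    fun k k' hk hk' hadj hP => PX_adj D hD K M hN k k' hk hk' hadj hP
  unfold chk17 at hchk
  rw [List.all_eq_true] at hchk
  have h1 := hchk i (List.mem_range.2 hi)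
  rw [List.all_eq_true] at h1
  have h2 := h1 j (List.mem_range.2 hj)
  simp only [Bool.or_eq_true, hshort, hlong, Bool.false_eq_true, false_or, Bool.not_true, beq_iff_eq, hbond] at h2
  refine reachAll_sound D (fun k => PX D hD K M (D.simple k)) hstep [i, j] ?_ h2
  intro k hk
  simp only [List.mem_cons, List.not_mem_nil, or_false] at hk
  rcases hk with rfl | rfl
  · exact ⟨hi, h⟩
  · exact ⟨hj, h'⟩

end main

theorem reach_D4 : ∀ i < chevD4.rank, reachAll chevD4 [i] = true := by decide +kernel
theorem reach_E6 : ∀ i < chevE6.rank, reachAll chevE6 [i] = true := by decide +kernel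
theorem reach_E7 : ∀ i < chevE7.rank, reachAll chevE7 [i] = true := by decide +kernel
theorem reach_E8 : ∀ i < chevE8.rank, reachAll chevE8 [i] = true := by decide +kernel

theorem xGL_mem_rootSubgroup (D : ChevalleyDatum) (hD : D ∈ [chevG2, chevB2, chevD4, chevF4, chevE6, chevE7, chevE8])
    (K : Type*) [Field K] (r : ℕ) (t : K) : xGL D hD K r t ∈ D.rootSubgroup K r :=
  Subgroup.subset_closure ⟨t, xGL_coe D hD K r t⟩

end Cfsg.Agent.Lib.Helper36
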