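import Cfsg.Agent.Lib.Helper36.ChevTri

/-! # Weighted level functions: homogeneity of the root elements (helper36) -/

set_option autoImplicit false
set_option maxRecDepth 100000

namespace Cfsg.Agent.Lib.Helper36

open Cfsg Cfsg.Lie

/-- per-coordinate additivity of the root coefficients along the chains -/
def chkUpM (D : ChevalleyDatum) (i : ℕ) : Bool :=
  (List.range D.nroots).all fun r =>
    decide (mF D i (D.neg r) = - mF D i r) &&
    (D.chain.getD r #[]).toList.all fun e => e.2.toList.zipIdx.all fun q =>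
      decide (mF D i q.1.1 = mF D i e.1 + ((q.2 : ℤ) + 1) * mF D i r)

theorem chkUpM_G2 : ∀ i < chevG2.rank, chkUpM chevG2 i = true := by decide +kernel
theorem chkUpM_B2 : ∀ i < chevB2.rank, chkUpM chevB2 i = true := by decide +kernel
theorem chkUpM_D4 : ∀ i < chevD4.rank, chkUpM chevD4 i = true := by decide +kernel
theorem chkUpM_F4 : ∀ i < chevF4.rank, chkUpM chevF4 i = true := by decide +kernel
theorem chkUpM_E6 : ∀ i < chevE6.rank, chkUpM chevE6 i = true := by decide +kernel
theorem chkUpM_E7_0 : chkUpM chevE7 0 = true := by decide +kernel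
theorem chkUpM_E7_1 : chkUpM chevE7 1 = true := by decide +kernel
theorem chkUpM_E7_2 : chkUpM chevE7 2 = true := by decide +kernel
theorem chkUpM_E7_3 : chkUpM chevE7 3 = true := by decide +kernel
theorem chkUpM_E7_4 : chkUpM chevE7 4 = true := by decide +kernel
theorem chkUpM_E7_5 : chkUpM chevE7 5 = true := by decide +kernel
theorem chkUpM_E7_6 : chkUpM chevE7 6 = true := by decide +kernel
theorem chkUpM_E8_0 : chkUpM chevE8 0 = true := by decide +kernel
theorem chkUpM_E8_1 : chkUpM chevE8 1 = true := by decide +kernel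
theorem chkUpM_E8_2 : chkUpM chevE8 2 = true := by decide +kernel
theorem chkUpM_E8_3 : chkUpM chevE8 3 = true := by decide +kernel
theorem chkUpM_E8_4 : chkUpM chevE8 4 = true := by decide +kernel
theorem chkUpM_E8_5 : chkUpM chevE8 5 = true := by decide +kernel
theorem chkUpM_E8_6 : chkUpM chevE8 6 = true := by decide +kernel
theorem chkUpM_E8_7 : chkUpM chevE8 7 = true := by decide +kernel

theorem chkUpM_E7 : ∀ i < chevE7.rank, chkUpM chevE7 i = true := by
  intro i hi
  have h7 : chevE7.rank = 7 := by decide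
  rw [h7] at hi
  interval_cases i
  exacts [chkUpM_E7_0, chkUpM_E7_1, chkUpM_E7_2, chkUpM_E7_3, chkUpM_E7_4, chkUpM_E7_5, chkUpM_E7_6]

theorem chkUpM_E8 : ∀ i < chevE8.rank, chkUpM chevE8 i = true := by
  intro i hi
  have h8 : chevE8.rank = 8 := by decide
  rw [h8] at hi
  interval_cases i
  exacts [chkUpM_E8_0, chkUpM_E8_1, chkUpM_E8_2, chkUpM_E8_3, chkUpM_E8_4, chkUpM_E8_5, chkUpM_E8_6,
    chkUpM_E8_7]

theorem chkUpM_all (D : ChevalleyDatum) (hD : D ∈ [chevG2, chevB2, chevD4, chevF4, chevE6, chevE7, chevE8]) :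
    ∀ i < D.rank, chkUpM D i = true :=
  seven_cases (P := fun D => ∀ i < D.rank, chkUpM D i = true) D hD chkUpM_G2 chkUpM_B2 chkUpM_D4 chkUpM_F4
    chkUpM_E6 chkUpM_E7 chkUpM_E8

variable (D : ChevalleyDatum) (hD : D ∈ [chevG2, chevB2, chevD4, chevF4, chevE6, chevE7, chevE8])

theorem chkUpM_spec (i : ℕ) (h : chkUpM D i = true) (r : ℕ) (hr : r < D.nroots) :
    mF D i (D.neg r) = - mF D i r ∧
    ∀ e ∈ (D.chain.getD r #[]).toList, ∀ (k : ℕ) (q : ℕ × ℤ), e.2.toList[k]? = some q →
      mF D i q.1 = mF D i e.1 + ((k : ℤ) + 1) * mF D i r := by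
  unfold chkUpM at h
  rw [List.all_eq_true] at h
  have h1 := h r (List.mem_range.2 hr)
  simp only [Bool.and_eq_true, decide_eq_true_eq, List.all_eq_true] at h1
  obtain ⟨c, d⟩ := h1
  refine ⟨c, fun e he k q hq => ?_⟩
  have hmem : (q, k) ∈ e.2.toList.zipIdx := by
    rw [List.mem_zipIdx_iff_getElem?]
    simpa using hq
  exact d e he (q, k) hmem

/-- weighted height of a root -/
def htW (w : ℕ → ℤ) (s : ℕ) : ℤ := ((List.range D.rank).map fun i => w i * mF D i s).sum

theorem list_sum_map_add {ι : Type*} (l : List ι) (f g : ι → ℤ) :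
    (l.map fun j => f j + g j).sum = (l.map f).sum + (l.map g).sum := by
  induction l with
  | nil => simp
  | cons a l ih => simp only [List.map_cons, List.sum_cons, ih]; ring

theorem list_sum_map_mul_left {ι : Type*} (l : List ι) (c : ℤ) (f : ι → ℤ) :
    (l.map fun j => c * f j).sum = c * (l.map f).sum := by
  induction l with
  | nil => simp
  | cons a l ih => simp only [List.map_cons, List.sum_cons, ih]; ring

include hD in
theorem htW_neg (w : ℕ → ℤ) (r : ℕ) (hr : r < D.nroots) : htW D w (D.neg r) = - htW D w r := by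
  unfold htW
  rw [← neg_one_mul, ← list_sum_map_mul_left]
  congr 1
  apply List.map_congr_left
  intro i hi
  rw [(chkUpM_spec D i (chkUpM_all D hD i (List.mem_range.1 hi)) r hr).1]
  ring

include hD in
theorem htW_chain (w : ℕ → ℤ) (r : ℕ) (hr : r < D.nroots) (e : ℕ × Array (ℕ × ℤ))
    (he : e ∈ (D.chain.getD r #[]).toList) (k : ℕ) (q : ℕ × ℤ) (hq : e.2.toList[k]? = some q) :
    htW D w q.1 = htW D w e.1 + ((k : ℤ) + 1) * htW D w r := by
  unfold htW
  rw [← list_sum_map_mul_left, ← list_sum_map_add]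
  congr 1
  apply List.map_congr_left
  intro i hi
  rw [(chkUpM_spec D i (chkUpM_all D hD i (List.mem_range.1 hi)) r hr).2 e he k q hq]
  ring

/-- weighted level of a basis vector -/
def lvBW (w : ℕ → ℤ) : BIdx → ℤ
  | .inl _ => 0
  | .inr s => htW D w s

def lvIW (w : ℕ → ℤ) (x : D.Idx) : ℤ := lvBW D w (enc D x)

include hD in
/-- `E_{r,k}` is homogeneous of degree `k · ht_w r` -/
theorem E_homogW (w : ℕ → ℤ) (r : ℕ) (hr : r < D.nroots) (k : ℕ) (c : BIdx) :
    ∀ p ∈ E D r k c, lvBW D w p.1 = lvBW D w c + (k : ℤ) * htW D w r := by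
  have hneg := htW_neg D hD w r hr
  have hch := htW_chain D hD w r hr
  intro p hp
  rcases c with i | s
  · simp only [E] at hp
    split_ifs at hp with h1 h2
    · simp only [List.mem_singleton] at hp; rw [hp, h1]; simp [lvBW]
    · simp only [List.mem_singleton] at hp; rw [hp, h2]; simp [lvBW]
    · simp at hp
  · simp only [E] at hp
    split_ifs at hp with h1 h2 h3 h4 h5 h6 h7
    · simp only [List.mem_singleton] at hp; rw [hp, h1, h2]; simp [lvBW]
    · simp at hp
    · simp only [List.mem_singleton] at hp; rw [hp, h4]; simp [lvBW]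
    · rw [List.mem_map] at hp
      obtain ⟨i, hi, rfl⟩ := hp
      rw [h3, h5]
      simp only [lvBW, hneg]
      ring
    · simp only [List.mem_singleton] at hp; rw [hp, h3, h6]
      simp only [lvBW, hneg]
      push_cast; ring
    · simp at hp
    · simp only [List.mem_singleton] at hp; rw [hp, h7]; simp [lvBW]
    · unfold chainCol at hp
      rw [List.mem_flatMap] at hp
      obtain ⟨e, he, hp⟩ := hp
      have he' := (List.mem_filter.1 he).1
      have hes : e.1 = s := by
        have := (List.mem_filter.1 he).2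
        exact Nat.eq_of_beq_eq_true this
      unfold entryCol at hp
      cases hq : e.2.toList[k-1]? with
      | none => rw [hq] at hp; simp at hp
      | some q =>
        rw [hq] at hp
        simp only [List.mem_singleton] at hp
        rw [hp]
        have := hch e he' (k - 1) q hq
        simp only [lvBW]
        rw [this, hes]
        have hk : 1 ≤ k := Nat.one_le_iff_ne_zero.2 h7
        congr 2
        push_cast [hk]
        ring

include hD in
theorem EF_entry_ne_zeroW (w : ℕ → ℤ) (F : Type*) [Field F] (r : ℕ) (hr : r < D.nroots) (k : ℕ)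
    (row col : D.Idx) (hne : EF D F r k row col ≠ 0) :
    lvIW D w row = lvIW D w col + (k : ℤ) * htW D w r := by
  unfold EF at hne
  rw [Matrix.map_apply, toMat_apply] at hne
  have h0 : coef (E D r k (enc D col)) (enc D row) ≠ 0 := by
    intro h0; rw [h0] at hne; simp at hne
  obtain ⟨p, hp, hb⟩ := coef_ne_zero_mem _ _ h0
  have := E_homogW D hD w r hr k (enc D col) p hp
  unfold lvIW
  rw [← hb, this]

include hD in
/-- `x_r(t) - 1` raises the weighted level by at least one when `ht_w r ≥ 1` -/
theorem x_sub_one_raisesW (w : ℕ → ℤ) (F : Type*) [Field F] (r : ℕ) (hr : r < D.nroots)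
    (hp : 1 ≤ htW D w r) (t : F) : Raises (lvIW D w) 1 (D.x F r t - 1) := by
  rw [x_eq_sum D (wf_all D hD) F r hr, Finset.sum_range_succ', pow_zero, one_smul, EF_eq_mapMatrix,
    toMat_E_zero]
  simp only [map_one, add_sub_cancel_right]
  apply Raises.sum
  intro k _
  apply Raises.smul
  intro row col hne
  have := EF_entry_ne_zeroW D hD w F r hr (k + 1) row col hne
  rw [this]
  push_cast
  nlinarith

/-- matrices preserving the weighted level -/
def Graded0 {F : Type*} [Field F] (w : ℕ → ℤ) (M : Matrix D.Idx D.Idx F) : Prop :=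
  ∀ row col, M row col ≠ 0 → lvIW D w row = lvIW D w col

include hD in
/-- `x_r(t)` preserves the weighted level when `ht_w r = 0` -/
theorem x_graded0 (w : ℕ → ℤ) (F : Type*) [Field F] (r : ℕ) (hr : r < D.nroots)
    (hp : htW D w r = 0) (t : F) : Graded0 D w (D.x F r t) := by
  intro row col hne
  rw [x_eq_sum D (wf_all D hD) F r hr, Matrix.sum_apply] at hne
  obtain ⟨k, -, hk⟩ := Finset.exists_ne_zero_of_sum_ne_zero hne
  rw [Matrix.smul_apply, smul_eq_mul] at hk
  have h1 : EF D F r k row col ≠ 0 := right_ne_zero_of_mul hk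
  have := EF_entry_ne_zeroW D hD w F r hr k row col h1
  rw [this, hp, mul_zero, add_zero]

end Cfsg.Agent.Lib.Helper36
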