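import Cfsg.Agent.Lib.Helper36.ChevFieldMap
import Cfsg.Agent.Lib.Helper36.ChevN

/-! # Graph automorphisms of Chevalley groups as signed permutation matrices (helper36) -/

set_option autoImplicit false

namespace Cfsg.Agent.Lib.Helper36

open Cfsg Cfsg.Lie

/-- tables of a graph automorphism: permutation of the roots and of the fundamental roots, signs, and the inverse -/
structure GraphTab where
  ρT : List ℕ
  ρsT : List ℕ
  εT : List ℤ
  ρiT : List ℕ
  ρsiT : List ℕ

namespace GraphTab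
variable (G : GraphTab)

def ρ (r : ℕ) : ℕ := G.ρT.getD r 0
def ρs (j : ℕ) : ℕ := G.ρsT.getD j 0
def ε (r : ℕ) : ℤ := G.εT.getD r 0
def ρi (r : ℕ) : ℕ := G.ρiT.getD r 0
def ρsi (j : ℕ) : ℕ := G.ρsiT.getD j 0

/-- the signed permutation matrix, as a sparse literal -/
def lit : SMat := fun c =>
  match c with
  | .inl j => [(.inl (G.ρs j), 1)]
  | .inr s => [(.inr (G.ρ s), G.ε s)]

/-- its inverse -/
def litInv : SMat := fun c =>
  match c with
  | .inl j => [(.inl (G.ρsi j), 1)]
  | .inr s => [(.inr (G.ρi s), G.ε (G.ρi s))]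

end GraphTab

variable (D : ChevalleyDatum) (G : GraphTab)

/-- the table check -/
def chkGraph : Bool :=
  ((List.range D.nroots).all fun r => decide (G.ρ r < D.nroots) && decide (G.ρi r < D.nroots) &&
    decide (G.ε r = 1 ∨ G.ε r = -1)) &&
  ((List.range D.rank).all fun j => decide (G.ρs j < D.rank) && decide (G.ρsi j < D.rank)) &&
  ((allCols D).all fun c => vecEq (comp G.lit G.litInv c) (oneM c) && vecEq (comp G.litInv G.lit c) (oneM c)) &&
  ((List.range D.nroots).all fun r => [0, 1, 2, 3].all fun k => (allCols D).all fun c =>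
    vecEq ((MExp.comp (.lit G.lit) (.E r k)).evalF (mkFast D) c)
      ((MExp.smul (G.ε r ^ k) (.comp (.E (G.ρ r) k) (.lit G.lit))).evalF (mkFast D) c))

theorem chkGraph_spec (h : chkGraph D G = true) :
    (∀ r < D.nroots, G.ρ r < D.nroots ∧ G.ρi r < D.nroots ∧ (G.ε r = 1 ∨ G.ε r = -1)) ∧
    (∀ j < D.rank, G.ρs j < D.rank ∧ G.ρsi j < D.rank) ∧
    (∀ c ∈ allCols D, vecEq (comp G.lit G.litInv c) (oneM c) = true ∧ vecEq (comp G.litInv G.lit c) (oneM c) = true) ∧
    (∀ r < D.nroots, ∀ k ∈ [0, 1, 2, 3], ∀ c ∈ allCols D,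
      vecEq ((MExp.comp (.lit G.lit) (.E r k)).evalF (mkFast D) c)
        ((MExp.smul (G.ε r ^ k) (.comp (.E (G.ρ r) k) (.lit G.lit))).evalF (mkFast D) c) = true) := by
  unfold chkGraph at h
  simp only [Bool.and_eq_true, List.all_eq_true, List.mem_range, decide_eq_true_eq] at h
  obtain ⟨⟨⟨h1, h2⟩, h3⟩, h4⟩ := h
  exact ⟨fun r hr => ⟨(h1 r hr).1.1, (h1 r hr).1.2, (h1 r hr).2⟩, fun j hj => h2 j hj, fun c hc => h3 c hc,
    fun r hr k hk c hc => h4 r hr k hk c hc⟩

theorem lit_inRange (h : chkGraph D G = true) (c : BIdx) (hc : inb D c) : InRange D (G.lit c) := by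
  obtain ⟨h1, h2, -, -⟩ := chkGraph_spec D G h
  intro p hp
  rcases c with j | s
  · simp only [GraphTab.lit, List.mem_singleton] at hp
    rw [hp]; exact (h2 j hc).1
  · simp only [GraphTab.lit, List.mem_singleton] at hp
    rw [hp]; exact (h1 s hc).1

theorem litInv_inRange (h : chkGraph D G = true) (c : BIdx) (hc : inb D c) : InRange D (G.litInv c) := by
  obtain ⟨h1, h2, -, -⟩ := chkGraph_spec D G h
  intro p hp
  rcases c with j | s
  · simp only [GraphTab.litInv, List.mem_singleton] at hp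
    rw [hp]; exact (h2 j hc).2
  · simp only [GraphTab.litInv, List.mem_singleton] at hp
    rw [hp]; exact (h1 s hc).2.1

/-- the integer matrix of the graph automorphism -/
def tauZ : Matrix D.Idx D.Idx ℤ := toMat D G.lit
def tauInvZ : Matrix D.Idx D.Idx ℤ := toMat D G.litInv

theorem tauZ_mul_inv (h : chkGraph D G = true) : tauZ D G * tauInvZ D G = 1 := by
  obtain ⟨-, -, h3, -⟩ := chkGraph_spec D G h
  unfold tauZ tauInvZ
  rw [← toMat_comp D _ _ (fun col => litInv_inRange D G h _ (inb_enc D col)), ← toMat_oneM D]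
  apply toMat_eq_of_forall
  intro c hc
  exact (h3 c ((mem_allCols_iff D c).2 hc)).1

theorem tauInvZ_mul (h : chkGraph D G = true) : tauInvZ D G * tauZ D G = 1 := by
  obtain ⟨-, -, h3, -⟩ := chkGraph_spec D G h
  unfold tauZ tauInvZ
  rw [← toMat_comp D _ _ (fun col => lit_inRange D G h _ (inb_enc D col)), ← toMat_oneM D]
  apply toMat_eq_of_forall
  intro c hc
  exact (h3 c ((mem_allCols_iff D c).2 hc)).2

theorem tauZ_mul_E (hwf : wf D = true) (hf : wfFast D = true) (h : chkGraph D G = true) (r : ℕ) (hr : r < D.nroots)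
    (k : ℕ) (hk : k ∈ [0, 1, 2, 3]) :
    tauZ D G * toMat D (E D r k) = G.ε r ^ k • (toMat D (E D (G.ρ r) k) * tauZ D G) := by
  obtain ⟨h1, -, -, h4⟩ := chkGraph_spec D G h
  have := MExp.sem_eq_of_check_all D hwf hf (MExp.comp (.lit G.lit) (.E r k))
    (MExp.smul (G.ε r ^ k) (.comp (.E (G.ρ r) k) (.lit G.lit)))
    ⟨fun c hc => lit_inRange D G h c hc, hr⟩ ⟨(h1 r hr).1, fun c hc => lit_inRange D G h c hc⟩
    (fun c hc => h4 r hr k hk c hc)
  simpa [MExp.sem, tauZ] using this

section field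
variable (F : Type*) [Field F]

/-- the matrix of the graph automorphism over a field -/
noncomputable def tauF : Matrix D.Idx D.Idx F := (Int.castRingHom F).mapMatrix (tauZ D G)
noncomputable def tauInvF : Matrix D.Idx D.Idx F := (Int.castRingHom F).mapMatrix (tauInvZ D G)

/-- the graph automorphism matrix as an element of the general linear group -/
noncomputable def tauGL (h : chkGraph D G = true) : GL D.Idx F :=
  ⟨tauF D G F, tauInvF D G F,
    by unfold tauF tauInvF; rw [← map_mul, tauZ_mul_inv D G h, map_one],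
    by unfold tauF tauInvF; rw [← map_mul, tauInvZ_mul D G h, map_one]⟩

theorem tauF_mul_x (hwf : wf D = true) (hf : wfFast D = true) (h : chkGraph D G = true) (r : ℕ) (hr : r < D.nroots)
    (t : F) : tauF D G F * D.x F r t = D.x F (G.ρ r) ((G.ε r : F) * t) * tauF D G F := by
  obtain ⟨h1, -, -, -⟩ := chkGraph_spec D G h
  rw [x_eq_sum D hwf F r hr, x_eq_sum D hwf F _ (h1 r hr).1, Finset.mul_sum, Finset.sum_mul]
  apply Finset.sum_congr rfl
  intro k hk
  have hk' : k ∈ [0, 1, 2, 3] := by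
    rw [Finset.mem_range] at hk
    interval_cases k <;> simp
  rw [EF_eq_mapMatrix, EF_eq_mapMatrix, Matrix.mul_smul, Matrix.smul_mul]
  unfold tauF
  rw [← map_mul, tauZ_mul_E D G hwf hf h r hr k hk', ← map_mul, map_zsmul, mul_pow, ← Int.cast_pow,
    ← Int.cast_smul_eq_zsmul F, smul_smul, mul_comm]

end field

end Cfsg.Agent.Lib.Helper36
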