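import Cfsg.Agent.Lib.Helper36.ChevGraph
import Cfsg.Agent.Lib.Helper36.ChevTabD4
import Cfsg.Agent.Lib.Helper36.ChevTabE6

/-! # The triality automorphism of D₄ and the graph automorphism of E₆ (helper36) -/

set_option autoImplicit false

namespace Cfsg.Agent.Lib.Helper36

open Cfsg Cfsg.Lie

/-- triality: p₁ → p₃ → p₄ → p₁ -/
def graphD4 : GraphTab where
  ρT := [0, 1, 6, 2, 7, 10, 3, 8, 4, 9, 11, 5, 18, 12, 14, 19, 15, 20, 13, 16, 21, 17, 22, 23]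
  ρsT := [2, 1, 3, 0]
  εT := [1, 1, -1, 1, -1, 1, -1, 1, -1, 1, 1, 1, 1, 1, 1, -1, 1, -1, 1, -1, 1, -1, 1, 1]
  ρiT := [0, 1, 3, 6, 8, 11, 2, 4, 7, 9, 5, 10, 13, 18, 14, 16, 19, 21, 12, 15, 17, 20, 22, 23]
  ρsiT := [3, 1, 0, 2]

/-- the graph automorphism of E₆: p₁ ↔ p₆, p₃ ↔ p₅ -/
def graphE6 : GraphTab where
  ρT := [0, 1, 2, 5, 16, 3, 6, 17, 8, 19, 22, 11, 26, 30, 33, 35, 4, 7, 18, 9, 20, 23, 10, 21, 24, 25, 12, 27, 31, 34, 13, 28, 32, 14, 29, 15, 56, 42, 57, 39, 43, 58, 37, 40, 44, 59, 46, 47, 50, 61, 48, 51, 62, 53, 64, 67, 36, 38, 41, 45, 60, 49, 52, 63, 54, 65, 68, 55, 66, 69, 70, 71]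
  ρsT := [5, 1, 4, 3, 2, 0]
  εT := [1, 1, 1, 1, -1, 1, 1, -1, 1, -1, -1, 1, -1, 1, -1, 1, -1, -1, 1, -1, 1, 1, -1, 1, 1, 1, -1, 1, -1, 1, 1, -1, 1, -1, 1, 1, 1, 1, -1, 1, -1, 1, 1, -1, 1, -1, 1, 1, 1, -1, 1, 1, -1, 1, -1, -1, 1, -1, 1, -1, 1, -1, -1, 1, -1, 1, 1, -1, 1, 1, 1, 1]
  ρiT := [0, 1, 2, 5, 16, 3, 6, 17, 8, 19, 22, 11, 26, 30, 33, 35, 4, 7, 18, 9, 20, 23, 10, 21, 24, 25, 12, 27, 31, 34, 13, 28, 32, 14, 29, 15, 56, 42, 57, 39, 43, 58, 37, 40, 44, 59, 46, 47, 50, 61, 48, 51, 62, 53, 64, 67, 36, 38, 41, 45, 60, 49, 52, 63, 54, 65, 68, 55, 66, 69, 70, 71]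
  ρsiT := [5, 1, 4, 3, 2, 0]

theorem chkGraph_D4 : chkGraph chevD4 graphD4 = true := by decide +kernel
theorem chkGraph_E6 : chkGraph chevE6 graphE6 = true := by decide +kernel

end Cfsg.Agent.Lib.Helper36
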