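import Cfsg.Agent.Lib.Helper36.ChevM

set_option autoImplicit false

namespace Cfsg.Agent.Lib.Helper36

open Cfsg Cfsg.Lie

/-- generalized permutation matrix: column `s` is `a s` times the basis vector `π s` -/
def PM {n R : Type*} [DecidableEq n] [Zero R] (π : n → n) (a : n → R) : Matrix n n R :=
  Matrix.of fun s' s => if s' = π s then a s else 0

theorem PM_apply {n R : Type*} [DecidableEq n] [Zero R] (π : n → n) (a : n → R) (s' s : n) :
    PM π a s' s = if s' = π s then a s else 0 := rfl

section PM
variable {n R : Type*} [DecidableEq n] [Fintype n] [CommRing R]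

theorem PM_mul_diagonal (π : n → n) (a v : n → R) :
    PM π a * Matrix.diagonal v = PM π (fun s => a s * v s) := by
  ext s' s
  rw [Matrix.mul_diagonal, PM_apply, PM_apply]
  split_ifs <;> simp

theorem diagonal_mul_PM (π : n → n) (a v : n → R) :
    Matrix.diagonal v * PM π a = PM π (fun s => v (π s) * a s) := by
  ext s' s
  rw [Matrix.diagonal_mul, PM_apply, PM_apply]
  split_ifs with h
  · rw [h]
  · simp

theorem PM_mul_PM (π π' : n → n) (a a' : n → R) :
    PM π a * PM π' a' = PM (π ∘ π') (fun s => a (π' s) * a' s) := by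
  ext s' s
  rw [Matrix.mul_apply, PM_apply]
  rw [Finset.sum_eq_single (π' s)]
  · simp [PM_apply]
  · intro k _ hk
    simp [PM_apply, hk]
  · intro h; exact absurd (Finset.mem_univ _) h

theorem PM_id (a : n → R) : PM id a = Matrix.diagonal a := by
  ext s' s
  rw [PM_apply, Matrix.diagonal_apply]
  by_cases h : s' = s
  · subst h; simp
  · simp [h]

end PM

variable (D : ChevalleyDatum)

/-- the permutation of the roots induced by the `i`-th fundamental reflection -/
def wFin (i : ℕ) : Fin D.nroots → Fin D.nroots :=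
  fun s => if h : nW D i s < D.nroots then ⟨nW D i s, h⟩ else s

/-- the action of the `i`-th fundamental reflection on the coroot coordinates -/
def NH (F : Type*) [Field F] (i : ℕ) : Matrix (Fin D.rank) (Fin D.rank) F :=
  Matrix.of fun j' j =>
    (if j' = j then 1 else 0) - (if (j' : ℕ) = i then ((D.cartan j (D.simple i) : ℤ) : F) else 0)

theorem wFin_val (h2 : chkN2 D = true) (i : ℕ) (hi : i < D.rank) (s : Fin D.nroots) :
    ((wFin D i s : Fin D.nroots) : ℕ) = nW D i s := by
  obtain ⟨-, -, -, -, hs⟩ := chkN2_spec D h2 i hi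
  unfold wFin
  rw [dif_pos (hs s s.isLt).1]

theorem nMat_blocks (hwf : wf D = true) (hN : NProp D) (h2 : chkN2 D = true) (F : Type*) [Field F]
    (i : ℕ) (hi : i < D.rank) :
    D.nMat F (D.simple i) 1 =
      Matrix.fromBlocks (NH D F i) 0 0 (PM (wFin D i) (fun s => ((nEta D i s : ℤ) : F))) := by
  ext row col
  rw [nMat_simple_entry D hwf hN h2 F i hi]
  rcases row with j' | s' <;> rcases col with j | s
  · simp only [Matrix.fromBlocks_apply₁₁, NH, Matrix.of_apply, enc, Sum.map_inl, Nlit, coef_cons, coef_nil,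
      add_zero]
    by_cases h1 : j' = j
    · subst h1
      by_cases h3 : (j' : ℕ) = i
      · simp [h3, sub_eq_add_neg]
      · have : ¬ i = (j' : ℕ) := fun h => h3 h.symm
        simp [h3, this]
    · have h1' : ¬ (j : ℕ) = (j' : ℕ) := fun h => h1 (Fin.ext h).symm
      by_cases h3 : (j' : ℕ) = i
      · have h4 : ¬ (j : ℕ) = i := fun h => h1' (h.trans h3.symm)
        simp [h1, h3, h4]
      · have : ¬ i = (j' : ℕ) := fun h => h3 h.symm
        simp [h1, h1', h3, this]
  · simp [enc, Nlit, coef_cons]
  · simp [enc, Nlit, coef_cons]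
  · simp only [Matrix.fromBlocks_apply₂₂, PM_apply, enc, Sum.map_inr, Nlit, coef_cons, coef_nil, add_zero]
    have hw := wFin_val D h2 i hi s
    by_cases h1 : s' = wFin D i s
    · have : nW D i s = (s' : ℕ) := by rw [h1, hw]
      simp [h1, this]
    · have : ¬ nW D i s = (s' : ℕ) := fun h => h1 (Fin.ext (by rw [hw, h]))
      simp [h1, this]

end Cfsg.Agent.Lib.Helper36
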