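import Cfsg.Agent.Lib.Helper36.ChevBN
import Cfsg.Agent.S0308
import Cfsg.Agent.S0309

/-! # Conjugacy of elements of `H` is realised in `N` (helper36) -/

set_option autoImplicit false

namespace Cfsg.Agent.Lib.Helper36

open Cfsg Cfsg.Lie

section diag
variable {ι R : Type*} [Fintype ι] [DecidableEq ι] [CommRing R] {lv : ι → ℤ}

theorem raises_pow_sub_pow (d : ι → R) {Rm : Matrix ι ι R} (hR : Raises lv 1 Rm) (n : ℕ) :
    Raises lv 1 ((Matrix.diagonal d + Rm) ^ n - Matrix.diagonal d ^ n) := by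
  induction n with
  | zero => simpa using Raises.zero (lv := lv) (R := R) 1
  | succ n ih =>
    have e : (Matrix.diagonal d + Rm) ^ (n + 1) - Matrix.diagonal d ^ (n + 1) =
        ((Matrix.diagonal d + Rm) ^ n - Matrix.diagonal d ^ n) * (Matrix.diagonal d + Rm) +
          Matrix.diagonal d ^ n * Rm := by
      rw [pow_succ, pow_succ]
      noncomm_ring
    rw [e]
    have h0 : Raises lv 0 (Matrix.diagonal d + Rm) :=
      (Raises.of_isDiag (Matrix.isDiag_diagonal d)).add (hR.mono (by norm_num))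
    have h1 : Raises lv 0 (Matrix.diagonal d ^ n) := by
      rw [Matrix.diagonal_pow]
      exact Raises.of_isDiag (Matrix.isDiag_diagonal _)
    have h2 := ih.mul h0
    have h3 := h1.mul hR
    simp only [add_zero, zero_add] at h2 h3
    exact h2.add h3

theorem isDiag_eq_one_of_nilpotent [IsReduced R] {A Rm : Matrix ι ι R} (hA : A.IsDiag) (hR : Raises lv 1 Rm)
    (n : ℕ) (h : (A - 1 + Rm) ^ n = 0) : A = 1 := by
  have hΔ : (A - 1).IsDiag := hA.sub Matrix.isDiag_one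
  obtain ⟨d, hd⟩ : ∃ d : ι → R, A - 1 = Matrix.diagonal d := ⟨_, hΔ.diagonal_diag.symm⟩
  rw [hd] at h
  have h1 := raises_pow_sub_pow (lv := lv) d hR n
  rw [h, zero_sub] at h1
  have h2 : Raises lv 1 (Matrix.diagonal d ^ n) := by simpa using h1.neg
  rw [Matrix.diagonal_pow] at h2
  have h3 : Matrix.diagonal (d ^ n) + 1 = (1 : Matrix ι ι R) := by
    apply eq_one_of_isDiag_of_raises (lv := lv)
    · exact (Matrix.isDiag_diagonal _).add Matrix.isDiag_one
    · simpa using h2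
  have h4 : Matrix.diagonal (d ^ n) = (0 : Matrix ι ι R) := by simpa using h3
  have h5 : d = 0 := by
    funext i
    have := congrFun (congrFun h4 i) i
    rw [Matrix.diagonal_apply_eq, Matrix.zero_apply, Pi.pow_apply] at this
    exact (IsReduced.eq_zero _ ⟨n, this⟩)
  rw [h5] at hd
  have h6 : (Matrix.diagonal (0 : ι → R) : Matrix ι ι R) = 0 := by
    ext i j
    simp [Matrix.diagonal_apply]
  rw [h6, sub_eq_zero] at hd
  exact hd

end diag

variable (D : ChevalleyDatum) (hD : D ∈ [chevG2, chevB2, chevD4, chevF4, chevE6, chevE7, chevE8])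

section hconj
variable (F : Type*) [Field F]

include hD in
/-- `m = a m' c` with `a, c ∈ U` and `m'⁻¹ m ∈ H` forces `m = m'` -/
theorem eq_of_UmU_of_diag (m m' a c : GL D.Idx F) (ha : a ∈ D.posUnipotent F) (hc : c ∈ D.posUnipotent F)
    (hk : m'⁻¹ * m ∈ D.diagonalSubgroup F) (e : m = a * m' * c) : m = m' := by
  have hkd := isDiag_of_mem_diagonal D hD F _ (inv_mem hk)
  have hcr : Raises (lvI D) 1 ((c : Matrix D.Idx D.Idx F) - 1) := posUnipotent_le_raises D hD F hc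
  have har : Raises (lvI D) 1 (((a⁻¹ : GL D.Idx F) : Matrix D.Idx D.Idx F) - 1) :=
    posUnipotent_le_raises D hD F (inv_mem ha)
  have hnil := har.pow_card_eq_zero
  -- T = m'⁻¹ a⁻¹ m' = c k⁻¹
  have eT : m'⁻¹ * a⁻¹ * m' = c * (m'⁻¹ * m)⁻¹ := by
    rw [e]; group
  have eT' : ((m'⁻¹ : GL D.Idx F) : Matrix D.Idx D.Idx F) * ((a⁻¹ : GL D.Idx F) : Matrix D.Idx D.Idx F) *
      (m' : Matrix D.Idx D.Idx F) =
      (c : Matrix D.Idx D.Idx F) * (((m'⁻¹ * m)⁻¹ : GL D.Idx F) : Matrix D.Idx D.Idx F) := by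
    rw [← Units.val_mul, ← Units.val_mul, ← Units.val_mul, eT]
  set A : Matrix D.Idx D.Idx F := (((m'⁻¹ * m)⁻¹ : GL D.Idx F) : Matrix D.Idx D.Idx F) with hA
  have hRm : Raises (lvI D) 1 (((c : Matrix D.Idx D.Idx F) - 1) * A) := by
    have := hcr.mul (Raises.of_isDiag (lv := lvI D) hkd)
    simpa using this
  have hpow : (A - 1 + ((c : Matrix D.Idx D.Idx F) - 1) * A) ^ (Fintype.card D.Idx) = 0 := by
    have e1 : A - 1 + ((c : Matrix D.Idx D.Idx F) - 1) * A =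
        ((m'⁻¹ : GL D.Idx F) : Matrix D.Idx D.Idx F) *
          (((a⁻¹ : GL D.Idx F) : Matrix D.Idx D.Idx F) - 1) * (m' : Matrix D.Idx D.Idx F) := by
      have e2 : ((m'⁻¹ : GL D.Idx F) : Matrix D.Idx D.Idx F) * (m' : Matrix D.Idx D.Idx F) = 1 := by
        rw [← Units.val_mul, inv_mul_cancel, Units.val_one]
      have e3 : ((m'⁻¹ : GL D.Idx F) : Matrix D.Idx D.Idx F) *
          (((a⁻¹ : GL D.Idx F) : Matrix D.Idx D.Idx F) - 1) * (m' : Matrix D.Idx D.Idx F) =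
          ((m'⁻¹ : GL D.Idx F) : Matrix D.Idx D.Idx F) * ((a⁻¹ : GL D.Idx F) : Matrix D.Idx D.Idx F) *
            (m' : Matrix D.Idx D.Idx F) -
          ((m'⁻¹ : GL D.Idx F) : Matrix D.Idx D.Idx F) * (m' : Matrix D.Idx D.Idx F) := by
        noncomm_ring
      rw [e3, eT', e2]
      noncomm_ring
    rw [e1, Units.conj_pow', hnil, mul_zero, zero_mul]
  have hA1 := isDiag_eq_one_of_nilpotent (lv := lvI D) hkd hRm _ hpow
  have hk1 : (m'⁻¹ * m)⁻¹ = 1 := Units.ext (by rw [← hA, hA1, Units.val_one])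
  rw [inv_eq_one, inv_mul_eq_one] at hk1
  exact hk1.symm

include hD in
/-- two elements of `H` conjugate in the Chevalley group are conjugate by an element of `N` -/
theorem diag_conj_monomial (h45 : ∀ i < D.rank, H45 D F i) (h₁ h₂ g : GL D.Idx F)
    (h1 : h₁ ∈ D.diagonalSubgroup F) (h2 : h₂ ∈ D.diagonalSubgroup F) (hg : g ∈ D.group F)
    (hc : g * h₁ * g⁻¹ = h₂) : ∃ n ∈ D.monomialSubgroup F, n * h₁ * n⁻¹ = h₂ := by
  obtain ⟨P, hB, hN, -⟩ := exists_bnPair D hD F h45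
  have hBG := borel_le_group D hD F
  have hNG := monomial_le_group D hD F
  have hHN := diagonal_le_monomial D F
  have hHU := diagonal_le_normalizer_pos D hD F
  -- Bruhat decomposition of `g`
  obtain ⟨n, hn, hgn⟩ := Cfsg.Agent.S0308.result P ⟨g, hg⟩
  rw [hN, Subgroup.mem_subgroupOf] at hn
  rw [DoubleCoset.mem_doubleCoset] at hgn
  obtain ⟨b, hb, b', hb', e⟩ := hgn
  rw [SetLike.mem_coe, hB, Subgroup.mem_subgroupOf] at hb hb'
  have e' : g = (b : GL D.Idx F) * (n : GL D.Idx F) * (b' : GL D.Idx F) := congrArg Subtype.val e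
  obtain ⟨u, hu, k, hk, eb⟩ := (mem_borel_iff D hD F _).1 hb
  obtain ⟨u₂, hu₂, k', hk', eb'⟩ := (mem_borel_iff D hD F _).1 hb'
  -- `g = u n₁ u'`
  set n₁ : GL D.Idx F := k * (n : GL D.Idx F) * k' with hn₁
  set u' : GL D.Idx F := k'⁻¹ * u₂ * k' with hu'
  have hn₁N : n₁ ∈ D.monomialSubgroup F := mul_mem (mul_mem (hHN hk) hn) (hHN hk')
  have conjU : ∀ (x v : GL D.Idx F), x ∈ D.diagonalSubgroup F → v ∈ D.posUnipotent F →
      x * v * x⁻¹ ∈ D.posUnipotent F := fun x v hx hv =>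
    (Subgroup.mem_normalizer_iff.1 (hHU hx) v).1 hv
  have hu'U : u' ∈ D.posUnipotent F := by
    have := conjU k'⁻¹ u₂ (inv_mem hk') hu₂
    rwa [inv_inv] at this
  have eg : g = u * n₁ * u' := by
    rw [e', ← eb, ← eb', hn₁, hu']; group
  -- `n₁ h₁ = a (h₂ n₁) c`
  have key : n₁ * h₁ = (u⁻¹ * (h₂ * u * h₂⁻¹)) * (h₂ * n₁) * (u' * (h₁⁻¹ * u' * h₁)⁻¹) := by
    have e3 : g * h₁ = h₂ * g := by rw [← hc]; group
    rw [eg] at e3
    have : n₁ * h₁ = u⁻¹ * (u * n₁ * u' * h₁) * (h₁⁻¹ * u'⁻¹ * h₁) := by group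
    rw [this, e3]
    group
  have ha : u⁻¹ * (h₂ * u * h₂⁻¹) ∈ D.posUnipotent F := mul_mem (inv_mem hu) (conjU h₂ u h2 hu)
  have hcU : u' * (h₁⁻¹ * u' * h₁)⁻¹ ∈ D.posUnipotent F := by
    refine mul_mem hu'U (inv_mem ?_)
    have := conjU h₁⁻¹ u' (inv_mem h1) hu'U
    rwa [inv_inv] at this
  have hm : n₁ * h₁ ∈ D.monomialSubgroup F := mul_mem hn₁N (hHN h1)
  have hm' : h₂ * n₁ ∈ D.monomialSubgroup F := mul_mem (hHN h2) hn₁N
  -- the double cosets of `n₁ h₁` and `h₂ n₁` coincide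
  have hkH : (h₂ * n₁)⁻¹ * (n₁ * h₁) ∈ D.diagonalSubgroup F := by
    have hmem : (⟨n₁ * h₁, hNG hm⟩ : ↥(D.group F)) ∈
        DoubleCoset.doubleCoset (⟨h₂ * n₁, hNG hm'⟩ : ↥(D.group F)) (P.B : Set ↥(D.group F)) P.B := by
      rw [DoubleCoset.mem_doubleCoset]
      refine ⟨⟨_, hBG (pos_le_borel D F ha)⟩, ?_, ⟨_, hBG (pos_le_borel D F hcU)⟩, ?_, Subtype.ext key⟩
      · rw [SetLike.mem_coe, hB, Subgroup.mem_subgroupOf]; exact pos_le_borel D F ha
      · rw [SetLike.mem_coe, hB, Subgroup.mem_subgroupOf]; exact pos_le_borel D F hcU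
    have heq := DoubleCoset.doubleCoset_eq_of_mem hmem
    have h9 := (Cfsg.Agent.S0309.result P (n := ⟨h₂ * n₁, hNG hm'⟩) (n' := ⟨n₁ * h₁, hNG hm⟩)
      (by rw [hN, Subgroup.mem_subgroupOf]; exact hm') (by rw [hN, Subgroup.mem_subgroupOf]; exact hm)).1 heq.symm
    rw [hB, Subgroup.mem_subgroupOf] at h9
    rw [← borel_inf_monomial D hD F]
    exact Subgroup.mem_inf.2 ⟨h9, mul_mem (inv_mem hm') hm⟩
  have hfin := eq_of_UmU_of_diag D hD F _ _ _ _ ha hcU hkH key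
  refine ⟨n₁, hn₁N, ?_⟩
  rw [hfin]; group

end hconj

end Cfsg.Agent.Lib.Helper36
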