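import Cfsg.Agent.Lib.Helper36.ChevRoot

/-! # The diagonal matrices h_r(t) for all roots r (helper36) -/

set_option autoImplicit false

namespace Cfsg.Agent.Lib.Helper36

open Cfsg Cfsg.Lie

variable (D : ChevalleyDatum) (hD : D ∈ [chevG2, chevB2, chevD4, chevF4, chevE6, chevE7, chevE8])

/-- the Cartan integer `⟨s, r^∨⟩` for arbitrary roots `r`, `s` -/
def gc (r s : ℕ) : ℤ := ((List.range D.rank).map fun j => cor D r j * D.cartan j s).sum

/-- the diagonal matrix `h_r(t)` -/
def hDiag (F : Type*) [Field F] (r : ℕ) (t : F) : Matrix D.Idx D.Idx F :=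
  Matrix.diagonal (Sum.elim (fun _ => (1 : F)) (fun s : Fin D.nroots => t ^ gc D r s))

include hD in
theorem gc_simple (i s : ℕ) (hi : i < D.rank) : gc D (D.simple i) s = D.cartan i s := by
  unfold gc
  have : ((List.range D.rank).map fun j => cor D (D.simple i) j * D.cartan j s) =
      (List.range D.rank).map fun j => if j = i then D.cartan j s else 0 := by
    apply List.map_congr_left
    intro j hj
    rw [cor_simple D hD i j hi (List.mem_range.1 hj)]
    split_ifs <;> simp
  rw [this, sum_range_ite, if_pos hi]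

include hD in
theorem gc_reflect (i r s : ℕ) (hi : i < D.rank) (hr : r < D.nroots) (hs : s < D.nroots) :
    gc D (D.reflectRoot i r) s = gc D r (D.reflectRoot i s) := by
  obtain ⟨-, -, -, -, hs'⟩ := chkN2_spec D (chkN2_all D hD) i hi
  obtain ⟨-, h2', -, -, -, -, h7'⟩ := hs' s hs
  have t1 := (conjSpec_all D hD i s hi hs).t1
  rw [h2'] at t1 h7'
  unfold gc
  have e1 : ((List.range D.rank).map fun j => cor D (D.reflectRoot i r) j * D.cartan j s) =
      (List.range D.rank).map fun j => cor D r j * D.cartan j s -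
        (if j = i then corT D i r * D.cartan j s else 0) := by
    apply List.map_congr_left
    intro j hj
    rw [cor_reflect D hD i r j hi hr (List.mem_range.1 hj)]
    split_ifs <;> ring
  have e2 : ((List.range D.rank).map fun j => cor D r j * D.cartan j (D.reflectRoot i s)) =
      (List.range D.rank).map fun j => cor D r j * D.cartan j s -
        D.cartan i s * (D.cartan j (D.simple i) * cor D r j) := by
    apply List.map_congr_left
    intro j hj
    rw [t1 j (List.mem_range.1 hj), h7']
    ring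
  rw [e1, e2, list_sum_map_sub, list_sum_map_sub, sum_range_ite, if_pos hi, List.sum_map_mul_left]
  unfold corT
  ring

include hD in
theorem nMat_mul_hDiag {F : Type*} [Field F] (i r : ℕ) (hi : i < D.rank) (hr : r < D.nroots) (t : F) :
    D.nMat F (D.simple i) 1 * hDiag D F r t = hDiag D F (D.reflectRoot i r) t * D.nMat F (D.simple i) 1 := by
  have h2 := chkN2_all D hD
  obtain ⟨-, -, -, -, hs'⟩ := chkN2_spec D h2 i hi
  rw [nMat_blocks D (wf_all D hD) (nProp_all D hD) h2 F i hi]
  have e : ∀ r', hDiag D F r' t = Matrix.fromBlocks 1 0 0 (Matrix.diagonal fun s : Fin D.nroots => t ^ gc D r' s) := by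
    intro r'
    unfold hDiag
    rw [← Matrix.diagonal_one, Matrix.fromBlocks_diagonal]
  rw [e, e, Matrix.fromBlocks_multiply, Matrix.fromBlocks_multiply]
  simp only [Matrix.zero_mul, Matrix.mul_zero, add_zero, zero_add, Matrix.one_mul, Matrix.mul_one]
  rw [diagonal_mul_PM, PM_mul_diagonal]
  congr 2
  funext s
  have hw := wFin_val D h2 i hi s
  rw [hw, (hs' s s.isLt).2.1, gc_reflect D hD i r _ hi hr ((hs' s s.isLt).2.1 ▸ (hs' s s.isLt).1),
    ← (hs' s s.isLt).2.1, ← (hs' _ (hs' s s.isLt).1).2.1, (hs' s s.isLt).2.2.2.2.2.1]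
  ring

include hD in
/-- `h_r(t) = n_r(t) n_r(-1) = n_r(-t) n_r(1)` is the diagonal matrix `hDiag r t`, for every root `r` -/
theorem hMat_all {F : Type*} [Field F] (r : ℕ) (hr : r < D.nroots) :
    ∀ t : F, t ≠ 0 → D.hMat F r t = hDiag D F r t ∧ D.nMat F r (-t) * D.nMat F r 1 = hDiag D F r t := by
  refine root_induction D hD (fun r => ∀ t : F, t ≠ 0 →
    D.hMat F r t = hDiag D F r t ∧ D.nMat F r (-t) * D.nMat F r 1 = hDiag D F r t) ?_ ?_ r hr
  · intro i hi t ht
    have e : hDiag D F (D.simple i) t =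
        Matrix.diagonal (Sum.elim (fun _ => (1 : F)) (fun s : Fin D.nroots => t ^ (D.cartan i s))) := by
      unfold hDiag
      congr 2
      funext s
      rw [gc_simple D hD i s hi]
    rw [e]
    exact ⟨hMat_simple D hD i hi t ht, hMat_simple' D hD i hi t ht⟩
  · intro i hi r hr ih t ht
    obtain ⟨ih1, ih2⟩ := ih t ht
    obtain ⟨-, -, -, -, hs'⟩ := chkN2_spec D (chkN2_all D hD) i hi
    obtain ⟨-, -, h3, -, -, -, -⟩ := hs' r hr
    have hNN := nMat_one_mul_neg_one D hD (F := F) i hi
    have c1 := nMat_mul_nMat_nMat D hD (F := F) i r hi hr t (-1)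
    have c2 := nMat_mul_nMat_nMat D hD (F := F) i r hi hr (-t) 1
    rw [← hMat_eq, ih1, nMat_mul_hDiag D hD i r hi hr t] at c1
    rw [ih2, nMat_mul_hDiag D hD i r hi hr t] at c2
    have cancel : ∀ A B : Matrix D.Idx D.Idx F, A * D.nMat F (D.simple i) 1 = B * D.nMat F (D.simple i) 1 → A = B := by
      intro A B hAB
      have := congrArg (· * D.nMat F (D.simple i) (-1)) hAB
      simpa [mul_assoc, hNN] using this
    have c1' := cancel _ _ c1
    have c2' := cancel _ _ c2
    rcases h3 with h | h
    · rw [h] at c1' c2'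
      simp only [Int.cast_one, one_mul] at c1' c2'
      rw [hMat_eq]
      exact ⟨c1'.symm, c2'.symm⟩
    · rw [h] at c1' c2'
      simp only [Int.cast_neg, Int.cast_one, neg_mul, one_mul, neg_neg] at c1' c2'
      rw [hMat_eq]
      exact ⟨c2'.symm, c1'.symm⟩

end Cfsg.Agent.Lib.Helper36
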