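import Cfsg.Agent.Lib.Helper36.ChevBN

/-! # Irreducibility of the (B,N)-pair of a Chevalley group (helper36) -/

set_option autoImplicit false

namespace Cfsg.Agent.Lib.Helper36

open Cfsg Cfsg.Lie

variable (D : ChevalleyDatum) (hD : D ∈ [chevG2, chevB2, chevD4, chevF4, chevE6, chevE7, chevE8])

/-- the fundamental reflections `w_i`, `w_j` do not commute (seen on the root `p_j` or `p_i`) -/
def adjS (i j : ℕ) : Bool :=
  (wRoot D [i, j, i, j] (D.simple j) != D.simple j) || (wRoot D [j, i, j, i] (D.simple i) != D.simple i)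

/-- an ordering of the nodes of the Dynkin diagram in which every node is joined to an earlier one -/
def connOrder : List ℕ :=
  if D.rank = 4 then [1, 0, 2, 3] else [0, 2, 3, 1, 4, 5, 6, 7].filter (· < D.rank)

/-- the Dynkin diagram is connected -/
def chkConn : Bool :=
  ((List.range D.rank).all fun i => (connOrder D).contains i) &&
    (List.range (connOrder D).length).all fun k =>
      k == 0 || (List.range k).any fun k' => adjS D ((connOrder D).getD k' 0) ((connOrder D).getD k 0)

theorem chkConn_G2 : chkConn chevG2 = true := by decide +kernel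
theorem chkConn_B2 : chkConn chevB2 = true := by decide +kernel
theorem chkConn_D4 : chkConn chevD4 = true := by decide +kernel
theorem chkConn_F4 : chkConn chevF4 = true := by decide +kernel
theorem chkConn_E6 : chkConn chevE6 = true := by decide +kernel
theorem chkConn_E7 : chkConn chevE7 = true := by decide +kernel
theorem chkConn_E8 : chkConn chevE8 = true := by decide +kernel

include hD in
theorem chkConn_all : chkConn D = true :=
  seven_cases (P := fun D => chkConn D = true) D hD chkConn_G2 chkConn_B2 chkConn_D4 chkConn_F4 chkConn_E6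
    chkConn_E7 chkConn_E8

/-- a set of nodes containing some but not all nodes is joined to its complement -/
theorem conn_cut (o : List ℕ) (adj : ℕ → ℕ → Prop)
    (hchain : ∀ k < o.length, k = 0 ∨ ∃ k' < k, adj (o.getD k' 0) (o.getD k 0)) (p : ℕ → Prop)
    (i0 j0 : ℕ) (hi0 : i0 ∈ o) (hj0 : j0 ∈ o) (hp : p i0) (hq : ¬ p j0) :
    ∃ i j, ((p i ∧ ¬ p j) ∨ (p j ∧ ¬ p i)) ∧ adj i j := by
  by_contra hcon
  push Not at hcon
  have key : ∀ k < o.length, (p (o.getD k 0) ↔ p (o.getD 0 0)) := by
    intro k
    induction k using Nat.strong_induction_on with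
    | _ k ih =>
      intro hk
      rcases hchain k hk with rfl | ⟨k', hk', hadj⟩
      · exact Iff.rfl
      · have h1 := ih k' hk' (lt_trans hk' hk)
        rw [← h1]
        by_contra hne
        have := hcon (o.getD k' 0) (o.getD k 0)
        apply this _ hadj
        by_cases h2 : p (o.getD k' 0)
        · left
          exact ⟨h2, fun h3 => hne ⟨fun _ => h2, fun _ => h3⟩⟩
        · right
          refine ⟨?_, h2⟩
          by_contra h3
          exact hne ⟨fun h => absurd h h3, fun h => absurd h h2⟩
  obtain ⟨a, ha, rfl⟩ := List.getElem_of_mem hi0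
  obtain ⟨b, hb, rfl⟩ := List.getElem_of_mem hj0
  have h1 := key a ha
  have h2 := key b hb
  rw [List.getD_eq_getElem _ _ ha] at h1
  rw [List.getD_eq_getElem _ _ hb] at h2
  exact hq (h2.2 (h1.1 hp))

include hD in
theorem exists_adj (p : ℕ → Prop) (i0 j0 : ℕ) (hi0 : i0 < D.rank) (hj0 : j0 < D.rank) (hp : p i0) (hq : ¬ p j0) :
    ∃ i j, i < D.rank ∧ j < D.rank ∧ p i ∧ ¬ p j ∧ adjS D i j = true := by
  have h := chkConn_all D hD
  unfold chkConn at h
  rw [Bool.and_eq_true, List.all_eq_true, List.all_eq_true] at h
  obtain ⟨h1, h2⟩ := h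
  have hmem : ∀ i < D.rank, i ∈ connOrder D := by
    intro i hi
    have := h1 i (List.mem_range.2 hi)
    simpa using this
  have hlt : ∀ i ∈ connOrder D, i < D.rank := by
    intro i hi
    unfold connOrder at hi
    split_ifs at hi with h4
    · simp only [List.mem_cons, List.not_mem_nil, or_false] at hi
      omega
    · have := (List.mem_filter.1 hi).2
      simpa using this
  have hchain : ∀ k < (connOrder D).length, k = 0 ∨ ∃ k' < k,
      adjS D ((connOrder D).getD k' 0) ((connOrder D).getD k 0) = true := by
    intro k hk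
    have := h2 k (List.mem_range.2 hk)
    simp only [Bool.or_eq_true, beq_iff_eq, List.any_eq_true, List.mem_range] at this
    rcases this with h | ⟨k', hk', h⟩
    · exact Or.inl h
    · exact Or.inr ⟨k', hk', h⟩
  have hsymm : ∀ i j, adjS D i j = adjS D j i := by
    intro i j
    unfold adjS
    rw [Bool.or_comm]
  -- restrict `p` to the nodes
  obtain ⟨i, j, hij, hadj⟩ := conn_cut (connOrder D) (fun i j => (i ∈ connOrder D ∧ j ∈ connOrder D) ∧ adjS D i j = true)
    (by
      intro k hk
      rcases hchain k hk with h | ⟨k', hk', h⟩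
      · exact Or.inl h
      · refine Or.inr ⟨k', hk', ⟨?_, ?_⟩, h⟩
        · rw [List.getD_eq_getElem _ _ (lt_trans hk' hk)]
          exact List.getElem_mem _
        · rw [List.getD_eq_getElem _ _ hk]
          exact List.getElem_mem _)
    p i0 j0 (hmem i0 hi0) (hmem j0 hj0) hp hq
  obtain ⟨⟨hi, hj⟩, hadj⟩ := hadj
  rcases hij with ⟨h3, h4⟩ | ⟨h3, h4⟩
  · exact ⟨i, j, hlt i hi, hlt j hj, h3, h4, hadj⟩
  · exact ⟨j, i, hlt j hj, hlt i hi, h3, h4, by rw [hsymm]; exact hadj⟩

end Cfsg.Agent.Lib.Helper36
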