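import Cfsg.Agent.Lib.Helper36.ChevN
import Cfsg.Prelude.Def_ChevAutomorphisms

/-! # Root coefficient tables and the characters `s ↦ c ^ m_i(s)` of the root lattice (helper36) -/

set_option autoImplicit false

namespace Cfsg.Agent.Lib.Helper36

open Cfsg Cfsg.Lie

def tabG2 : Array (Array ℤ) :=
  #[#[-3, -2], #[-3, -1], #[-2, -1], #[-1, -1], #[-1, 0], #[0, -1], #[0, 1], #[1, 0], #[1, 1], #[2, 1], #[3, 1], #[3, 2]]

def tabB2 : Array (Array ℤ) :=
  #[#[-2, -1], #[-1, -1], #[-1, 0], #[0, -1], #[0, 1], #[1, 0], #[1, 1], #[2, 1]]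

def tabF4 : Array (Array ℤ) :=
  #[#[-2, -4, -3, -2], #[-2, -4, -3, -1], #[-2, -4, -2, -1], #[-2, -3, -2, -1], #[-2, -2, -2, -1], #[-2, -2, -1, -1], #[-2, -2, -1, 0], #[-1, -3, -2, -1], #[-1, -2, -2, -1], #[-1, -2, -1, -1], #[-1, -2, -1, 0], #[-1, -1, -1, -1], #[-1, -1, -1, 0], #[-1, -1, 0, 0], #[-1, 0, 0, 0], #[0, -2, -2, -1], #[0, -2, -1, -1], #[0, -2, -1, 0], #[0, -1, -1, -1], #[0, -1, -1, 0], #[0, -1, 0, 0], #[0, 0, -1, -1], #[0, 0, -1, 0], #[0, 0, 0, -1], #[0, 0, 0, 1], #[0, 0, 1, 0], #[0, 0, 1, 1], #[0, 1, 0, 0], #[0, 1, 1, 0], #[0, 1, 1, 1], #[0, 2, 1, 0], #[0, 2, 1, 1], #[0, 2, 2, 1], #[1, 0, 0, 0], #[1, 1, 0, 0], #[1, 1, 1, 0], #[1, 1, 1, 1], #[1, 2, 1, 0], #[1, 2, 1, 1], #[1, 2, 2, 1], #[1, 3, 2, 1], #[2, 2, 1, 0], #[2, 2, 1, 1], #[2, 2, 2, 1], #[2, 3, 2, 1], #[2, 4, 2, 1], #[2, 4, 3, 1], #[2, 4, 3, 2]]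

/-- the coefficients of the roots on the fundamental roots (equal to the coroot table for one root length) -/
def rootCoef (D : ChevalleyDatum) : Array (Array ℤ) :=
  if D.nroots = 12 then tabG2 else if D.nroots = 8 then tabB2 else if D.nroots = 48 then tabF4 else D.coroot

/-- the coefficient of the `i`-th fundamental root in the root `s` -/
def mCoef (D : ChevalleyDatum) (i s : ℕ) : ℤ := ((rootCoef D).getD s #[]).getD i 0

/-- packed table of root coefficients -/
def mTab (D : ChevalleyDatum) : ℕ := pack2 4 D.rank ((rootCoef D).toList.map fun row => row.toList.map encZ)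

def mF (D : ChevalleyDatum) (i s : ℕ) : ℤ := ((get2 4 D.rank (mTab D) s i : ℕ) : ℤ) - 8

/-- check of the root coefficient table against the chain table -/
def chkM (D : ChevalleyDatum) : Bool :=
  decide ((rootCoef D).size = D.nroots) &&
  ((rootCoef D).toList.all fun row => decide (row.size = D.rank) && row.toList.all fun z => decide (-8 ≤ z ∧ z < 8)) &&
  ((List.range D.rank).all fun i =>
    decide (mF D i (D.simple i) = 1) &&
    (List.range D.nroots).all fun s => decide (mF D i (nW D i s) = mF D i s - D.cartan i s)) &&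
  ((List.range D.nroots).all fun r =>
    ((List.range D.rank).all fun i => decide (mF D i (D.neg r) = - mF D i r)) &&
    (D.chain.getD r #[]).toList.all fun e =>
      decide (e.1 < D.nroots) &&
      match e.2.toList with
      | [] => true
      | q :: _ => decide (q.1 < D.nroots) && (List.range D.rank).all fun i => decide (mF D i q.1 = mF D i r + mF D i e.1))

variable (D : ChevalleyDatum)

theorem chainRoot_one_spec (r s k : ℕ) (h : D.chainRoot r s 1 = some k) :
    ∃ e ∈ (D.chain.getD r #[]).toList, e.1 = s ∧ ∃ q rest, e.2.toList = q :: rest ∧ q.1 = k := by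
  unfold ChevalleyDatum.chainRoot ChevalleyDatum.chainEntry at h
  cases hf : (D.chain.getD r #[]).toList.find? (fun e => e.1 = s) with
  | none => rw [hf] at h; simp at h
  | some e =>
    rw [hf] at h
    refine ⟨e, List.mem_of_find?_eq_some hf, by simpa using List.find?_some hf, ?_⟩
    simp only [Nat.sub_self] at h
    rcases hl : e.2.toList with _ | ⟨q, rest⟩
    · rw [hl] at h; simp at h
    · rw [hl] at h
      simp only [List.getElem?_cons_zero, Option.map_some, Option.some.injEq] at h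
      exact ⟨q, rest, rfl, h⟩

/-- properties of the root coefficients -/
def MProp : Prop :=
  (∀ i < D.rank, mCoef D i (D.simple i) = 1) ∧
  (∀ i < D.rank, ∀ s < D.nroots, mCoef D i (nW D i s) = mCoef D i s - D.cartan i s) ∧
  (∀ i < D.rank, ∀ r < D.nroots, mCoef D i (D.neg r) = - mCoef D i r) ∧
  (∀ i < D.rank, ∀ r s k, r < D.nroots → D.chainRoot r s 1 = some k → mCoef D i k = mCoef D i r + mCoef D i s)

theorem mF_eq (h : chkM D = true) (i s : ℕ) (hi : i < D.rank) (hs : s < D.nroots) : mF D i s = mCoef D i s := by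
  unfold chkM at h
  simp only [Bool.and_eq_true, decide_eq_true_eq, List.all_eq_true] at h
  obtain ⟨⟨⟨h1, h2⟩, -⟩, -⟩ := h
  exact get2Z (rootCoef D) D.rank (fun row hrow => ⟨(h2 row hrow).1, (h2 row hrow).2⟩) s i (by omega) hi

theorem mProp_of_chk (hwf : wf D = true) (h2 : chkN2 D = true) (h : chkM D = true) : MProp D := by
  have hm := mF_eq D h
  unfold chkM at h
  simp only [Bool.and_eq_true, decide_eq_true_eq, List.all_eq_true] at h
  obtain ⟨⟨-, h3⟩, h4⟩ := h
  refine ⟨?_, ?_, ?_, ?_⟩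
  · intro i hi
    obtain ⟨hp, -⟩ := chkN2_spec D h2 i hi
    rw [← hm i _ hi hp]
    exact (h3 i (List.mem_range.2 hi)).1
  · intro i hi s hs
    obtain ⟨hp, -, -, -, hs'⟩ := chkN2_spec D h2 i hi
    rw [← hm i _ hi (hs' s hs).1, ← hm i _ hi hs]
    exact (h3 i (List.mem_range.2 hi)).2 s (List.mem_range.2 hs)
  · intro i hi r hr
    rw [← hm i _ hi (wf_neg D hwf r hr), ← hm i _ hi hr]
    exact (h4 r (List.mem_range.2 hr)).1 i (List.mem_range.2 hi)
  · intro i hi r s k hr hk
    obtain ⟨e, he, hes, q, rest, hq, hqk⟩ := chainRoot_one_spec D r s k hk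
    have h5 := (h4 r (List.mem_range.2 hr)).2 e he
    rw [hq] at h5
    simp only [Bool.and_eq_true, decide_eq_true_eq, List.all_eq_true] at h5
    obtain ⟨h6, h7, h8⟩ := h5
    have := h8 i (List.mem_range.2 hi)
    rw [hm i _ hi h7, hm i _ hi hr, hm i _ hi h6, hqk, hes] at this
    exact this

/-- the character `s ↦ c ^ m_i(s)` of the root lattice -/
noncomputable def chi {F : Type*} [Field F] (i : ℕ) (c : Fˣ) : ℕ → Fˣ := fun s => c ^ mCoef D i s

theorem chi_isRootCharacter (hM : MProp D) {F : Type*} [Field F] (i : ℕ) (hi : i < D.rank) (c : Fˣ) :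
    D.IsRootCharacter (chi D i c) := by
  obtain ⟨-, -, h3, h4⟩ := hM
  refine ⟨fun r hr => ?_, fun r s k hr _ hk => ?_⟩
  · simp only [chi]
    rw [h3 i hi r hr, zpow_neg]
  · simp only [chi]
    rw [h4 i hi r s k hr hk, zpow_add]

end Cfsg.Agent.Lib.Helper36
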