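import Cfsg.Agent.Lib.Helper36.ChevAll
import Cfsg.Agent.Lib.Helper36.ChevNTabG2
import Cfsg.Agent.Lib.Helper36.ChevNTabB2
import Cfsg.Agent.Lib.Helper36.ChevNTabD4
import Cfsg.Agent.Lib.Helper36.ChevNTabF4
import Cfsg.Agent.Lib.Helper36.ChevNTabE6
import Cfsg.Agent.Lib.Helper36.ChevNTabE7
import Cfsg.Agent.Lib.Helper36.ChevNTabE8

/-! # The monomial matrices n_p(1) for all seven Chevalley data (helper36) -/

set_option autoImplicit false

namespace Cfsg.Agent.Lib.Helper36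

open Cfsg Cfsg.Lie

theorem chkN2_all (D : ChevalleyDatum) (hD : D ∈ [chevG2, chevB2, chevD4, chevF4, chevE6, chevE7, chevE8]) :
    chkN2 D = true :=
  seven_cases (P := fun D => chkN2 D = true) D hD chkN2_G2 chkN2_B2 chkN2_D4 chkN2_F4 chkN2_E6 chkN2_E7 chkN2_E8

theorem nProp_all (D : ChevalleyDatum) (hD : D ∈ [chevG2, chevB2, chevD4, chevF4, chevE6, chevE7, chevE8]) :
    NProp D :=
  seven_cases (P := NProp) D hD nProp_G2 nProp_B2 nProp_D4 nProp_F4 nProp_E6 nProp_E7 nProp_E8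

end Cfsg.Agent.Lib.Helper36
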