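import Cfsg.Agent.Lib.Helper36.ChevConjAll
import Cfsg.Agent.Lib.Helper36.ChevMAll

/-! # Conjugation of `n_r(t)` and `h_r(t)` by `n_p` (helper36) -/

set_option autoImplicit false
set_option maxRecDepth 100000

namespace Cfsg.Agent.Lib.Helper36

open Cfsg Cfsg.Lie

theorem chkConjS_all (D : ChevalleyDatum) (hD : D ∈ [chevG2, chevB2, chevD4, chevF4, chevE6, chevE7, chevE8]) :
    ∀ i < D.rank, chkConjS D i = true :=
  seven_cases (P := fun D => ∀ i < D.rank, chkConjS D i = true) D hD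
    (chkConjS_of_all _ chkConjSAll_G2) (chkConjS_of_all _ chkConjSAll_B2) (chkConjS_of_all _ chkConjSAll_D4)
    (chkConjS_of_all _ chkConjSAll_F4) (chkConjS_of_all _ chkConjSAll_E6) (chkConjS_of_all _ chkConjSAll_E7)
    (fun i hi => by
      have hi' : i < 8 := hi
      interval_cases i
      · exact chkConjS_E8_0
      · exact chkConjS_E8_1
      · exact chkConjS_E8_2
      · exact chkConjS_E8_3
      · exact chkConjS_E8_4
      · exact chkConjS_E8_5
      · exact chkConjS_E8_6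
      · exact chkConjS_E8_7)

theorem conjSpec_all (D : ChevalleyDatum) (hD : D ∈ [chevG2, chevB2, chevD4, chevF4, chevE6, chevE7, chevE8])
    (i s : ℕ) (hi : i < D.rank) (hs : s < D.nroots) : ConjSpec D i s := by
  have h1 := chkConjS_all D hD i hi
  unfold chkConjS at h1
  rw [List.all_eq_true] at h1
  exact conjSpec_of_chk D (wfFast_all D hD) (wf2_all D hD) (chkN2_all D hD) i s hi hs
    (h1 s (List.mem_range.2 hs))

theorem reflectRoot_neg (D : ChevalleyDatum) (hD : D ∈ [chevG2, chevB2, chevD4, chevF4, chevE6, chevE7, chevE8])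
    (i s : ℕ) (hi : i < D.rank) (hs : s < D.nroots) :
    D.reflectRoot i (D.neg s) = D.neg (D.reflectRoot i s) := by
  obtain ⟨-, -, -, -, hs'⟩ := chkN2_spec D (chkN2_all D hD) i hi
  have h1 := (hs' s hs).2.1
  have h2 := (hs' (D.neg s) (wf_neg D (wf_all D hD) s hs)).2.1
  rw [← h1, ← h2]
  exact (conjSpec_all D hD i s hi hs).t2a

variable (D : ChevalleyDatum)

theorem neg_zpow_eq (F : Type*) [Field F] (c : F) (z : ℤ) :
    (((-1 : ℤ) ^ z.natAbs : ℤ) : F) * (-c) ^ z = c ^ z := by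
  rw [neg_eq_neg_one_mul c, mul_zpow, ← mul_assoc]
  have := neg_one_zpow_mul F (-z)
  rw [neg_neg, Int.natAbs_neg] at this
  rw [this, one_mul]

theorem hMat_simple_eq' (hwf : wf D = true) (hchk : Cfsg.Agent.S2157.chk D = true) (hN : NProp D)
    (h2 : chkN2 D = true) (hM : MProp D) (F : Type*) [Field F] (i : ℕ) (hi : i < D.rank) (c : F) (hc : c ≠ 0) :
    D.nMat F (D.simple i) (-c) * D.nMat F (D.simple i) 1 =
      Matrix.diagonal (Sum.elim (fun _ => (1 : F)) (fun s : Fin D.nroots => c ^ (D.cartan i s))) := by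
  obtain ⟨-, -, -, -, hs⟩ := chkN2_spec D h2 i hi
  have h1 := nMat_c_blocks D hwf hchk hN h2 hM F i hi (Units.mk0 (-c) (neg_ne_zero.2 hc))
  have h3 := nMat_c_blocks D hwf hchk hN h2 hM F i hi (1 : Fˣ)
  simp only [Units.val_mk0, Units.val_one] at h1 h3
  rw [h1, h3, Matrix.fromBlocks_multiply]
  simp only [Matrix.zero_mul, Matrix.mul_zero, add_zero, zero_add]
  rw [NH_mul_NH D h2 F i hi, PM_mul_PM, wFin_wFin D h2 i hi, PM_id, ← Matrix.diagonal_one,
    Matrix.fromBlocks_diagonal]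
  congr 1
  funext x
  rcases x with j | s
  · rfl
  · simp only [Sum.elim_inr]
    have hw := wFin_val D h2 i hi s
    obtain ⟨-, -, -, a4, -, -, a7⟩ := hs s s.isLt
    rw [hw, a7, neg_neg]
    have e : ((nEta D i (nW D i s) : ℤ) : F) * ((nEta D i s : ℤ) : F) = (((-1 : ℤ) ^ (D.cartan i s).natAbs : ℤ) : F) := by
      rw [← Int.cast_mul, mul_comm, a4]
    calc ((nEta D i (nW D i s) : ℤ) : F) * (-c) ^ D.cartan i s * (((nEta D i s : ℤ) : F) * 1 ^ (-D.cartan i s))
        = (((nEta D i (nW D i s) : ℤ) : F) * ((nEta D i s : ℤ) : F)) * (-c) ^ D.cartan i s := by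
          rw [one_zpow]; ring
      _ = c ^ D.cartan i s := by rw [e, neg_zpow_eq]


variable (hD : D ∈ [chevG2, chevB2, chevD4, chevF4, chevE6, chevE7, chevE8])

include hD in
theorem nEta_neg (i s : ℕ) (hi : i < D.rank) (hs : s < D.nroots) : nEta D i (D.neg s) = nEta D i s := by
  obtain ⟨-, -, -, -, hs'⟩ := chkN2_spec D (chkN2_all D hD) i hi
  obtain ⟨-, -, h3, -, h5, -, -⟩ := hs' s hs
  rcases h3 with h | h <;> rw [h] at h5 ⊢ <;> omega

include hD in
/-- `n_p n_r(t) = n_{w_p r}(η t) n_p` -/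
theorem nMat_mul_nMat {F : Type*} [Field F] (i r : ℕ) (hi : i < D.rank) (hr : r < D.nroots) (t : F) :
    D.nMat F (D.simple i) 1 * D.nMat F r t =
      D.nMat F (D.reflectRoot i r) (((nEta D i r : ℤ) : F) * t) * D.nMat F (D.simple i) 1 := by
  obtain ⟨-, -, -, -, hs'⟩ := chkN2_spec D (chkN2_all D hD) i hi
  obtain ⟨-, -, h3, -, -, -, -⟩ := hs' r hr
  have hnr : D.neg r < D.nroots := wf_neg D (wf_all D hD) r hr
  have c1 := nMat_mul_x_all D hD i r hi hr t
  have c2 := nMat_mul_x_all D hD i (D.neg r) hi hnr (-t⁻¹)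
  rw [reflectRoot_neg D hD i r hi hr, nEta_neg D hD i r hi hr] at c2
  have e : ((nEta D i r : ℤ) : F) * (-t⁻¹) = -(((nEta D i r : ℤ) : F) * t)⁻¹ := by
    rcases h3 with h | h <;> rw [h] <;> simp
  rw [e] at c2
  set N := D.nMat F (D.simple i) 1
  rw [nMat_eq D F r t, nMat_eq D F (D.reflectRoot i r)]
  calc N * (D.x F r t * (D.x F (D.neg r) (-t⁻¹) * D.x F r t))
      = (N * D.x F r t) * (D.x F (D.neg r) (-t⁻¹) * D.x F r t) := by simp only [mul_assoc]
    _ = _ := by
      rw [c1, mul_assoc, ← mul_assoc N, c2, mul_assoc, c1]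
      simp only [mul_assoc]


include hD in
theorem nMat_mul_nMat_nMat {F : Type*} [Field F] (i r : ℕ) (hi : i < D.rank) (hr : r < D.nroots) (a b : F) :
    D.nMat F (D.simple i) 1 * (D.nMat F r a * D.nMat F r b) =
      D.nMat F (D.reflectRoot i r) (((nEta D i r : ℤ) : F) * a) *
        D.nMat F (D.reflectRoot i r) (((nEta D i r : ℤ) : F) * b) * D.nMat F (D.simple i) 1 := by
  rw [← mul_assoc, nMat_mul_nMat D hD i r hi hr a, mul_assoc, nMat_mul_nMat D hD i r hi hr b, mul_assoc]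

include hD in
/-- `n_p(-c) n_p(1) = h_p(c)` is diagonal, for a fundamental root `p` -/
theorem hMat_simple' {F : Type*} [Field F] (i : ℕ) (hi : i < D.rank) (c : F) (hc : c ≠ 0) :
    D.nMat F (D.simple i) (-c) * D.nMat F (D.simple i) 1 =
      Matrix.diagonal (Sum.elim (fun _ => (1 : F)) (fun s : Fin D.nroots => c ^ (D.cartan i s))) :=
  hMat_simple_eq' D (wf_all D hD) (s2157chk_all D hD) (nProp_all D hD) (chkN2_all D hD) (mProp_all D hD) F i hi c hc

include hD in
theorem nMat_simple_alt {F : Type*} [Field F] (i : ℕ) (hi : i < D.rank) (c : F) (hc : c ≠ 0) :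
    D.nMat F (D.simple i) (-c) * D.nMat F (D.simple i) 1 = D.hMat F (D.simple i) c := by
  rw [hMat_simple' D hD i hi c hc, hMat_simple D hD i hi c hc]

include hD in
theorem nMat_one_mul_neg_one {F : Type*} [Field F] (i : ℕ) (hi : i < D.rank) :
    D.nMat F (D.simple i) 1 * D.nMat F (D.simple i) (-1) = 1 := by
  rw [← hMat_eq, hMat_simple D hD i hi 1 one_ne_zero, ← Matrix.diagonal_one]
  congr 1
  funext x
  rcases x with j | s <;> simp

include hD in
theorem nMat_neg_one_mul_one {F : Type*} [Field F] (i : ℕ) (hi : i < D.rank) :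
    D.nMat F (D.simple i) (-1) * D.nMat F (D.simple i) 1 = 1 := by
  rw [hMat_simple' D hD i hi 1 one_ne_zero, ← Matrix.diagonal_one]
  congr 1
  funext x
  rcases x with j | s <;> simp

include hD in
/-- `n_p h_r(t) = h_{w_p r}(t) n_p` whenever `h_r(t) = n_r(-t) n_r(1)` -/
theorem nMat_mul_hMat_of {F : Type*} [Field F] (i r : ℕ) (hi : i < D.rank) (hr : r < D.nroots) (t : F)
    (halt : D.nMat F r (-t) * D.nMat F r 1 = D.hMat F r t) :
    D.nMat F (D.simple i) 1 * D.hMat F r t = D.hMat F (D.reflectRoot i r) t * D.nMat F (D.simple i) 1 := by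
  obtain ⟨-, -, -, -, hs'⟩ := chkN2_spec D (chkN2_all D hD) i hi
  obtain ⟨-, -, h3, -, -, -, -⟩ := hs' r hr
  rcases h3 with h | h
  · rw [hMat_eq, nMat_mul_nMat_nMat D hD i r hi hr, h, hMat_eq]
    simp
  · rw [← halt, nMat_mul_nMat_nMat D hD i r hi hr, h, hMat_eq]
    simp

end Cfsg.Agent.Lib.Helper36
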