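import Cfsg.Agent.Lib.Helper36.ChevCells
import Cfsg.Agent.S1027
import Cfsg.Agent.S1035
import Cfsg.Agent.S1045

/-! # The order of a finite Chevalley group (helper36) -/

set_option autoImplicit false

namespace Cfsg.Agent.Lib.Helper36

open Cfsg Cfsg.Lie Cfsg.Agent.Lib.Helper18

variable (D : ChevalleyDatum) (hD : D ∈ [chevG2, chevB2, chevD4, chevF4, chevE6, chevE7, chevE8])
variable (F : Type*) [Field F] [Fintype F]

section gen
variable (n : ℕ) (hn : D.rank = n) (M : CoxeterMatrix (Fin n)) (A : Matrix (Fin n) (Fin n) ℤ)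
  (hA : M.IsLiftable (reflMat A))
  (hAc : ∀ i j : Fin n, A i j = D.cartan j (D.simple i)) (hfin : Finite M.Group)
  (hker : ∀ w : M.Group, rho M A hA w = 1 → w = 1)
  (hbraid : ∀ i j : Fin n, chkBraid D (M i j) i j = true)

include hker hbraid in
/-- `d |G| = q^N (q-1)^l ∑_w q^{N(w)}` -/
theorem order_formula (q : ℕ) (hq : Fintype.card F = q) (d N P : ℕ) (hN : D.nroots / 2 = N)
    (hH : d * Nat.card (D.diagonalSubgroup F) = (q - 1) ^ n)
    (hP : poinW' D hD n hn M A hA hAc hfin q Set.univ = P) :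
    d * Nat.card (D.group F) = q ^ N * (q - 1) ^ n * P := by
  have h45 : ∀ i < D.rank, H45 D F i := fun i hi => Cfsg.Agent.S1045.result D hD i hi
  have hG := card_group' D hD F n hn M A hA hAc hfin hker hbraid h45
  have hU := Cfsg.Agent.S1027.result (F := F) D hD
  rw [hq] at hG hU
  rw [hG, hU, hN, hP, ← hH]
  ring

end gen

end Cfsg.Agent.Lib.Helper36
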