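import Cfsg.Agent.Lib.Helper36.ChevTwCore

/-! # Counting the fixed points of the twisting automorphism on the groups `U_w⁻` (helper36) -/

set_option autoImplicit false
set_option linter.unusedSectionVars false

namespace Cfsg.Agent.Lib.Helper36

open Cfsg Cfsg.Lie Cfsg.Agent.Lib.Helper18

/-- the fixed field of the `q`-power map in a field of order `q ^ d` has `q` elements -/
theorem card_fix_frob (F : Type*) [Field F] [Fintype F] (q d : ℕ) (hq : 1 < q) (hd : 0 < d)
    (hF : Fintype.card F = q ^ d) : Nat.card {t : F // t ^ q = t} = q := by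
  classical
  have hker := IsCyclic.card_powMonoidHom_ker Fˣ (q - 1)
  have hcardU : Nat.card Fˣ = q ^ d - 1 := by
    rw [Nat.card_eq_fintype_card, Fintype.card_units, hF]
  have hgcd : (q ^ d - 1).gcd (q - 1) = q - 1 := by
    apply Nat.gcd_eq_right
    have := Nat.sub_dvd_pow_sub_pow q 1 d
    rwa [one_pow] at this
  rw [hcardU, hgcd] at hker
  let e : {t : F // t ^ q = t} ≃ Option ↥(powMonoidHom (q - 1) : Fˣ →* Fˣ).ker :=
    { toFun := fun t => if h : t.1 = 0 then none else some ⟨Units.mk0 t.1 h, by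
        rw [MonoidHom.mem_ker, powMonoidHom_apply]
        apply Units.ext
        rw [Units.val_pow_eq_pow_val, Units.val_mk0, Units.val_one]
        have h1 : t.1 ^ (q - 1) * t.1 = t.1 := by rw [← pow_succ, Nat.sub_add_cancel (by omega)]; exact t.2
        have h2 : (t.1 ^ (q - 1) - 1) * t.1 = 0 := by rw [sub_mul, h1, one_mul, sub_self]
        rcases mul_eq_zero.1 h2 with h3 | h3
        · exact sub_eq_zero.1 h3
        · exact absurd h3 h⟩
      invFun := fun o => match o with
        | none => ⟨0, zero_pow (by omega)⟩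
        | some u => ⟨(u.1 : F), by
            have := u.2
            rw [MonoidHom.mem_ker, powMonoidHom_apply] at this
            have h1 : ((u.1 : Fˣ) : F) ^ (q - 1) = 1 := by
              rw [← Units.val_pow_eq_pow_val, this, Units.val_one]
            calc ((u.1 : Fˣ) : F) ^ q = ((u.1 : Fˣ) : F) ^ (q - 1) * (u.1 : F) := by
                  rw [← pow_succ, Nat.sub_add_cancel (by omega)]
              _ = (u.1 : F) := by rw [h1, one_mul]⟩
      left_inv := by
        intro t
        by_cases h : t.1 = 0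
        · simp only [h, dite_true]
          exact Subtype.ext h.symm
        · simp only [h, dite_false]
          rfl
      right_inv := by
        intro o
        cases o with
        | none => simp
        | some u =>
          have hne : ((u.1 : Fˣ) : F) ≠ 0 := Units.ne_zero _
          simp only [hne, dite_false]
          congr 1
          apply Subtype.ext
          apply Units.ext
          rfl }
  rw [Nat.card_congr e, Nat.card_eq_fintype_card, Fintype.card_option, ← Nat.card_eq_fintype_card, hker]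
  omega

section
variable (D : ChevalleyDatum) (hD : D ∈ [chevG2, chevB2, chevD4, chevF4, chevE6, chevE7, chevE8])

theorem Nw_eq_cellExp (l : List ℕ) : Nw D l = cellExp D l := by
  unfold Nw cellExp negList ChevalleyDatum.posRoots
  rw [ncard_fin_eq_countP D.nroots (fun r => D.IsPosRoot r ∧ D.IsNegRoot (wRoot D l r)), List.filter_filter,
    List.countP_eq_length_filter]
  congr 1
  apply List.filter_congr
  intro r _
  simp [Bool.and_comm]

end

/-- further table checks on the folded reflections: the orbit sizes, and the roots made negative -/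
def chkFundC (D : ChevalleyDatum) (fund : List (List ℕ)) (d : ℕ) : Bool :=
  fund.all fun J => (J.length == 1 || J.length == d) &&
    ((List.range D.nroots).all fun r =>
      !(decide (D.IsPosRoot r) && decide (D.IsNegRoot (wRoot D J r))) || (pBlock D J).contains r) &&
    (J.all fun j => wRoot D J (D.simple j) == D.neg (D.simple j))

theorem chkFundC_spec (D : ChevalleyDatum) (fund : List (List ℕ)) (d : ℕ) (h : chkFundC D fund d = true)
    (J : List ℕ) (hJ : J ∈ fund) :
    (J.length = 1 ∨ J.length = d) ∧ (∀ r, D.IsPosRoot r → D.IsNegRoot (wRoot D J r) → r ∈ pBlock D J) ∧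
      ∀ j ∈ J, wRoot D J (D.simple j) = D.neg (D.simple j) := by
  unfold chkFundC at h
  simp only [List.all_eq_true, Bool.and_eq_true, Bool.or_eq_true, beq_iff_eq, List.mem_range, Bool.not_eq_true',
    Bool.and_eq_false_iff, decide_eq_false_iff_not, List.contains_iff_mem] at h
  obtain ⟨⟨h1, h2⟩, h4⟩ := h J hJ
  refine ⟨h1, fun r hp hn => ?_, h4⟩
  rcases h2 r hp.1 with (h3 | h3) | h3
  · exact absurd hp h3
  · exact absurd hn h3
  · exact h3

section step
variable (D : ChevalleyDatum) (hD : D ∈ [chevG2, chevB2, chevD4, chevF4, chevE6, chevE7, chevE8])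
variable (G : GraphTab) (orbs fund : List (List ℕ)) (steps : List (List ℕ × List ℕ × List ℕ))
variable (hok : TwOK D G orbs fund steps) (d : ℕ) (hfc : chkFundC D fund d = true)
variable (F : Type*) [Field F] [Fintype F] (φ : F →+* F)

include hD hok in
/-- an element of `U` lies in the twisted group iff it is fixed by `σ` -/
theorem pos_mem_tw_iff (g : GL D.Idx F) (hg : g ∈ D.posUnipotent F) :
    g ∈ twGroup D hD G F φ fund ↔ sigma D G hok.hG F φ g = g :=
  ⟨sigma_twGroup D hD G hok.hG orbs fund F φ hok.orb hok.fnd g,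
    posFixed_mem D hD G hok.hG orbs fund F φ hok.orb hok.fnd steps hok.reach g hg⟩

include hD hok in
/-- the number of elements of an orbit root subgroup -/
theorem card_XB (B : List ℕ) (hB : B ∈ orbs) : Nat.card ↥(XB D hD F B) = Fintype.card F ^ B.length := by
  classical
  obtain ⟨hk, hb⟩ := chkOrb_spec D G orbs hok.orb
  obtain ⟨hnd, -, -, -⟩ := chkKeyOrd_spec D _ hk
  have hndB : B.Nodup := (List.nodup_flatten.1 hnd).1 B hB
  have hcomm : B.Pairwise fun r s => ∀ t u : F, Commute (xGL D hD F r t) (xGL D hD F s u) := by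
    refine hndB.pairwise_of_forall_ne ?_
    intro r hr s hs hne
    exact (so_of_chk D hD F r s ((hb B hB).2.1 r hr s hs hne)).xx
  let Ψ : (Fin B.length → F) → ↥(XB D hD F B) := fun f =>
    ⟨wordGL D hD F (B.map fun r => (r, extOrd F B f r)), word_mem_XB D hD F B _⟩
  have hinj : Function.Injective Ψ := by
    intro f f' h
    have h1 := congrArg Subtype.val h
    funext i
    have := block_unique D hD G orbs F hok.orb B hB _ _ h1 B[i] (List.getElem_mem _)
    rwa [extOrd_getElem F B hndB, extOrd_getElem F B hndB] at this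
  have hsurj : Function.Surjective Ψ := by
    rintro ⟨g, hg⟩
    obtain ⟨a, rfl⟩ := exists_word_of_mem_XB D hD F B hndB hcomm g hg
    refine ⟨fun i => a B[i], Subtype.ext ?_⟩
    show wordGL D hD F (B.map fun r => (r, extOrd F B (fun i => a B[i]) r)) = _
    congr 1
    apply List.map_congr_left
    intro r hr
    obtain ⟨i, hi, rfl⟩ := List.getElem_of_mem hr
    have := extOrd_getElem F B hndB (fun i => a B[i]) ⟨i, hi⟩
    simp only [Fin.getElem_fin] at this
    exact Prod.ext rfl this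
  rw [← Nat.card_congr (Equiv.ofBijective Ψ ⟨hinj, hsurj⟩), Nat.card_eq_fintype_card, Fintype.card_fun,
    Fintype.card_fin]

include hD hok hfc in
/-- conjugation by `n_J` maps `U_{w}⁻` into `U_{w w_J}⁻` when `w` keeps the roots of `J` positive -/
theorem conj_sGens (l₁ : List ℕ) (hl₁ : ∀ i ∈ l₁, i < D.rank) (J : List ℕ) (hJ : J ∈ fund)
    (hpos : ∀ j ∈ J, D.IsPosRoot (wRoot D l₁ (D.simple j))) (u : GL D.Idx F)
    (hu : u ∈ Subgroup.closure (sGens D F l₁)) :
    nWordGL D hD F J * u * (nWordGL D hD F J)⁻¹ ∈ Subgroup.closure (sGens D F (l₁ ++ J)) := by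
  have hJr := fund_lt D G orbs fund steps hok J hJ
  obtain ⟨-, -, -, -, hJinv, -, -, -⟩ := (chkFundW_spec D G fund hok.fw).2 J hJ
  obtain ⟨-, hJneg, -⟩ := chkFundC_spec D fund d hfc J hJ
  induction hu using Subgroup.closure_induction with
  | mem x hx =>
    obtain ⟨s, t, hs, hws, hx⟩ := hx
    have ex : x = xGL D hD F s t := Units.ext hx
    obtain ⟨ε, -, hc⟩ := nWordGL_conj D hD F J hJr s hs.1
    rw [ex, hc]
    have hlt := wRoot_lt D hD J hJr s hs.1
    refine Subgroup.subset_closure ⟨_, _, ?_, ?_, rfl⟩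
    · rcases pos_or_neg D hD _ hlt with h | h
      · exact h
      · exfalso
        have hsB := hJneg s hs h
        obtain ⟨j, hj, rfl⟩ := List.mem_map.1 hsB
        exact not_pos_and_neg D hD _ (hpos j hj) hws
    · rw [wRoot_append, hJinv s hs.1]
      exact hws
  | one => simp
  | mul x y _ _ ihx ihy =>
    have : nWordGL D hD F J * (x * y) * (nWordGL D hD F J)⁻¹ =
        (nWordGL D hD F J * x * (nWordGL D hD F J)⁻¹) * (nWordGL D hD F J * y * (nWordGL D hD F J)⁻¹) := by group
    rw [this]; exact mul_mem ihx ihy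
  | inv x _ ihx =>
    have : nWordGL D hD F J * x⁻¹ * (nWordGL D hD F J)⁻¹ = (nWordGL D hD F J * x * (nWordGL D hD F J)⁻¹)⁻¹ := by
      group
    rw [this]; exact inv_mem ihx

include hD in
theorem isNegRoot_neg_of_pos (r : ℕ) (hr : D.IsPosRoot r) : D.IsNegRoot (D.neg r) := by
  have hlt := wf_neg D (wf_all D hD) r hr.1
  rcases pos_or_neg D hD _ hlt with h | h
  · exact absurd hr ((pos_negFin D hD ⟨r, hr.1⟩).1 h)
  · exact h

include hD hok hfc in
theorem XB_le_sGens (l₁ : List ℕ) (hl₁ : ∀ i ∈ l₁, i < D.rank) (J : List ℕ) (hJ : J ∈ fund)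
    (hpos : ∀ j ∈ J, D.IsPosRoot (wRoot D l₁ (D.simple j))) :
    XB D hD F (pBlock D J) ≤ Subgroup.closure (sGens D F (l₁ ++ J)) := by
  have hJr := fund_lt D G orbs fund steps hok J hJ
  obtain ⟨-, -, -, -, hJinv, -, -, hJn⟩ := (chkFundW_spec D G fund hok.fw).2 J hJ
  unfold XB
  rw [Subgroup.closure_le]
  rintro x ⟨s, hs, a, rfl⟩
  obtain ⟨j, hj, rfl⟩ := List.mem_map.1 hs
  have hp := (chkN2_spec D (chkN2_all D hD) j (hJr j hj)).1
  refine Subgroup.subset_closure ⟨_, a, isPosRoot_simple D hD j (hJr j hj), ?_, rfl⟩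
  rw [wRoot_append, (chkFundC_spec D fund d hfc J hJ).2.2 j hj, wRoot_neg D hD l₁ hl₁ _ hp]
  exact isNegRoot_neg_of_pos D hD _ (hpos j hj)

include hD hok in
/-- conjugation by `n_J` maps `X_J` into `V` -/
theorem conj_XB_neg (J : List ℕ) (hJ : J ∈ fund) (g : GL D.Idx F) (hg : g ∈ XB D hD F (pBlock D J)) :
    nWordGL D hD F J * g * (nWordGL D hD F J)⁻¹ ∈ D.negUnipotent F := by
  have hJr := fund_lt D G orbs fund steps hok J hJ
  obtain ⟨-, -, -, -, -, -, -, hJn⟩ := (chkFundW_spec D G fund hok.fw).2 J hJ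
  unfold XB at hg
  induction hg using Subgroup.closure_induction with
  | mem x hx =>
    obtain ⟨s, hs, a, rfl⟩ := hx
    obtain ⟨j, hj, rfl⟩ := List.mem_map.1 hs
    have hp := (chkN2_spec D (chkN2_all D hD) j (hJr j hj)).1
    obtain ⟨ε, -, hc⟩ := nWordGL_conj D hD F J hJr _ hp
    rw [hc]
    exact Subgroup.subset_closure ⟨_, _, hJn j hj, xGL_coe D hD F _ _⟩
  | one => simp
  | mul x y _ _ ihx ihy =>
    have : nWordGL D hD F J * (x * y) * (nWordGL D hD F J)⁻¹ =
        (nWordGL D hD F J * x * (nWordGL D hD F J)⁻¹) * (nWordGL D hD F J * y * (nWordGL D hD F J)⁻¹) := by group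
    rw [this]; exact mul_mem ihx ihy
  | inv x _ ihx =>
    have : nWordGL D hD F J * x⁻¹ * (nWordGL D hD F J)⁻¹ = (nWordGL D hD F J * x * (nWordGL D hD F J)⁻¹)⁻¹ := by
      group
    rw [this]; exact inv_mem ihx

include hD hok φ in
/-- uniqueness of the factorisation `x · n_J u n_J⁻¹` -/
theorem step_inj (J : List ℕ) (hJ : J ∈ fund) (x x' u u' : GL D.Idx F) (hx : x ∈ XB D hD F (pBlock D J))
    (hx' : x' ∈ XB D hD F (pBlock D J)) (hu : u ∈ D.posUnipotent F) (hu' : u' ∈ D.posUnipotent F)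
    (e : x * (nWordGL D hD F J * u * (nWordGL D hD F J)⁻¹) = x' * (nWordGL D hD F J * u' * (nWordGL D hD F J)⁻¹)) :
    x = x' ∧ u = u' := by
  obtain ⟨hJN, hJT, hJsq⟩ := tw_nJ D hD G orbs fund steps hok F φ J hJ
  set n := nWordGL D hD F J with hn
  have hy : x'⁻¹ * x ∈ XB D hD F (pBlock D J) := mul_mem (inv_mem hx') hx
  have ey : x'⁻¹ * x = n * (u' * u⁻¹) * n⁻¹ := by
    have : x = x' * (n * u' * n⁻¹) * (n * u * n⁻¹)⁻¹ := by rw [← e]; group
    rw [this]; group
  have hV := conj_XB_neg D hD G orbs fund steps hok F J hJ _ hy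
  rw [← hn] at hV
  have hU : n * (x'⁻¹ * x) * n⁻¹ ∈ D.posUnipotent F := by
    rw [ey]
    have e2 : n * (n * (u' * u⁻¹) * n⁻¹) * n⁻¹ = (n * n) * (u' * u⁻¹) * (n * n)⁻¹ := by group
    rw [e2]
    exact (Subgroup.mem_normalizer_iff.1 (diagonal_le_normalizer_pos D hD F hJsq) _).1 (mul_mem hu' (inv_mem hu))
  have h1 : n * (x'⁻¹ * x) * n⁻¹ = 1 := by
    have : n * (x'⁻¹ * x) * n⁻¹ ∈ D.borelSubgroup F ⊓ D.negUnipotent F := ⟨pos_le_borel D F hU, hV⟩
    rw [borel_inf_neg D hD F] at this
    exact Subgroup.mem_bot.1 this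
  have h2 : x'⁻¹ * x = 1 := by
    have : x'⁻¹ * x = n⁻¹ * (n * (x'⁻¹ * x) * n⁻¹) * n := by group
    rw [this, h1]; group
  have hxx : x = x' := by
    have := inv_mul_eq_one.1 h2
    exact this.symm
  refine ⟨hxx, ?_⟩
  rw [hxx] at e
  have e3 := mul_left_cancel e
  have : u = n⁻¹ * (n * u * n⁻¹) * n := by group
  rw [this, e3]; group

include hD hok hfc in
/-- `N(w w_J) = N(w) + |J|` when `w` keeps the roots of `J` positive -/
theorem Nw_append_fund (l₁ : List ℕ) (hl₁ : ∀ i ∈ l₁, i < D.rank) (J : List ℕ) (hJ : J ∈ fund)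
    (hpos : ∀ j ∈ J, D.IsPosRoot (wRoot D l₁ (D.simple j))) : Nw D (l₁ ++ J) = Nw D l₁ + J.length := by
  have hJr := fund_lt D G orbs fund steps hok J hJ
  obtain ⟨-, -, -, -, hJinv, -, -, -⟩ := (chkFundW_spec D G fund hok.fw).2 J hJ
  have hlJ : ∀ i ∈ l₁ ++ J, i < D.rank := by
    intro i hi
    rcases List.mem_append.1 hi with h | h
    · exact hl₁ i h
    · exact hJr i h
  have hneg : ∀ j ∈ J, D.IsNegRoot (wRoot D (l₁ ++ J) (D.simple j)) := by
    intro j hj
    have hp := (chkN2_spec D (chkN2_all D hD) j (hJr j hj)).1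
    rw [wRoot_append, (chkFundC_spec D fund d hfc J hJ).2.2 j hj, wRoot_neg D hD l₁ hl₁ _ hp]
    exact isNegRoot_neg_of_pos D hD _ (hpos j hj)
  have h1 := Nw_orbit D hD G fund hok.fw (l₁ ++ J) hlJ J hJ hJr hneg
  have h2 : Nw D (l₁ ++ J ++ J) = Nw D l₁ := by
    unfold Nw
    congr 1
    ext r
    simp only [Set.mem_ofPred_eq]
    rw [wRoot_append, wRoot_append, hJinv r r.isLt]
  omega

include hD hok hfc φ in
/-- every element of `U_{w w_J}⁻` factors as `x · n_J u n_J⁻¹` -/
theorem step_surj (l₁ : List ℕ) (hl₁ : ∀ i ∈ l₁, i < D.rank) (J : List ℕ) (hJ : J ∈ fund)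
    (hpos : ∀ j ∈ J, D.IsPosRoot (wRoot D l₁ (D.simple j))) (g : GL D.Idx F)
    (hg : g ∈ Subgroup.closure (sGens D F (l₁ ++ J))) :
    ∃ x ∈ XB D hD F (pBlock D J), ∃ u ∈ Subgroup.closure (sGens D F l₁),
      g = x * (nWordGL D hD F J * u * (nWordGL D hD F J)⁻¹) := by
  have hJr := fund_lt D G orbs fund steps hok J hJ
  have hlJ : ∀ i ∈ l₁ ++ J, i < D.rank := by
    intro i hi
    rcases List.mem_append.1 hi with h | h
    · exact hl₁ i h
    · exact hJr i h
  obtain ⟨-, -, h3, -⟩ := chkFund_spec D G orbs fund hok.fnd J hJ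
  let Θ : ↥(XB D hD F (pBlock D J)) × ↥(Subgroup.closure (sGens D F l₁)) →
      ↥(Subgroup.closure (sGens D F (l₁ ++ J))) := fun p =>
    ⟨p.1.1 * (nWordGL D hD F J * p.2.1 * (nWordGL D hD F J)⁻¹),
      mul_mem (XB_le_sGens D hD G orbs fund steps hok d hfc F l₁ hl₁ J hJ hpos p.1.2)
        (conj_sGens D hD G orbs fund steps hok d hfc F l₁ hl₁ J hJ hpos _ p.2.2)⟩
  have hinj : Function.Injective Θ := by
    rintro ⟨⟨x, hx⟩, ⟨u, hu⟩⟩ ⟨⟨x', hx'⟩, ⟨u', hu'⟩⟩ h
    have h1 := congrArg Subtype.val h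
    obtain ⟨e1, e2⟩ := step_inj D hD G orbs fund steps hok F φ J hJ x x' u u' hx hx'
      (sGens_le_pos D F l₁ hu) (sGens_le_pos D F l₁ hu') h1
    subst e1 e2
    rfl
  have hcard : Nat.card ↥(Subgroup.closure (sGens D F (l₁ ++ J))) ≤
      Nat.card (↥(XB D hD F (pBlock D J)) × ↥(Subgroup.closure (sGens D F l₁))) := by
    rw [Nat.card_prod, card_sGens D hD F _ hlJ, card_sGens D hD F _ hl₁,
      card_XB D hD G orbs fund steps hok F _ h3, ← Nw_eq_cellExp, ← Nw_eq_cellExp,
      Nw_append_fund D hD G orbs fund steps hok d hfc l₁ hl₁ J hJ hpos, pow_add, mul_comm]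
    unfold pBlock
    rw [List.length_map]
  obtain ⟨⟨⟨x, hx⟩, ⟨u, hu⟩⟩, e⟩ := (hinj.bijective_of_nat_card_le hcard).2 ⟨g, hg⟩
  exact ⟨x, hx, u, hu, (congrArg Subtype.val e).symm⟩

include hD hok in
/-- `σ` preserves the orbit root subgroups -/
theorem sigma_XB (B : List ℕ) (hBlt : ∀ r ∈ B, r < D.nroots) (hrot : B.map G.ρ = B.rotate 1) (g : GL D.Idx F)
    (hg : g ∈ XB D hD F B) : sigma D G hok.hG F φ g ∈ XB D hD F B := by
  unfold XB at hg
  induction hg using Subgroup.closure_induction with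
  | mem x hx =>
    obtain ⟨s, hs, a, rfl⟩ := hx
    rw [sigma_xGL D hD G hok.hG F φ s (hBlt s hs)]
    refine Subgroup.subset_closure ⟨G.ρ s, ?_, _, rfl⟩
    have : G.ρ s ∈ B.map G.ρ := List.mem_map.2 ⟨s, hs, rfl⟩
    rw [hrot] at this
    exact List.mem_rotate.1 this
  | one => rw [map_one]; exact one_mem _
  | mul x y _ _ ihx ihy => rw [map_mul]; exact mul_mem ihx ihy
  | inv x _ ihx => rw [map_inv]; exact inv_mem ihx

include hD hok in
/-- `σ` preserves `U_w⁻` when `w` commutes with the graph symmetry -/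
theorem sigma_sGens_self (l : List ℕ) (hl : ∀ i ∈ l, i < D.rank) (hrc : RhoComm D G l) (g : GL D.Idx F)
    (hg : g ∈ Subgroup.closure (sGens D F l)) : sigma D G hok.hG F φ g ∈ Subgroup.closure (sGens D F l) := by
  have h1 := sigma_sGens_le D hD G hok.hG F φ l hl (Subgroup.mem_map_of_mem _ hg)
  have hsg : sGens D F (l.map G.ρs) = sGens D F l := by
    ext x
    constructor
    · rintro ⟨s, t, hs, hws, hx⟩
      exact ⟨s, t, hs, by rw [← hrc s hs.1]; exact hws, hx⟩
    · rintro ⟨s, t, hs, hws, hx⟩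
      exact ⟨s, t, hs, by rw [hrc s hs.1]; exact hws, hx⟩
  rwa [hsg] at h1

include hD hok hfc in
/-- the fixed points of `σ` on `U_{w w_J}⁻` -/
theorem card_step (l₁ : List ℕ) (hl₁ : ∀ i ∈ l₁, i < D.rank) (hrc : RhoComm D G l₁) (J : List ℕ) (hJ : J ∈ fund)
    (hpos : ∀ j ∈ J, D.IsPosRoot (wRoot D l₁ (D.simple j))) :
    Nat.card ↥(Subgroup.closure (sGens D F (l₁ ++ J)) ⊓ twGroup D hD G F φ fund) =
      Nat.card ↥(XB D hD F (pBlock D J) ⊓ twGroup D hD G F φ fund) *
        Nat.card ↥(Subgroup.closure (sGens D F l₁) ⊓ twGroup D hD G F φ fund) := by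
  have hJr := fund_lt D G orbs fund steps hok J hJ
  obtain ⟨hJN, hJT, hJsq⟩ := tw_nJ D hD G orbs fund steps hok F φ J hJ
  obtain ⟨-, -, h3, -, -, h6⟩ := chkFund_spec D G orbs fund hok.fnd J hJ
  obtain ⟨b1, b2, b3⟩ := block_facts D hD G orbs fund F hok.orb hok.fnd J hJ
  have hBU : XB D hD F (pBlock D J) ≤ D.posUnipotent F := by
    unfold XB
    rw [Subgroup.closure_le]
    rintro x ⟨s, hs, a, rfl⟩
    obtain ⟨j, hj, rfl⟩ := List.mem_map.1 hs
    exact xGL_mem_pos D hD F _ (isPosRoot_simple D hD j (hJr j hj)) _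
  have hσn : sigma D G hok.hG F φ (nWordGL D hD F J) = nWordGL D hD F J :=
    sigma_twGroup D hD G hok.hG orbs fund F φ hok.orb hok.fnd _ hJT
  let Θ : ↥(XB D hD F (pBlock D J) ⊓ twGroup D hD G F φ fund) ×
      ↥(Subgroup.closure (sGens D F l₁) ⊓ twGroup D hD G F φ fund) →
      ↥(Subgroup.closure (sGens D F (l₁ ++ J)) ⊓ twGroup D hD G F φ fund) := fun p =>
    ⟨p.1.1 * (nWordGL D hD F J * p.2.1 * (nWordGL D hD F J)⁻¹),
      Subgroup.mem_inf.2 ⟨mul_mem (XB_le_sGens D hD G orbs fund steps hok d hfc F l₁ hl₁ J hJ hpos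
          (Subgroup.mem_inf.1 p.1.2).1)
        (conj_sGens D hD G orbs fund steps hok d hfc F l₁ hl₁ J hJ hpos _ (Subgroup.mem_inf.1 p.2.2).1),
        mul_mem (Subgroup.mem_inf.1 p.1.2).2
          (mul_mem (mul_mem hJT (Subgroup.mem_inf.1 p.2.2).2) (inv_mem hJT))⟩⟩
  have hinj : Function.Injective Θ := by
    rintro ⟨⟨x, hx⟩, ⟨u, hu⟩⟩ ⟨⟨x', hx'⟩, ⟨u', hu'⟩⟩ h
    have h1 := congrArg Subtype.val h
    obtain ⟨e1, e2⟩ := step_inj D hD G orbs fund steps hok F φ J hJ x x' u u' (Subgroup.mem_inf.1 hx).1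
      (Subgroup.mem_inf.1 hx').1 (sGens_le_pos D F l₁ (Subgroup.mem_inf.1 hu).1)
      (sGens_le_pos D F l₁ (Subgroup.mem_inf.1 hu').1) h1
    subst e1 e2
    rfl
  have hsurj : Function.Surjective Θ := by
    rintro ⟨g, hg⟩
    obtain ⟨hg1, hgT⟩ := Subgroup.mem_inf.1 hg
    obtain ⟨x, hx, u, hu, e⟩ := step_surj D hD G orbs fund steps hok d hfc F φ l₁ hl₁ J hJ hpos g hg1
    have hσg := sigma_twGroup D hD G hok.hG orbs fund F φ hok.orb hok.fnd g hgT
    have hσx := sigma_XB D hD G orbs fund steps hok F φ _ (fun r hr => (h6 r (List.mem_append_left _ hr)).1) b3 x hx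
    have hσu := sigma_sGens_self D hD G orbs fund steps hok F φ l₁ hl₁ hrc u hu
    have e' : sigma D G hok.hG F φ x * (nWordGL D hD F J * sigma D G hok.hG F φ u * (nWordGL D hD F J)⁻¹) =
        x * (nWordGL D hD F J * u * (nWordGL D hD F J)⁻¹) := by
      calc sigma D G hok.hG F φ x * (nWordGL D hD F J * sigma D G hok.hG F φ u * (nWordGL D hD F J)⁻¹)
          = sigma D G hok.hG F φ (x * (nWordGL D hD F J * u * (nWordGL D hD F J)⁻¹)) := by
            rw [map_mul, map_mul, map_mul, map_inv, hσn]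
        _ = sigma D G hok.hG F φ g := by rw [e]
        _ = g := hσg
        _ = _ := e
    obtain ⟨e1, e2⟩ := step_inj D hD G orbs fund steps hok F φ J hJ _ _ _ _ hσx hx
      (sGens_le_pos D F l₁ hσu) (sGens_le_pos D F l₁ hu) e'
    have hxT := (pos_mem_tw_iff D hD G orbs fund steps hok F φ x (hBU hx)).2 e1
    have huT := (pos_mem_tw_iff D hD G orbs fund steps hok F φ u (sGens_le_pos D F l₁ hu)).2 e2
    exact ⟨⟨⟨x, Subgroup.mem_inf.2 ⟨hx, hxT⟩⟩, ⟨u, Subgroup.mem_inf.2 ⟨hu, huT⟩⟩⟩, Subtype.ext e.symm⟩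
  rw [← Nat.card_prod, Nat.card_congr (Equiv.ofBijective Θ ⟨hinj, hsurj⟩)]

include hD hok in
/-- the fixed points of `σ` on a fundamental orbit root subgroup are parametrised by the fixed points of `φ^n` -/
theorem card_XB_fund (J : List ℕ) (hJ : J ∈ fund) :
    Nat.card ↥(XB D hD F (pBlock D J) ⊓ twGroup D hD G F φ fund) =
      Nat.card {t : F // φ^[J.length] t = t} := by
  classical
  have hJr := fund_lt D G orbs fund steps hok J hJ
  obtain ⟨-, -, h3, -, -, h6⟩ := chkFund_spec D G orbs fund hok.fnd J hJ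
  obtain ⟨b1, b2, b3⟩ := block_facts D hD G orbs fund F hok.orb hok.fnd J hJ
  obtain ⟨hJne, -⟩ := (chkFundW_spec D G fund hok.fw).2 J hJ
  set B := pBlock D J with hB
  have hlen : B.length = J.length := by rw [hB]; unfold pBlock; rw [List.length_map]
  have hn : 0 < B.length := by rw [hlen]; exact List.length_pos_of_ne_nil hJne
  have hBlt : ∀ r ∈ B, r < D.nroots := fun r hr => (h6 r (List.mem_append_left _ hr)).1
  have hε : ∀ r ∈ B, G.ε (G.ρi r) = 1 := fun r hr => (h6 r (List.mem_append_left _ hr)).2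
  -- the action of `ρ` on the block
  have hρ : ∀ i, i < B.length → G.ρ (B.getD i 0) = B.getD ((i + 1) % B.length) 0 := by
    intro i hi
    have hi' : (i + 1) % B.length < B.length := Nat.mod_lt _ hn
    rw [List.getD_eq_getElem _ _ hi, List.getD_eq_getElem _ _ hi']
    have h1 : (B.map G.ρ)[i]'(by rw [List.length_map]; exact hi) = G.ρ B[i] := List.getElem_map ..
    rw [← h1]
    have h2 : (B.rotate 1)[i]'(by rw [List.length_rotate]; exact hi) = B[(i + 1) % B.length] :=
      List.getElem_rotate ..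
    rw [← h2]
    congr 1
  have hmemD : ∀ i, i < B.length → B.getD i 0 ∈ B := by
    intro i hi
    rw [List.getD_eq_getElem _ _ hi]; exact List.getElem_mem hi
  have hρi : ∀ i, i + 1 < B.length → G.ρi (B.getD (i + 1) 0) = B.getD i 0 := by
    intro i hi
    have h1 := hρ i (by omega)
    rw [Nat.mod_eq_of_lt hi] at h1
    rw [← h1]
    exact ((graph2_spec D G hok.hG).1 _ (hBlt _ (hmemD i (by omega)))).2.2.2.2.1
  have hρi0 : G.ρi (B.getD 0 0) = B.getD (B.length - 1) 0 := by
    have h1 := hρ (B.length - 1) (by omega)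
    have : (B.length - 1 + 1) % B.length = 0 := by
      rw [Nat.sub_add_cancel hn, Nat.mod_self]
    rw [this] at h1
    rw [← h1]
    exact ((graph2_spec D G hok.hG).1 _ (hBlt _ (hmemD _ (by omega)))).2.2.2.2.1
  have hidx : ∀ i, i < B.length → B.idxOf (B.getD i 0) = i := by
    intro i hi
    rw [List.getD_eq_getElem _ _ hi]
    exact List.Nodup.idxOf_getElem b1 i hi
  have hget : ∀ r ∈ B, ∃ i, i < B.length ∧ B.getD i 0 = r := by
    intro r hr
    obtain ⟨i, hi, rfl⟩ := List.getElem_of_mem hr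
    exact ⟨i, hi, List.getD_eq_getElem _ _ hi⟩
  -- the coefficient function attached to a parameter
  let aT : F → ℕ → F := fun t r => φ^[B.idxOf r] t
  have haT : ∀ t : F, φ^[B.length] t = t → ∀ r ∈ B, aT t r = tw G F φ (aT t) r := by
    intro t ht r hr
    obtain ⟨k, hk, rfl⟩ := hget r hr
    unfold tw
    rw [hε _ (hmemD k hk)]
    simp only [aT, Int.cast_one, one_mul]
    rcases Nat.eq_zero_or_pos k with rfl | hkpos
    · have e1 : (B.length - 1).succ = B.length := by omega
      rw [hρi0, hidx 0 hn, hidx _ (by omega), ← Function.iterate_succ_apply' φ, e1, ht]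
      rfl
    · obtain ⟨k', rfl⟩ : ∃ k', k = k' + 1 := ⟨k - 1, by omega⟩
      rw [hρi k' hk, hidx _ hk, hidx _ (by omega), ← Function.iterate_succ_apply' φ]
  have hchain : ∀ a : ℕ → F, (∀ r ∈ B, a r = tw G F φ a r) →
      (∀ k, k < B.length → a (B.getD k 0) = φ^[k] (a (B.getD 0 0))) ∧
        φ^[B.length] (a (B.getD 0 0)) = a (B.getD 0 0) := by
    intro a ha
    have h1 : ∀ k, k < B.length → a (B.getD k 0) = φ^[k] (a (B.getD 0 0)) := by
      intro k
      induction k with
      | zero => intro _; rfl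
      | succ k ih =>
        intro hk
        have := ha _ (hmemD (k + 1) hk)
        unfold tw at this
        rw [hε _ (hmemD (k + 1) hk), hρi k hk, ih (by omega)] at this
        rw [this, Function.iterate_succ_apply']
        simp
    refine ⟨h1, ?_⟩
    have := ha _ (hmemD 0 hn)
    unfold tw at this
    rw [hε _ (hmemD 0 hn), hρi0, h1 (B.length - 1) (by omega)] at this
    have e : φ^[B.length] (a (B.getD 0 0)) = φ (φ^[B.length - 1] (a (B.getD 0 0))) := by
      have e1 : (B.length - 1).succ = B.length := by omega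
      rw [← Function.iterate_succ_apply' φ, e1]
    rw [e]
    simpa using this.symm
  let Ψ : {t : F // φ^[J.length] t = t} → ↥(XB D hD F B ⊓ twGroup D hD G F φ fund) := fun t =>
    ⟨wordGL D hD F (B.map fun r => (r, aT t.1 r)), Subgroup.mem_inf.2 ⟨word_mem_XB D hD F B _,
      Subgroup.subset_closure ⟨J, hJ, B, by simp [hB], aT t.1, haT t.1 (by rw [hlen]; exact t.2), rfl⟩⟩⟩
  have hinj : Function.Injective Ψ := by
    intro t t' h
    have h1 := congrArg Subtype.val h
    have := block_unique D hD G orbs F hok.orb B h3 _ _ h1 _ (hmemD 0 hn)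
    simp only [aT, hidx 0 hn, Function.iterate_zero, id_eq] at this
    exact Subtype.ext this
  have hsurj : Function.Surjective Ψ := by
    rintro ⟨g, hg⟩
    obtain ⟨hg1, hgT⟩ := Subgroup.mem_inf.1 hg
    have hσg := sigma_twGroup D hD G hok.hG orbs fund F φ hok.orb hok.fnd g hgT
    obtain ⟨a, ha, rfl⟩ := XB_fixed_eq_word D hD G hok.hG orbs F φ hok.orb B h3 g hg1 hσg
    obtain ⟨hc1, hc2⟩ := hchain a ha
    refine ⟨⟨a (B.getD 0 0), by rw [← hlen]; exact hc2⟩, Subtype.ext ?_⟩
    show wordGL D hD F (B.map fun r => (r, aT (a (B.getD 0 0)) r)) = _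
    congr 1
    apply List.map_congr_left
    intro r hr
    obtain ⟨k, hk, rfl⟩ := hget r hr
    simp only [aT]
    rw [hidx k hk, hc1 k hk]
  exact (Nat.card_congr (Equiv.ofBijective Ψ ⟨hinj, hsurj⟩)).symm

include hD hok hfc in
/-- the number of fixed points of `σ` on `U_w⁻` is `q ^ N(w)` -/
theorem card_sGens_tw (q : ℕ) (hq : Nat.card {t : F // φ t = t} = q) (hFd : Fintype.card F = q ^ d)
    (hφd : ∀ t : F, φ^[d] t = t) (l : List ℕ) (hl : ∀ i ∈ l, i < D.rank) (hrc : RhoComm D G l) :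
    Nat.card ↥(Subgroup.closure (sGens D F l) ⊓ twGroup D hD G F φ fund) = q ^ Nw D l := by
  induction hN : Nw D l using Nat.strong_induction_on generalizing l with
  | _ n ih =>
    by_cases hall : ∀ k < D.rank, D.IsPosRoot (wRoot D l (D.simple k))
    · have hid := wRoot_eq_of_simple_pos D hD F l hl hall
      have hempty : sGens D F l = ∅ := by
        ext x
        simp only [Set.mem_empty_iff_false, iff_false]
        rintro ⟨s, t, hs, hws, -⟩
        rw [hid s hs.1] at hws
        exact not_pos_and_neg D hD s hs hws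
      have h0 : n = 0 := by
        rw [← hN]
        unfold Nw
        rw [Set.ncard_eq_zero (Set.toFinite _)]
        ext r
        simp only [Set.mem_ofPred_eq, Set.mem_empty_iff_false, iff_false]
        rintro ⟨hp, hn⟩
        rw [hid r r.isLt] at hn
        exact not_pos_and_neg D hD r hp hn
      rw [hempty, Subgroup.closure_empty, bot_inf_eq, h0, pow_zero]
      exact Nat.card_unique
    · push Not at hall
      obtain ⟨k, hk, hnp⟩ := hall
      have hp := (chkN2_spec D (chkN2_all D hD) k hk).1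
      have hneg : D.IsNegRoot (wRoot D l (D.simple k)) := by
        rcases pos_or_neg D hD _ (wRoot_lt D hD l hl _ hp) with h | h
        · exact absurd h hnp
        · exact h
      obtain ⟨hcov, hJs⟩ := chkFundW_spec D G fund hok.fw
      obtain ⟨J, hJ, hkJ⟩ := hcov k hk
      obtain ⟨hJne, -, -, hJrc, hJinv, -, -, -⟩ := hJs J hJ
      have hJr := fund_lt D G orbs fund steps hok J hJ
      have hnegJ := orbit_neg D hD G hok.hG fund hok.fw l hl hrc J hJ hJr k hkJ hneg
      have hNw := Nw_orbit D hD G fund hok.fw l hl J hJ hJr hnegJ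
      have hlen : 0 < J.length := List.length_pos_of_ne_nil hJne
      have hlJ : ∀ i ∈ l ++ J, i < D.rank := by
        intro i hi
        rcases List.mem_append.1 hi with h | h
        · exact hl i h
        · exact hJr i h
      have hrc₁ := rhoComm_append D hD G hok.hG l J hJr hrc hJrc
      have ih₁ := ih (Nw D (l ++ J)) (by omega) (l ++ J) hlJ hrc₁ rfl
      have hpos : ∀ j ∈ J, D.IsPosRoot (wRoot D (l ++ J) (D.simple j)) := by
        intro j hj
        have hpj := (chkN2_spec D (chkN2_all D hD) j (hJr j hj)).1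
        rw [wRoot_append, (chkFundC_spec D fund d hfc J hJ).2.2 j hj, wRoot_neg D hD l hl _ hpj]
        exact isPosRoot_neg D hD _ (hnegJ j hj)
      have hstep := card_step D hD G orbs fund steps hok d hfc F φ (l ++ J) hlJ hrc₁ J hJ hpos
      have hsg : sGens D F (l ++ J ++ J) = sGens D F l := by
        ext x
        have e : ∀ s < D.nroots, wRoot D (l ++ J ++ J) s = wRoot D l s := by
          intro s hs
          rw [wRoot_append, wRoot_append, hJinv s hs]
        constructor
        · rintro ⟨s, t, hs, hws, hx⟩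
          exact ⟨s, t, hs, by rw [← e s hs.1]; exact hws, hx⟩
        · rintro ⟨s, t, hs, hws, hx⟩
          exact ⟨s, t, hs, by rw [e s hs.1]; exact hws, hx⟩
      rw [hsg, ih₁, card_XB_fund D hD G orbs fund steps hok F φ J hJ] at hstep
      rw [hstep]
      have hcardJ : Nat.card {t : F // φ^[J.length] t = t} = q ^ J.length := by
        rcases (chkFundC_spec D fund d hfc J hJ).1 with h1 | h1
        · rw [h1, pow_one, ← hq]
          rfl
        · rw [h1, ← hFd, ← Nat.card_eq_fintype_card]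
          exact Nat.card_congr (Equiv.subtypeUnivEquiv hφd)
      rw [hcardJ, ← pow_add, ← hN]
      congr 1
      omega

include hD in
/-- `U = U_{w₀}⁻` -/
theorem sGens_w0 : Subgroup.closure (sGens D F (w0word D)) = D.posUnipotent F := by
  unfold ChevalleyDatum.posUnipotent
  congr 1
  ext x
  constructor
  · rintro ⟨s, t, hs, -, hx⟩
    exact ⟨s, t, hs, hx⟩
  · rintro ⟨s, t, hs, hx⟩
    exact ⟨s, t, hs, wRoot_w0_neg D hD s hs, hx⟩

include hD in
theorem Nw_w0 : Nw D (w0word D) = D.nroots / 2 := by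
  obtain ⟨h1, -, -⟩ := chkW0_spec D hD
  haveI : Fact (Nat.Prime 2) := ⟨Nat.prime_two⟩
  have h2 := card_sGens D hD (ZMod 2) (w0word D) h1
  rw [sGens_w0 D hD (ZMod 2), Cfsg.Agent.S1027.result D hD, ← Nw_eq_cellExp] at h2
  exact (Nat.pow_right_injective (Fintype.one_lt_card (α := ZMod 2)) h2).symm

include hD hok hfc in
/-- the number of elements of `U ∩ G¹` -/
theorem card_pos_tw (hsg : chkSgn D G orbs = true) (q : ℕ) (hq : Nat.card {t : F // φ t = t} = q)
    (hFd : Fintype.card F = q ^ d) (hφd : ∀ t : F, φ^[d] t = t) :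
    Nat.card ↥(D.posUnipotent F ⊓ twGroup D hD G F φ fund) = q ^ (D.nroots / 2) := by
  obtain ⟨h1, -, -⟩ := chkW0_spec D hD
  obtain ⟨-, hrc⟩ := chkSgn_spec D G orbs hsg
  rw [← sGens_w0 D hD F, card_sGens_tw D hD G orbs fund steps hok d hfc F φ q hq hFd hφd _ h1 hrc, Nw_w0 D hD]

end step

end Cfsg.Agent.Lib.Helper36
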