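import Cfsg.Agent.Lib.Helper36.SL2Inj
import Cfsg.Agent.Lib.Helper36.ChevRank1
import Cfsg.Agent.Lib.Helper36.ChevTwCount
import Cfsg.Agent.Lib.Helper36.ChevCentRoot

/-! # The rank one subgroups `⟨X_r, X_{-r}⟩` of a Chevalley group: isomorphic to `SL₂(F)` when `h_r(-1) ≠ 1`
(helper36) -/

set_option autoImplicit false

namespace Cfsg.Agent.Lib.Helper36

open Cfsg Cfsg.Lie Matrix

variable (D : ChevalleyDatum) (hD : D ∈ [chevG2, chevB2, chevD4, chevF4, chevE6, chevE7, chevE8])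
variable (F : Type*) [Field F]

include hD in
/-- `X_r ∩ X_{-r} = 1` -/
theorem rank1_xy (r : ℕ) (hr : r < D.nroots) (u v : F)
    (h : xGL D hD F r u = xGL D hD F (D.neg r) v) : u = 0 := by
  have hmem : xGL D hD F r u ∈ D.borelSubgroup F ⊓ D.negUnipotent F := by
    rcases pos_or_neg D hD r hr with hp | hn
    · refine ⟨pos_le_borel D F (xGL_mem_pos D hD F r hp u), ?_⟩
      rw [h]
      exact Subgroup.subset_closure ⟨D.neg r, v, isNegRoot_neg_of_pos D hD r hp, xGL_coe D hD F _ v⟩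
    · refine ⟨?_, Subgroup.subset_closure ⟨r, u, hn, xGL_coe D hD F _ u⟩⟩
      rw [h]
      exact pos_le_borel D F (xGL_mem_pos D hD F _ (isPosRoot_neg D hD r hn) v)
  rw [borel_inf_neg D hD F, Subgroup.mem_bot] at hmem
  apply xGL_injective' D hD F r hr
  rw [hmem, xGL_zero]

theorem rank1Data_n (r : ℕ) (hr : r < D.nroots) (t : F) :
    (rank1Data D hD F r hr).n t = nGL D hD F r t := by
  rw [nGL_eq D hD F r t]
  rfl

theorem rank1Data_h (r : ℕ) (hr : r < D.nroots) (t : F) :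
    (rank1Data D hD F r hr).h t = hGL D hD F r t := by
  rw [hGL_eq D hD F r t, ← rank1Data_n D hD F r hr, ← rank1Data_n D hD F r hr]
  rfl

/-- the rank one homomorphism `SL₂(F) → ⟨X_r, X_{-r}⟩` is injective as soon as `h_r(-1) ≠ 1` -/
theorem rank1_hom_injective (r : ℕ) (hr : r < D.nroots) (h : hGL D hD F r (-1) ≠ 1) :
    Function.Injective (rank1Data D hD F r hr).hom := by
  apply SL2Data.hom_injective
  · intro u v huv
    exact rank1_xy D hD F r hr u v huv
  · rw [rank1Data_h]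
    exact h

theorem rank1_range (r : ℕ) (hr : r < D.nroots) :
    (rank1Data D hD F r hr).hom.range = D.rootSubgroup F r ⊔ D.rootSubgroup F (D.neg r) := by
  rw [SL2Data.hom_range, Subgroup.closure_union, rootSubgroup_eq D hD, rootSubgroup_eq D hD]
  rfl

/-- `⟨X_r, X_{-r}⟩ ≅ SL₂(F)` as soon as `h_r(-1) ≠ 1` -/
theorem rank1_equiv (r : ℕ) (hr : r < D.nroots) (h : hGL D hD F r (-1) ≠ 1) :
    Nonempty (↥(D.rootSubgroup F r ⊔ D.rootSubgroup F (D.neg r)) ≃* Matrix.SpecialLinearGroup (Fin 2) F) := by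
  rw [← rank1_range D hD F r hr]
  exact ⟨(MonoidHom.ofInjective (rank1_hom_injective D hD F r hr h)).symm⟩

/-- the images of `±1` -/
theorem rank1_hom_neg_one (r : ℕ) (hr : r < D.nroots) :
    (rank1Data D hD F r hr).hom (-1) = hGL D hD F r (-1) := by
  show (rank1Data D hD F r hr).phi (-1) = _
  have h10 : (-1 : Matrix.SpecialLinearGroup (Fin 2) F).1 1 0 = 0 := by simp
  have h00 : (-1 : Matrix.SpecialLinearGroup (Fin 2) F).1 0 0 = -1 := by simp
  have h01 : (-1 : Matrix.SpecialLinearGroup (Fin 2) F).1 0 1 = 0 := by simp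
  rw [SL2Data.phi_of_eq_zero _ _ h10, h00, h01, mul_zero, SL2Data.x_zero, one_mul, rank1Data_h]

end Cfsg.Agent.Lib.Helper36
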