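import Cfsg.Agent.Lib.Helper36.ChevRank1Inj
import Cfsg.Agent.Lib.Helper36.ChevTwPerf

/-! # Two commuting rank one subgroups `⟨X_r, X_{-r}⟩`, `⟨X_s, X_{-s}⟩` with `h_r(-1) = h_s(-1) ≠ 1` (helper36)

Generic in the datum; used for the centraliser of an involution in `G₂(q)`, `q` odd (S4279, helper37's hive). -/

set_option autoImplicit false

namespace Cfsg.Agent.Lib.Helper36

open Cfsg Cfsg.Lie Matrix

variable (D : ChevalleyDatum) (hD : D ∈ [chevG2, chevB2, chevD4, chevF4, chevE6, chevE7, chevE8])
variable (F : Type*) [Field F]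

theorem rank1pair_zpow_parity (m n : ℤ) (h : m % 2 = n % 2) : (-1 : F) ^ m = (-1 : F) ^ n := by
  rcases Int.even_or_odd m with hm | hm <;> rcases Int.even_or_odd n with hn | hn
  · rw [hm.neg_one_zpow, hn.neg_one_zpow]
  · exfalso; rw [Int.even_iff] at hm; rw [Int.odd_iff] at hn; omega
  · exfalso; rw [Int.odd_iff] at hm; rw [Int.even_iff] at hn; omega
  · rw [hm.neg_one_zpow, hn.neg_one_zpow]

include hD in
/-- `h_r(-1) = h_s(-1)` when the two coroots agree modulo 2 on every root -/
theorem hGL_neg_one_eq_of_parity (r s : ℕ) (hr : r < D.nroots) (hs : s < D.nroots)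
    (hpar : ∀ k : Fin D.nroots, gc D r k % 2 = gc D s k % 2) :
    hGL D hD F r (-1) = hGL D hD F s (-1) := by
  have hm : (-1 : F) ≠ 0 := by simp
  apply Units.ext
  rw [hGL_coe, hGL_coe, (hMat_all D hD r hr (-1 : F) hm).1, (hMat_all D hD s hs (-1 : F) hm).1]
  unfold hDiag
  congr 1
  funext i
  rcases i with i | k
  · rfl
  · exact rank1pair_zpow_parity F _ _ (hpar k)

include hD in
/-- `h_r(-1) ≠ 1` in odd characteristic, as soon as some root pairs oddly with the coroot of `r` -/
theorem hGL_neg_one_ne_one (r k : ℕ) (hr : r < D.nroots) (hk : k < D.nroots) (h2 : (2 : F) ≠ 0)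
    (hodd : gc D r k % 2 = 1) : hGL D hD F r (-1) ≠ 1 := by
  intro h
  have hm : (-1 : F) ≠ 0 := by simp
  have h1 := hGL_conj_xGL D hD F r k hr hk (-1) hm 1
  rw [h, one_mul, inv_one, mul_one] at h1
  have h3 := xGL_injective' D hD F k hk _ _ h1
  have hoddk : Odd (gc D r k) := Int.odd_iff.2 hodd
  rw [hoddk.neg_one_zpow] at h3
  apply h2
  linear_combination h3

section pair

variable (r s : ℕ) (hr : r < D.nroots) (hs : s < D.nroots)

include hD in
/-- the two rank one subgroups commute elementwise when the four root groups commute pairwise -/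
theorem rank1pair_commute
    (h1 : ∀ t u : F, Commute (xGL D hD F r t) (xGL D hD F s u))
    (h2 : ∀ t u : F, Commute (xGL D hD F r t) (xGL D hD F (D.neg s) u))
    (h3 : ∀ t u : F, Commute (xGL D hD F (D.neg r) t) (xGL D hD F s u))
    (h4 : ∀ t u : F, Commute (xGL D hD F (D.neg r) t) (xGL D hD F (D.neg s) u)) :
    ∀ x ∈ D.rootSubgroup F r ⊔ D.rootSubgroup F (D.neg r),
      ∀ y ∈ D.rootSubgroup F s ⊔ D.rootSubgroup F (D.neg s), x * y = y * x := by
  have key : D.rootSubgroup F r ⊔ D.rootSubgroup F (D.neg r) ≤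
      Subgroup.centralizer ((D.rootSubgroup F s ⊔ D.rootSubgroup F (D.neg s) : Subgroup (GL D.Idx F)) :
        Set (GL D.Idx F)) := by
    rw [rootSubgroup_eq D hD, rootSubgroup_eq D hD, rootSubgroup_eq D hD, rootSubgroup_eq D hD,
      ← Subgroup.closure_union, ← Subgroup.closure_union, Subgroup.closure_le]
    intro x hx
    rw [SetLike.mem_coe, Subgroup.mem_centralizer_iff]
    intro y hy
    have hy' : y ∈ Subgroup.centralizer ({x} : Set (GL D.Idx F)) := by
      revert y
      show _ ≤ Subgroup.centralizer ({x} : Set (GL D.Idx F))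
      rw [Subgroup.closure_le]
      intro y hy
      rw [SetLike.mem_coe, Subgroup.mem_centralizer_iff]
      intro z hz
      rw [Set.mem_singleton_iff] at hz
      subst hz
      rcases hx with ⟨t, rfl⟩ | ⟨t, rfl⟩ <;> rcases hy with ⟨u, rfl⟩ | ⟨u, rfl⟩
      · exact (h1 t u).eq
      · exact (h2 t u).eq
      · exact (h3 t u).eq
      · exact (h4 t u).eq
    rw [Subgroup.mem_centralizer_iff] at hy'
    exact (hy' x rfl).symm
  intro x hx y hy
  have := key hx
  rw [Subgroup.mem_centralizer_iff] at this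
  exact (this y hy).symm

include hD hr hs in
/-- the two rank one subgroups meet in `⟨h_r(-1)⟩` -/
theorem rank1pair_inf
    (hcomm : ∀ x ∈ D.rootSubgroup F r ⊔ D.rootSubgroup F (D.neg r),
      ∀ y ∈ D.rootSubgroup F s ⊔ D.rootSubgroup F (D.neg s), x * y = y * x)
    (heq : hGL D hD F r (-1) = hGL D hD F s (-1)) (hne : hGL D hD F r (-1) ≠ 1) :
    (D.rootSubgroup F r ⊔ D.rootSubgroup F (D.neg r)) ⊓ (D.rootSubgroup F s ⊔ D.rootSubgroup F (D.neg s)) =
      Subgroup.zpowers (hGL D hD F r (-1)) := by
  have hinj := rank1_hom_injective D hD F r hr hne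
  apply le_antisymm
  · rintro z ⟨hz1, hz2⟩
    rw [SetLike.mem_coe, ← rank1_range D hD F r hr] at hz1
    obtain ⟨g, rfl⟩ := hz1
    have hg : g ∈ Subgroup.center (Matrix.SpecialLinearGroup (Fin 2) F) := by
      rw [Subgroup.mem_center_iff]
      intro g'
      apply hinj
      rw [map_mul, map_mul]
      have hg' : (rank1Data D hD F r hr).hom g' ∈ D.rootSubgroup F r ⊔ D.rootSubgroup F (D.neg r) := by
        rw [← rank1_range D hD F r hr]; exact ⟨g', rfl⟩
      exact hcomm _ hg' _ hz2
    rw [Matrix.SpecialLinearGroup.mem_center_iff] at hg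
    obtain ⟨c, hc, hcg⟩ := hg
    rw [Fintype.card_fin] at hc
    have hcases : c = 1 ∨ c = -1 := by
      have : (c - 1) * (c + 1) = 0 := by linear_combination hc
      rcases mul_eq_zero.1 this with h | h
      · left; linear_combination h
      · right; linear_combination h
    have hg1 : g = 1 ∨ g = -1 := by
      rcases hcases with h | h
      · left
        apply Subtype.ext
        rw [← hcg, h]
        simp
      · right
        apply Subtype.ext
        rw [← hcg, h, map_neg, map_one]
        rfl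
    rcases hg1 with h | h
    · rw [h, map_one]; exact one_mem _
    · rw [h, rank1_hom_neg_one]; exact Subgroup.mem_zpowers _
  · rw [Subgroup.zpowers_le]
    refine ⟨?_, ?_⟩
    · rw [SetLike.mem_coe, ← rank1_range D hD F r hr, ← rank1_hom_neg_one D hD F r hr]; exact ⟨_, rfl⟩
    · rw [SetLike.mem_coe, heq, ← rank1_range D hD F s hs, ← rank1_hom_neg_one D hD F s hs]; exact ⟨_, rfl⟩

end pair

end Cfsg.Agent.Lib.Helper36
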