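import Cfsg.Agent.Lib.Helper36.ChevNH

/-! # Induction over the roots along fundamental reflections (helper36) -/

set_option autoImplicit false
set_option maxRecDepth 100000

namespace Cfsg.Agent.Lib.Helper36

open Cfsg Cfsg.Lie

/-- sum of the coroot coordinates (fast table) -/
def corSumF (D : ChevalleyDatum) (r : ℕ) : ℤ := ((List.range D.rank).map fun j => corF D r j).sum

/-- `⟨p_i, r^∨⟩` (fast tables) -/
def corTF (D : ChevalleyDatum) (i r : ℕ) : ℤ :=
  ((List.range D.rank).map fun j => cartanF D j (D.simple i) * corF D r j).sum

/-- every root is fundamental, the negative of a fundamental root, or some fundamental reflection lowers its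
coheight; and the coroot coordinates of the fundamental roots are the unit vectors -/
def chkReach (D : ChevalleyDatum) : Bool :=
  ((List.range D.nroots).all fun r =>
    (List.range D.rank).any fun i =>
      Nat.beq r (D.simple i) || Nat.beq r (D.neg (D.simple i)) ||
        decide ((corSumF D r - corTF D i r).natAbs < (corSumF D r).natAbs)) &&
  ((List.range D.rank).all fun i => (List.range D.rank).all fun j =>
    corF D (D.simple i) j == if j = i then 1 else 0)

theorem chkReach_G2 : chkReach chevG2 = true := by decide +kernel
theorem chkReach_B2 : chkReach chevB2 = true := by decide +kernel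
theorem chkReach_D4 : chkReach chevD4 = true := by decide +kernel
theorem chkReach_F4 : chkReach chevF4 = true := by decide +kernel
theorem chkReach_E6 : chkReach chevE6 = true := by decide +kernel
theorem chkReach_E7 : chkReach chevE7 = true := by decide +kernel
theorem chkReach_E8 : chkReach chevE8 = true := by decide +kernel

theorem chkReach_all (D : ChevalleyDatum) (hD : D ∈ [chevG2, chevB2, chevD4, chevF4, chevE6, chevE7, chevE8]) :
    chkReach D = true :=
  seven_cases (P := fun D => chkReach D = true) D hD chkReach_G2 chkReach_B2 chkReach_D4 chkReach_F4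
    chkReach_E6 chkReach_E7 chkReach_E8

variable (D : ChevalleyDatum) (hD : D ∈ [chevG2, chevB2, chevD4, chevF4, chevE6, chevE7, chevE8])

theorem list_sum_map_sub {ι : Type*} (l : List ι) (f g : ι → ℤ) :
    (l.map fun j => f j - g j).sum = (l.map f).sum - (l.map g).sum := by
  induction l with
  | nil => simp
  | cons a l ih => simp only [List.map_cons, List.sum_cons, ih]; ring

/-- coheight of a root -/
def mu (r : ℕ) : ℕ := (((List.range D.rank).map fun j => cor D r j).sum).natAbs

/-- `⟨p_i, r^∨⟩` -/
def corT (i r : ℕ) : ℤ := ((List.range D.rank).map fun j => D.cartan j (D.simple i) * cor D r j).sum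

include hD in
theorem corSumF_eq (r : ℕ) (hr : r < D.nroots) :
    corSumF D r = ((List.range D.rank).map fun j => cor D r j).sum := by
  unfold corSumF
  congr 1
  apply List.map_congr_left
  intro j hj
  unfold corF cor
  rw [fast_coroot D (wfFast_all D hD) r j hr (List.mem_range.1 hj)]

include hD in
theorem corTF_eq (i r : ℕ) (hi : i < D.rank) (hr : r < D.nroots) : corTF D i r = corT D i r := by
  obtain ⟨hp, -⟩ := chkN2_spec D (chkN2_all D hD) i hi
  unfold corTF corT
  congr 1
  apply List.map_congr_left
  intro j hj
  unfold corF cor cartanF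
  rw [fast_coroot D (wfFast_all D hD) r j hr (List.mem_range.1 hj),
    fast_cartan D (wfFast_all D hD) j _ (List.mem_range.1 hj) hp]

include hD in
theorem cor_simple (i j : ℕ) (hi : i < D.rank) (hj : j < D.rank) :
    cor D (D.simple i) j = if j = i then 1 else 0 := by
  obtain ⟨hp, -⟩ := chkN2_spec D (chkN2_all D hD) i hi
  have h := chkReach_all D hD
  unfold chkReach at h
  simp only [Bool.and_eq_true, List.all_eq_true, beq_iff_eq] at h
  have := h.2 i (List.mem_range.2 hi) j (List.mem_range.2 hj)
  unfold corF at this
  rw [fast_coroot D (wfFast_all D hD) _ j hp hj] at this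
  exact this

include hD in
theorem cor_reflect (i r j' : ℕ) (hi : i < D.rank) (hr : r < D.nroots) (hj' : j' < D.rank) :
    cor D (D.reflectRoot i r) j' = cor D r j' - (if j' = i then corT D i r else 0) := by
  obtain ⟨-, -, -, -, hs'⟩ := chkN2_spec D (chkN2_all D hD) i hi
  rw [← (hs' r hr).2.1]
  exact (conjSpec_all D hD i r hi hr).t3 j' hj'

include hD in
theorem mu_reflect (i r : ℕ) (hi : i < D.rank) (hr : r < D.nroots) :
    mu D (D.reflectRoot i r) = (corSumF D r - corTF D i r).natAbs := by
  unfold mu
  rw [corSumF_eq D hD r hr, corTF_eq D hD i r hi hr]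
  congr 1
  have : ((List.range D.rank).map fun j => cor D (D.reflectRoot i r) j) =
      (List.range D.rank).map fun j => cor D r j - (if j = i then corT D i r else 0) := by
    apply List.map_congr_left
    intro j hj
    exact cor_reflect D hD i r j hi hr (List.mem_range.1 hj)
  rw [this, list_sum_map_sub, sum_range_ite, if_pos hi]

include hD in
/-- induction over the roots along the fundamental reflections -/
theorem root_induction (P : ℕ → Prop) (hbase : ∀ i < D.rank, P (D.simple i))
    (hstep : ∀ i < D.rank, ∀ r < D.nroots, P r → P (D.reflectRoot i r)) :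
    ∀ r < D.nroots, P r := by
  have h := chkReach_all D hD
  unfold chkReach at h
  simp only [Bool.and_eq_true, List.all_eq_true, List.any_eq_true, Bool.or_eq_true, decide_eq_true_eq] at h
  have h1 := h.1
  intro r hr
  induction' hm : mu D r using Nat.strong_induction_on with m ih generalizing r
  obtain ⟨i, hi, hcase⟩ := h1 r (List.mem_range.2 hr)
  have hi := List.mem_range.1 hi
  obtain ⟨hp, -, -, -, hs'⟩ := chkN2_spec D (chkN2_all D hD) i hi
  rcases hcase with (hc | hc) | hc
  · have : r = D.simple i := Nat.eq_of_beq_eq_true hc
    rw [this]; exact hbase i hi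
  · have : r = D.neg (D.simple i) := Nat.eq_of_beq_eq_true hc
    have e : D.reflectRoot i (D.simple i) = D.neg (D.simple i) := by
      unfold ChevalleyDatum.reflectRoot
      simp
    rw [this, ← e]
    exact hstep i hi _ hp (hbase i hi)
  · obtain ⟨h1', h2', -, -, -, h6', -⟩ := hs' r hr
    have hlt : mu D (D.reflectRoot i r) < m := by
      rw [mu_reflect D hD i r hi hr, ← hm]
      unfold mu
      rw [← corSumF_eq D hD r hr]
      exact hc
    have hw : D.reflectRoot i r < D.nroots := h2' ▸ h1'
    have := ih _ hlt _ hw rfl
    have h3 := hstep i hi _ hw this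
    rw [← h2', ← (hs' _ h1').2.1, h6'] at h3
    exact h3

end Cfsg.Agent.Lib.Helper36
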