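import Cfsg.Agent.Lib.Helper36.ChevBN
import Cfsg.Agent.Lib.Helper18.ChevNWord
import Cfsg.Agent.S1025
import Cfsg.Agent.S1027
import Cfsg.Agent.S1045
import Cfsg.Agent.S0308

/-! # The subgroup generated by the highest root subgroup and one of its conjugates (helper36) -/

set_option autoImplicit false

namespace Cfsg.Agent.Lib.Helper36

open Cfsg Cfsg.Lie Cfsg.Agent.Lib.Helper18

def cert186_G2 : List (List ℕ) :=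
  [[],
   [1, 0],
   [0, 1, 0],
   [0, 1],
   [0],
   [1],
   [],
   [],
   [],
   [],
   [],
   []]

def cert186_D4 : List (List ℕ) :=
  [[],
   [0, 1, 2, 3],
   [0, 1, 2],
   [0, 1, 3],
   [0, 1],
   [0],
   [2, 1, 3],
   [2, 1],
   [3, 1],
   [1],
   [2],
   [3],
   [],
   [],
   [],
   [],
   [],
   [],
   [],
   [],
   [],
   [],
   [],
   []]

def cert186_E6 : List (List ℕ) :=
  [[],
   [0, 2, 3, 1, 4, 3, 2, 5, 4, 3],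
   [0, 2, 3, 1, 4, 3, 2, 5, 4],
   [0, 2, 3, 1, 4, 3, 2, 5],
   [0, 2, 3, 1, 4, 3, 2],
   [0, 2, 3, 1, 4, 3, 5, 4],
   [0, 2, 3, 1, 4, 3, 5],
   [0, 2, 3, 1, 4, 3],
   [0, 2, 3, 1, 4, 5],
   [0, 2, 3, 1, 4],
   [0, 2, 3, 1],
   [5, 4, 3, 2, 0],
   [4, 3, 2, 0],
   [3, 2, 0],
   [2, 0],
   [0],
   [2, 3, 1, 4, 3, 5, 4],
   [2, 3, 1, 4, 3, 5],
   [2, 3, 1, 4, 3],
   [2, 3, 1, 4, 5],
   [2, 3, 1, 4],
   [2, 3, 1],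
   [5, 4, 3, 1],
   [4, 3, 1],
   [3, 1],
   [1],
   [5, 4, 3, 2],
   [4, 3, 2],
   [3, 2],
   [2],
   [5, 4, 3],
   [4, 3],
   [3],
   [5, 4],
   [4],
   [5],
   [],
   [],
   [],
   [],
   [],
   [],
   [],
   [],
   [],
   [],
   [],
   [],
   [],
   [],
   [],
   [],
   [],
   [],
   [],
   [],
   [],
   [],
   [],
   [],
   [],
   [],
   [],
   [],
   [],
   [],
   [],
   [],
   [],
   [],
   [],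
   []]

def cert186_E7 : List (List ℕ) :=
  [[],
   [1, 3, 2, 0, 4, 3, 2, 5, 4, 3, 1, 6, 5, 4, 3, 2],
   [1, 3, 2, 0, 4, 3, 2, 5, 4, 3, 1, 6, 5, 4, 3],
   [1, 3, 2, 0, 4, 3, 2, 5, 4, 3, 1, 6, 5, 4],
   [1, 3, 2, 0, 4, 3, 2, 5, 4, 3, 1, 6, 5],
   [1, 3, 2, 0, 4, 3, 2, 5, 4, 3, 1, 6],
   [1, 3, 2, 0, 4, 3, 2, 5, 4, 3, 1],
   [1, 3, 2, 0, 4, 3, 2, 5, 4, 3, 6, 5, 4],
   [1, 3, 2, 0, 4, 3, 2, 5, 4, 3, 6, 5],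
   [1, 3, 2, 0, 4, 3, 2, 5, 4, 3, 6],
   [1, 3, 2, 0, 4, 3, 2, 5, 4, 3],
   [1, 3, 2, 0, 4, 3, 2, 5, 4, 6, 5],
   [1, 3, 2, 0, 4, 3, 2, 5, 4, 6],
   [1, 3, 2, 0, 4, 3, 2, 5, 4],
   [1, 3, 2, 0, 4, 3, 2, 5, 6],
   [1, 3, 2, 0, 4, 3, 2, 5],
   [1, 3, 2, 0, 4, 3, 2],
   [1, 3, 2, 0, 4, 3, 5, 4, 6, 5],
   [1, 3, 2, 0, 4, 3, 5, 4, 6],
   [1, 3, 2, 0, 4, 3, 5, 4],
   [1, 3, 2, 0, 4, 3, 5, 6],
   [1, 3, 2, 0, 4, 3, 5],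
   [1, 3, 2, 0, 4, 3],
   [1, 3, 2, 0, 4, 5, 6],
   [1, 3, 2, 0, 4, 5],
   [1, 3, 2, 0, 4],
   [1, 3, 2, 0],
   [6, 5, 4, 3, 2, 0],
   [5, 4, 3, 2, 0],
   [4, 3, 2, 0],
   [3, 2, 0],
   [2, 0],
   [0],
   [6, 5, 4, 3, 1, 2, 3, 4, 5],
   [6, 5, 4, 3, 1, 2, 3, 4],
   [5, 4, 3, 1, 2, 3, 4],
   [6, 5, 4, 3, 1, 2, 3],
   [5, 4, 3, 1, 2, 3],
   [4, 3, 1, 2, 3],
   [6, 5, 4, 3, 1, 2],
   [5, 4, 3, 1, 2],
   [4, 3, 1, 2],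
   [3, 1, 2],
   [6, 5, 4, 3, 1],
   [5, 4, 3, 1],
   [4, 3, 1],
   [3, 1],
   [1],
   [6, 5, 4, 3, 2],
   [5, 4, 3, 2],
   [4, 3, 2],
   [3, 2],
   [2],
   [6, 5, 4, 3],
   [5, 4, 3],
   [4, 3],
   [3],
   [6, 5, 4],
   [5, 4],
   [4],
   [6, 5],
   [5],
   [6],
   [],
   [],
   [],
   [],
   [],
   [],
   [],
   [],
   [],
   [],
   [],
   [],
   [],
   [],
   [],
   [],
   [],
   [],
   [],
   [],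
   [],
   [],
   [],
   [],
   [],
   [],
   [],
   [],
   [],
   [],
   [],
   [],
   [],
   [],
   [],
   [],
   [],
   [],
   [],
   [],
   [],
   [],
   [],
   [],
   [],
   [],
   [],
   [],
   [],
   [],
   [],
   [],
   [],
   [],
   [],
   [],
   [],
   [],
   [],
   [],
   [],
   [],
   []]

def cert186_E8 : List (List ℕ) :=
  [[],
   [0, 2, 3, 1, 4, 3, 2, 5, 4, 3, 1, 6, 5, 4, 3, 2, 0, 7, 6, 5, 4, 3, 1, 2, 3, 4, 5, 6],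
   [0, 2, 3, 1, 4, 3, 2, 5, 4, 3, 1, 6, 5, 4, 3, 2, 0, 7, 6, 5, 4, 3, 1, 2, 3, 4, 5],
   [0, 2, 3, 1, 4, 3, 2, 5, 4, 3, 1, 6, 5, 4, 3, 2, 0, 7, 6, 5, 4, 3, 1, 2, 3, 4],
   [0, 2, 3, 1, 4, 3, 2, 5, 4, 3, 1, 6, 5, 4, 3, 2, 0, 7, 6, 5, 4, 3, 1, 2, 3],
   [0, 2, 3, 1, 4, 3, 2, 5, 4, 3, 1, 6, 5, 4, 3, 2, 0, 7, 6, 5, 4, 3, 1, 2],
   [0, 2, 3, 1, 4, 3, 2, 5, 4, 3, 1, 6, 5, 4, 3, 2, 0, 7, 6, 5, 4, 3, 1],
   [0, 2, 3, 1, 4, 3, 2, 5, 4, 3, 1, 6, 5, 4, 3, 2, 0, 7, 6, 5, 4, 3, 2],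
   [0, 2, 3, 1, 4, 3, 2, 5, 4, 3, 1, 6, 5, 4, 3, 2, 0, 7, 6, 5, 4, 3],
   [0, 2, 3, 1, 4, 3, 2, 5, 4, 3, 1, 6, 5, 4, 3, 2, 0, 7, 6, 5, 4],
   [0, 2, 3, 1, 4, 3, 2, 5, 4, 3, 1, 6, 5, 4, 3, 2, 0, 7, 6, 5],
   [0, 2, 3, 1, 4, 3, 2, 5, 4, 3, 1, 6, 5, 4, 3, 2, 0, 7, 6],
   [0, 2, 3, 1, 4, 3, 2, 5, 4, 3, 1, 6, 5, 4, 3, 2, 0, 7],
   [6, 5, 4, 3, 1, 2, 0, 3, 2, 4, 3, 1, 5, 4, 3, 2, 0],
   [0, 2, 3, 1, 4, 3, 2, 5, 4, 3, 1, 6, 5, 4, 3, 2, 7, 6, 5, 4, 3, 1],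
   [0, 2, 3, 1, 4, 3, 2, 5, 4, 3, 1, 6, 5, 4, 3, 2, 7, 6, 5, 4, 3],
   [0, 2, 3, 1, 4, 3, 2, 5, 4, 3, 1, 6, 5, 4, 3, 2, 7, 6, 5, 4],
   [0, 2, 3, 1, 4, 3, 2, 5, 4, 3, 1, 6, 5, 4, 3, 2, 7, 6, 5],
   [0, 2, 3, 1, 4, 3, 2, 5, 4, 3, 1, 6, 5, 4, 3, 2, 7, 6],
   [0, 2, 3, 1, 4, 3, 2, 5, 4, 3, 1, 6, 5, 4, 3, 2, 7],
   [6, 5, 4, 3, 1, 2, 0, 3, 2, 4, 3, 1, 5, 4, 3, 2],
   [0, 2, 3, 1, 4, 3, 2, 5, 4, 3, 1, 6, 5, 4, 3, 7, 6, 5, 4],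
   [0, 2, 3, 1, 4, 3, 2, 5, 4, 3, 1, 6, 5, 4, 3, 7, 6, 5],
   [0, 2, 3, 1, 4, 3, 2, 5, 4, 3, 1, 6, 5, 4, 3, 7, 6],
   [0, 2, 3, 1, 4, 3, 2, 5, 4, 3, 1, 6, 5, 4, 3, 7],
   [6, 5, 4, 3, 1, 2, 0, 3, 2, 4, 3, 1, 5, 4, 3],
   [0, 2, 3, 1, 4, 3, 2, 5, 4, 3, 1, 6, 5, 4, 7, 6, 5],
   [0, 2, 3, 1, 4, 3, 2, 5, 4, 3, 1, 6, 5, 4, 7, 6],
   [0, 2, 3, 1, 4, 3, 2, 5, 4, 3, 1, 6, 5, 4, 7],
   [6, 5, 4, 3, 1, 2, 0, 3, 2, 4, 3, 1, 5, 4],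
   [0, 2, 3, 1, 4, 3, 2, 5, 4, 3, 1, 6, 5, 7, 6],
   [0, 2, 3, 1, 4, 3, 2, 5, 4, 3, 1, 6, 5, 7],
   [6, 5, 4, 3, 1, 2, 0, 3, 2, 4, 3, 1, 5],
   [0, 2, 3, 1, 4, 3, 2, 5, 4, 3, 1, 6, 7],
   [6, 5, 4, 3, 1, 2, 0, 3, 2, 4, 3, 1],
   [5, 4, 3, 1, 2, 0, 3, 2, 4, 3, 1],
   [0, 2, 3, 1, 4, 3, 2, 5, 4, 3, 6, 5, 4, 7, 6, 5],
   [0, 2, 3, 1, 4, 3, 2, 5, 4, 3, 6, 5, 4, 7, 6],
   [0, 2, 3, 1, 4, 3, 2, 5, 4, 3, 6, 5, 4, 7],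
   [6, 5, 4, 3, 1, 2, 0, 3, 2, 4, 3, 5, 4],
   [0, 2, 3, 1, 4, 3, 2, 5, 4, 3, 6, 5, 7, 6],
   [0, 2, 3, 1, 4, 3, 2, 5, 4, 3, 6, 5, 7],
   [6, 5, 4, 3, 1, 2, 0, 3, 2, 4, 3, 5],
   [0, 2, 3, 1, 4, 3, 2, 5, 4, 3, 6, 7],
   [6, 5, 4, 3, 1, 2, 0, 3, 2, 4, 3],
   [5, 4, 3, 1, 2, 0, 3, 2, 4, 3],
   [0, 2, 3, 1, 4, 3, 2, 5, 4, 6, 5, 7, 6],
   [0, 2, 3, 1, 4, 3, 2, 5, 4, 6, 5, 7],
   [6, 5, 4, 3, 1, 2, 0, 3, 2, 4, 5],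
   [0, 2, 3, 1, 4, 3, 2, 5, 4, 6, 7],
   [6, 5, 4, 3, 1, 2, 0, 3, 2, 4],
   [5, 4, 3, 1, 2, 0, 3, 2, 4],
   [0, 2, 3, 1, 4, 3, 2, 5, 6, 7],
   [6, 5, 4, 3, 1, 2, 0, 3, 2],
   [5, 4, 3, 1, 2, 0, 3, 2],
   [4, 3, 1, 2, 0, 3, 2],
   [0, 2, 3, 1, 4, 3, 5, 4, 6, 5, 7, 6],
   [0, 2, 3, 1, 4, 3, 5, 4, 6, 5, 7],
   [6, 5, 4, 3, 1, 2, 0, 3, 4, 5],
   [0, 2, 3, 1, 4, 3, 5, 4, 6, 7],
   [6, 5, 4, 3, 1, 2, 0, 3, 4],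
   [5, 4, 3, 1, 2, 0, 3, 4],
   [0, 2, 3, 1, 4, 3, 5, 6, 7],
   [6, 5, 4, 3, 1, 2, 0, 3],
   [5, 4, 3, 1, 2, 0, 3],
   [4, 3, 1, 2, 0, 3],
   [0, 2, 3, 1, 4, 5, 6, 7],
   [6, 5, 4, 3, 1, 2, 0],
   [5, 4, 3, 1, 2, 0],
   [4, 3, 1, 2, 0],
   [3, 1, 2, 0],
   [0, 2, 3, 4, 5, 6, 7],
   [6, 5, 4, 3, 2, 0],
   [5, 4, 3, 2, 0],
   [4, 3, 2, 0],
   [3, 2, 0],
   [2, 0],
   [0],
   [1, 3, 2, 4, 3, 5, 4, 6, 5, 7, 6],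
   [1, 3, 2, 4, 3, 5, 4, 6, 5, 7],
   [6, 5, 4, 3, 1, 2, 3, 4, 5],
   [1, 3, 2, 4, 3, 5, 4, 6, 7],
   [6, 5, 4, 3, 1, 2, 3, 4],
   [5, 4, 3, 1, 2, 3, 4],
   [1, 3, 2, 4, 3, 5, 6, 7],
   [6, 5, 4, 3, 1, 2, 3],
   [5, 4, 3, 1, 2, 3],
   [4, 3, 1, 2, 3],
   [1, 3, 2, 4, 5, 6, 7],
   [6, 5, 4, 3, 1, 2],
   [5, 4, 3, 1, 2],
   [4, 3, 1, 2],
   [3, 1, 2],
   [1, 3, 4, 5, 6, 7],
   [6, 5, 4, 3, 1],
   [5, 4, 3, 1],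
   [4, 3, 1],
   [3, 1],
   [1],
   [2, 3, 4, 5, 6, 7],
   [6, 5, 4, 3, 2],
   [5, 4, 3, 2],
   [4, 3, 2],
   [3, 2],
   [2],
   [3, 4, 5, 6, 7],
   [6, 5, 4, 3],
   [5, 4, 3],
   [4, 3],
   [3],
   [4, 5, 6, 7],
   [6, 5, 4],
   [5, 4],
   [4],
   [5, 6, 7],
   [6, 5],
   [5],
   [6, 7],
   [6],
   [7],
   [],
   [],
   [],
   [],
   [],
   [],
   [],
   [],
   [],
   [],
   [],
   [],
   [],
   [],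
   [],
   [],
   [],
   [],
   [],
   [],
   [],
   [],
   [],
   [],
   [],
   [],
   [],
   [],
   [],
   [],
   [],
   [],
   [],
   [],
   [],
   [],
   [],
   [],
   [],
   [],
   [],
   [],
   [],
   [],
   [],
   [],
   [],
   [],
   [],
   [],
   [],
   [],
   [],
   [],
   [],
   [],
   [],
   [],
   [],
   [],
   [],
   [],
   [],
   [],
   [],
   [],
   [],
   [],
   [],
   [],
   [],
   [],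
   [],
   [],
   [],
   [],
   [],
   [],
   [],
   [],
   [],
   [],
   [],
   [],
   [],
   [],
   [],
   [],
   [],
   [],
   [],
   [],
   [],
   [],
   [],
   [],
   [],
   [],
   [],
   [],
   [],
   [],
   [],
   [],
   [],
   [],
   [],
   [],
   [],
   [],
   [],
   [],
   [],
   [],
   [],
   [],
   [],
   [],
   [],
   []]


section defs
variable (D : ChevalleyDatum)

/-- the highest root -/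
def rho : ℕ := D.nroots - 1

/-- `ρ` commutes with the positive roots; `-ρ` has index `0` -/
def chk186a : Bool :=
  (D.neg (rho D) == 0) && decide (rho D < D.nroots) && decide (D.IsPosRoot (rho D)) &&
  !decide (D.IsPosRoot 0) &&
  (D.posRoots.all fun s => s == rho D || (D.commTerms (rho D) s).isEmpty)

/-- the word `l` makes `ρ` and `r'` positive -/
def good186 (l : List ℕ) (r' : ℕ) : Bool :=
  l.all (fun i => decide (i < D.rank)) && decide (D.IsPosRoot (wRoot D l (rho D))) &&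
    decide (D.IsPosRoot (wRoot D l r'))

/-- for every root `r' ≠ -ρ` with `lo ≤ r' < lo + len` the word `cert[r']` makes `ρ` and `r'` positive -/
def chk186b (cert : List (List ℕ)) (lo len : ℕ) : Bool :=
  (List.range' lo len).all fun r' => r' == 0 || good186 D (cert.getD r' []) r'

theorem chk186b_spec (cert : List (List ℕ)) (lo len : ℕ) (h : chk186b D cert lo len = true)
    (r' : ℕ) (h1 : lo ≤ r') (h2 : r' < lo + len) (h0 : r' ≠ 0) : good186 D (cert.getD r' []) r' = true := by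
  unfold chk186b at h
  rw [List.all_eq_true] at h
  have := h r' (by rw [List.mem_range'_1]; exact ⟨h1, h2⟩)
  simpa [h0] using this

end defs

theorem chk186a_G2 : chk186a chevG2 = true := by decide +kernel
theorem chk186a_D4 : chk186a chevD4 = true := by decide +kernel
theorem chk186a_E6 : chk186a chevE6 = true := by decide +kernel
theorem chk186a_E7 : chk186a chevE7 = true := by decide +kernel
theorem chk186a_E8 : chk186a chevE8 = true := by decide +kernel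
theorem chk186b_G2 : chk186b chevG2 cert186_G2 0 12 = true := by decide +kernel
theorem chk186b_D4 : chk186b chevD4 cert186_D4 0 24 = true := by decide +kernel
theorem chk186b_E6 : chk186b chevE6 cert186_E6 0 72 = true := by decide +kernel
theorem chk186b_E7_0 : chk186b chevE7 cert186_E7 0 42 = true := by decide +kernel
theorem chk186b_E7_1 : chk186b chevE7 cert186_E7 42 42 = true := by decide +kernel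
theorem chk186b_E7_2 : chk186b chevE7 cert186_E7 84 42 = true := by decide +kernel
theorem chk186b_E8_0 : chk186b chevE8 cert186_E8 0 30 = true := by decide +kernel
theorem chk186b_E8_1 : chk186b chevE8 cert186_E8 30 30 = true := by decide +kernel
theorem chk186b_E8_2 : chk186b chevE8 cert186_E8 60 30 = true := by decide +kernel
theorem chk186b_E8_3 : chk186b chevE8 cert186_E8 90 30 = true := by decide +kernel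
theorem chk186b_E8_4 : chk186b chevE8 cert186_E8 120 30 = true := by decide +kernel
theorem chk186b_E8_5 : chk186b chevE8 cert186_E8 150 30 = true := by decide +kernel
theorem chk186b_E8_6 : chk186b chevE8 cert186_E8 180 30 = true := by decide +kernel
theorem chk186b_E8_7 : chk186b chevE8 cert186_E8 210 30 = true := by decide +kernel

end Cfsg.Agent.Lib.Helper36
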