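import Cfsg.Agent.Lib.Helper36.ChevRootPair

/-! # The subgroup generated by the highest root subgroup and one of its conjugates, II (helper36) -/

set_option autoImplicit false

namespace Cfsg.Agent.Lib.Helper36

open Cfsg Cfsg.Lie Cfsg.Agent.Lib.Helper18

variable (D : ChevalleyDatum) (hD : D ∈ [chevG2, chevB2, chevD4, chevF4, chevE6, chevE7, chevE8])
variable (F : Type*) [Field F]

theorem mem_rootSubgroup (r : ℕ) (t : F) : xGL D hD F r t ∈ D.rootSubgroup F r :=
  Subgroup.subset_closure ⟨t, xGL_coe D hD F r t⟩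

/-- conjugation carrying the generators of `X_r` into `X_s` carries `X_r` into `X_s` -/
theorem rootSubgroup_map_le (g : GL D.Idx F) (r s : ℕ)
    (h : ∀ t : F, ∃ t' : F, g * xGL D hD F r t * g⁻¹ = xGL D hD F s t') :
    (D.rootSubgroup F r).map (MulAut.conj g).toMonoidHom ≤ D.rootSubgroup F s := by
  unfold ChevalleyDatum.rootSubgroup
  rw [MonoidHom.map_closure, Subgroup.closure_le]
  rintro _ ⟨x, ⟨t, hx⟩, rfl⟩
  have hx' : x = xGL D hD F r t := Units.ext hx
  obtain ⟨t', ht'⟩ := h t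
  show g * x * g⁻¹ ∈ _
  rw [hx', ht']
  exact Subgroup.subset_closure ⟨t', xGL_coe D hD F s t'⟩

theorem rootSubgroup_map_eq (g : GL D.Idx F) (r s : ℕ)
    (h : ∀ t : F, ∃ t' : F, g * xGL D hD F r t * g⁻¹ = xGL D hD F s t')
    (h' : ∀ t : F, ∃ t' : F, g⁻¹ * xGL D hD F s t * g = xGL D hD F r t') :
    (D.rootSubgroup F r).map (MulAut.conj g).toMonoidHom = D.rootSubgroup F s := by
  apply le_antisymm (rootSubgroup_map_le D hD F g r s h)
  have h2 := rootSubgroup_map_le D hD F g⁻¹ s r (fun t => by simpa using h' t)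
  intro x hx
  have hx2 := h2 (Subgroup.mem_map_of_mem _ hx)
  refine ⟨_, hx2, ?_⟩
  simp [MulAut.conj_apply, mul_assoc]

section highest
variable (ha : chk186a D = true)

include ha in
theorem chk186a_spec : D.neg (rho D) = 0 ∧ rho D < D.nroots ∧ D.IsPosRoot (rho D) ∧ ¬ D.IsPosRoot 0 ∧
    ∀ s, D.IsPosRoot s → s ≠ rho D → D.commTerms (rho D) s = [] := by
  unfold chk186a at ha
  simp only [Bool.and_eq_true, beq_iff_eq, decide_eq_true_eq, List.all_eq_true, Bool.or_eq_true,
    List.isEmpty_iff, Bool.not_eq_true', decide_eq_false_iff_not] at ha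
  obtain ⟨⟨⟨⟨hneg, hlt⟩, hpos⟩, h0⟩, hcomm⟩ := ha
  refine ⟨hneg, hlt, hpos, h0, fun s hs hne => ?_⟩
  have hsmem : s ∈ D.posRoots := by
    unfold ChevalleyDatum.posRoots
    rw [List.mem_filter]
    exact ⟨List.mem_range.2 hs.1, decide_eq_true hs⟩
  rcases hcomm s hsmem with h | h
  · exact absurd h hne
  · exact h

include hD ha in
theorem pos_centralizes_rho (u : GL D.Idx F) (hu : u ∈ D.posUnipotent F) (t : F) :
    u * xGL D hD F (rho D) t = xGL D hD F (rho D) t * u := by
  obtain ⟨hneg, hlt, hpos, h0, hcomm⟩ := chk186a_spec D ha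
  have hle : D.posUnipotent F ≤ Subgroup.centralizer {xGL D hD F (rho D) t} := by
    unfold ChevalleyDatum.posUnipotent
    rw [Subgroup.closure_le]
    rintro x ⟨s, c, hs, hx⟩
    have hx' : x = xGL D hD F s c := Units.ext hx
    rw [SetLike.mem_coe, Subgroup.mem_centralizer_iff]
    intro y hy
    rw [Set.mem_singleton_iff] at hy
    subst hy
    rw [hx']
    by_cases hsr : s = rho D
    · rw [hsr, ← xGL_add, ← xGL_add, add_comm]
    · have hs0 : s ≠ D.neg (rho D) := by
        rw [hneg]; intro e; rw [e] at hs; exact h0 hs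
      have hcf := Cfsg.Agent.S1025.result (F := F) D hD (rho D) s hlt hs.1 hsr hs0 t c
      have hw : D.wordMat F (D.commWord F (rho D) s t c) = 1 := by
        unfold ChevalleyDatum.commWord ChevalleyDatum.wordMat
        rw [hcomm s hs hsr]
        simp
      rw [hw, mul_one] at hcf
      apply Units.ext
      rw [Units.val_mul, Units.val_mul, xGL_coe, xGL_coe]
      exact hcf.symm
  have := hle hu
  rw [Subgroup.mem_centralizer_iff] at this
  exact (this _ rfl).symm

include hD ha in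
/-- `B` normalises the highest root subgroup -/
theorem borel_conj_rho (b : GL D.Idx F) (hb : b ∈ D.borelSubgroup F) (t : F) :
    ∃ t' : F, b * xGL D hD F (rho D) t * b⁻¹ = xGL D hD F (rho D) t' := by
  obtain ⟨hneg, hlt, hpos, h0, hcomm⟩ := chk186a_spec D ha
  obtain ⟨u, hu, h, hh, rfl⟩ := (mem_borel_iff D hD F b).1 hb
  obtain ⟨χ, hχ, e⟩ := exists_character_of_mem_diagonal D hD F h hh
  have h1 := diag_conj_xGL D hD F h χ hχ e (rho D) hlt t
  refine ⟨(χ (rho D) : F) * t, ?_⟩
  have h2 := pos_centralizes_rho D hD F ha u hu ((χ (rho D) : F) * t)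
  calc u * h * xGL D hD F (rho D) t * (u * h)⁻¹
      = u * (h * xGL D hD F (rho D) t * h⁻¹) * u⁻¹ := by group
    _ = u * xGL D hD F (rho D) ((χ (rho D) : F) * t) * u⁻¹ := by rw [h1]
    _ = xGL D hD F (rho D) ((χ (rho D) : F) * t) := by rw [h2]; group

include hD ha in
theorem borel_map_rho (b : GL D.Idx F) (hb : b ∈ D.borelSubgroup F) :
    (D.rootSubgroup F (rho D)).map (MulAut.conj b).toMonoidHom = D.rootSubgroup F (rho D) := by
  apply rootSubgroup_map_eq D hD F b (rho D) (rho D) (borel_conj_rho D hD F ha b hb)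
  intro t
  have := borel_conj_rho D hD F ha b⁻¹ (inv_mem hb) t
  simpa using this

end highest

theorem rootSubgroup_map_of_acts (n : GL D.Idx F) (r s : ℕ) (c : F) (hc : c ≠ 0)
    (h : ∀ t : F, n * xGL D hD F r t * n⁻¹ = xGL D hD F s (c * t)) :
    (D.rootSubgroup F r).map (MulAut.conj n).toMonoidHom = D.rootSubgroup F s := by
  apply rootSubgroup_map_eq D hD F n r s (fun t => ⟨c * t, h t⟩)
  intro t
  refine ⟨t / c, ?_⟩
  have := h (t / c)
  rw [mul_div_cancel₀ t hc] at this
  rw [← this]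
  group

theorem map_conj_mul {G : Type*} [Group G] (K : Subgroup G) (a b : G) :
    K.map (MulAut.conj (a * b)).toMonoidHom = (K.map (MulAut.conj b).toMonoidHom).map (MulAut.conj a).toMonoidHom := by
  rw [Subgroup.map_map]
  congr 1
  ext x
  simp [MulAut.conj_apply, mul_assoc]

theorem map_conj_inv_cancel {G : Type*} [Group G] (K : Subgroup G) (a : G) :
    (K.map (MulAut.conj a).toMonoidHom).map (MulAut.conj a⁻¹).toMonoidHom = K := by
  rw [← map_conj_mul, inv_mul_cancel]
  ext x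
  simp

include hD in
/-- the subgroup generated by the highest root subgroup and a conjugate -/
theorem pair_main (ha : chk186a D = true)
    (hb : ∀ r' < D.nroots, r' ≠ 0 → ∃ l : List ℕ, (∀ i ∈ l, i < D.rank) ∧ D.IsPosRoot (wRoot D l (rho D)) ∧
      D.IsPosRoot (wRoot D l r'))
    (p : ℕ) [Fact p.Prime] (hU : IsPGroup p ↥(D.posUnipotent F)) (g : GL D.Idx F) (hg : g ∈ D.group F) :
    IsPGroup p ↥(D.rootSubgroup F (rho D) ⊔ (D.rootSubgroup F (rho D)).map (MulAut.conj g).toMonoidHom) ∨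
    ∃ h ∈ D.group F, (D.rootSubgroup F (rho D) ⊔
        (D.rootSubgroup F (rho D)).map (MulAut.conj g).toMonoidHom).map (MulAut.conj h).toMonoidHom =
      D.rootSubgroup F (rho D) ⊔ D.rootSubgroup F 0 := by
  obtain ⟨hneg, hlt, hpos, h0, hcomm⟩ := chk186a_spec D ha
  have h45 : ∀ i < D.rank, H45 D F i := fun i hi => Cfsg.Agent.S1045.result D hD i hi
  obtain ⟨P, hB, hN, -⟩ := exists_bnPair D hD F h45
  obtain ⟨n, hn, hgn⟩ := Cfsg.Agent.S0308.result P ⟨g, hg⟩
  rw [hN, Subgroup.mem_subgroupOf] at hn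
  rw [DoubleCoset.mem_doubleCoset] at hgn
  obtain ⟨x, hx, y, hy, e⟩ := hgn
  rw [SetLike.mem_coe, hB, Subgroup.mem_subgroupOf] at hx hy
  have e' : g = (x : GL D.Idx F) * (n : GL D.Idx F) * (y : GL D.Idx F) := congrArg Subtype.val e
  obtain ⟨l, hl, hact⟩ := exists_word_conj D hD F _ hn
  obtain ⟨c, hc, hcact⟩ := hact (rho D) hlt
  set r' := wRoot D l (rho D) with hr'
  have hr'lt : r' < D.nroots := wRoot_lt D hD l hl _ hlt
  have e1 : (D.rootSubgroup F (rho D)).map (MulAut.conj g).toMonoidHom =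
      (D.rootSubgroup F r').map (MulAut.conj (x : GL D.Idx F)).toMonoidHom := by
    rw [e', map_conj_mul, map_conj_mul, borel_map_rho D hD F ha _ hy,
      rootSubgroup_map_of_acts D hD F _ (rho D) r' c hc hcact]
  have e2 : D.rootSubgroup F (rho D) ⊔ (D.rootSubgroup F (rho D)).map (MulAut.conj g).toMonoidHom =
      (D.rootSubgroup F (rho D) ⊔ D.rootSubgroup F r').map (MulAut.conj (x : GL D.Idx F)).toMonoidHom := by
    rw [Subgroup.map_sup, borel_map_rho D hD F ha _ hx, e1]
  rw [e2]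
  by_cases hr0 : r' = 0
  · right
    refine ⟨(x : GL D.Idx F)⁻¹, inv_mem x.2, ?_⟩
    rw [map_conj_inv_cancel, hr0]
  · left
    obtain ⟨l', hl', hp1, hp2⟩ := hb r' hr'lt hr0
    obtain ⟨ε1, hε1, hc1⟩ := nWordGL_conj D hD F l' hl' (rho D) hlt
    obtain ⟨ε2, hε2, hc2⟩ := nWordGL_conj D hD F l' hl' r' hr'lt
    have hε1' : ε1 ≠ 0 := by intro h; rw [h] at hε1; simp at hε1
    have hε2' : ε2 ≠ 0 := by intro h; rw [h] at hε2; simp at hε2
    have hXU : ∀ s, D.IsPosRoot s → D.rootSubgroup F s ≤ D.posUnipotent F := by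
      intro s hs
      unfold ChevalleyDatum.rootSubgroup ChevalleyDatum.posUnipotent
      apply Subgroup.closure_mono
      rintro z ⟨t, hz⟩
      exact ⟨s, t, hs, hz⟩
    have hK : (D.rootSubgroup F (rho D) ⊔ D.rootSubgroup F r').map (MulAut.conj (nWordGL D hD F l')).toMonoidHom ≤
        D.posUnipotent F := by
      rw [Subgroup.map_sup, rootSubgroup_map_of_acts D hD F _ (rho D) _ ε1 hε1' hc1,
        rootSubgroup_map_of_acts D hD F _ r' _ ε2 hε2' hc2]
      exact sup_le (hXU _ hp1) (hXU _ hp2)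
    have hK2 : D.rootSubgroup F (rho D) ⊔ D.rootSubgroup F r' ≤
        (D.posUnipotent F).map (MulAut.conj (nWordGL D hD F l')⁻¹).toMonoidHom := by
      rw [← map_conj_inv_cancel (D.rootSubgroup F (rho D) ⊔ D.rootSubgroup F r') (nWordGL D hD F l')]
      exact Subgroup.map_mono hK
    have hP1 : IsPGroup p ↥(D.rootSubgroup F (rho D) ⊔ D.rootSubgroup F r') :=
      (hU.map _).to_le hK2
    exact hP1.map _

end Cfsg.Agent.Lib.Helper36
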