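import Cfsg.Agent.Lib.Helper36.ChevTwWeyl
import Cfsg.Agent.Lib.Helper36.ChevTwCount

/-! # The Bruhat cells of a twisted group and its order (helper36) -/

set_option autoImplicit false
set_option linter.unusedSectionVars false

namespace Cfsg.Agent.Lib.Helper36

open Cfsg Cfsg.Lie Cfsg.Agent.Lib.Helper18

section main
variable (D : ChevalleyDatum) (hD : D ∈ [chevG2, chevB2, chevD4, chevF4, chevE6, chevE7, chevE8])
variable (G : GraphTab) (orbs fund : List (List ℕ)) (steps : List (List ℕ × List ℕ × List ℕ))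
variable (hok : TwOK D G orbs fund steps)
variable (F : Type*) [Field F] [Fintype F] (φ : F →+* F)

include hD hok in
/-- the homomorphism `N¹ → W¹` onto the Coxeter group, with kernel `H¹`, sending folded words to words -/
theorem tw_weyl_hom {m : ℕ} (M' : CoxeterMatrix (Fin m)) (A' : Matrix (Fin m) (Fin m) ℤ)
    (hA' : M'.IsLiftable (reflMat A')) (hker' : ∀ w : M'.Group, rho M' A' hA' w = 1 → w = 1)
    (gen : Fin m → List ℕ) (hgen : ∀ k, gen k ∈ fund) (hcov : ∀ J ∈ fund, ∃ k, gen k = J)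
    (hbraid : ∀ k k' : Fin m, ∀ r < D.nroots,
      wRoot D (List.replicate (M' k k') (gen k ++ gen k')).flatten r = r)
    (P : Matrix (Fin D.rank) (Fin m) ℤ) (S : Matrix (Fin m) (Fin D.rank) ℤ) (hSP : S * P = 1)
    (hequi : ∀ k, wMatN D (gen k) * P = P * reflMat A' k) :
    ∃ f : ↥(D.monomialSubgroup F ⊓ twGroup D hD G F φ fund) →* M'.Group,
      f.ker = (D.diagonalSubgroup F ⊓ twGroup D hD G F φ fund).subgroupOf
        (D.monomialSubgroup F ⊓ twGroup D hD G F φ fund) ∧
      ∀ (ω : List (Fin m)) (hp : nWordGL D hD F (ω.map gen).flatten ∈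
        D.monomialSubgroup F ⊓ twGroup D hD G F φ fund), f ⟨_, hp⟩ = M'.toCoxeterSystem.wordProd ω := by
  set T := twGroup D hD G F φ fund with hT
  set N1 := D.monomialSubgroup F ⊓ T with hN1
  set H1 := (D.diagonalSubgroup F ⊓ T).subgroupOf N1 with hH1
  have hHN := diagonal_le_monomial D F
  have hmemH1 : ∀ x : ↥N1, x ∈ H1 ↔ (x : GL D.Idx F) ∈ D.diagonalSubgroup F := by
    intro x
    rw [hH1, Subgroup.mem_subgroupOf, Subgroup.mem_inf]
    exact ⟨fun h => h.1, fun h => ⟨h, (Subgroup.mem_inf.1 x.2).2⟩⟩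
  have hnorm : H1.Normal := by
    constructor
    intro h hh n
    rw [hmemH1] at hh ⊢
    have := conj_mem_diag D hD F ((n : GL D.Idx F))⁻¹ _ (inv_mem (Subgroup.mem_inf.1 n.2).1) hh
    rw [inv_inv] at this
    simpa using this
  let q := QuotientGroup.mk' H1
  have hq : q.ker = H1 := QuotientGroup.ker_mk' _
  have hqs : Function.Surjective q := QuotientGroup.mk'_surjective _
  have hq1 : ∀ x : ↥N1, q x = 1 ↔ (x : GL D.Idx F) ∈ D.diagonalSubgroup F := by
    intro x
    rw [← MonoidHom.mem_ker, hq, hmemH1]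
  have hgr : ∀ k, ∀ j ∈ gen k, j < D.rank := fun k => fund_lt D G orbs fund steps hok _ (hgen k)
  have hgN : ∀ k, nWordGL D hD F (gen k) ∈ N1 := by
    intro k
    obtain ⟨h1, h2, -⟩ := tw_nJ D hD G orbs fund steps hok F φ _ (hgen k)
    exact Subgroup.mem_inf.2 ⟨h1, h2⟩
  let sgen : Fin m → ↥N1 := fun k => ⟨nWordGL D hD F (gen k), hgN k⟩
  -- the braid relations
  have hlift : M'.IsLiftable (fun k => q (sgen k)) := by
    intro k k'
    rw [← map_mul, ← map_pow, hq1]
    show ((sgen k * sgen k') ^ (M' k k') : ↥N1).1 ∈ D.diagonalSubgroup F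
    rw [Subgroup.coe_pow, Subgroup.coe_mul]
    show (nWordGL D hD F (gen k) * nWordGL D hD F (gen k')) ^ (M' k k') ∈ _
    rw [← nWordGL_append, ← nWordGL_replicate]
    have hl : ∀ i ∈ (List.replicate (M' k k') (gen k ++ gen k')).flatten, i < D.rank := by
      intro i hi
      obtain ⟨l, hl, hil⟩ := List.mem_flatten.1 hi
      rw [List.eq_of_mem_replicate hl] at hil
      rcases List.mem_append.1 hil with h | h
      · exact hgr k i h
      · exact hgr k' i h
    apply nWord_mem_diag_of_pos D hD F _ hl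
    intro s hs
    rw [hbraid k k' s hs.1]
    exact hs
  let ψ : M'.Group →* (↥N1 ⧸ H1) := M'.toCoxeterSystem.lift ⟨fun k => q (sgen k), hlift⟩
  have hψs : ∀ k, ψ (M'.simple k) = q (sgen k) := fun k => M'.toCoxeterSystem.lift_apply_simple _ k
  have hψw : ∀ ω : List (Fin m), ∃ hp : nWordGL D hD F (ω.map gen).flatten ∈ N1,
      ψ (M'.toCoxeterSystem.wordProd ω) = q ⟨_, hp⟩ := by
    intro ω
    induction ω with
    | nil =>
      have h1 : nWordGL D hD F (([] : List (Fin m)).map gen).flatten = 1 := by simp [nWordGL]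
      have hp : nWordGL D hD F (([] : List (Fin m)).map gen).flatten ∈ N1 := by rw [h1]; exact one_mem _
      refine ⟨hp, ?_⟩
      have h2 : (⟨_, hp⟩ : ↥N1) = 1 := Subtype.ext h1
      rw [h2, map_one, CoxeterSystem.wordProd_nil, map_one]
    | cons k ω ih =>
      obtain ⟨hp, e⟩ := ih
      have h1 : nWordGL D hD F ((k :: ω).map gen).flatten =
          nWordGL D hD F (gen k) * nWordGL D hD F (ω.map gen).flatten := by
        rw [List.map_cons, List.flatten_cons, nWordGL_append]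
      have hp' : nWordGL D hD F ((k :: ω).map gen).flatten ∈ N1 := by
        rw [h1]
        exact mul_mem (hgN k) hp
      refine ⟨hp', ?_⟩
      have h2 : (⟨_, hp'⟩ : ↥N1) = sgen k * ⟨_, hp⟩ := Subtype.ext h1
      rw [h2, CoxeterSystem.wordProd_cons, map_mul, e, map_mul]
      congr 1
      exact hψs k
  -- surjectivity
  have hsur : Function.Surjective ψ := by
    intro x
    obtain ⟨n, rfl⟩ := hqs x
    obtain ⟨hnN, hnT⟩ := Subgroup.mem_inf.1 n.2
    obtain ⟨Js, hJs, h, hh, e⟩ := tw_mono_folded D hD G orbs fund steps hok F φ n.1 hnN hnT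
    have hprod : ∀ (Js : List (List ℕ)), (∀ J ∈ Js, J ∈ fund) →
        ∀ hp : (Js.map fun J => nWordGL D hD F J).prod ∈ N1, q ⟨_, hp⟩ ∈ ψ.range := by
      intro Js
      induction Js with
      | nil =>
        intro _ hp
        have : (⟨(([] : List (List ℕ)).map fun J => nWordGL D hD F J).prod, hp⟩ : ↥N1) = 1 := Subtype.ext (by simp)
        rw [this, map_one]
        exact one_mem _
      | cons J Js ih =>
        intro hJs hp
        have hJ := hJs J (List.mem_cons_self ..)
        have hJs' : ∀ J' ∈ Js, J' ∈ fund := fun J' hJ' => hJs J' (List.mem_cons_of_mem _ hJ')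
        obtain ⟨k, hk⟩ := hcov J hJ
        have hp' : (Js.map fun J => nWordGL D hD F J).prod ∈ N1 := by
          apply Subgroup.list_prod_mem
          intro x hx
          obtain ⟨J', hJ', rfl⟩ := List.mem_map.1 hx
          obtain ⟨h1, h2, -⟩ := tw_nJ D hD G orbs fund steps hok F φ J' (hJs' J' hJ')
          exact Subgroup.mem_inf.2 ⟨h1, h2⟩
        have e2 : (⟨((J :: Js).map fun J => nWordGL D hD F J).prod, hp⟩ : ↥N1) =
            sgen k * ⟨(Js.map fun J => nWordGL D hD F J).prod, hp'⟩ := by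
          apply Subtype.ext
          show _ = nWordGL D hD F (gen k) * _
          rw [hk]
          simp
        rw [e2, map_mul]
        exact mul_mem ⟨M'.simple k, hψs k⟩ (ih hJs' hp')
    have hpN : (Js.map fun J => nWordGL D hD F J).prod ∈ N1 := by
      apply Subgroup.list_prod_mem
      intro x hx
      obtain ⟨J', hJ', rfl⟩ := List.mem_map.1 hx
      obtain ⟨h1, h2, -⟩ := tw_nJ D hD G orbs fund steps hok F φ J' (hJs J' hJ')
      exact Subgroup.mem_inf.2 ⟨h1, h2⟩
    have hhN : h ∈ N1 := Subgroup.mem_inf.2 ⟨hHN (Subgroup.mem_inf.1 hh).1, (Subgroup.mem_inf.1 hh).2⟩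
    have en : n = (⟨_, hpN⟩ : ↥N1) * ⟨h, hhN⟩ := Subtype.ext e
    have hqh : q ⟨h, hhN⟩ = 1 := (hq1 _).2 (Subgroup.mem_inf.1 hh).1
    rw [en, map_mul, hqh, mul_one]
    exact hprod Js hJs hpN
  -- injectivity
  have hinj : Function.Injective ψ := by
    rw [injective_iff_map_eq_one]
    intro w hw
    obtain ⟨ω, rfl⟩ := M'.toCoxeterSystem.wordProd_surjective w
    obtain ⟨hp, e⟩ := hψw ω
    rw [e, hq1] at hw
    have hl : ∀ i ∈ (ω.map gen).flatten, i < D.rank := by
      intro i hi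
      obtain ⟨l, hl, hil⟩ := List.mem_flatten.1 hi
      obtain ⟨k, -, rfl⟩ := List.mem_map.1 hl
      exact hgr k i hil
    have hid : ∀ r < D.nroots, wRoot D (ω.map gen).flatten r = r := by
      intro r hr
      have h1 : (nWordGL D hD F ([] : List ℕ))⁻¹ * nWordGL D hD F (ω.map gen).flatten ∈ D.diagonalSubgroup F := by
        simpa [nWordGL] using hw
      exact (wRoot_eq_of_mem_diag D hD F [] _ (by simp) hl h1 r hr).symm
    -- the matrix of the word
    have hmat : ∀ ω : List (Fin m), wMatN D (ω.map gen).flatten * P =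
        P * rho M' A' hA' (M'.toCoxeterSystem.wordProd ω)⁻¹ := by
      intro ω
      induction ω with
      | nil => simp [wMatN]
      | cons k ω ih =>
        have h1 : rho M' A' hA' (M'.toCoxeterSystem.simple k)⁻¹ = reflMat A' k := by
          show rho M' A' hA' (M'.simple k)⁻¹ = reflMat A' k
          rw [simple_inv M' k, rho_simple M' A' hA' k]
        rw [List.map_cons, List.flatten_cons, wMatN_append, Matrix.mul_assoc, hequi k, ← Matrix.mul_assoc, ih,
          Matrix.mul_assoc, CoxeterSystem.wordProd_cons, mul_inv_rev, map_mul, h1]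
    have hW : wMatN D (ω.map gen).flatten = 1 := by
      apply Matrix.ext
      intro j j'
      have hpj := (chkN2_spec D (chkN2_all D hD) j j.isLt).1
      have h1 := cvec_wRootN D hD _ hl (D.simple j) hpj
      rw [hid _ hpj, cvec_simple D hD j, Matrix.single_one_vecMul] at h1
      have h4 := congrFun h1 j'
      rw [Matrix.row] at h4
      rw [← h4, Matrix.one_apply, Pi.single_apply]
      simp [eq_comm]
    have hR : rho M' A' hA' (M'.toCoxeterSystem.wordProd ω)⁻¹ = 1 := by
      have := hmat ω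
      rw [hW, Matrix.one_mul] at this
      calc rho M' A' hA' (M'.toCoxeterSystem.wordProd ω)⁻¹
          = (S * P) * rho M' A' hA' (M'.toCoxeterSystem.wordProd ω)⁻¹ := by rw [hSP, one_mul]
        _ = S * (P * rho M' A' hA' (M'.toCoxeterSystem.wordProd ω)⁻¹) := by rw [Matrix.mul_assoc]
        _ = S * P := by rw [← this]
        _ = 1 := hSP
    exact inv_eq_one.1 (hker' _ hR)
  let e := MulEquiv.ofBijective ψ ⟨hinj, hsur⟩
  refine ⟨e.symm.toMonoidHom.comp q, ?_, ?_⟩
  · ext g
    rw [MonoidHom.mem_ker, MonoidHom.comp_apply]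
    have h1 : g ∈ H1 ↔ q g = 1 := by rw [← MonoidHom.mem_ker, hq]
    rw [h1]
    exact e.symm.map_eq_one_iff
  · intro ω hp
    obtain ⟨hp', e'⟩ := hψw ω
    rw [MonoidHom.comp_apply]
    show e.symm (q ⟨_, hp⟩) = _
    rw [← e']
    exact e.symm_apply_apply _

include hD hok in
/-- Bruhat form of an element of the twisted group, keeping track of `U_w⁻` -/
theorem tw_descent' (g : GL D.Idx F) (hg : g ∈ twGroup D hD G F φ fund) :
    ∃ l : List ℕ, (∀ i ∈ l, i < D.rank) ∧ RhoComm D G l ∧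
      ∃ u₁ ∈ D.posUnipotent F ⊓ twGroup D hD G F φ fund, ∃ h₁ ∈ D.diagonalSubgroup F,
      ∃ u ∈ Subgroup.closure (sGens D F l) ⊓ twGroup D hD G F φ fund,
        g = u₁ * (h₁ * nWordGL D hD F l) * u ∧ h₁ * nWordGL D hD F l ∈ twGroup D hD G F φ fund := by
  have hgG := twGroup_le_group D hD G orbs fund F φ hok.fnd hg
  have hσ := sigma_twGroup D hD G hok.hG orbs fund F φ hok.orb hok.fnd g hg
  obtain ⟨l, hl, hrc, u₁, hu₁, h₁, hh₁, u, hu, e, hσ1, hσ2, -⟩ := sigma_descent D hD G hok.hG F φ g hgG hσ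
  have hu₁T := posFixed_mem D hD G hok.hG orbs fund F φ hok.orb hok.fnd steps hok.reach u₁ hu₁ hσ1
  have huU := sGens_le_pos D F l hu
  have huT := posFixed_mem D hD G hok.hG orbs fund F φ hok.orb hok.fnd steps hok.reach u huU hσ2
  refine ⟨l, hl, hrc, u₁, ⟨hu₁, hu₁T⟩, h₁, hh₁, u, ⟨hu, huT⟩, e, ?_⟩
  have : h₁ * nWordGL D hD F l = u₁⁻¹ * g * u⁻¹ := by rw [e]; group
  rw [this]
  exact mul_mem (mul_mem (inv_mem hu₁T) hg) (inv_mem huT)

/-- the word in the fundamental reflections of a word in the folded reflections -/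
def foldW {m : ℕ} (gen : Fin m → List ℕ) (ω : List (Fin m)) : List ℕ := (ω.map gen).flatten

include hok in
theorem foldW_lt {m : ℕ} (gen : Fin m → List ℕ) (hgen : ∀ k, gen k ∈ fund) (ω : List (Fin m)) :
    ∀ i ∈ foldW gen ω, i < D.rank := by
  intro i hi
  obtain ⟨l, hl, hil⟩ := List.mem_flatten.1 hi
  obtain ⟨k, -, rfl⟩ := List.mem_map.1 hl
  exact fund_lt D G orbs fund steps hok _ (hgen k) i hil

include hD hok in
theorem foldW_rhoComm {m : ℕ} (gen : Fin m → List ℕ) (hgen : ∀ k, gen k ∈ fund) (ω : List (Fin m)) :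
    RhoComm D G (foldW gen ω) := by
  induction ω with
  | nil => intro r _; rfl
  | cons k ω ih =>
    show RhoComm D G ((List.map gen (k :: ω)).flatten)
    rw [List.map_cons, List.flatten_cons]
    exact rhoComm_append D hD G hok.hG _ _ (foldW_lt D G orbs fund steps hok gen hgen ω)
      ((chkFundW_spec D G fund hok.fw).2 _ (hgen k)).2.2.2.1 ih

include hD hok in
theorem foldW_mem {m : ℕ} (gen : Fin m → List ℕ) (hgen : ∀ k, gen k ∈ fund) (ω : List (Fin m)) :
    nWordGL D hD F (foldW gen ω) ∈ D.monomialSubgroup F ⊓ twGroup D hD G F φ fund := by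
  induction ω with
  | nil =>
    have : nWordGL D hD F (foldW gen ([] : List (Fin m))) = 1 := by simp [foldW, nWordGL]
    rw [this]
    exact one_mem _
  | cons k ω ih =>
    have : nWordGL D hD F (foldW gen (k :: ω)) = nWordGL D hD F (gen k) * nWordGL D hD F (foldW gen ω) := by
      show nWordGL D hD F ((List.map gen (k :: ω)).flatten) = _
      rw [List.map_cons, List.flatten_cons, nWordGL_append]
      rfl
    rw [this]
    obtain ⟨h1, h2, -⟩ := tw_nJ D hD G orbs fund steps hok F φ _ (hgen k)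
    exact mul_mem (Subgroup.mem_inf.2 ⟨h1, h2⟩) ih

/-- the part of a Bruhat cell in the twisted group -/
def twCell (n : GL D.Idx F) : Set (GL D.Idx F) := {g | g ∈ twGroup D hD G F φ fund ∧ InBnB D F g n}

section count
variable (d : ℕ) (hfc : chkFundC D fund d = true)

include hD hok hfc in
/-- the number of elements of the part of a Bruhat cell in the twisted group -/
theorem card_twCell (q : ℕ) (hq : Nat.card {t : F // φ t = t} = q) (hFd : Fintype.card F = q ^ d)
    (hφd : ∀ t : F, φ^[d] t = t) (l : List ℕ) (hl : ∀ i ∈ l, i < D.rank) (hrc : RhoComm D G l)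
    (hlT : nWordGL D hD F l ∈ twGroup D hD G F φ fund) :
    (twCell D hD G fund F φ (nWordGL D hD F l)).ncard =
      Nat.card ↥(D.posUnipotent F ⊓ twGroup D hD G F φ fund) *
        Nat.card ↥(D.diagonalSubgroup F ⊓ twGroup D hD G F φ fund) * q ^ Nw D l := by
  have h45 : ∀ i < D.rank, H45 D F i := fun i hi => Cfsg.Agent.S1045.result D hD i hi
  set T := twGroup D hD G F φ fund with hT
  set n := nWordGL D hD F l with hn
  have hnN : n ∈ D.monomialSubgroup F := nWordGL_mem D hD F l hl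
  have hUB := pos_le_borel D F
  have hHB := diagonal_le_borel D F
  rw [← card_sGens_tw D hD G orbs fund steps hok d hfc F φ q hq hFd hφd l hl hrc, ← Nat.card_coe_set_eq,
    ← Nat.card_prod, ← Nat.card_prod]
  symm
  let Θ : (↥(D.posUnipotent F ⊓ T) × ↥(D.diagonalSubgroup F ⊓ T)) × ↥(Subgroup.closure (sGens D F l) ⊓ T) →
      ↥(twCell D hD G fund F φ n) := fun p =>
    ⟨p.1.1.1 * p.1.2.1 * n * p.2.1, mul_mem (mul_mem (mul_mem (Subgroup.mem_inf.1 p.1.1.2).2
        (Subgroup.mem_inf.1 p.1.2.2).2) hlT) (Subgroup.mem_inf.1 p.2.2).2,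
      p.1.1.1 * p.1.2.1, mul_mem (hUB (Subgroup.mem_inf.1 p.1.1.2).1) (hHB (Subgroup.mem_inf.1 p.1.2.2).1),
      p.2.1, hUB (sGens_le_pos D F l (Subgroup.mem_inf.1 p.2.2).1), rfl⟩
  apply Nat.card_congr (Equiv.ofBijective Θ ⟨?_, ?_⟩)
  · rintro ⟨⟨⟨u, hu⟩, ⟨h, hh⟩⟩, ⟨v, hv⟩⟩ ⟨⟨⟨u', hu'⟩, ⟨h', hh'⟩⟩, ⟨v', hv'⟩⟩ e
    have e' : u * h * n * v = u' * h' * n * v' := congrArg Subtype.val e
    obtain ⟨huU, huT⟩ := Subgroup.mem_inf.1 hu
    obtain ⟨hu'U, hu'T⟩ := Subgroup.mem_inf.1 hu'
    obtain ⟨hhH, hhT⟩ := Subgroup.mem_inf.1 hh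
    obtain ⟨hh'H, hh'T⟩ := Subgroup.mem_inf.1 hh'
    obtain ⟨e1, e2⟩ := cell_unique D hD F l n (actsBy_nWordGL D hD F l hl) (u * h) (u' * h') v v'
      (mul_mem (hUB huU) (hHB hhH)) (mul_mem (hUB hu'U) (hHB hh'H)) (Subgroup.mem_inf.1 hv).1
      (Subgroup.mem_inf.1 hv').1 e'
    have h1 : u'⁻¹ * u = h' * h⁻¹ := by
      have : u = u' * h' * h⁻¹ := by rw [← e1]; group
      rw [this]; group
    have h2 : u'⁻¹ * u ∈ D.posUnipotent F ⊓ D.diagonalSubgroup F :=
      Subgroup.mem_inf.2 ⟨mul_mem (inv_mem hu'U) huU, by rw [h1]; exact mul_mem hh'H (inv_mem hhH)⟩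
    rw [pos_inf_diagonal D hD F, Subgroup.mem_bot] at h2
    have hu1 : u = u' := by
      rw [inv_mul_eq_one] at h2
      exact h2.symm
    subst hu1
    have hh1 : h = h' := mul_left_cancel e1
    subst hh1
    subst e2
    rfl
  · rintro ⟨g, hgT, hgc⟩
    obtain ⟨l', hl', hrc', u₁, hu₁, h₁, hh₁, u, hu, e, hmT⟩ :=
      tw_descent' D hD G orbs fund steps hok F φ g hgT
    set n' := nWordGL D hD F l' with hn'
    have hn'N : n' ∈ D.monomialSubgroup F := nWordGL_mem D hD F l' hl'
    obtain ⟨hu₁U, hu₁T⟩ := Subgroup.mem_inf.1 hu₁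
    obtain ⟨huS, huT⟩ := Subgroup.mem_inf.1 hu
    have hgc' : g ∈ cell D F n' := by
      refine ⟨u₁ * h₁, mul_mem (hUB hu₁U) (hHB hh₁), u, hUB (sGens_le_pos D F l' huS), ?_⟩
      rw [e]; group
    have h0 := bruhat_unique' D hD F h45 n' n g hn'N hnN hgc' hgc
    have hperm : ∀ r < D.nroots, wRoot D l' r = wRoot D l r :=
      fun r hr => wRoot_eq_of_mem_diag D hD F l' l hl' hl h0 r hr
    have hsg : sGens D F l' = sGens D F l := by
      ext x
      constructor
      · rintro ⟨s, t, hs, hws, hx⟩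
        exact ⟨s, t, hs, by rw [← hperm s hs.1]; exact hws, hx⟩
      · rintro ⟨s, t, hs, hws, hx⟩
        exact ⟨s, t, hs, by rw [hperm s hs.1]; exact hws, hx⟩
    rw [hsg] at huS
    have hh' : h₁ * (n' * n⁻¹) ∈ D.diagonalSubgroup F := by
      apply mul_mem hh₁
      have h3 := conj_mem_diag D hD F n'⁻¹ _ (inv_mem hn'N) (inv_mem h0)
      have e3 : n'⁻¹⁻¹ * (n'⁻¹ * n)⁻¹ * n'⁻¹ = n' * n⁻¹ := by group
      rw [e3] at h3
      exact h3
    have hh'T : h₁ * (n' * n⁻¹) ∈ T := by
      have : h₁ * (n' * n⁻¹) = (h₁ * n') * n⁻¹ := by group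
      rw [this]
      exact mul_mem hmT (inv_mem hlT)
    refine ⟨⟨⟨⟨u₁, hu₁⟩, ⟨h₁ * (n' * n⁻¹), Subgroup.mem_inf.2 ⟨hh', hh'T⟩⟩⟩,
      ⟨u, Subgroup.mem_inf.2 ⟨huS, huT⟩⟩⟩, ?_⟩
    apply Subtype.ext
    show u₁ * (h₁ * (n' * n⁻¹)) * n * u = g
    rw [e]
    group

include hD hok hfc in
/-- the order of a twisted group, from an enumeration of its Weyl group -/
theorem card_twGroup {m : ℕ} (M' : CoxeterMatrix (Fin m)) (A' : Matrix (Fin m) (Fin m) ℤ)
    (hA' : M'.IsLiftable (reflMat A')) (hker' : ∀ w : M'.Group, rho M' A' hA' w = 1 → w = 1)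
    (gen : Fin m → List ℕ) (hgen : ∀ k, gen k ∈ fund) (hcov : ∀ J ∈ fund, ∃ k, gen k = J)
    (hbraid : ∀ k k' : Fin m, ∀ r < D.nroots,
      wRoot D (List.replicate (M' k k') (gen k ++ gen k')).flatten r = r)
    (P : Matrix (Fin D.rank) (Fin m) ℤ) (S : Matrix (Fin m) (Fin D.rank) ℤ) (hSP : S * P = 1)
    (hequi : ∀ k, wMatN D (gen k) * P = P * reflMat A' k)
    (words : List (List (Fin m)))
    (hbij : Function.Bijective fun i : Fin words.length => M'.toCoxeterSystem.wordProd words[i.1])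
    (q : ℕ) (hq : Nat.card {t : F // φ t = t} = q) (hFd : Fintype.card F = q ^ d)
    (hφd : ∀ t : F, φ^[d] t = t) :
    Nat.card ↥(twGroup D hD G F φ fund) =
      Nat.card ↥(D.posUnipotent F ⊓ twGroup D hD G F φ fund) *
        Nat.card ↥(D.diagonalSubgroup F ⊓ twGroup D hD G F φ fund) *
          (words.map fun ω => q ^ Nw D (foldW gen ω)).sum := by
  classical
  have h45 : ∀ i < D.rank, H45 D F i := fun i hi => Cfsg.Agent.S1045.result D hD i hi
  set T := twGroup D hD G F φ fund with hT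
  obtain ⟨f, hfker, hfw⟩ := tw_weyl_hom D hD G orbs fund steps hok F φ M' A' hA' hker' gen hgen hcov hbraid
    P S hSP hequi
  have hUB := pos_le_borel D F
  have hHB := diagonal_le_borel D F
  have hHN := diagonal_le_monomial D F
  have hwl := foldW_lt D G orbs fund steps hok gen hgen
  have hwm := foldW_mem D hD G orbs fund steps hok F φ gen hgen
  have hwrc := foldW_rhoComm D hD G orbs fund steps hok gen hgen
  let nW : List (Fin m) → GL D.Idx F := fun ω => nWordGL D hD F (foldW gen ω)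
  have hfn : ∀ ω, f ⟨nW ω, hwm ω⟩ = M'.toCoxeterSystem.wordProd ω := fun ω => hfw ω (hwm ω)
  -- membership in the kernel
  have hfk : ∀ x y : ↥(D.monomialSubgroup F ⊓ T), f x = f y ↔ (x.1)⁻¹ * y.1 ∈ D.diagonalSubgroup F := by
    intro x y
    rw [← inv_mul_eq_one, ← map_inv, ← map_mul, ← MonoidHom.mem_ker, hfker, Subgroup.mem_subgroupOf,
      Subgroup.mem_inf]
    constructor
    · intro h; exact h.1
    · intro h
      exact ⟨h, mul_mem (inv_mem (Subgroup.mem_inf.1 x.2).2) (Subgroup.mem_inf.1 y.2).2⟩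
  let c : Fin words.length → Set (GL D.Idx F) := fun i => twCell D hD G fund F φ (nW words[i.1])
  have hG : (T : Set (GL D.Idx F)) = ⋃ i, c i := by
    ext g
    simp only [Set.mem_iUnion, SetLike.mem_coe]
    constructor
    · intro hg
      obtain ⟨l, hl, hrc, u₁, hu₁, h₁, hh₁, u, hu, e, hmT⟩ := tw_descent D hD G orbs fund steps hok F φ g hg
      have hmN : h₁ * nWordGL D hD F l ∈ D.monomialSubgroup F := mul_mem (hHN hh₁) (nWordGL_mem D hD F l hl)
      obtain ⟨i, hi⟩ := hbij.2 (f ⟨_, Subgroup.mem_inf.2 ⟨hmN, hmT⟩⟩)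
      simp only at hi
      rw [← hfn, hfk] at hi
      refine ⟨i, hg, ?_⟩
      have hc : InBnB D F g (h₁ * nWordGL D hD F l) :=
        ⟨u₁, hUB (Subgroup.mem_inf.1 hu₁).1, u, hUB (Subgroup.mem_inf.1 hu).1, e⟩
      have e2 : h₁ * nWordGL D hD F l = nW words[i.1] * ((nW words[i.1])⁻¹ * (h₁ * nWordGL D hD F l)) := by
        group
      have := cell_mul_right D F (nW words[i.1]) _ (hHB hi)
      rw [← e2] at this
      have hc' : g ∈ cell D F (h₁ * nWordGL D hD F l) := hc
      rw [this] at hc'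
      exact hc'
    · rintro ⟨i, hg, -⟩
      exact hg
  have hdisj : ∀ i j : Fin words.length, i ≠ j → Disjoint (c i) (c j) := by
    intro i j hne
    rw [Set.disjoint_left]
    rintro g ⟨-, hg⟩ ⟨-, hg'⟩
    apply hne
    apply hbij.1
    simp only
    rw [← hfn, ← hfn, hfk]
    exact bruhat_unique' D hD F h45 _ _ g (Subgroup.mem_inf.1 (hwm _)).1 (Subgroup.mem_inf.1 (hwm _)).1 hg hg'
  have hcard : (T : Set (GL D.Idx F)).ncard = ∑ i, (c i).ncard := by
    rw [hG]
    have e1 : (Set.toFinite (⋃ i, c i)).toFinset =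
        Finset.univ.biUnion fun i => (Set.toFinite (c i)).toFinset := by
      ext g
      simp
    rw [Set.ncard_eq_toFinset_card _ (Set.toFinite _), e1, Finset.card_biUnion]
    · apply Finset.sum_congr rfl
      intro w _
      exact (Set.ncard_eq_toFinset_card _ _).symm
    · intro w _ w' _ hne
      show Disjoint _ _
      rw [Finset.disjoint_left]
      intro g hg hg'
      rw [Set.Finite.mem_toFinset] at hg hg'
      exact Set.disjoint_left.1 (hdisj w w' hne) hg hg'
  rw [← Nat.card_coe_set_eq] at hcard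
  rw [show Nat.card ↥T = Nat.card ↥(T : Set (GL D.Idx F)) from rfl, hcard]
  have hci : ∀ i : Fin words.length, (c i).ncard =
      Nat.card ↥(D.posUnipotent F ⊓ T) * Nat.card ↥(D.diagonalSubgroup F ⊓ T) *
        (fun ω => q ^ Nw D (foldW gen ω)) words[i.1] := by
    intro i
    exact card_twCell D hD G orbs fund steps hok F φ d hfc q hq hFd hφd _ (hwl _) (hwrc _)
      (Subgroup.mem_inf.1 (hwm _)).2
  rw [Finset.sum_congr rfl (fun i _ => hci i), ← Finset.mul_sum]
  congr 1
  exact Fin.sum_univ_fun_getElem words (fun ω => q ^ Nw D (foldW gen ω))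

end count

end main

end Cfsg.Agent.Lib.Helper36
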