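import Cfsg.Agent.Lib.Helper36.ChevTwBN
import Cfsg.Agent.Lib.Helper36.ChevCore

/-! # The normal core of `B¹` in a twisted group is trivial (helper36) -/

set_option autoImplicit false
set_option linter.unusedSectionVars false

namespace Cfsg.Agent.Lib.Helper36

open Cfsg Cfsg.Lie Cfsg.Agent.Lib.Helper18

/-- a sign function on the positive roots compatible with the twisting -/
def sgnOf (G : GraphTab) (orbs : List (List ℕ)) (r : ℕ) : ℤ :=
  match orbs.find? (fun B => B.contains r) with
  | some B => ((B.take (B.idxOf r)).map G.ε).prod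
  | none => 0

/-- table check for the sign function and the longest word -/
def chkSgn (D : ChevalleyDatum) (G : GraphTab) (orbs : List (List ℕ)) : Bool :=
  (orbs.all fun B => B.all fun r =>
    decide (sgnOf G orbs r = G.ε (G.ρi r) * sgnOf G orbs (G.ρi r)) &&
      (decide (sgnOf G orbs r = 1) || decide (sgnOf G orbs r = -1))) &&
  decide (RhoComm D G (w0word D))

section
variable (D : ChevalleyDatum) (hD : D ∈ [chevG2, chevB2, chevD4, chevF4, chevE6, chevE7, chevE8])
variable (G : GraphTab) (orbs fund : List (List ℕ)) (steps : List (List ℕ × List ℕ × List ℕ))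
variable (hok : TwOK D G orbs fund steps) (hsg : chkSgn D G orbs = true)
variable (F : Type*) [Field F] [Fintype F] (φ : F →+* F)

theorem chkSgn_spec (h : chkSgn D G orbs = true) :
    (∀ B ∈ orbs, ∀ r ∈ B, sgnOf G orbs r = G.ε (G.ρi r) * sgnOf G orbs (G.ρi r) ∧
      (sgnOf G orbs r = 1 ∨ sgnOf G orbs r = -1)) ∧ RhoComm D G (w0word D) := by
  unfold chkSgn at h
  simp only [Bool.and_eq_true, List.all_eq_true, decide_eq_true_eq, Bool.or_eq_true] at h
  exact ⟨fun B hB r hr => h.1 B hB r hr, h.2⟩

include hD hok hsg in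
/-- an element of the twisted group all of whose conjugates lie in `B` lies in `H` -/
theorem tw_mem_diag_of_conj (k : GL D.Idx F) (hkT : k ∈ twGroup D hD G F φ fund)
    (hk : ∀ g ∈ twGroup D hD G F φ fund, g * k * g⁻¹ ∈ D.borelSubgroup F) : k ∈ D.diagonalSubgroup F := by
  obtain ⟨h1, -, -⟩ := chkW0_spec D hD
  obtain ⟨-, hrc⟩ := chkSgn_spec D G orbs hsg
  obtain ⟨Js, hJs, hw⟩ := folded_exists D hD G hok.hG fund F hok.fw (fund_lt D G orbs fund steps hok) _ h1 hrc
  have hfl : ∀ i ∈ Js.flatten, i < D.rank := by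
    intro i hi
    obtain ⟨J, hJ, hiJ⟩ := List.mem_flatten.1 hi
    exact fund_lt D G orbs fund steps hok J (hJs J hJ) i hiJ
  set n0 := nWordGL D hD F (w0word D) with hn0
  set n1 := nWordGL D hD F Js.flatten with hn1
  have hn1T : n1 ∈ twGroup D hD G F φ fund := by
    have hprod : nWordGL D hD F Js.flatten = (Js.map fun J => nWordGL D hD F J).prod := by
      clear hw hfl hJs hn1
      induction Js with
      | nil => simp [nWordGL]
      | cons J Js ih => rw [List.flatten_cons, nWordGL_append, ih, List.map_cons, List.prod_cons]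
    rw [hn1, hprod]
    apply Subgroup.list_prod_mem
    intro x hx
    obtain ⟨J, hJ, rfl⟩ := List.mem_map.1 hx
    exact (tw_nJ D hD G orbs fund steps hok F φ J (hJs J hJ)).2.1
  have hh' : n0⁻¹ * n1 ∈ D.diagonalSubgroup F := mem_diag_of_wRoot_eq D hD F Js.flatten _ hfl h1 hw
  have hn0N : n0 ∈ D.monomialSubgroup F := nWordGL_mem D hD F _ h1
  have hkB : k ∈ D.borelSubgroup F := by
    have := hk 1 (one_mem _)
    simpa using this
  have hb := hk n1⁻¹ (inv_mem hn1T)
  rw [inv_inv] at hb
  obtain ⟨u, hu, h, hh, e⟩ := (mem_borel_iff D hD F _).1 hb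
  set h' := n0⁻¹ * n1 with hh'def
  have en1 : n1 = n0 * h' := by rw [hh'def]; group
  have hu' : h' * u * h'⁻¹ ∈ D.posUnipotent F :=
    (Subgroup.mem_normalizer_iff.1 (diagonal_le_normalizer_pos D hD F hh') u).1 hu
  have hv : n0 * (h' * u * h'⁻¹) * n0⁻¹ ∈ D.negUnipotent F := by
    rw [← posUnipotent_map_conj D hD F]
    exact Subgroup.mem_map.2 ⟨_, hu', rfl⟩
  have hH2 : n0 * (h' * h * h'⁻¹) * n0⁻¹ ∈ D.diagonalSubgroup F :=
    (Subgroup.mem_normalizer_iff.1 (monomial_le_normalizer D hD F hn0N) _).1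
      (mul_mem (mul_mem hh' hh) (inv_mem hh'))
  have ek : k = (n0 * (h' * u * h'⁻¹) * n0⁻¹) * (n0 * (h' * h * h'⁻¹) * n0⁻¹) := by
    have : u * h = n1⁻¹ * k * n1 := e
    calc k = n1 * (n1⁻¹ * k * n1) * n1⁻¹ := by group
      _ = n1 * (u * h) * n1⁻¹ := by rw [this]
      _ = _ := by rw [en1]; group
  have hkVH : k ∈ D.negUnipotent F ⊔ D.diagonalSubgroup F := by
    rw [ek]
    exact mul_mem ((le_sup_left : D.negUnipotent F ≤ _) hv) ((le_sup_right : D.diagonalSubgroup F ≤ _) hH2)
  have : k ∈ D.borelSubgroup F ⊓ (D.negUnipotent F ⊔ D.diagonalSubgroup F) := ⟨hkB, hkVH⟩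
  rw [borel_inf_neg_sup_diagonal D hD F] at this
  exact this

include hD hok hsg in
/-- an element of the twisted group all of whose conjugates lie in `B` is trivial -/
theorem tw_eq_one_of_conj (k : GL D.Idx F) (hkT : k ∈ twGroup D hD G F φ fund)
    (hk : ∀ g ∈ twGroup D hD G F φ fund, g * k * g⁻¹ ∈ D.borelSubgroup F) : k = 1 := by
  have hkH := tw_mem_diag_of_conj D hD G orbs fund steps hok hsg F φ k hkT hk
  obtain ⟨χ, hχ, ek⟩ := exists_character_of_mem_diagonal D hD F k hkH
  obtain ⟨hsgn, -⟩ := chkSgn_spec D G orbs hsg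
  obtain ⟨hko, hbo⟩ := chkOrb_spec D G orbs hok.orb
  obtain ⟨hnd, -, hpos, -⟩ := chkKeyOrd_spec D _ hko
  have hχpos : ∀ B ∈ orbs, ∀ r ∈ B, χ r = 1 := by
    intro B hB
    set a : ℕ → F := fun r => ((sgnOf G orbs r : ℤ) : F) with ha
    have hBpos : ∀ r ∈ B, D.IsPosRoot r := fun r hr => (hpos r).2 (List.mem_flatten.2 ⟨B, hB, hr⟩)
    set x := wordGL D hD F (B.map fun r => (r, a r)) with hx
    have hxU : x ∈ D.posUnipotent F := by
      apply wordGL_mem
      intro p hp
      obtain ⟨r, hr, rfl⟩ := List.mem_map.1 hp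
      exact xGL_mem_pos D hD F r (hBpos r hr) _
    have hxσ : sigma D G hok.hG F φ x = x := by
      rw [hx, sigma_block D hD G hok.hG orbs F φ hok.orb B hB]
      congr 1
      apply List.map_congr_left
      intro r hr
      unfold tw
      rw [ha]
      simp only
      rw [map_intCast, ← Int.cast_mul, ← (hsgn B hB r hr).1]
    have hxT : x ∈ twGroup D hD G F φ fund :=
      posFixed_mem D hD G hok.hG orbs fund F φ hok.orb hok.fnd steps hok.reach x hxU hxσ
    -- the commutator lies in `U ∩ H`
    have hc : x * k * x⁻¹ * k⁻¹ ∈ D.diagonalSubgroup F := by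
      apply tw_mem_diag_of_conj D hD G orbs fund steps hok hsg F φ
      · exact mul_mem (mul_mem (mul_mem hxT hkT) (inv_mem hxT)) (inv_mem hkT)
      · intro g hg
        have e : g * (x * k * x⁻¹ * k⁻¹) * g⁻¹ = ((g * x) * k * (g * x)⁻¹) * (g * k * g⁻¹)⁻¹ := by group
        rw [e]
        exact mul_mem (hk _ (mul_mem hg hxT)) (inv_mem (hk g hg))
    have hcU : x * k * x⁻¹ * k⁻¹ ∈ D.posUnipotent F := by
      have h1 : k * x⁻¹ * k⁻¹ ∈ D.posUnipotent F :=
        (Subgroup.mem_normalizer_iff.1 (diagonal_le_normalizer_pos D hD F hkH) _).1 (inv_mem hxU)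
      have e : x * k * x⁻¹ * k⁻¹ = x * (k * x⁻¹ * k⁻¹) := by group
      rw [e]
      exact mul_mem hxU h1
    have hc1 : x * k * x⁻¹ * k⁻¹ = 1 := by
      have : x * k * x⁻¹ * k⁻¹ ∈ D.posUnipotent F ⊓ D.diagonalSubgroup F := ⟨hcU, hc⟩
      rw [pos_inf_diagonal D hD F, Subgroup.mem_bot] at this
      exact this
    have hkx : k * x * k⁻¹ = x := by
      have : x * k = k * x := by
        have := mul_eq_one_iff_eq_inv.1 hc1
        rw [inv_inv] at this
        have h2 : x * k * x⁻¹ = k := this
        calc x * k = (x * k * x⁻¹) * x := by group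
          _ = k * x := by rw [h2]
      rw [← this]; group
    -- conjugation by `k` multiplies the coefficients by `χ`
    have hconj : k * x * k⁻¹ = wordGL D hD F (B.map fun r => (r, (χ r : F) * a r)) := by
      have e : k * x * k⁻¹ = MulAut.conj k x := by rw [MulAut.conj_apply]
      rw [e, hx]
      unfold wordGL
      rw [map_list_prod, List.map_map, List.map_map, List.map_map]
      congr 1
      apply List.map_congr_left
      intro r hr
      simp only [Function.comp_apply, MulAut.conj_apply]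
      exact diag_conj_xGL D hD F k χ hχ ek r (hBpos r hr).1 _
    rw [hkx, hx] at hconj
    intro r hr
    have h3 := block_unique D hD G orbs F hok.orb B hB _ _ hconj r hr
    have har : a r ≠ 0 := by
      rw [ha]
      simp only
      rcases (hsgn B hB r hr).2 with h | h <;> rw [h] <;> simp
    have h4 : (χ r : F) = 1 := by
      have : ((χ r : F) - 1) * a r = 0 := by rw [sub_mul, one_mul, ← h3, sub_self]
      rcases mul_eq_zero.1 this with h | h
      · exact sub_eq_zero.1 h
      · exact absurd h har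
    exact Units.ext h4
  have hχ1 : ∀ r < D.nroots, χ r = 1 := by
    intro r hr
    rcases pos_or_neg D hD r hr with hp | hn
    · obtain ⟨B, hB, hrB⟩ := List.mem_flatten.1 ((hpos r).1 hp)
      exact hχpos B hB r hrB
    · have hp := isPosRoot_neg D hD r hn
      obtain ⟨B, hB, hrB⟩ := List.mem_flatten.1 ((hpos _).1 hp)
      have h1 := hχpos B hB _ hrB
      have h2 := hχ.1 r hr
      rw [h1] at h2
      rw [← inv_inv (χ r), ← h2, inv_one]
  apply Units.ext
  rw [ek, Units.val_one]
  unfold ChevalleyDatum.charDiag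
  rw [← Matrix.diagonal_one]
  congr 1
  funext y
  rcases y with j | s
  · rfl
  · simp [hχ1 s.val s.isLt]

include hD hok hsg in
theorem tw_normalCore :
    ((D.borelSubgroup F ⊓ twGroup D hD G F φ fund).subgroupOf (twGroup D hD G F φ fund)).normalCore = ⊥ := by
  rw [eq_bot_iff]
  intro k hk
  rw [Subgroup.mem_bot]
  have : (k : GL D.Idx F) = 1 := by
    apply tw_eq_one_of_conj D hD G orbs fund steps hok hsg F φ _ k.2
    intro g hg
    have := hk ⟨g, hg⟩
    rw [Subgroup.mem_subgroupOf] at this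
    simpa using this.1
  exact Subtype.ext this

end

end Cfsg.Agent.Lib.Helper36
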