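import Cfsg.Agent.Lib.Helper36.ChevTwWeyl
import Cfsg.Agent.Lib.Helper36.ChevTwD4
import Cfsg.Agent.Lib.Helper36.ChevTwE6
import Cfsg.Agent.Lib.Helper18.CoxG2
import Cfsg.Agent.Lib.Helper18.CoxF4

/-! # Folding tables `D₄ → G₂`, `E₆ → F₄` (helper36) -/

set_option autoImplicit false
set_option maxRecDepth 100000

namespace Cfsg.Agent.Lib.Helper36

open Cfsg Cfsg.Lie Cfsg.Agent.Lib.Helper18

/-- the Boolean check of the braid relations for the folded generators -/
def chkBraidF (D : ChevalleyDatum) (m : ℕ) (Mx : Fin m → Fin m → ℕ) (gen : Fin m → List ℕ) : Bool :=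
  (List.finRange m).all fun k => (List.finRange m).all fun k' => (List.range D.nroots).all fun r =>
    wRoot D (List.replicate (Mx k k') (gen k ++ gen k')).flatten r == r

theorem chkBraidF_spec (D : ChevalleyDatum) (m : ℕ) (Mx : Fin m → Fin m → ℕ) (gen : Fin m → List ℕ)
    (h : chkBraidF D m Mx gen = true) (k k' : Fin m) (r : ℕ) (hr : r < D.nroots) :
    wRoot D (List.replicate (Mx k k') (gen k ++ gen k')).flatten r = r := by
  simp only [chkBraidF, List.all_eq_true, List.mem_finRange, true_imp_iff, List.mem_range, beq_iff_eq] at h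
  exact h k k' r hr

def genD4 : Fin 2 → List ℕ := ![[1], [0, 2, 3]]
def genE6 : Fin 4 → List ℕ := ![[1], [3], [2, 4], [0, 5]]

def foldP (D : ChevalleyDatum) {m : ℕ} (gen : Fin m → List ℕ) : Matrix (Fin D.rank) (Fin m) ℤ :=
  Matrix.of fun j k => if (j : ℕ) ∈ gen k then 1 else 0
def foldS (D : ChevalleyDatum) {m : ℕ} (gen : Fin m → List ℕ) : Matrix (Fin m) (Fin D.rank) ℤ :=
  Matrix.of fun k j => if (gen k).head? = some (j : ℕ) then 1 else 0

theorem chkBraidF_D4 : chkBraidF chevD4 2 (fun k k' => CoxeterMatrix.G₂ k k') genD4 = true := by decide +kernel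
theorem chkBraidF_E6 : chkBraidF chevE6 4 (fun k k' => CoxeterMatrix.F₄ k k') genE6 = true := by decide +kernel

theorem foldSP_D4 : foldS chevD4 genD4 * foldP chevD4 genD4 = 1 := by decide +kernel
theorem foldSP_E6 : foldS chevE6 genE6 * foldP chevE6 genE6 = 1 := by decide +kernel

theorem foldEqui_D4 : ∀ k, wMatN chevD4 (genD4 k) * foldP chevD4 genD4 = foldP chevD4 genD4 * reflMat CoxG2.A k := by
  decide +kernel
theorem foldEqui_E6 : ∀ k, wMatN chevE6 (genE6 k) * foldP chevE6 genE6 = foldP chevE6 genE6 * reflMat CoxF4.A k := by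
  decide +kernel

theorem genD4_mem : ∀ k, genD4 k ∈ fundD4 := by decide
theorem genE6_mem : ∀ k, genE6 k ∈ fundE6 := by decide
theorem genD4_cov : ∀ J ∈ fundD4, ∃ k, genD4 k = J := by decide
theorem genE6_cov : ∀ J ∈ fundE6, ∃ k, genE6 k = J := by decide

end Cfsg.Agent.Lib.Helper36
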