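import Cfsg.Agent.Lib.Helper36.ChevTwCell

/-! # The order of a twisted group from a table of the elements of its Weyl group (helper36) -/

set_option autoImplicit false
set_option linter.unusedSectionVars false

namespace Cfsg.Agent.Lib.Helper36

open Cfsg Cfsg.Lie Cfsg.Agent.Lib.Helper18

section fast
variable (D : ChevalleyDatum) (hD : D ∈ [chevG2, chevB2, chevD4, chevF4, chevE6, chevE7, chevE8])
variable {m : ℕ} (gen : Fin m → List ℕ) (tab : Fin m → List ℕ) (negT : List Bool) (posL keyL : List ℕ)

/-- the action of a word in the folded reflections on a root, from the tables of the folded reflections -/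
def fastW (ω : List (Fin m)) (r : ℕ) : ℕ := ω.foldr (fun k r => (tab k).getD r 0) r

/-- the number of positive roots made negative by a word in the folded reflections, from tables -/
def fastExp (ω : List (Fin m)) : ℕ := (posL.filter fun s => negT.getD (fastW tab ω s) false).length

/-- a numerical invariant of the action of a word in the folded reflections -/
def fastKey (ω : List (Fin m)) : ℕ := (keyL.map (fastW tab ω)).foldl (fun a x => a * 128 + x) 0

/-- the tables are right -/
def chkTabs : Bool :=
  ((List.finRange m).all fun k => (List.range D.nroots).all fun r => (tab k).getD r 0 == wRoot D (gen k) r) &&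
  ((List.range D.nroots).all fun r => negT.getD r false == decide (D.IsNegRoot r)) &&
  (posL == D.posRoots)

theorem chkTabs_spec (h : chkTabs D gen tab negT posL = true) :
    (∀ k, ∀ r < D.nroots, (tab k).getD r 0 = wRoot D (gen k) r) ∧
    (∀ r < D.nroots, negT.getD r false = decide (D.IsNegRoot r)) ∧ posL = D.posRoots := by
  unfold chkTabs at h
  simp only [Bool.and_eq_true, List.all_eq_true, List.mem_finRange, true_imp_iff, List.mem_range, beq_iff_eq] at h
  exact ⟨h.1.1, h.1.2, h.2⟩

variable (fund : List (List ℕ)) (hgr : ∀ k, ∀ j ∈ gen k, j < D.rank)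

include hgr in
theorem foldW_lt' (ω : List (Fin m)) : ∀ i ∈ foldW gen ω, i < D.rank := by
  intro i hi
  obtain ⟨l, hl, hil⟩ := List.mem_flatten.1 hi
  obtain ⟨k, -, rfl⟩ := List.mem_map.1 hl
  exact hgr k i hil

include hD hgr in
theorem fastW_eq (h : chkTabs D gen tab negT posL = true) (ω : List (Fin m)) (r : ℕ) (hr : r < D.nroots) :
    fastW tab ω r = wRoot D (foldW gen ω) r := by
  obtain ⟨h1, -, -⟩ := chkTabs_spec D gen tab negT posL h
  induction ω with
  | nil => rfl
  | cons k ω ih =>
    show (tab k).getD (fastW tab ω r) 0 = wRoot D ((List.map gen (k :: ω)).flatten) r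
    rw [List.map_cons, List.flatten_cons, wRoot_append, ih]
    exact h1 k _ (wRoot_lt D hD _ (foldW_lt' D gen hgr ω) r hr)

include hD hgr in
theorem fastExp_eq (h : chkTabs D gen tab negT posL = true) (ω : List (Fin m)) :
    fastExp tab negT posL ω = Nw D (foldW gen ω) := by
  obtain ⟨-, h2, h3⟩ := chkTabs_spec D gen tab negT posL h
  rw [Nw_eq_cellExp]
  unfold fastExp cellExp negList
  rw [h3]
  congr 1
  apply List.filter_congr
  intro s hs
  have hs' : s < D.nroots := by
    unfold ChevalleyDatum.posRoots at hs
    exact List.mem_range.1 (List.mem_filter.1 hs).1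
  rw [fastW_eq D hD gen tab negT posL hgr h ω s hs', h2 _ (wRoot_lt D hD _ (foldW_lt' D gen hgr ω) s hs')]

include hD hgr in
theorem fastKey_eq (h : chkTabs D gen tab negT posL = true) (hkl : ∀ s ∈ keyL, s < D.nroots)
    (ω ω' : List (Fin m))
    (hw : ∀ r < D.nroots, wRoot D (foldW gen ω) r = wRoot D (foldW gen ω') r) :
    fastKey tab keyL ω = fastKey tab keyL ω' := by
  unfold fastKey
  congr 1
  apply List.map_congr_left
  intro s hs
  have hs' : s < D.nroots := hkl s hs
  rw [fastW_eq D hD gen tab negT posL hgr h ω s hs', fastW_eq D hD gen tab negT posL hgr h ω' s hs', hw s hs']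

end fast

section main
variable (D : ChevalleyDatum) (hD : D ∈ [chevG2, chevB2, chevD4, chevF4, chevE6, chevE7, chevE8])
variable (G : GraphTab) (orbs fund : List (List ℕ)) (steps : List (List ℕ × List ℕ × List ℕ))
variable (hok : TwOK D G orbs fund steps)

include hD hok in
/-- a table of words with distinct invariants, as long as the Coxeter group, enumerates it -/
theorem tw_words_bij (F : Type*) [Field F] [Fintype F] (φ : F →+* F) {m : ℕ} (M' : CoxeterMatrix (Fin m)) (A' : Matrix (Fin m) (Fin m) ℤ)
    (hA' : M'.IsLiftable (reflMat A')) (hker' : ∀ w : M'.Group, rho M' A' hA' w = 1 → w = 1)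
    (gen : Fin m → List ℕ) (hgen : ∀ k, gen k ∈ fund) (hcov : ∀ J ∈ fund, ∃ k, gen k = J)
    (hbraid : ∀ k k' : Fin m, ∀ r < D.nroots,
      wRoot D (List.replicate (M' k k') (gen k ++ gen k')).flatten r = r)
    (P : Matrix (Fin D.rank) (Fin m) ℤ) (S : Matrix (Fin m) (Fin D.rank) ℤ) (hSP : S * P = 1)
    (hequi : ∀ k, wMatN D (gen k) * P = P * reflMat A' k)
    (words : List (List (Fin m))) (key : List (Fin m) → ℕ)
    (hkey : ∀ ω ω', (∀ r < D.nroots, wRoot D (foldW gen ω) r = wRoot D (foldW gen ω') r) → key ω = key ω')
    (hnd : (words.map key).Nodup) (hfin : Finite M'.Group) (hcard : Nat.card M'.Group = words.length) :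
    Function.Bijective fun i : Fin words.length => M'.toCoxeterSystem.wordProd words[i.1] := by
  obtain ⟨f, hfker, hfw⟩ := tw_weyl_hom D hD G orbs fund steps hok F φ M' A' hA' hker' gen hgen hcov hbraid
    P S hSP hequi
  have hwl := foldW_lt D G orbs fund steps hok gen hgen
  have hwm := foldW_mem D hD G orbs fund steps hok F φ gen hgen
  have hinj : Function.Injective fun i : Fin words.length => M'.toCoxeterSystem.wordProd words[i.1] := by
    intro i j hij
    simp only at hij
    rw [← hfw _ (hwm _), ← hfw _ (hwm _), ← inv_mul_eq_one, ← map_inv, ← map_mul, ← MonoidHom.mem_ker, hfker,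
      Subgroup.mem_subgroupOf, Subgroup.mem_inf] at hij
    have h1 := wRoot_eq_of_mem_diag D hD F _ _ (hwl _) (hwl _) hij.1
    have h2 := hkey _ _ h1
    have hi : i.1 < (words.map key).length := by rw [List.length_map]; exact i.2
    have hj : j.1 < (words.map key).length := by rw [List.length_map]; exact j.2
    have h3 : (words.map key)[i.1] = (words.map key)[j.1] := by
      rw [List.getElem_map, List.getElem_map]; exact h2
    exact Fin.ext (hnd.getElem_inj_iff.1 h3)
  apply hinj.bijective_of_nat_card_le
  rw [hcard, Nat.card_eq_fintype_card, Fintype.card_fin]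

include hD hok in
/-- the order of a twisted group from tables -/
theorem card_twGroup_tab (F : Type*) [Field F] [Fintype F] (φ : F →+* F) (d : ℕ)
    (hfc : chkFundC D fund d = true) {m : ℕ}
    (M' : CoxeterMatrix (Fin m)) (A' : Matrix (Fin m) (Fin m) ℤ)
    (hA' : M'.IsLiftable (reflMat A')) (hker' : ∀ w : M'.Group, rho M' A' hA' w = 1 → w = 1)
    (gen : Fin m → List ℕ) (hgen : ∀ k, gen k ∈ fund) (hcov : ∀ J ∈ fund, ∃ k, gen k = J)
    (hbraid : ∀ k k' : Fin m, ∀ r < D.nroots,
      wRoot D (List.replicate (M' k k') (gen k ++ gen k')).flatten r = r)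
    (P : Matrix (Fin D.rank) (Fin m) ℤ) (S : Matrix (Fin m) (Fin D.rank) ℤ) (hSP : S * P = 1)
    (hequi : ∀ k, wMatN D (gen k) * P = P * reflMat A' k)
    (tab : Fin m → List ℕ) (negT : List Bool) (posL keyL : List ℕ) (htab : chkTabs D gen tab negT posL = true)
    (hkl : ∀ s ∈ keyL, s < D.nroots)
    (words : List (List (Fin m))) (hnd : (words.map (fastKey tab keyL)).Nodup)
    (hfin : Finite M'.Group) (hcard : Nat.card M'.Group = words.length)
    (exps : List ℕ) (hexp : words.map (fastExp tab negT posL) = exps)
    (q : ℕ) (hq : Nat.card {t : F // φ t = t} = q) (hFd : Fintype.card F = q ^ d)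
    (hφd : ∀ t : F, φ^[d] t = t) :
    Nat.card ↥(twGroup D hD G F φ fund) =
      Nat.card ↥(D.posUnipotent F ⊓ twGroup D hD G F φ fund) *
        Nat.card ↥(D.diagonalSubgroup F ⊓ twGroup D hD G F φ fund) * (exps.map fun e => q ^ e).sum := by
  have hgr : ∀ k, ∀ j ∈ gen k, j < D.rank := fun k => fund_lt D G orbs fund steps hok _ (hgen k)
  have hbij := tw_words_bij D hD G orbs fund steps hok F φ M' A' hA' hker' gen hgen hcov hbraid P S hSP hequi
    words (fastKey tab keyL) (fastKey_eq D hD gen tab negT posL keyL hgr htab hkl) hnd hfin hcard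
  rw [card_twGroup D hD G orbs fund steps hok F φ d hfc M' A' hA' hker' gen hgen hcov hbraid P S hSP hequi
    words hbij q hq hFd hφd, ← hexp, List.map_map]
  congr 2
  apply List.map_congr_left
  intro ω _
  show q ^ Nw D (foldW gen ω) = q ^ fastExp tab negT posL ω
  rw [fastExp_eq D hD gen tab negT posL hgr htab]

end main

/-- a list of numbers is strictly increasing -/
def chkInc : List ℕ → Bool
  | [] => true
  | [_] => true
  | a :: b :: l => decide (a < b) && chkInc (b :: l)

theorem chkInc_spec (l : List ℕ) (h : chkInc l = true) : l.Pairwise (· < ·) := by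
  induction l with
  | nil => exact List.Pairwise.nil
  | cons a l ih =>
    cases l with
    | nil => exact List.pairwise_singleton _ _
    | cons b l =>
      unfold chkInc at h
      rw [Bool.and_eq_true, decide_eq_true_eq] at h
      have h2 := ih h.2
      rw [List.pairwise_cons]
      refine ⟨?_, h2⟩
      intro c hc
      rcases List.mem_cons.1 hc with rfl | hc
      · exact h.1
      · exact lt_trans h.1 ((List.pairwise_cons.1 h2).1 c hc)

theorem chkInc_nodup (l : List ℕ) (h : chkInc l = true) : l.Nodup :=
  (chkInc_spec l h).imp fun h => ne_of_lt h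

/-- a sum of powers from the numbers of occurrences of the exponents -/
theorem sum_pow_eq_count (q : ℕ) (L : List ℕ) (n : ℕ) (hn : ∀ e ∈ L, e < n) :
    (L.map fun e => q ^ e).sum = ((List.range n).map fun k => L.count k * q ^ k).sum := by
  induction L with
  | nil => simp
  | cons a L ih =>
    rw [List.map_cons, List.sum_cons, ih (fun e he => hn e (List.mem_cons_of_mem _ he))]
    have ha : a < n := hn a (List.mem_cons_self ..)
    have h1 : ∀ k, (a :: L).count k * q ^ k = L.count k * q ^ k + if k = a then q ^ a else 0 := by
      intro k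
      rw [List.count_cons]
      by_cases hk : k = a
      · subst hk; simp [add_mul]
      · have hne : (a == k) = false := by
          rw [beq_eq_false_iff_ne]
          exact fun h => hk h.symm
        rw [hne, if_neg hk]
        simp
    have h2 : ((List.range n).map fun k => (a :: L).count k * q ^ k) =
        (List.range n).map fun k => L.count k * q ^ k + if k = a then q ^ a else 0 :=
      List.map_congr_left fun k _ => h1 k
    rw [h2, List.sum_map_add]
    have h3 : ((List.range n).map fun k => if k = a then q ^ a else 0).sum = q ^ a := by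
      rw [List.sum_map_eq_nsmul_single a]
      · simp [List.count_eq_one_of_mem (List.nodup_range) (List.mem_range.2 ha)]
      · intro k hk _
        simp [hk]
    rw [h3, add_comm]

end Cfsg.Agent.Lib.Helper36
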