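import Cfsg.Agent.Lib.Helper36.ChevTwEnum
import Cfsg.Agent.Lib.Helper36.ChevTwWeylTab

/-! # The elements of the Weyl group of the twisted group of type `³D₄` (helper36) -/

set_option autoImplicit false
set_option maxRecDepth 1000000

namespace Cfsg.Agent.Lib.Helper36

open Cfsg Cfsg.Lie Cfsg.Agent.Lib.Helper18

/-- the folded reflections as permutations of the roots -/
def tabD4 : Fin 2 → List ℕ := ![[1, 0, 2, 3, 5, 4, 6, 10, 11, 14, 7, 8, 15, 16, 9, 12, 13, 17, 19, 18, 20, 21, 23, 22],
  [0, 9, 8, 7, 6, 18, 4, 3, 2, 1, 13, 12, 11, 10, 22, 21, 20, 19, 5, 17, 16, 15, 14, 23]]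

/-- the negative roots -/
def negTD4 : List Bool := [true, true, true, true, true, true, true, true, true, true, true, true, false, false, false, false, false, false, false, false, false, false, false, false]

/-- the positive roots -/
def posLD4 : List ℕ := [12, 13, 14, 15, 16, 17, 18, 19, 20, 21, 22, 23]

/-- the fundamental roots -/
def keyLD4 : List ℕ := [18, 14, 13, 12]

/-- a word for every element of the Weyl group -/
def wordsD4 : List (List (Fin 2)) := [
  [1, 0, 1, 0, 1], [0, 1], [1, 0, 1, 0, 1, 0], [1], [0, 1, 0, 1], [1, 0, 1], [0, 1, 0], [1, 0],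
  [0, 1, 0, 1, 0], [], [1, 0, 1, 0], [0]]

/-- the numbers of positive roots made negative -/
def expsD4 : List ℕ := [11, 4, 12, 3, 8, 7, 5, 4, 9, 0, 8, 1]

/-- the coefficients of the Poincare polynomial -/
def cntD4 : List ℕ := [1, 1, 0, 1, 2, 1, 0, 1, 2, 1, 0, 1, 1]

theorem chkTabs_D4 : chkTabs chevD4 genD4 tabD4 negTD4 posLD4 = true := by decide +kernel

theorem keyLD4_lt : ∀ s ∈ keyLD4, s < chevD4.nroots := by decide

theorem wordsD4_inc : chkInc (wordsD4.map (fastKey tabD4 keyLD4)) = true := by decide +kernel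

theorem wordsD4_length : wordsD4.length = 12 := by decide +kernel

theorem wordsD4_exps : wordsD4.map (fastExp tabD4 negTD4 posLD4) = expsD4 := by decide +kernel

theorem expsD4_lt : ∀ e ∈ expsD4, e < 13 := by decide +kernel

theorem expsD4_count : (List.range 13).map (fun k => expsD4.count k) = cntD4 := by decide +kernel

end Cfsg.Agent.Lib.Helper36
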