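import Cfsg.Agent.Lib.Helper36.ChevTwEnum
import Cfsg.Agent.Lib.Helper36.ChevTwWeylTab

/-! # The elements of the Weyl group of the twisted group of type `²E₆` (helper36) -/

set_option autoImplicit false
set_option maxRecDepth 1000000

namespace Cfsg.Agent.Lib.Helper36

open Cfsg Cfsg.Lie Cfsg.Agent.Lib.Helper18

/-- the folded reflections as permutations of the roots -/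
def tabE6 : Fin 4 → List ℕ := ![[1, 0, 2, 3, 4, 5, 6, 7, 11, 12, 13, 8, 9, 10, 14, 15, 16, 17, 18, 26, 27, 28, 30, 31, 32, 46, 19, 20, 21, 29, 22, 23, 24, 33, 34, 35, 36, 37, 38, 47, 48, 49, 42, 50, 51, 52, 25, 39, 40, 41, 43, 44, 45, 53, 54, 55, 56, 57, 61, 62, 63, 58, 59, 60, 64, 65, 66, 67, 68, 69, 71, 70],
  [0, 2, 1, 3, 4, 5, 8, 9, 6, 7, 10, 11, 12, 14, 13, 15, 16, 19, 20, 17, 18, 21, 22, 23, 25, 24, 26, 27, 29, 28, 33, 34, 39, 30, 31, 35, 36, 40, 41, 32, 37, 38, 43, 42, 44, 45, 47, 46, 48, 49, 50, 53, 54, 51, 52, 55, 56, 58, 57, 59, 60, 61, 64, 65, 62, 63, 66, 67, 68, 70, 69, 71],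
  [0, 1, 6, 5, 7, 3, 2, 4, 8, 10, 9, 11, 13, 12, 15, 14, 17, 16, 18, 22, 24, 23, 19, 21, 20, 25, 30, 32, 31, 42, 26, 28, 27, 35, 37, 33, 38, 34, 36, 44, 43, 45, 29, 40, 39, 41, 46, 51, 50, 52, 48, 47, 49, 53, 55, 54, 57, 56, 59, 58, 60, 62, 61, 63, 67, 69, 68, 64, 66, 65, 70, 71],
  [0, 1, 2, 4, 3, 16, 18, 17, 20, 19, 21, 27, 26, 28, 29, 56, 5, 7, 6, 9, 8, 10, 23, 22, 24, 25, 12, 11, 13, 14, 31, 30, 32, 34, 33, 36, 35, 38, 37, 39, 41, 40, 57, 58, 60, 59, 46, 47, 49, 48, 61, 63, 62, 65, 64, 66, 15, 42, 43, 45, 44, 50, 52, 51, 54, 53, 55, 68, 67, 69, 70, 71]]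

/-- the negative roots -/
def negTE6 : List Bool := [true, true, true, true, true, true, true, true, true, true, true, true, true, true, true, true, true, true, true, true, true, true, true, true, true, true, true, true, true, true, true, true, true, true, true, true, false, false, false, false, false, false, false, false, false, false, false, false, false, false, false, false, false, false, false, false, false, false, false, false, false, false, false, false, false, false, false, false, false, false, false, false]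

/-- the positive roots -/
def posLE6 : List ℕ := [36, 37, 38, 39, 40, 41, 42, 43, 44, 45, 46, 47, 48, 49, 50, 51, 52, 53, 54, 55, 56, 57, 58, 59, 60, 61, 62, 63, 64, 65, 66, 67, 68, 69, 70, 71]

/-- the fundamental roots -/
def keyLE6 : List ℕ := [56, 46, 42, 39, 37, 36]

/-- a word for every element of the Weyl group -/
def wordsE6 : List (List (Fin 4)) := [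
  [2, 0, 1, 2, 3, 2, 1, 2, 0, 1, 2, 3, 1, 0], [2, 1, 2, 3, 2, 1, 2, 0, 1, 2, 3, 1, 0], [1, 2, 0, 1, 2, 3, 2, 1, 2, 0, 1, 2, 3, 1, 0], [2, 1, 2, 3, 2, 1, 2, 0, 1, 2, 3, 0, 1, 0], [2, 0, 1, 2, 3, 2, 1, 2, 0, 1, 2, 3, 0], [3, 2, 1, 2, 0, 1, 2, 3, 1, 0], [1, 2, 0, 1, 2, 3, 2, 1, 2, 0, 1, 2, 3, 0], [3, 2, 1, 2, 0, 1, 2, 3, 0, 1, 0],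
  [1, 2, 0, 1, 2, 3, 2, 1, 2, 0, 1, 2, 3, 0, 1, 0], [2, 0, 1, 2, 3, 2, 1, 2, 0, 1, 2, 3, 0, 1, 0], [2, 1, 2, 3, 2, 1, 2, 0, 1, 2, 3, 0], [3, 2, 1, 2, 0, 1, 2, 3, 0], [2, 1, 2, 3, 2, 1, 2, 0, 1, 2, 3], [3, 2, 1, 2, 0, 1, 2, 3], [1, 2, 0, 1, 2, 3, 2, 1, 2, 0, 1, 2, 3, 0, 1], [2, 0, 1, 2, 3, 2, 1, 2, 0, 1, 2, 3, 0, 1],
  [1, 2, 0, 1, 2, 3, 2, 1, 2, 0, 1, 2, 3], [3, 2, 1, 2, 0, 1, 2, 3, 0, 1], [2, 0, 1, 2, 3, 2, 1, 2, 0, 1, 2, 3], [3, 2, 1, 2, 0, 1, 2, 3, 1], [1, 2, 0, 1, 2, 3, 2, 1, 2, 0, 1, 2, 3, 1], [2, 1, 2, 3, 2, 1, 2, 0, 1, 2, 3, 0, 1], [2, 0, 1, 2, 3, 2, 1, 2, 0, 1, 2, 3, 1], [2, 1, 2, 3, 2, 1, 2, 0, 1, 2, 3, 1],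
  [2, 0, 1, 2, 3, 2, 1, 2, 0, 1, 2, 3, 2, 1, 0], [2, 1, 2, 3, 2, 1, 2, 0, 1, 2, 3, 2, 1, 0], [1, 2, 0, 1, 2, 3, 2, 1, 2, 0, 1, 2, 3, 2, 1, 0], [2, 1, 2, 3, 2, 1, 2, 0, 1, 2, 3, 2, 0, 1, 0], [1, 2, 0, 1, 2, 3, 2, 1, 2, 0, 1, 2, 3, 2, 0, 1, 0], [2, 0, 1, 2, 3, 2, 1, 2, 0, 1, 2, 3, 2, 0, 1, 0], [2, 0, 1, 2, 3, 2, 1, 2, 0, 1, 2, 3, 2, 0], [2, 1, 2, 0, 1, 2, 3, 1, 0],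
  [1, 2, 0, 1, 2, 3, 2, 1, 2, 0, 1, 2, 3, 2, 0], [2, 1, 2, 0, 1, 2, 3, 0, 1, 0], [2, 1, 2, 3, 2, 1, 2, 0, 1, 2, 3, 2, 0], [2, 1, 2, 0, 1, 2, 3, 0], [2, 1, 2, 3, 2, 1, 2, 0, 1, 2, 3, 2], [2, 1, 2, 0, 1, 2, 3], [1, 2, 0, 1, 2, 3, 2, 1, 2, 0, 1, 2, 3, 2], [2, 1, 2, 0, 1, 2, 3, 0, 1],
  [2, 0, 1, 2, 3, 2, 1, 2, 0, 1, 2, 3, 2], [2, 1, 2, 0, 1, 2, 3, 1], [1, 2, 0, 1, 2, 3, 2, 1, 2, 0, 1, 2, 3, 2, 0, 1], [2, 0, 1, 2, 3, 2, 1, 2, 0, 1, 2, 3, 2, 0, 1], [1, 2, 0, 1, 2, 3, 2, 1, 2, 0, 1, 2, 3, 2, 1], [2, 1, 2, 3, 2, 1, 2, 0, 1, 2, 3, 2, 0, 1], [2, 0, 1, 2, 3, 2, 1, 2, 0, 1, 2, 3, 2, 1], [2, 1, 2, 3, 2, 1, 2, 0, 1, 2, 3, 2, 1],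
  [0, 1, 2, 3, 2, 1, 2, 0, 1, 2, 3, 1, 0], [1, 2, 3, 2, 1, 2, 0, 1, 2, 3, 1, 0], [0, 1, 2, 3, 2, 1, 2, 0, 1, 2, 3, 0], [2, 3, 2, 1, 2, 0, 1, 2, 3, 1, 0], [2, 1, 2, 0, 1, 2, 3, 2, 1, 2, 0, 1, 2, 3, 1, 0], [1, 2, 3, 2, 1, 2, 0, 1, 2, 3, 0, 1, 0], [2, 1, 2, 0, 1, 2, 3, 2, 1, 2, 0, 1, 2, 3, 0], [2, 3, 2, 1, 2, 0, 1, 2, 3, 0, 1, 0],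
  [1, 2, 3, 2, 1, 2, 0, 1, 2, 3, 0], [2, 3, 2, 1, 2, 0, 1, 2, 3, 0], [2, 1, 2, 0, 1, 2, 3, 2, 1, 2, 0, 1, 2, 3, 0, 1, 0], [0, 1, 2, 3, 2, 1, 2, 0, 1, 2, 3, 0, 1, 0], [2, 1, 2, 0, 1, 2, 3, 2, 1, 2, 0, 1, 2, 3, 0, 1], [0, 1, 2, 3, 2, 1, 2, 0, 1, 2, 3, 0, 1], [1, 2, 3, 2, 1, 2, 0, 1, 2, 3], [2, 3, 2, 1, 2, 0, 1, 2, 3],
  [2, 1, 2, 0, 1, 2, 3, 2, 1, 2, 0, 1, 2, 3], [2, 3, 2, 1, 2, 0, 1, 2, 3, 0, 1], [2, 1, 2, 0, 1, 2, 3, 2, 1, 2, 0, 1, 2, 3, 1], [1, 2, 3, 2, 1, 2, 0, 1, 2, 3, 0, 1], [0, 1, 2, 3, 2, 1, 2, 0, 1, 2, 3], [2, 3, 2, 1, 2, 0, 1, 2, 3, 1], [0, 1, 2, 3, 2, 1, 2, 0, 1, 2, 3, 1], [1, 2, 3, 2, 1, 2, 0, 1, 2, 3, 1],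
  [0, 1, 2, 3, 2, 1, 2, 0, 1, 2, 3, 2, 1, 0], [1, 2, 3, 2, 1, 2, 0, 1, 2, 3, 2, 1, 0], [2, 1, 2, 0, 1, 2, 3, 2, 1, 2, 0, 1, 2, 3, 2, 1, 0], [1, 2, 3, 2, 1, 2, 0, 1, 2, 3, 2, 0, 1, 0], [2, 1, 2, 0, 1, 2, 3, 2, 1, 2, 0, 1, 2, 3, 2, 0, 1, 0], [0, 1, 2, 3, 2, 1, 2, 0, 1, 2, 3, 2, 0, 1, 0], [0, 1, 2, 3, 2, 1, 2, 0, 1, 2, 3, 2, 0], [1, 2, 0, 1, 2, 3, 1, 0],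
  [2, 1, 2, 0, 1, 2, 3, 2, 1, 2, 0, 1, 2, 3, 2, 0], [1, 2, 0, 1, 2, 3, 0, 1, 0], [1, 2, 3, 2, 1, 2, 0, 1, 2, 3, 2, 0], [1, 2, 0, 1, 2, 3, 0], [1, 2, 3, 2, 1, 2, 0, 1, 2, 3, 2], [1, 2, 0, 1, 2, 3], [2, 1, 2, 0, 1, 2, 3, 2, 1, 2, 0, 1, 2, 3, 2], [1, 2, 0, 1, 2, 3, 0, 1],
  [0, 1, 2, 3, 2, 1, 2, 0, 1, 2, 3, 2], [1, 2, 0, 1, 2, 3, 1], [2, 1, 2, 0, 1, 2, 3, 2, 1, 2, 0, 1, 2, 3, 2, 0, 1], [0, 1, 2, 3, 2, 1, 2, 0, 1, 2, 3, 2, 0, 1], [2, 1, 2, 0, 1, 2, 3, 2, 1, 2, 0, 1, 2, 3, 2, 1], [1, 2, 3, 2, 1, 2, 0, 1, 2, 3, 2, 0, 1], [0, 1, 2, 3, 2, 1, 2, 0, 1, 2, 3, 2, 1], [1, 2, 3, 2, 1, 2, 0, 1, 2, 3, 2, 1],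
  [0, 1, 2, 3, 2, 1, 2, 0, 1, 2, 3, 1, 2, 1, 0], [2, 3, 2, 1, 2, 0, 1, 2, 3, 2, 1, 0], [2, 1, 2, 0, 1, 2, 3, 2, 1, 2, 0, 1, 2, 3, 1, 2, 1, 0], [2, 3, 2, 1, 2, 0, 1, 2, 3, 2, 0, 1, 0], [2, 1, 2, 0, 1, 2, 3, 2, 1, 2, 0, 1, 2, 3, 1, 2, 0, 1, 0], [0, 1, 2, 3, 2, 1, 2, 0, 1, 2, 3, 1, 2, 0, 1, 0], [0, 1, 2, 3, 2, 1, 2, 0, 1, 2, 3, 1, 2, 0], [2, 0, 1, 2, 3, 1, 0],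
  [2, 1, 2, 0, 1, 2, 3, 2, 1, 2, 0, 1, 2, 3, 1, 2, 0], [2, 0, 1, 2, 3, 0, 1, 0], [2, 3, 2, 1, 2, 0, 1, 2, 3, 2, 0], [2, 0, 1, 2, 3, 0], [2, 3, 2, 1, 2, 0, 1, 2, 3, 2], [2, 0, 1, 2, 3], [2, 1, 2, 0, 1, 2, 3, 2, 1, 2, 0, 1, 2, 3, 1, 2], [2, 0, 1, 2, 3, 0, 1],
  [0, 1, 2, 3, 2, 1, 2, 0, 1, 2, 3, 1, 2], [2, 0, 1, 2, 3, 1], [2, 1, 2, 0, 1, 2, 3, 2, 1, 2, 0, 1, 2, 3, 1, 2, 0, 1], [0, 1, 2, 3, 2, 1, 2, 0, 1, 2, 3, 1, 2, 0, 1], [2, 1, 2, 0, 1, 2, 3, 2, 1, 2, 0, 1, 2, 3, 1, 2, 1], [2, 3, 2, 1, 2, 0, 1, 2, 3, 2, 0, 1], [0, 1, 2, 3, 2, 1, 2, 0, 1, 2, 3, 1, 2, 1], [2, 3, 2, 1, 2, 0, 1, 2, 3, 2, 1],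
  [2, 0, 1, 2, 3, 2, 1, 2, 0, 1, 2, 3, 1, 2, 1, 0], [3, 2, 1, 2, 0, 1, 2, 3, 2, 1, 0], [1, 2, 0, 1, 2, 3, 2, 1, 2, 0, 1, 2, 3, 1, 2, 1, 0], [3, 2, 1, 2, 0, 1, 2, 3, 2, 0, 1, 0], [1, 2, 0, 1, 2, 3, 2, 1, 2, 0, 1, 2, 3, 1, 2, 0, 1, 0], [2, 0, 1, 2, 3, 2, 1, 2, 0, 1, 2, 3, 1, 2, 0, 1, 0], [2, 0, 1, 2, 3, 2, 1, 2, 0, 1, 2, 3, 1, 2, 0], [0, 1, 2, 3, 1, 0],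
  [1, 2, 0, 1, 2, 3, 2, 1, 2, 0, 1, 2, 3, 1, 2, 0], [0, 1, 2, 3, 0, 1, 0], [3, 2, 1, 2, 0, 1, 2, 3, 2, 0], [0, 1, 2, 3, 0], [3, 2, 1, 2, 0, 1, 2, 3, 2], [0, 1, 2, 3], [1, 2, 0, 1, 2, 3, 2, 1, 2, 0, 1, 2, 3, 1, 2], [0, 1, 2, 3, 0, 1],
  [2, 0, 1, 2, 3, 2, 1, 2, 0, 1, 2, 3, 1, 2], [0, 1, 2, 3, 1], [1, 2, 0, 1, 2, 3, 2, 1, 2, 0, 1, 2, 3, 1, 2, 0, 1], [2, 0, 1, 2, 3, 2, 1, 2, 0, 1, 2, 3, 1, 2, 0, 1], [1, 2, 0, 1, 2, 3, 2, 1, 2, 0, 1, 2, 3, 1, 2, 1], [3, 2, 1, 2, 0, 1, 2, 3, 2, 0, 1], [2, 0, 1, 2, 3, 2, 1, 2, 0, 1, 2, 3, 1, 2, 1], [3, 2, 1, 2, 0, 1, 2, 3, 2, 1],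
  [1, 2, 3, 2, 1, 2, 0, 1, 2, 3, 1, 2, 1, 0], [2, 3, 2, 1, 2, 0, 1, 2, 3, 1, 2, 1, 0], [2, 1, 2, 0, 1, 2, 3, 2, 1, 2, 0, 1, 2, 3, 0, 1, 2, 1, 0], [2, 3, 2, 1, 2, 0, 1, 2, 3, 1, 2, 0, 1, 0], [2, 1, 2, 0, 1, 2, 3, 2, 1, 2, 0, 1, 2, 3, 0, 1, 2, 0, 1, 0], [1, 2, 3, 2, 1, 2, 0, 1, 2, 3, 1, 2, 0, 1, 0], [1, 2, 3, 2, 1, 2, 0, 1, 2, 3, 1, 2, 0], [2, 1, 2, 3, 1, 0],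
  [2, 3, 2, 1, 2, 0, 1, 2, 3, 1, 2, 0], [2, 1, 2, 3, 0], [2, 1, 2, 0, 1, 2, 3, 2, 1, 2, 0, 1, 2, 3, 0, 1, 2, 0], [2, 1, 2, 3, 0, 1, 0], [2, 1, 2, 0, 1, 2, 3, 2, 1, 2, 0, 1, 2, 3, 0, 1, 2], [2, 1, 2, 3, 0, 1], [2, 3, 2, 1, 2, 0, 1, 2, 3, 1, 2], [2, 1, 2, 3],
  [1, 2, 3, 2, 1, 2, 0, 1, 2, 3, 1, 2], [2, 1, 2, 3, 1], [2, 1, 2, 0, 1, 2, 3, 2, 1, 2, 0, 1, 2, 3, 0, 1, 2, 0, 1], [1, 2, 3, 2, 1, 2, 0, 1, 2, 3, 1, 2, 0, 1], [2, 1, 2, 0, 1, 2, 3, 2, 1, 2, 0, 1, 2, 3, 0, 1, 2, 1], [2, 3, 2, 1, 2, 0, 1, 2, 3, 1, 2, 0, 1], [1, 2, 3, 2, 1, 2, 0, 1, 2, 3, 1, 2, 1], [2, 3, 2, 1, 2, 0, 1, 2, 3, 1, 2, 1],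
  [2, 1, 2, 3, 2, 1, 2, 0, 1, 2, 3, 1, 2, 1, 0], [3, 2, 1, 2, 0, 1, 2, 3, 1, 2, 1, 0], [1, 2, 0, 1, 2, 3, 2, 1, 2, 0, 1, 2, 3, 0, 1, 2, 1, 0], [3, 2, 1, 2, 0, 1, 2, 3, 1, 2, 0, 1, 0], [1, 2, 0, 1, 2, 3, 2, 1, 2, 0, 1, 2, 3, 0, 1, 2, 0, 1, 0], [2, 1, 2, 3, 2, 1, 2, 0, 1, 2, 3, 1, 2, 0, 1, 0], [2, 1, 2, 3, 2, 1, 2, 0, 1, 2, 3, 1, 2, 0], [1, 2, 3, 1, 0],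
  [3, 2, 1, 2, 0, 1, 2, 3, 1, 2, 0], [1, 2, 3, 0], [1, 2, 0, 1, 2, 3, 2, 1, 2, 0, 1, 2, 3, 0, 1, 2, 0], [1, 2, 3, 0, 1, 0], [1, 2, 0, 1, 2, 3, 2, 1, 2, 0, 1, 2, 3, 0, 1, 2], [1, 2, 3, 0, 1], [3, 2, 1, 2, 0, 1, 2, 3, 1, 2], [1, 2, 3],
  [2, 1, 2, 3, 2, 1, 2, 0, 1, 2, 3, 1, 2], [1, 2, 3, 1], [1, 2, 0, 1, 2, 3, 2, 1, 2, 0, 1, 2, 3, 0, 1, 2, 0, 1], [2, 1, 2, 3, 2, 1, 2, 0, 1, 2, 3, 1, 2, 0, 1], [1, 2, 0, 1, 2, 3, 2, 1, 2, 0, 1, 2, 3, 0, 1, 2, 1], [3, 2, 1, 2, 0, 1, 2, 3, 1, 2, 0, 1], [2, 1, 2, 3, 2, 1, 2, 0, 1, 2, 3, 1, 2, 1], [3, 2, 1, 2, 0, 1, 2, 3, 1, 2, 1],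
  [2, 1, 2, 3, 2, 1, 2, 0, 1, 2, 3, 0, 1, 2, 1, 0], [3, 2, 1, 2, 0, 1, 2, 3, 0, 1, 2, 1, 0], [2, 0, 1, 2, 3, 2, 1, 2, 0, 1, 2, 3, 0, 1, 2, 1, 0], [3, 2, 1, 2, 0, 1, 2, 3, 0, 1, 2, 0, 1, 0], [2, 0, 1, 2, 3, 2, 1, 2, 0, 1, 2, 3, 0, 1, 2, 0, 1, 0], [2, 1, 2, 3, 2, 1, 2, 0, 1, 2, 3, 0, 1, 2, 0, 1, 0], [2, 1, 2, 3, 2, 1, 2, 0, 1, 2, 3, 0, 1, 2, 0], [2, 3, 1, 0],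
  [3, 2, 1, 2, 0, 1, 2, 3, 0, 1, 2, 0], [2, 3, 0], [2, 0, 1, 2, 3, 2, 1, 2, 0, 1, 2, 3, 0, 1, 2, 0], [2, 3, 0, 1, 0], [2, 0, 1, 2, 3, 2, 1, 2, 0, 1, 2, 3, 0, 1, 2], [2, 3, 0, 1], [3, 2, 1, 2, 0, 1, 2, 3, 0, 1, 2], [2, 3],
  [2, 1, 2, 3, 2, 1, 2, 0, 1, 2, 3, 0, 1, 2], [2, 3, 1], [2, 0, 1, 2, 3, 2, 1, 2, 0, 1, 2, 3, 0, 1, 2, 0, 1], [2, 1, 2, 3, 2, 1, 2, 0, 1, 2, 3, 0, 1, 2, 0, 1], [2, 0, 1, 2, 3, 2, 1, 2, 0, 1, 2, 3, 0, 1, 2, 1], [3, 2, 1, 2, 0, 1, 2, 3, 0, 1, 2, 0, 1], [2, 1, 2, 3, 2, 1, 2, 0, 1, 2, 3, 0, 1, 2, 1], [3, 2, 1, 2, 0, 1, 2, 3, 0, 1, 2, 1],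
  [1, 2, 3, 2, 1, 2, 0, 1, 2, 3, 0, 1, 2, 1, 0], [2, 3, 2, 1, 2, 0, 1, 2, 3, 0, 1, 2, 1, 0], [0, 1, 2, 3, 2, 1, 2, 0, 1, 2, 3, 0, 1, 2, 1, 0], [2, 3, 2, 1, 2, 0, 1, 2, 3, 0, 1, 2, 0, 1, 0], [0, 1, 2, 3, 2, 1, 2, 0, 1, 2, 3, 0, 1, 2, 0, 1, 0], [1, 2, 3, 2, 1, 2, 0, 1, 2, 3, 0, 1, 2, 0, 1, 0], [1, 2, 3, 2, 1, 2, 0, 1, 2, 3, 0, 1, 2, 0], [3, 1, 0],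
  [2, 3, 2, 1, 2, 0, 1, 2, 3, 0, 1, 2, 0], [3, 0], [0, 1, 2, 3, 2, 1, 2, 0, 1, 2, 3, 0, 1, 2, 0], [3, 0, 1, 0], [0, 1, 2, 3, 2, 1, 2, 0, 1, 2, 3, 0, 1, 2], [3, 0, 1], [2, 3, 2, 1, 2, 0, 1, 2, 3, 0, 1, 2], [3],
  [1, 2, 3, 2, 1, 2, 0, 1, 2, 3, 0, 1, 2], [3, 1], [0, 1, 2, 3, 2, 1, 2, 0, 1, 2, 3, 0, 1, 2, 0, 1], [1, 2, 3, 2, 1, 2, 0, 1, 2, 3, 0, 1, 2, 0, 1], [0, 1, 2, 3, 2, 1, 2, 0, 1, 2, 3, 0, 1, 2, 1], [2, 3, 2, 1, 2, 0, 1, 2, 3, 0, 1, 2, 0, 1], [1, 2, 3, 2, 1, 2, 0, 1, 2, 3, 0, 1, 2, 1], [2, 3, 2, 1, 2, 0, 1, 2, 3, 0, 1, 2, 1],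
  [0, 1, 2, 3, 1, 2, 0, 1, 2, 3, 1, 0], [1, 2, 3, 1, 2, 0, 1, 2, 3, 1, 0], [0, 1, 2, 3, 1, 2, 0, 1, 2, 3, 0], [2, 3, 1, 2, 0, 1, 2, 3, 1, 0], [1, 2, 3, 1, 2, 0, 1, 2, 3, 0], [2, 3, 1, 2, 0, 1, 2, 3, 0], [3, 2, 1, 2, 0, 1, 2, 3, 2, 1, 2, 0, 1, 2, 3, 1, 0], [1, 2, 3, 1, 2, 0, 1, 2, 3, 0, 1, 0],
  [3, 2, 1, 2, 0, 1, 2, 3, 2, 1, 2, 0, 1, 2, 3, 0], [2, 3, 1, 2, 0, 1, 2, 3, 0, 1, 0], [3, 2, 1, 2, 0, 1, 2, 3, 2, 1, 2, 0, 1, 2, 3, 0, 1, 0], [0, 1, 2, 3, 1, 2, 0, 1, 2, 3, 0, 1, 0], [3, 2, 1, 2, 0, 1, 2, 3, 2, 1, 2, 0, 1, 2, 3, 0, 1], [0, 1, 2, 3, 1, 2, 0, 1, 2, 3, 0, 1], [3, 2, 1, 2, 0, 1, 2, 3, 2, 1, 2, 0, 1, 2, 3], [2, 3, 1, 2, 0, 1, 2, 3, 0, 1],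
  [3, 2, 1, 2, 0, 1, 2, 3, 2, 1, 2, 0, 1, 2, 3, 1], [1, 2, 3, 1, 2, 0, 1, 2, 3, 0, 1], [1, 2, 3, 1, 2, 0, 1, 2, 3], [2, 3, 1, 2, 0, 1, 2, 3], [0, 1, 2, 3, 1, 2, 0, 1, 2, 3], [2, 3, 1, 2, 0, 1, 2, 3, 1], [0, 1, 2, 3, 1, 2, 0, 1, 2, 3, 1], [1, 2, 3, 1, 2, 0, 1, 2, 3, 1],
  [0, 1, 2, 3, 1, 2, 0, 1, 2, 3, 2, 1, 0], [1, 2, 3, 1, 2, 0, 1, 2, 3, 2, 1, 0], [0, 1, 2, 3, 1, 2, 0, 1, 2, 3, 2, 0], [3, 1, 2, 0, 1, 2, 3, 1, 0], [1, 2, 3, 1, 2, 0, 1, 2, 3, 2, 0], [3, 1, 2, 0, 1, 2, 3, 0], [3, 2, 1, 2, 0, 1, 2, 3, 2, 1, 2, 0, 1, 2, 3, 2, 1, 0], [1, 2, 3, 1, 2, 0, 1, 2, 3, 2, 0, 1, 0],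
  [3, 2, 1, 2, 0, 1, 2, 3, 2, 1, 2, 0, 1, 2, 3, 2, 0], [3, 1, 2, 0, 1, 2, 3, 0, 1, 0], [3, 2, 1, 2, 0, 1, 2, 3, 2, 1, 2, 0, 1, 2, 3, 2, 0, 1, 0], [0, 1, 2, 3, 1, 2, 0, 1, 2, 3, 2, 0, 1, 0], [3, 2, 1, 2, 0, 1, 2, 3, 2, 1, 2, 0, 1, 2, 3, 2, 0, 1], [0, 1, 2, 3, 1, 2, 0, 1, 2, 3, 2, 0, 1], [3, 2, 1, 2, 0, 1, 2, 3, 2, 1, 2, 0, 1, 2, 3, 2], [3, 1, 2, 0, 1, 2, 3, 0, 1],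
  [3, 2, 1, 2, 0, 1, 2, 3, 2, 1, 2, 0, 1, 2, 3, 2, 1], [1, 2, 3, 1, 2, 0, 1, 2, 3, 2, 0, 1], [1, 2, 3, 1, 2, 0, 1, 2, 3, 2], [3, 1, 2, 0, 1, 2, 3], [0, 1, 2, 3, 1, 2, 0, 1, 2, 3, 2], [3, 1, 2, 0, 1, 2, 3, 1], [0, 1, 2, 3, 1, 2, 0, 1, 2, 3, 2, 1], [1, 2, 3, 1, 2, 0, 1, 2, 3, 2, 1],
  [0, 1, 2, 3, 1, 2, 0, 1, 2, 3, 1, 2, 1, 0], [2, 3, 1, 2, 0, 1, 2, 3, 2, 1, 0], [0, 1, 2, 3, 1, 2, 0, 1, 2, 3, 1, 2, 0], [3, 2, 0, 1, 2, 3, 1, 0], [2, 3, 1, 2, 0, 1, 2, 3, 2, 0], [3, 2, 0, 1, 2, 3, 0], [3, 2, 1, 2, 0, 1, 2, 3, 2, 1, 2, 0, 1, 2, 3, 1, 2, 1, 0], [2, 3, 1, 2, 0, 1, 2, 3, 2, 0, 1, 0],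
  [3, 2, 1, 2, 0, 1, 2, 3, 2, 1, 2, 0, 1, 2, 3, 1, 2, 0], [3, 2, 0, 1, 2, 3, 0, 1, 0], [3, 2, 1, 2, 0, 1, 2, 3, 2, 1, 2, 0, 1, 2, 3, 1, 2, 0, 1, 0], [0, 1, 2, 3, 1, 2, 0, 1, 2, 3, 1, 2, 0, 1, 0], [3, 2, 1, 2, 0, 1, 2, 3, 2, 1, 2, 0, 1, 2, 3, 1, 2, 0, 1], [0, 1, 2, 3, 1, 2, 0, 1, 2, 3, 1, 2, 0, 1], [3, 2, 1, 2, 0, 1, 2, 3, 2, 1, 2, 0, 1, 2, 3, 1, 2], [3, 2, 0, 1, 2, 3, 0, 1],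
  [3, 2, 1, 2, 0, 1, 2, 3, 2, 1, 2, 0, 1, 2, 3, 1, 2, 1], [2, 3, 1, 2, 0, 1, 2, 3, 2, 0, 1], [2, 3, 1, 2, 0, 1, 2, 3, 2], [3, 2, 0, 1, 2, 3], [0, 1, 2, 3, 1, 2, 0, 1, 2, 3, 1, 2], [3, 2, 0, 1, 2, 3, 1], [0, 1, 2, 3, 1, 2, 0, 1, 2, 3, 1, 2, 1], [2, 3, 1, 2, 0, 1, 2, 3, 2, 1],
  [2, 0, 1, 2, 3, 2, 1, 2, 0, 1, 2, 3, 2, 1, 2, 1, 0], [2, 1, 2, 0, 1, 2, 3, 2, 1, 0], [1, 2, 0, 1, 2, 3, 2, 1, 2, 0, 1, 2, 3, 2, 1, 2, 1, 0], [2, 1, 2, 0, 1, 2, 3, 2, 0, 1, 0], [2, 0, 1, 2, 3, 2, 1, 2, 0, 1, 2, 3, 2, 1, 2, 0], [0, 1, 2, 3, 2, 1, 0], [1, 2, 0, 1, 2, 3, 2, 1, 2, 0, 1, 2, 3, 2, 1, 2, 0], [0, 1, 2, 3, 2, 0, 1, 0],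
  [1, 2, 0, 1, 2, 3, 2, 1, 2, 0, 1, 2, 3, 2, 1, 2, 0, 1, 0], [2, 0, 1, 2, 3, 2, 1, 2, 0, 1, 2, 3, 2, 1, 2, 0, 1, 0], [2, 1, 2, 0, 1, 2, 3, 2, 0], [0, 1, 2, 3, 2, 0], [2, 1, 2, 0, 1, 2, 3, 2], [0, 1, 2, 3, 2], [1, 2, 0, 1, 2, 3, 2, 1, 2, 0, 1, 2, 3, 2, 1, 2, 0, 1], [2, 0, 1, 2, 3, 2, 1, 2, 0, 1, 2, 3, 2, 1, 2, 0, 1],
  [1, 2, 0, 1, 2, 3, 2, 1, 2, 0, 1, 2, 3, 2, 1, 2], [0, 1, 2, 3, 2, 0, 1], [2, 0, 1, 2, 3, 2, 1, 2, 0, 1, 2, 3, 2, 1, 2], [0, 1, 2, 3, 2, 1], [1, 2, 0, 1, 2, 3, 2, 1, 2, 0, 1, 2, 3, 2, 1, 2, 1], [2, 1, 2, 0, 1, 2, 3, 2, 0, 1], [2, 0, 1, 2, 3, 2, 1, 2, 0, 1, 2, 3, 2, 1, 2, 1], [2, 1, 2, 0, 1, 2, 3, 2, 1],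
  [0, 1, 2, 3, 1, 2, 0, 1, 2, 3, 2, 1, 2, 1, 0], [3, 1, 2, 0, 1, 2, 3, 2, 1, 0], [0, 1, 2, 3, 1, 2, 0, 1, 2, 3, 2, 1, 2, 0], [3, 2, 0, 1, 2, 3, 2, 1, 0], [3, 1, 2, 0, 1, 2, 3, 2, 0], [3, 2, 0, 1, 2, 3, 2, 0], [3, 2, 1, 2, 0, 1, 2, 3, 2, 1, 2, 0, 1, 2, 3, 2, 1, 2, 1, 0], [3, 1, 2, 0, 1, 2, 3, 2, 0, 1, 0],
  [3, 2, 1, 2, 0, 1, 2, 3, 2, 1, 2, 0, 1, 2, 3, 2, 1, 2, 0], [3, 2, 0, 1, 2, 3, 2, 0, 1, 0], [3, 2, 1, 2, 0, 1, 2, 3, 2, 1, 2, 0, 1, 2, 3, 2, 1, 2, 0, 1, 0], [0, 1, 2, 3, 1, 2, 0, 1, 2, 3, 2, 1, 2, 0, 1, 0], [3, 2, 1, 2, 0, 1, 2, 3, 2, 1, 2, 0, 1, 2, 3, 2, 1, 2, 0, 1], [0, 1, 2, 3, 1, 2, 0, 1, 2, 3, 2, 1, 2, 0, 1], [3, 2, 1, 2, 0, 1, 2, 3, 2, 1, 2, 0,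 1, 2, 3, 2, 1, 2], [3, 2, 0, 1, 2, 3, 2, 0, 1],
  [3, 2, 1, 2, 0, 1, 2, 3, 2, 1, 2, 0, 1, 2, 3, 2, 1, 2, 1], [3, 1, 2, 0, 1, 2, 3, 2, 0, 1], [3, 1, 2, 0, 1, 2, 3, 2], [3, 2, 0, 1, 2, 3, 2], [0, 1, 2, 3, 1, 2, 0, 1, 2, 3, 2, 1, 2], [3, 2, 0, 1, 2, 3, 2, 1], [0, 1, 2, 3, 1, 2, 0, 1, 2, 3, 2, 1, 2, 1], [3, 1, 2, 0, 1, 2, 3, 2, 1],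
  [0, 1, 2, 3, 2, 1, 2, 0, 1, 2, 3, 2, 1, 2, 1, 0], [1, 2, 0, 1, 2, 3, 2, 1, 0], [0, 1, 2, 3, 2, 1, 2, 0, 1, 2, 3, 2, 1, 2, 0], [2, 0, 1, 2, 3, 2, 1, 0], [2, 1, 2, 0, 1, 2, 3, 2, 1, 2, 0, 1, 2, 3, 2, 1, 2, 1, 0], [1, 2, 0, 1, 2, 3, 2, 0, 1, 0], [2, 1, 2, 0, 1, 2, 3, 2, 1, 2, 0, 1, 2, 3, 2, 1, 2, 0], [2, 0, 1, 2, 3, 2, 0, 1, 0],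
  [1, 2, 0, 1, 2, 3, 2, 0], [2, 0, 1, 2, 3, 2, 0], [2, 1, 2, 0, 1, 2, 3, 2, 1, 2, 0, 1, 2, 3, 2, 1, 2, 0, 1, 0], [0, 1, 2, 3, 2, 1, 2, 0, 1, 2, 3, 2, 1, 2, 0, 1, 0], [2, 1, 2, 0, 1, 2, 3, 2, 1, 2, 0, 1, 2, 3, 2, 1, 2, 0, 1], [0, 1, 2, 3, 2, 1, 2, 0, 1, 2, 3, 2, 1, 2, 0, 1], [1, 2, 0, 1, 2, 3, 2], [2, 0, 1, 2, 3, 2],
  [2, 1, 2, 0, 1, 2, 3, 2, 1, 2, 0, 1, 2, 3, 2, 1, 2], [2, 0, 1, 2, 3, 2, 0, 1], [2, 1, 2, 0, 1, 2, 3, 2, 1, 2, 0, 1, 2, 3, 2, 1, 2, 1], [1, 2, 0, 1, 2, 3, 2, 0, 1], [0, 1, 2, 3, 2, 1, 2, 0, 1, 2, 3, 2, 1, 2], [2, 0, 1, 2, 3, 2, 1], [0, 1, 2, 3, 2, 1, 2, 0, 1, 2, 3, 2, 1, 2, 1], [1, 2, 0, 1, 2, 3, 2, 1],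
  [1, 2, 3, 1, 2, 0, 1, 2, 3, 1, 2, 1, 0], [2, 3, 1, 2, 0, 1, 2, 3, 1, 2, 1, 0], [1, 2, 3, 1, 2, 0, 1, 2, 3, 1, 2, 0], [3, 2, 1, 2, 3, 1, 0], [2, 3, 1, 2, 0, 1, 2, 3, 1, 2, 0], [3, 2, 1, 2, 3, 0], [3, 2, 1, 2, 0, 1, 2, 3, 2, 1, 2, 0, 1, 2, 3, 0, 1, 2, 1, 0], [2, 3, 1, 2, 0, 1, 2, 3, 1, 2, 0, 1, 0],
  [3, 2, 1, 2, 0, 1, 2, 3, 2, 1, 2, 0, 1, 2, 3, 0, 1, 2, 0, 1, 0], [1, 2, 3, 1, 2, 0, 1, 2, 3, 1, 2, 0, 1, 0], [3, 2, 1, 2, 0, 1, 2, 3, 2, 1, 2, 0, 1, 2, 3, 0, 1, 2, 0], [3, 2, 1, 2, 3, 0, 1, 0], [3, 2, 1, 2, 0, 1, 2, 3, 2, 1, 2, 0, 1, 2, 3, 0, 1, 2], [3, 2, 1, 2, 3, 0, 1], [3, 2, 1, 2, 0, 1, 2, 3, 2, 1, 2, 0, 1, 2, 3, 0, 1, 2, 0, 1], [1, 2, 3, 1, 2, 0, 1,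 2, 3, 1, 2, 0, 1],
  [3, 2, 1, 2, 0, 1, 2, 3, 2, 1, 2, 0, 1, 2, 3, 0, 1, 2, 1], [2, 3, 1, 2, 0, 1, 2, 3, 1, 2, 0, 1], [2, 3, 1, 2, 0, 1, 2, 3, 1, 2], [3, 2, 1, 2, 3], [1, 2, 3, 1, 2, 0, 1, 2, 3, 1, 2], [3, 2, 1, 2, 3, 1], [1, 2, 3, 1, 2, 0, 1, 2, 3, 1, 2, 1], [2, 3, 1, 2, 0, 1, 2, 3, 1, 2, 1],
  [2, 1, 2, 3, 2, 1, 2, 0, 1, 2, 3, 2, 1, 2, 1, 0], [2, 1, 2, 0, 1, 2, 3, 1, 2, 1, 0], [1, 2, 0, 1, 2, 3, 2, 1, 2, 0, 1, 2, 3, 2, 0, 1, 2, 1, 0], [2, 1, 2, 0, 1, 2, 3, 1, 2, 0, 1, 0], [2, 1, 2, 3, 2, 1, 2, 0, 1, 2, 3, 2, 1, 2, 0], [1, 2, 3, 2, 1, 0], [1, 2, 0, 1, 2, 3, 2, 1, 2, 0, 1, 2, 3, 2, 0, 1, 2, 0], [1, 2, 3, 2, 0, 1, 0],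
  [1, 2, 0, 1, 2, 3, 2, 1, 2, 0, 1, 2, 3, 2, 0, 1, 2, 0, 1, 0], [2, 1, 2, 3, 2, 1, 2, 0, 1, 2, 3, 2, 1, 2, 0, 1, 0], [2, 1, 2, 0, 1, 2, 3, 1, 2, 0], [1, 2, 3, 2, 0], [2, 1, 2, 0, 1, 2, 3, 1, 2], [1, 2, 3, 2], [1, 2, 0, 1, 2, 3, 2, 1, 2, 0, 1, 2, 3, 2, 0, 1, 2, 0, 1], [2, 1, 2, 3, 2, 1, 2, 0, 1, 2, 3, 2, 1, 2, 0, 1],
  [1, 2, 0, 1, 2, 3, 2, 1, 2, 0, 1, 2, 3, 2, 0, 1, 2], [1, 2, 3, 2, 0, 1], [2, 1, 2, 3, 2, 1, 2, 0, 1, 2, 3, 2, 1, 2], [1, 2, 3, 2, 1], [1, 2, 0, 1, 2, 3, 2, 1, 2, 0, 1, 2, 3, 2, 0, 1, 2, 1], [2, 1, 2, 0, 1, 2, 3, 1, 2, 0, 1], [2, 1, 2, 3, 2, 1, 2, 0, 1, 2, 3, 2, 1, 2, 1], [2, 1, 2, 0, 1, 2, 3, 1, 2, 1],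
  [2, 1, 2, 3, 2, 1, 2, 0, 1, 2, 3, 2, 0, 1, 2, 1, 0], [2, 1, 2, 0, 1, 2, 3, 0, 1, 2, 1, 0], [2, 0, 1, 2, 3, 2, 1, 2, 0, 1, 2, 3, 2, 0, 1, 2, 1, 0], [2, 1, 2, 0, 1, 2, 3, 0, 1, 2, 0, 1, 0], [2, 1, 2, 3, 2, 1, 2, 0, 1, 2, 3, 2, 0, 1, 2, 0], [2, 3, 2, 1, 0], [2, 0, 1, 2, 3, 2, 1, 2, 0, 1, 2, 3, 2, 0, 1, 2, 0], [2, 3, 2, 0, 1, 0],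
  [2, 0, 1, 2, 3, 2, 1, 2, 0, 1, 2, 3, 2, 0, 1, 2, 0, 1, 0], [2, 1, 2, 3, 2, 1, 2, 0, 1, 2, 3, 2, 0, 1, 2, 0, 1, 0], [2, 1, 2, 0, 1, 2, 3, 0, 1, 2, 0], [2, 3, 2, 0], [2, 1, 2, 0, 1, 2, 3, 0, 1, 2], [2, 3, 2], [2, 0, 1, 2, 3, 2, 1, 2, 0, 1, 2, 3, 2, 0, 1, 2, 0, 1], [2, 1, 2, 3, 2, 1, 2, 0, 1, 2, 3, 2, 0, 1, 2, 0, 1],
  [2, 0, 1, 2, 3, 2, 1, 2, 0, 1, 2, 3, 2, 0, 1, 2], [2, 3, 2, 0, 1], [2, 1, 2, 3, 2, 1, 2, 0, 1, 2, 3, 2, 0, 1, 2], [2, 3, 2, 1], [2, 0, 1, 2, 3, 2, 1, 2, 0, 1, 2, 3, 2, 0, 1, 2, 1], [2, 1, 2, 0, 1, 2, 3, 0, 1, 2, 0, 1], [2, 1, 2, 3, 2, 1, 2, 0, 1, 2, 3, 2, 0, 1, 2, 1], [2, 1, 2, 0, 1, 2, 3, 0, 1, 2, 1],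
  [1, 2, 3, 1, 2, 0, 1, 2, 3, 2, 1, 2, 1, 0], [3, 1, 2, 0, 1, 2, 3, 1, 2, 1, 0], [1, 2, 3, 1, 2, 0, 1, 2, 3, 2, 1, 2, 0], [3, 2, 1, 2, 3, 2, 1, 0], [3, 1, 2, 0, 1, 2, 3, 1, 2, 0], [3, 2, 1, 2, 3, 2, 0], [3, 2, 1, 2, 0, 1, 2, 3, 2, 1, 2, 0, 1, 2, 3, 2, 0, 1, 2, 1, 0], [3, 1, 2, 0, 1, 2, 3, 1, 2, 0, 1, 0],
  [3, 2, 1, 2, 0, 1, 2, 3, 2, 1, 2, 0, 1, 2, 3, 2, 0, 1, 2, 0, 1, 0], [1, 2, 3, 1, 2, 0, 1, 2, 3, 2, 1, 2, 0, 1, 0], [3, 2, 1, 2, 0, 1, 2, 3, 2, 1, 2, 0, 1, 2, 3, 2, 0, 1, 2, 0], [3, 2, 1, 2, 3, 2, 0, 1, 0], [3, 2, 1, 2, 0, 1, 2, 3, 2, 1, 2, 0, 1, 2, 3, 2, 0, 1, 2], [3, 2, 1, 2, 3, 2, 0, 1], [3, 2, 1, 2, 0, 1, 2, 3, 2, 1, 2, 0, 1, 2, 3, 2, 0, 1, 2, 0,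 1], [1, 2, 3, 1, 2, 0, 1, 2, 3, 2, 1, 2, 0, 1],
  [3, 2, 1, 2, 0, 1, 2, 3, 2, 1, 2, 0, 1, 2, 3, 2, 0, 1, 2, 1], [3, 1, 2, 0, 1, 2, 3, 1, 2, 0, 1], [3, 1, 2, 0, 1, 2, 3, 1, 2], [3, 2, 1, 2, 3, 2], [1, 2, 3, 1, 2, 0, 1, 2, 3, 2, 1, 2], [3, 2, 1, 2, 3, 2, 1], [1, 2, 3, 1, 2, 0, 1, 2, 3, 2, 1, 2, 1], [3, 1, 2, 0, 1, 2, 3, 1, 2, 1],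
  [1, 2, 3, 2, 1, 2, 0, 1, 2, 3, 2, 1, 2, 1, 0], [1, 2, 0, 1, 2, 3, 1, 2, 1, 0], [1, 2, 3, 2, 1, 2, 0, 1, 2, 3, 2, 1, 2, 0], [2, 1, 2, 3, 2, 1, 0], [2, 1, 2, 0, 1, 2, 3, 2, 1, 2, 0, 1, 2, 3, 2, 0, 1, 2, 1, 0], [1, 2, 0, 1, 2, 3, 1, 2, 0, 1, 0], [2, 1, 2, 0, 1, 2, 3, 2, 1, 2, 0, 1, 2, 3, 2, 0, 1, 2, 0], [2, 1, 2, 3, 2, 0, 1, 0],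
  [1, 2, 0, 1, 2, 3, 1, 2, 0], [2, 1, 2, 3, 2, 0], [2, 1, 2, 0, 1, 2, 3, 2, 1, 2, 0, 1, 2, 3, 2, 0, 1, 2, 0, 1, 0], [1, 2, 3, 2, 1, 2, 0, 1, 2, 3, 2, 1, 2, 0, 1, 0], [2, 1, 2, 0, 1, 2, 3, 2, 1, 2, 0, 1, 2, 3, 2, 0, 1, 2, 0, 1], [1, 2, 3, 2, 1, 2, 0, 1, 2, 3, 2, 1, 2, 0, 1], [1, 2, 0, 1, 2, 3, 1, 2], [2, 1, 2, 3, 2],
  [2, 1, 2, 0, 1, 2, 3, 2, 1, 2, 0, 1, 2, 3, 2, 0, 1, 2], [2, 1, 2, 3, 2, 0, 1], [2, 1, 2, 0, 1, 2, 3, 2, 1, 2, 0, 1, 2, 3, 2, 0, 1, 2, 1], [1, 2, 0, 1, 2, 3, 1, 2, 0, 1], [1, 2, 3, 2, 1, 2, 0, 1, 2, 3, 2, 1, 2], [2, 1, 2, 3, 2, 1], [1, 2, 3, 2, 1, 2, 0, 1, 2, 3, 2, 1, 2, 1], [1, 2, 0, 1, 2, 3, 1, 2, 1],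
  [2, 3, 1, 2, 0, 1, 2, 3, 2, 1, 2, 1, 0], [3, 2, 0, 1, 2, 3, 1, 2, 1, 0], [2, 3, 1, 2, 0, 1, 2, 3, 2, 1, 2, 0], [3, 2, 1, 2, 3, 1, 2, 1, 0], [3, 2, 0, 1, 2, 3, 1, 2, 0], [3, 2, 1, 2, 3, 1, 2, 0], [3, 2, 1, 2, 0, 1, 2, 3, 2, 1, 2, 0, 1, 2, 3, 1, 2, 0, 1, 2, 1, 0], [3, 2, 0, 1, 2, 3, 1, 2, 0, 1, 0],
  [3, 2, 1, 2, 0, 1, 2, 3, 2, 1, 2, 0, 1, 2, 3, 1, 2, 0, 1, 2, 0, 1, 0], [2, 3, 1, 2, 0, 1, 2, 3, 2, 1, 2, 0, 1, 0], [3, 2, 1, 2, 0, 1, 2, 3, 2, 1, 2, 0, 1, 2, 3, 1, 2, 0, 1, 2, 0], [3, 2, 1, 2, 3, 1, 2, 0, 1, 0], [3, 2, 1, 2, 0, 1, 2, 3, 2, 1, 2, 0, 1, 2, 3, 1, 2, 0, 1, 2], [3, 2, 1, 2, 3, 1, 2, 0, 1], [3, 2, 1, 2, 0, 1, 2, 3, 2, 1, 2, 0, 1, 2, 3, 1, 2, 0,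 1, 2, 0, 1], [2, 3, 1, 2, 0, 1, 2, 3, 2, 1, 2, 0, 1],
  [3, 2, 1, 2, 0, 1, 2, 3, 2, 1, 2, 0, 1, 2, 3, 1, 2, 0, 1, 2, 1], [3, 2, 0, 1, 2, 3, 1, 2, 0, 1], [3, 2, 0, 1, 2, 3, 1, 2], [3, 2, 1, 2, 3, 1, 2], [2, 3, 1, 2, 0, 1, 2, 3, 2, 1, 2], [3, 2, 1, 2, 3, 1, 2, 1], [2, 3, 1, 2, 0, 1, 2, 3, 2, 1, 2, 1], [3, 2, 0, 1, 2, 3, 1, 2, 1],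
  [2, 3, 2, 1, 2, 0, 1, 2, 3, 2, 1, 2, 1, 0], [2, 0, 1, 2, 3, 1, 2, 1, 0], [2, 3, 2, 1, 2, 0, 1, 2, 3, 2, 1, 2, 0], [2, 1, 2, 3, 1, 2, 1, 0], [2, 1, 2, 0, 1, 2, 3, 2, 1, 2, 0, 1, 2, 3, 1, 2, 0, 1, 2, 1, 0], [2, 0, 1, 2, 3, 1, 2, 0, 1, 0], [2, 1, 2, 0, 1, 2, 3, 2, 1, 2, 0, 1, 2, 3, 1, 2, 0, 1, 2, 0], [2, 1, 2, 3, 1, 2, 0, 1, 0],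
  [2, 0, 1, 2, 3, 1, 2, 0], [2, 1, 2, 3, 1, 2, 0], [2, 1, 2, 0, 1, 2, 3, 2, 1, 2, 0, 1, 2, 3, 1, 2, 0, 1, 2, 0, 1, 0], [2, 3, 2, 1, 2, 0, 1, 2, 3, 2, 1, 2, 0, 1, 0], [2, 1, 2, 0, 1, 2, 3, 2, 1, 2, 0, 1, 2, 3, 1, 2, 0, 1, 2, 0, 1], [2, 3, 2, 1, 2, 0, 1, 2, 3, 2, 1, 2, 0, 1], [2, 0, 1, 2, 3, 1, 2], [2, 1, 2, 3, 1, 2],
  [2, 1, 2, 0, 1, 2, 3, 2, 1, 2, 0, 1, 2, 3, 1, 2, 0, 1, 2], [2, 1, 2, 3, 1, 2, 0, 1], [2, 1, 2, 0, 1, 2, 3, 2, 1, 2, 0, 1, 2, 3, 1, 2, 0, 1, 2, 1], [2, 0, 1, 2, 3, 1, 2, 0, 1], [2, 3, 2, 1, 2, 0, 1, 2, 3, 2, 1, 2], [2, 1, 2, 3, 1, 2, 1], [2, 3, 2, 1, 2, 0, 1, 2, 3, 2, 1, 2, 1], [2, 0, 1, 2, 3, 1, 2, 1],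
  [3, 1, 2, 0, 1, 2, 3, 2, 1, 2, 1, 0], [3, 2, 0, 1, 2, 3, 2, 1, 2, 1, 0], [3, 1, 2, 0, 1, 2, 3, 2, 1, 2, 0], [3, 2, 1, 2, 3, 2, 1, 2, 1, 0], [3, 2, 0, 1, 2, 3, 2, 1, 2, 0], [3, 2, 1, 2, 3, 2, 1, 2, 0], [3, 2, 1, 2, 0, 1, 2, 3, 2, 1, 2, 0, 1, 2, 3, 2, 1, 2, 0, 1, 2, 1, 0], [3, 2, 0, 1, 2, 3, 2, 1, 2, 0, 1, 0],
  [3, 2, 1, 2, 0, 1, 2, 3, 2, 1, 2, 0, 1, 2, 3, 2, 1, 2, 0, 1, 2, 0, 1, 0], [3, 1, 2, 0, 1, 2, 3, 2, 1, 2, 0, 1, 0], [3, 2, 1, 2, 0, 1, 2, 3, 2, 1, 2, 0, 1, 2, 3, 2, 1, 2, 0, 1, 2, 0], [3, 2, 1, 2, 3, 2, 1, 2, 0, 1, 0], [3, 2, 1, 2, 0, 1, 2, 3, 2, 1, 2, 0, 1, 2, 3, 2, 1, 2, 0, 1, 2], [3, 2, 1, 2, 3, 2, 1, 2, 0, 1], [3, 2, 1, 2, 0, 1, 2, 3, 2, 1,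 2, 0, 1, 2, 3, 2, 1, 2, 0, 1, 2, 0, 1], [3, 1, 2, 0, 1, 2, 3, 2, 1, 2, 0, 1],
  [3, 2, 1, 2, 0, 1, 2, 3, 2, 1, 2, 0, 1, 2, 3, 2, 1, 2, 0, 1, 2, 1], [3, 2, 0, 1, 2, 3, 2, 1, 2, 0, 1], [3, 2, 0, 1, 2, 3, 2, 1, 2], [3, 2, 1, 2, 3, 2, 1, 2], [3, 1, 2, 0, 1, 2, 3, 2, 1, 2], [3, 2, 1, 2, 3, 2, 1, 2, 1], [3, 1, 2, 0, 1, 2, 3, 2, 1, 2, 1], [3, 2, 0, 1, 2, 3, 2, 1, 2, 1],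
  [1, 2, 0, 1, 2, 3, 2, 1, 2, 1, 0], [2, 0, 1, 2, 3, 2, 1, 2, 1, 0], [1, 2, 0, 1, 2, 3, 2, 1, 2, 0], [2, 1, 2, 3, 2, 1, 2, 1, 0], [2, 0, 1, 2, 3, 2, 1, 2, 0], [2, 1, 2, 3, 2, 1, 2, 0], [2, 1, 2, 0, 1, 2, 3, 2, 1, 2, 0, 1, 2, 3, 2, 1, 2, 0, 1, 2, 1, 0], [2, 0, 1, 2, 3, 2, 1, 2, 0, 1, 0],
  [2, 1, 2, 0, 1, 2, 3, 2, 1, 2, 0, 1, 2, 3, 2, 1, 2, 0, 1, 2, 0, 1, 0], [1, 2, 0, 1, 2, 3, 2, 1, 2, 0, 1, 0], [2, 1, 2, 0, 1, 2, 3, 2, 1, 2, 0, 1, 2, 3, 2, 1, 2, 0, 1, 2, 0], [2, 1, 2, 3, 2, 1, 2, 0, 1, 0], [2, 1, 2, 0, 1, 2, 3, 2, 1, 2, 0, 1, 2, 3, 2, 1, 2, 0, 1, 2], [2, 1, 2, 3, 2, 1, 2, 0, 1], [2, 1, 2, 0, 1, 2, 3, 2, 1, 2, 0, 1, 2, 3, 2, 1, 2, 0, 1, 2, 0, 1], [1,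 2, 0, 1, 2, 3, 2, 1, 2, 0, 1],
  [2, 1, 2, 0, 1, 2, 3, 2, 1, 2, 0, 1, 2, 3, 2, 1, 2, 0, 1, 2, 1], [2, 0, 1, 2, 3, 2, 1, 2, 0, 1], [2, 0, 1, 2, 3, 2, 1, 2], [2, 1, 2, 3, 2, 1, 2], [1, 2, 0, 1, 2, 3, 2, 1, 2], [2, 1, 2, 3, 2, 1, 2, 1], [1, 2, 0, 1, 2, 3, 2, 1, 2, 1], [2, 0, 1, 2, 3, 2, 1, 2, 1],
  [3, 2, 1, 2, 0, 1, 2, 3, 2, 1, 2, 1, 0], [0, 1, 2, 3, 1, 2, 1, 0], [3, 2, 1, 2, 0, 1, 2, 3, 2, 1, 2, 0], [1, 2, 3, 1, 2, 1, 0], [1, 2, 0, 1, 2, 3, 2, 1, 2, 0, 1, 2, 3, 1, 2, 0, 1, 2, 1, 0], [0, 1, 2, 3, 1, 2, 0, 1, 0], [1, 2, 0, 1, 2, 3, 2, 1, 2, 0, 1, 2, 3, 1, 2, 0, 1, 2, 0], [1, 2, 3, 1, 2, 0, 1, 0],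
  [0, 1, 2, 3, 1, 2, 0], [1, 2, 3, 1, 2, 0], [1, 2, 0, 1, 2, 3, 2, 1, 2, 0, 1, 2, 3, 1, 2, 0, 1, 2, 0, 1, 0], [3, 2, 1, 2, 0, 1, 2, 3, 2, 1, 2, 0, 1, 0], [1, 2, 0, 1, 2, 3, 2, 1, 2, 0, 1, 2, 3, 1, 2, 0, 1, 2, 0, 1], [3, 2, 1, 2, 0, 1, 2, 3, 2, 1, 2, 0, 1], [0, 1, 2, 3, 1, 2], [1, 2, 3, 1, 2],
  [1, 2, 0, 1, 2, 3, 2, 1, 2, 0, 1, 2, 3, 1, 2, 0, 1, 2], [1, 2, 3, 1, 2, 0, 1], [1, 2, 0, 1, 2, 3, 2, 1, 2, 0, 1, 2, 3, 1, 2, 0, 1, 2, 1], [0, 1, 2, 3, 1, 2, 0, 1], [3, 2, 1, 2, 0, 1, 2, 3, 2, 1, 2], [1, 2, 3, 1, 2, 1], [3, 2, 1, 2, 0, 1, 2, 3, 2, 1, 2, 1], [0, 1, 2, 3, 1, 2, 1],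
  [2, 1, 2, 0, 1, 2, 3, 2, 1, 2, 1, 0], [0, 1, 2, 3, 2, 1, 2, 1, 0], [2, 1, 2, 0, 1, 2, 3, 2, 1, 2, 0], [1, 2, 3, 2, 1, 2, 1, 0], [0, 1, 2, 3, 2, 1, 2, 0], [1, 2, 3, 2, 1, 2, 0], [1, 2, 0, 1, 2, 3, 2, 1, 2, 0, 1, 2, 3, 2, 1, 2, 0, 1, 2, 1, 0], [0, 1, 2, 3, 2, 1, 2, 0, 1, 0],
  [1, 2, 0, 1, 2, 3, 2, 1, 2, 0, 1, 2, 3, 2, 1, 2, 0, 1, 2, 0, 1, 0], [2, 1, 2, 0, 1, 2, 3, 2, 1, 2, 0, 1, 0], [1, 2, 0, 1, 2, 3, 2, 1, 2, 0, 1, 2, 3, 2, 1, 2, 0, 1, 2, 0], [1, 2, 3, 2, 1, 2, 0, 1, 0], [1, 2, 0, 1, 2, 3, 2, 1, 2, 0, 1, 2, 3, 2, 1, 2, 0, 1, 2], [1, 2, 3, 2, 1, 2, 0, 1], [1, 2, 0, 1, 2, 3, 2, 1, 2, 0, 1, 2, 3, 2, 1, 2, 0, 1, 2, 0, 1], [2, 1, 2, 0, 1, 2, 3, 2, 1, 2,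 0, 1],
  [1, 2, 0, 1, 2, 3, 2, 1, 2, 0, 1, 2, 3, 2, 1, 2, 0, 1, 2, 1], [0, 1, 2, 3, 2, 1, 2, 0, 1], [0, 1, 2, 3, 2, 1, 2], [1, 2, 3, 2, 1, 2], [2, 1, 2, 0, 1, 2, 3, 2, 1, 2], [1, 2, 3, 2, 1, 2, 1], [2, 1, 2, 0, 1, 2, 3, 2, 1, 2, 1], [0, 1, 2, 3, 2, 1, 2, 1],
  [3, 2, 1, 2, 0, 1, 2, 3, 2, 0, 1, 2, 1, 0], [0, 1, 2, 3, 0, 1, 2, 1, 0], [3, 2, 1, 2, 0, 1, 2, 3, 2, 0, 1, 2, 0], [2, 3, 1, 2, 1, 0], [2, 0, 1, 2, 3, 2, 1, 2, 0, 1, 2, 3, 1, 2, 0, 1, 2, 1, 0], [0, 1, 2, 3, 0, 1, 2, 0, 1, 0], [2, 0, 1, 2, 3, 2, 1, 2, 0, 1, 2, 3, 1, 2, 0, 1, 2, 0], [2, 3, 1, 2, 0, 1, 0],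
  [0, 1, 2, 3, 0, 1, 2, 0], [2, 3, 1, 2, 0], [2, 0, 1, 2, 3, 2, 1, 2, 0, 1, 2, 3, 1, 2, 0, 1, 2, 0, 1, 0], [3, 2, 1, 2, 0, 1, 2, 3, 2, 0, 1, 2, 0, 1, 0], [2, 0, 1, 2, 3, 2, 1, 2, 0, 1, 2, 3, 1, 2, 0, 1, 2, 0, 1], [3, 2, 1, 2, 0, 1, 2, 3, 2, 0, 1, 2, 0, 1], [0, 1, 2, 3, 0, 1, 2], [2, 3, 1, 2],
  [2, 0, 1, 2, 3, 2, 1, 2, 0, 1, 2, 3, 1, 2, 0, 1, 2], [2, 3, 1, 2, 0, 1], [2, 0, 1, 2, 3, 2, 1, 2, 0, 1, 2, 3, 1, 2, 0, 1, 2, 1], [0, 1, 2, 3, 0, 1, 2, 0, 1], [3, 2, 1, 2, 0, 1, 2, 3, 2, 0, 1, 2], [2, 3, 1, 2, 1], [3, 2, 1, 2, 0, 1, 2, 3, 2, 0, 1, 2, 1], [0, 1, 2, 3, 0, 1, 2, 1],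
  [2, 1, 2, 0, 1, 2, 3, 2, 0, 1, 2, 1, 0], [0, 1, 2, 3, 2, 0, 1, 2, 1, 0], [2, 1, 2, 0, 1, 2, 3, 2, 0, 1, 2, 0], [2, 3, 2, 1, 2, 1, 0], [0, 1, 2, 3, 2, 0, 1, 2, 0], [2, 3, 2, 1, 2, 0], [2, 0, 1, 2, 3, 2, 1, 2, 0, 1, 2, 3, 2, 1, 2, 0, 1, 2, 1, 0], [0, 1, 2, 3, 2, 0, 1, 2, 0, 1, 0],
  [2, 0, 1, 2, 3, 2, 1, 2, 0, 1, 2, 3, 2, 1, 2, 0, 1, 2, 0, 1, 0], [2, 1, 2, 0, 1, 2, 3, 2, 0, 1, 2, 0, 1, 0], [2, 0, 1, 2, 3, 2, 1, 2, 0, 1, 2, 3, 2, 1, 2, 0, 1, 2, 0], [2, 3, 2, 1, 2, 0, 1, 0], [2, 0, 1, 2, 3, 2, 1, 2, 0, 1, 2, 3, 2, 1, 2, 0, 1, 2], [2, 3, 2, 1, 2, 0, 1], [2, 0, 1, 2, 3, 2, 1, 2, 0, 1, 2, 3, 2, 1, 2, 0, 1, 2, 0, 1], [2, 1, 2, 0, 1, 2, 3, 2, 0, 1, 2, 0, 1],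
  [2, 0, 1, 2, 3, 2, 1, 2, 0, 1, 2, 3, 2, 1, 2, 0, 1, 2, 1], [0, 1, 2, 3, 2, 0, 1, 2, 0, 1], [0, 1, 2, 3, 2, 0, 1, 2], [2, 3, 2, 1, 2], [2, 1, 2, 0, 1, 2, 3, 2, 0, 1, 2], [2, 3, 2, 1, 2, 1], [2, 1, 2, 0, 1, 2, 3, 2, 0, 1, 2, 1], [0, 1, 2, 3, 2, 0, 1, 2, 1],
  [1, 2, 3, 2, 1, 2, 0, 1, 2, 3, 2, 0, 1, 2, 1, 0], [1, 2, 0, 1, 2, 3, 0, 1, 2, 1, 0], [0, 1, 2, 3, 2, 1, 2, 0, 1, 2, 3, 2, 0, 1, 2, 1, 0], [1, 2, 0, 1, 2, 3, 0, 1, 2, 0, 1, 0], [1, 2, 3, 2, 1, 2, 0, 1, 2, 3, 2, 0, 1, 2, 0], [3, 2, 1, 0], [0, 1, 2, 3, 2, 1, 2, 0, 1, 2, 3, 2, 0, 1, 2, 0], [3, 2, 0, 1, 0],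
  [0, 1, 2, 3, 2, 1, 2, 0, 1, 2, 3, 2, 0, 1, 2, 0, 1, 0], [1, 2, 3, 2, 1, 2, 0, 1, 2, 3, 2, 0, 1, 2, 0, 1, 0], [1, 2, 0, 1, 2, 3, 0, 1, 2, 0], [3, 2, 0], [1, 2, 0, 1, 2, 3, 0, 1, 2], [3, 2], [0, 1, 2, 3, 2, 1, 2, 0, 1, 2, 3, 2, 0, 1, 2, 0, 1], [1, 2, 3, 2, 1, 2, 0, 1, 2, 3, 2, 0, 1, 2, 0, 1],
  [0, 1, 2, 3, 2, 1, 2, 0, 1, 2, 3, 2, 0, 1, 2], [3, 2, 0, 1], [1, 2, 3, 2, 1, 2, 0, 1, 2, 3, 2, 0, 1, 2], [3, 2, 1], [0, 1, 2, 3, 2, 1, 2, 0, 1, 2, 3, 2, 0, 1, 2, 1], [1, 2, 0, 1, 2, 3, 0, 1, 2, 0, 1], [1, 2, 3, 2, 1, 2, 0, 1, 2, 3, 2, 0, 1, 2, 1], [1, 2, 0, 1, 2, 3, 0, 1, 2, 1],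
  [2, 3, 2, 1, 2, 0, 1, 2, 3, 2, 0, 1, 2, 1, 0], [2, 0, 1, 2, 3, 0, 1, 2, 1, 0], [0, 1, 2, 3, 2, 1, 2, 0, 1, 2, 3, 1, 2, 0, 1, 2, 1, 0], [2, 0, 1, 2, 3, 0, 1, 2, 0, 1, 0], [2, 3, 2, 1, 2, 0, 1, 2, 3, 2, 0, 1, 2, 0], [3, 1, 2, 1, 0], [0, 1, 2, 3, 2, 1, 2, 0, 1, 2, 3, 1, 2, 0, 1, 2, 0], [3, 1, 2, 0, 1, 0],
  [0, 1, 2, 3, 2, 1, 2, 0, 1, 2, 3, 1, 2, 0, 1, 2, 0, 1, 0], [2, 3, 2, 1, 2, 0, 1, 2, 3, 2, 0, 1, 2, 0, 1, 0], [2, 0, 1, 2, 3, 0, 1, 2, 0], [3, 1, 2, 0], [2, 0, 1, 2, 3, 0, 1, 2], [3, 1, 2], [0, 1, 2, 3, 2, 1, 2, 0, 1, 2, 3, 1, 2, 0, 1, 2, 0, 1], [2, 3, 2, 1, 2, 0, 1, 2, 3, 2, 0, 1, 2, 0, 1],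
  [0, 1, 2, 3, 2, 1, 2, 0, 1, 2, 3, 1, 2, 0, 1, 2], [3, 1, 2, 0, 1], [2, 3, 2, 1, 2, 0, 1, 2, 3, 2, 0, 1, 2], [3, 1, 2, 1], [0, 1, 2, 3, 2, 1, 2, 0, 1, 2, 3, 1, 2, 0, 1, 2, 1], [2, 0, 1, 2, 3, 0, 1, 2, 0, 1], [2, 3, 2, 1, 2, 0, 1, 2, 3, 2, 0, 1, 2, 1], [2, 0, 1, 2, 3, 0, 1, 2, 1],
  [1, 2, 0, 1, 2, 3, 2, 0, 1, 2, 1, 0], [2, 0, 1, 2, 3, 2, 0, 1, 2, 1, 0], [1, 2, 0, 1, 2, 3, 2, 0, 1, 2, 0], [3, 2, 1, 2, 1, 0], [2, 0, 1, 2, 3, 2, 0, 1, 2, 0], [3, 2, 1, 2, 0], [0, 1, 2, 3, 2, 1, 2, 0, 1, 2, 3, 2, 1, 2, 0, 1, 2, 1, 0], [2, 0, 1, 2, 3, 2, 0, 1, 2, 0, 1, 0],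
  [0, 1, 2, 3, 2, 1, 2, 0, 1, 2, 3, 2, 1, 2, 0, 1, 2, 0, 1, 0], [1, 2, 0, 1, 2, 3, 2, 0, 1, 2, 0, 1, 0], [0, 1, 2, 3, 2, 1, 2, 0, 1, 2, 3, 2, 1, 2, 0, 1, 2, 0], [3, 2, 1, 2, 0, 1, 0], [0, 1, 2, 3, 2, 1, 2, 0, 1, 2, 3, 2, 1, 2, 0, 1, 2], [3, 2, 1, 2, 0, 1], [0, 1, 2, 3, 2, 1, 2, 0, 1, 2, 3, 2, 1, 2, 0, 1, 2, 0, 1], [1, 2, 0, 1, 2, 3, 2, 0, 1, 2, 0, 1],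
  [0, 1, 2, 3, 2, 1, 2, 0, 1, 2, 3, 2, 1, 2, 0, 1, 2, 1], [2, 0, 1, 2, 3, 2, 0, 1, 2, 0, 1], [2, 0, 1, 2, 3, 2, 0, 1, 2], [3, 2, 1, 2], [1, 2, 0, 1, 2, 3, 2, 0, 1, 2], [3, 2, 1, 2, 1], [1, 2, 0, 1, 2, 3, 2, 0, 1, 2, 1], [2, 0, 1, 2, 3, 2, 0, 1, 2, 1],
  [3, 2, 1, 2, 0, 1, 2, 3, 1, 2, 0, 1, 2, 1, 0], [1, 2, 3, 0, 1, 2, 1, 0], [3, 2, 1, 2, 0, 1, 2, 3, 1, 2, 0, 1, 2, 0], [2, 3, 0, 1, 2, 1, 0], [2, 1, 2, 3, 2, 1, 2, 0, 1, 2, 3, 1, 2, 0, 1, 2, 1, 0], [1, 2, 3, 0, 1, 2, 0, 1, 0], [2, 1, 2, 3, 2, 1, 2, 0, 1, 2, 3, 1, 2, 0, 1, 2, 0], [2, 3, 0, 1, 2, 0, 1, 0],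
  [1, 2, 3, 0, 1, 2, 0], [2, 3, 0, 1, 2, 0], [2, 1, 2, 3, 2, 1, 2, 0, 1, 2, 3, 1, 2, 0, 1, 2, 0, 1, 0], [3, 2, 1, 2, 0, 1, 2, 3, 1, 2, 0, 1, 2, 0, 1, 0], [2, 1, 2, 3, 2, 1, 2, 0, 1, 2, 3, 1, 2, 0, 1, 2, 0, 1], [3, 2, 1, 2, 0, 1, 2, 3, 1, 2, 0, 1, 2, 0, 1], [1, 2, 3, 0, 1, 2], [2, 3, 0, 1, 2],
  [2, 1, 2, 3, 2, 1, 2, 0, 1, 2, 3, 1, 2, 0, 1, 2], [2, 3, 0, 1, 2, 0, 1], [2, 1, 2, 3, 2, 1, 2, 0, 1, 2, 3, 1, 2, 0, 1, 2, 1], [1, 2, 3, 0, 1, 2, 0, 1], [3, 2, 1, 2, 0, 1, 2, 3, 1, 2, 0, 1, 2], [2, 3, 0, 1, 2, 1], [3, 2, 1, 2, 0, 1, 2, 3, 1, 2, 0, 1, 2, 1], [1, 2, 3, 0, 1, 2, 1],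
  [2, 1, 2, 0, 1, 2, 3, 1, 2, 0, 1, 2, 1, 0], [1, 2, 3, 2, 0, 1, 2, 1, 0], [2, 1, 2, 0, 1, 2, 3, 1, 2, 0, 1, 2, 0], [2, 3, 2, 0, 1, 2, 1, 0], [1, 2, 3, 2, 0, 1, 2, 0], [2, 3, 2, 0, 1, 2, 0], [2, 1, 2, 3, 2, 1, 2, 0, 1, 2, 3, 2, 1, 2, 0, 1, 2, 1, 0], [1, 2, 3, 2, 0, 1, 2, 0, 1, 0],
  [2, 1, 2, 3, 2, 1, 2, 0, 1, 2, 3, 2, 1, 2, 0, 1, 2, 0], [2, 3, 2, 0, 1, 2, 0, 1, 0], [2, 1, 2, 3, 2, 1, 2, 0, 1, 2, 3, 2, 1, 2, 0, 1, 2, 0, 1, 0], [2, 1, 2, 0, 1, 2, 3, 1, 2, 0, 1, 2, 0, 1, 0], [2, 1, 2, 3, 2, 1, 2, 0, 1, 2, 3, 2, 1, 2, 0, 1, 2, 0, 1], [2, 1, 2, 0, 1, 2, 3, 1, 2, 0, 1, 2, 0, 1], [2, 1, 2, 3, 2, 1, 2, 0, 1, 2, 3, 2, 1, 2, 0, 1, 2], [2, 3, 2, 0, 1, 2, 0, 1],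
  [2, 1, 2, 3, 2, 1, 2, 0, 1, 2, 3, 2, 1, 2, 0, 1, 2, 1], [1, 2, 3, 2, 0, 1, 2, 0, 1], [1, 2, 3, 2, 0, 1, 2], [2, 3, 2, 0, 1, 2], [2, 1, 2, 0, 1, 2, 3, 1, 2, 0, 1, 2], [2, 3, 2, 0, 1, 2, 1], [2, 1, 2, 0, 1, 2, 3, 1, 2, 0, 1, 2, 1], [1, 2, 3, 2, 0, 1, 2, 1],
  [2, 3, 2, 1, 2, 0, 1, 2, 3, 1, 2, 0, 1, 2, 1, 0], [2, 1, 2, 3, 0, 1, 2, 1, 0], [1, 2, 3, 2, 1, 2, 0, 1, 2, 3, 1, 2, 0, 1, 2, 1, 0], [2, 1, 2, 3, 0, 1, 2, 0, 1, 0], [2, 3, 2, 1, 2, 0, 1, 2, 3, 1, 2, 0, 1, 2, 0], [3, 0, 1, 2, 1, 0], [1, 2, 3, 2, 1, 2, 0, 1, 2, 3, 1, 2, 0, 1, 2, 0], [3, 0, 1, 2, 0, 1, 0],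
  [1, 2, 3, 2, 1, 2, 0, 1, 2, 3, 1, 2, 0, 1, 2, 0, 1, 0], [2, 3, 2, 1, 2, 0, 1, 2, 3, 1, 2, 0, 1, 2, 0, 1, 0], [2, 1, 2, 3, 0, 1, 2, 0], [3, 0, 1, 2, 0], [2, 1, 2, 3, 0, 1, 2], [3, 0, 1, 2], [1, 2, 3, 2, 1, 2, 0, 1, 2, 3, 1, 2, 0, 1, 2, 0, 1], [2, 3, 2, 1, 2, 0, 1, 2, 3, 1, 2, 0, 1, 2, 0, 1],
  [1, 2, 3, 2, 1, 2, 0, 1, 2, 3, 1, 2, 0, 1, 2], [3, 0, 1, 2, 0, 1], [2, 3, 2, 1, 2, 0, 1, 2, 3, 1, 2, 0, 1, 2], [3, 0, 1, 2, 1], [1, 2, 3, 2, 1, 2, 0, 1, 2, 3, 1, 2, 0, 1, 2, 1], [2, 1, 2, 3, 0, 1, 2, 0, 1], [2, 3, 2, 1, 2, 0, 1, 2, 3, 1, 2, 0, 1, 2, 1], [2, 1, 2, 3, 0, 1, 2, 1],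
  [1, 2, 0, 1, 2, 3, 1, 2, 0, 1, 2, 1, 0], [2, 1, 2, 3, 2, 0, 1, 2, 1, 0], [1, 2, 0, 1, 2, 3, 1, 2, 0, 1, 2, 0], [3, 2, 0, 1, 2, 1, 0], [2, 1, 2, 3, 2, 0, 1, 2, 0], [3, 2, 0, 1, 2, 0], [1, 2, 3, 2, 1, 2, 0, 1, 2, 3, 2, 1, 2, 0, 1, 2, 1, 0], [2, 1, 2, 3, 2, 0, 1, 2, 0, 1, 0],
  [1, 2, 3, 2, 1, 2, 0, 1, 2, 3, 2, 1, 2, 0, 1, 2, 0], [3, 2, 0, 1, 2, 0, 1, 0], [1, 2, 3, 2, 1, 2, 0, 1, 2, 3, 2, 1, 2, 0, 1, 2, 0, 1, 0], [1, 2, 0, 1, 2, 3, 1, 2, 0, 1, 2, 0, 1, 0], [1, 2, 3, 2, 1, 2, 0, 1, 2, 3, 2, 1, 2, 0, 1, 2, 0, 1], [1, 2, 0, 1, 2, 3, 1, 2, 0, 1, 2, 0, 1], [1, 2, 3, 2, 1, 2, 0, 1, 2, 3, 2, 1, 2, 0, 1, 2], [3, 2, 0, 1, 2, 0, 1],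
  [1, 2, 3, 2, 1, 2, 0, 1, 2, 3, 2, 1, 2, 0, 1, 2, 1], [2, 1, 2, 3, 2, 0, 1, 2, 0, 1], [2, 1, 2, 3, 2, 0, 1, 2], [3, 2, 0, 1, 2], [1, 2, 0, 1, 2, 3, 1, 2, 0, 1, 2], [3, 2, 0, 1, 2, 1], [1, 2, 0, 1, 2, 3, 1, 2, 0, 1, 2, 1], [2, 1, 2, 3, 2, 0, 1, 2, 1],
  [2, 0, 1, 2, 3, 1, 2, 0, 1, 2, 1, 0], [2, 1, 2, 3, 1, 2, 0, 1, 2, 1, 0], [2, 0, 1, 2, 3, 1, 2, 0, 1, 2, 0], [3, 1, 2, 0, 1, 2, 1, 0], [2, 1, 2, 3, 1, 2, 0, 1, 2, 0], [3, 1, 2, 0, 1, 2, 0], [2, 3, 2, 1, 2, 0, 1, 2, 3, 2, 1, 2, 0, 1, 2, 1, 0], [2, 1, 2, 3, 1, 2, 0, 1, 2, 0, 1, 0],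
  [2, 3, 2, 1, 2, 0, 1, 2, 3, 2, 1, 2, 0, 1, 2, 0], [3, 1, 2, 0, 1, 2, 0, 1, 0], [2, 3, 2, 1, 2, 0, 1, 2, 3, 2, 1, 2, 0, 1, 2, 0, 1, 0], [2, 0, 1, 2, 3, 1, 2, 0, 1, 2, 0, 1, 0], [2, 3, 2, 1, 2, 0, 1, 2, 3, 2, 1, 2, 0, 1, 2, 0, 1], [2, 0, 1, 2, 3, 1, 2, 0, 1, 2, 0, 1], [2, 3, 2, 1, 2, 0, 1, 2, 3, 2, 1, 2, 0, 1, 2], [3, 1, 2, 0, 1, 2, 0, 1],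
  [2, 3, 2, 1, 2, 0, 1, 2, 3, 2, 1, 2, 0, 1, 2, 1], [2, 1, 2, 3, 1, 2, 0, 1, 2, 0, 1], [2, 1, 2, 3, 1, 2, 0, 1, 2], [3, 1, 2, 0, 1, 2], [2, 0, 1, 2, 3, 1, 2, 0, 1, 2], [3, 1, 2, 0, 1, 2, 1], [2, 0, 1, 2, 3, 1, 2, 0, 1, 2, 1], [2, 1, 2, 3, 1, 2, 0, 1, 2, 1],
  [0, 1, 2, 3, 1, 2, 0, 1, 2, 1, 0], [1, 2, 3, 1, 2, 0, 1, 2, 1, 0], [0, 1, 2, 3, 1, 2, 0, 1, 2, 0], [2, 3, 1, 2, 0, 1, 2, 1, 0], [1, 2, 3, 1, 2, 0, 1, 2, 0], [2, 3, 1, 2, 0, 1, 2, 0], [3, 2, 1, 2, 0, 1, 2, 3, 2, 1, 2, 0, 1, 2, 1, 0], [1, 2, 3, 1, 2, 0, 1, 2, 0, 1, 0],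
  [3, 2, 1, 2, 0, 1, 2, 3, 2, 1, 2, 0, 1, 2, 0], [2, 3, 1, 2, 0, 1, 2, 0, 1, 0], [3, 2, 1, 2, 0, 1, 2, 3, 2, 1, 2, 0, 1, 2, 0, 1, 0], [0, 1, 2, 3, 1, 2, 0, 1, 2, 0, 1, 0], [3, 2, 1, 2, 0, 1, 2, 3, 2, 1, 2, 0, 1, 2, 0, 1], [0, 1, 2, 3, 1, 2, 0, 1, 2, 0, 1], [3, 2, 1, 2, 0, 1, 2, 3, 2, 1, 2, 0, 1, 2], [2, 3, 1, 2, 0, 1, 2, 0, 1],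
  [3, 2, 1, 2, 0, 1, 2, 3, 2, 1, 2, 0, 1, 2, 1], [1, 2, 3, 1, 2, 0, 1, 2, 0, 1], [1, 2, 3, 1, 2, 0, 1, 2], [2, 3, 1, 2, 0, 1, 2], [0, 1, 2, 3, 1, 2, 0, 1, 2], [2, 3, 1, 2, 0, 1, 2, 1], [0, 1, 2, 3, 1, 2, 0, 1, 2, 1], [1, 2, 3, 1, 2, 0, 1, 2, 1],
  [1, 2, 3, 1, 2, 0, 1, 2, 3, 0, 1, 2, 1, 0], [2, 3, 1, 2, 0, 1, 2, 3, 0, 1, 2, 1, 0], [0, 1, 2, 3, 1, 2, 0, 1, 2, 3, 0, 1, 2, 1, 0], [2, 3, 1, 2, 0, 1, 2, 3, 0, 1, 2, 0, 1, 0], [0, 1, 2, 3, 1, 2, 0, 1, 2, 3, 0, 1, 2, 0, 1, 0], [1, 2, 3, 1, 2, 0, 1, 2, 3, 0, 1, 2, 0, 1, 0], [1, 2, 3, 1, 2, 0, 1, 2, 3, 0, 1, 2, 0], [1, 0],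
  [2, 3, 1, 2, 0, 1, 2, 3, 0, 1, 2, 0], [0], [0, 1, 2, 3, 1, 2, 0, 1, 2, 3, 0, 1, 2, 0], [0, 1, 0], [0, 1, 2, 3, 1, 2, 0, 1, 2, 3, 0, 1, 2], [0, 1], [2, 3, 1, 2, 0, 1, 2, 3, 0, 1, 2], [],
  [1, 2, 3, 1, 2, 0, 1, 2, 3, 0, 1, 2], [1], [0, 1, 2, 3, 1, 2, 0, 1, 2, 3, 0, 1, 2, 0, 1], [1, 2, 3, 1, 2, 0, 1, 2, 3, 0, 1, 2, 0, 1], [0, 1, 2, 3, 1, 2, 0, 1, 2, 3, 0, 1, 2, 1], [2, 3, 1, 2, 0, 1, 2, 3, 0, 1, 2, 0, 1], [1, 2, 3, 1, 2, 0, 1, 2, 3, 0, 1, 2, 1], [2, 3, 1, 2, 0, 1, 2, 3, 0, 1, 2, 1],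
  [1, 2, 3, 1, 2, 0, 1, 2, 3, 2, 0, 1, 2, 1, 0], [3, 1, 2, 0, 1, 2, 3, 0, 1, 2, 1, 0], [0, 1, 2, 3, 1, 2, 0, 1, 2, 3, 2, 0, 1, 2, 1, 0], [3, 1, 2, 0, 1, 2, 3, 0, 1, 2, 0, 1, 0], [0, 1, 2, 3, 1, 2, 0, 1, 2, 3, 2, 0, 1, 2, 0, 1, 0], [1, 2, 3, 1, 2, 0, 1, 2, 3, 2, 0, 1, 2, 0, 1, 0], [1, 2, 3, 1, 2, 0, 1, 2, 3, 2, 0, 1, 2, 0], [2, 1, 0],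
  [3, 1, 2, 0, 1, 2, 3, 0, 1, 2, 0], [2, 0], [0, 1, 2, 3, 1, 2, 0, 1, 2, 3, 2, 0, 1, 2, 0], [2, 0, 1, 0], [0, 1, 2, 3, 1, 2, 0, 1, 2, 3, 2, 0, 1, 2], [2, 0, 1], [3, 1, 2, 0, 1, 2, 3, 0, 1, 2], [2],
  [1, 2, 3, 1, 2, 0, 1, 2, 3, 2, 0, 1, 2], [2, 1], [0, 1, 2, 3, 1, 2, 0, 1, 2, 3, 2, 0, 1, 2, 0, 1], [1, 2, 3, 1, 2, 0, 1, 2, 3, 2, 0, 1, 2, 0, 1], [0, 1, 2, 3, 1, 2, 0, 1, 2, 3, 2, 0, 1, 2, 1], [3, 1, 2, 0, 1, 2, 3, 0, 1, 2, 0, 1], [1, 2, 3, 1, 2, 0, 1, 2, 3, 2, 0, 1, 2, 1], [3, 1, 2, 0, 1, 2, 3, 0, 1, 2, 1],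
  [2, 3, 1, 2, 0, 1, 2, 3, 2, 0, 1, 2, 1, 0], [3, 2, 0, 1, 2, 3, 0, 1, 2, 1, 0], [0, 1, 2, 3, 1, 2, 0, 1, 2, 3, 1, 2, 0, 1, 2, 1, 0], [3, 2, 0, 1, 2, 3, 0, 1, 2, 0, 1, 0], [0, 1, 2, 3, 1, 2, 0, 1, 2, 3, 1, 2, 0, 1, 2, 0, 1, 0], [2, 3, 1, 2, 0, 1, 2, 3, 2, 0, 1, 2, 0, 1, 0], [2, 3, 1, 2, 0, 1, 2, 3, 2, 0, 1, 2, 0], [1, 2, 1, 0],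
  [3, 2, 0, 1, 2, 3, 0, 1, 2, 0], [1, 2, 0], [0, 1, 2, 3, 1, 2, 0, 1, 2, 3, 1, 2, 0, 1, 2, 0], [1, 2, 0, 1, 0], [0, 1, 2, 3, 1, 2, 0, 1, 2, 3, 1, 2, 0, 1, 2], [1, 2, 0, 1], [3, 2, 0, 1, 2, 3, 0, 1, 2], [1, 2],
  [2, 3, 1, 2, 0, 1, 2, 3, 2, 0, 1, 2], [1, 2, 1], [0, 1, 2, 3, 1, 2, 0, 1, 2, 3, 1, 2, 0, 1, 2, 0, 1], [2, 3, 1, 2, 0, 1, 2, 3, 2, 0, 1, 2, 0, 1], [0, 1, 2, 3, 1, 2, 0, 1, 2, 3, 1, 2, 0, 1, 2, 1], [3, 2, 0, 1, 2, 3, 0, 1, 2, 0, 1], [2, 3, 1, 2, 0, 1, 2, 3, 2, 0, 1, 2, 1], [3, 2, 0, 1, 2, 3, 0, 1, 2, 1],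
  [3, 1, 2, 0, 1, 2, 3, 2, 0, 1, 2, 1, 0], [3, 2, 0, 1, 2, 3, 2, 0, 1, 2, 1, 0], [0, 1, 2, 3, 1, 2, 0, 1, 2, 3, 2, 1, 2, 0, 1, 2, 1, 0], [3, 2, 0, 1, 2, 3, 2, 0, 1, 2, 0, 1, 0], [0, 1, 2, 3, 1, 2, 0, 1, 2, 3, 2, 1, 2, 0, 1, 2, 0, 1, 0], [3, 1, 2, 0, 1, 2, 3, 2, 0, 1, 2, 0, 1, 0], [3, 1, 2, 0, 1, 2, 3, 2, 0, 1, 2, 0], [2, 1, 2, 1, 0],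
  [3, 2, 0, 1, 2, 3, 2, 0, 1, 2, 0], [2, 1, 2, 0], [0, 1, 2, 3, 1, 2, 0, 1, 2, 3, 2, 1, 2, 0, 1, 2, 0], [2, 1, 2, 0, 1, 0], [0, 1, 2, 3, 1, 2, 0, 1, 2, 3, 2, 1, 2, 0, 1, 2], [2, 1, 2, 0, 1], [3, 2, 0, 1, 2, 3, 2, 0, 1, 2], [2, 1, 2],
  [3, 1, 2, 0, 1, 2, 3, 2, 0, 1, 2], [2, 1, 2, 1], [0, 1, 2, 3, 1, 2, 0, 1, 2, 3, 2, 1, 2, 0, 1, 2, 0, 1], [3, 1, 2, 0, 1, 2, 3, 2, 0, 1, 2, 0, 1], [0, 1, 2, 3, 1, 2, 0, 1, 2, 3, 2, 1, 2, 0, 1, 2, 1], [3, 2, 0, 1, 2, 3, 2, 0, 1, 2, 0, 1], [3, 1, 2, 0, 1, 2, 3, 2, 0, 1, 2, 1], [3, 2, 0, 1, 2, 3, 2, 0, 1, 2, 1],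
  [2, 3, 1, 2, 0, 1, 2, 3, 1, 2, 0, 1, 2, 1, 0], [3, 2, 1, 2, 3, 0, 1, 2, 1, 0], [1, 2, 3, 1, 2, 0, 1, 2, 3, 1, 2, 0, 1, 2, 1, 0], [3, 2, 1, 2, 3, 0, 1, 2, 0, 1, 0], [1, 2, 3, 1, 2, 0, 1, 2, 3, 1, 2, 0, 1, 2, 0, 1, 0], [2, 3, 1, 2, 0, 1, 2, 3, 1, 2, 0, 1, 2, 0, 1, 0], [2, 3, 1, 2, 0, 1, 2, 3, 1, 2, 0, 1, 2, 0], [0, 1, 2, 1, 0],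
  [1, 2, 3, 1, 2, 0, 1, 2, 3, 1, 2, 0, 1, 2, 0], [0, 1, 2, 0, 1, 0], [3, 2, 1, 2, 3, 0, 1, 2, 0], [0, 1, 2, 0], [3, 2, 1, 2, 3, 0, 1, 2], [0, 1, 2], [1, 2, 3, 1, 2, 0, 1, 2, 3, 1, 2, 0, 1, 2], [0, 1, 2, 0, 1],
  [2, 3, 1, 2, 0, 1, 2, 3, 1, 2, 0, 1, 2], [0, 1, 2, 1], [1, 2, 3, 1, 2, 0, 1, 2, 3, 1, 2, 0, 1, 2, 0, 1], [2, 3, 1, 2, 0, 1, 2, 3, 1, 2, 0, 1, 2, 0, 1], [1, 2, 3, 1, 2, 0, 1, 2, 3, 1, 2, 0, 1, 2, 1], [3, 2, 1, 2, 3, 0, 1, 2, 0, 1], [2, 3, 1, 2, 0, 1, 2, 3, 1, 2, 0, 1, 2, 1], [3, 2, 1, 2, 3, 0, 1, 2, 1],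
  [3, 1, 2, 0, 1, 2, 3, 1, 2, 0, 1, 2, 1, 0], [3, 2, 1, 2, 3, 2, 0, 1, 2, 1, 0], [1, 2, 3, 1, 2, 0, 1, 2, 3, 2, 1, 2, 0, 1, 2, 1, 0], [3, 2, 1, 2, 3, 2, 0, 1, 2, 0, 1, 0], [1, 2, 3, 1, 2, 0, 1, 2, 3, 2, 1, 2, 0, 1, 2, 0, 1, 0], [3, 1, 2, 0, 1, 2, 3, 1, 2, 0, 1, 2, 0, 1, 0], [3, 1, 2, 0, 1, 2, 3, 1, 2, 0, 1, 2, 0], [2, 0, 1, 2, 1, 0],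
  [1, 2, 3, 1, 2, 0, 1, 2, 3, 2, 1, 2, 0, 1, 2, 0], [2, 0, 1, 2, 0, 1, 0], [3, 2, 1, 2, 3, 2, 0, 1, 2, 0], [2, 0, 1, 2, 0], [3, 2, 1, 2, 3, 2, 0, 1, 2], [2, 0, 1, 2], [1, 2, 3, 1, 2, 0, 1, 2, 3, 2, 1, 2, 0, 1, 2], [2, 0, 1, 2, 0, 1],
  [3, 1, 2, 0, 1, 2, 3, 1, 2, 0, 1, 2], [2, 0, 1, 2, 1], [1, 2, 3, 1, 2, 0, 1, 2, 3, 2, 1, 2, 0, 1, 2, 0, 1], [3, 1, 2, 0, 1, 2, 3, 1, 2, 0, 1, 2, 0, 1], [1, 2, 3, 1, 2, 0, 1, 2, 3, 2, 1, 2, 0, 1, 2, 1], [3, 2, 1, 2, 3, 2, 0, 1, 2, 0, 1], [3, 1, 2, 0, 1, 2, 3, 1, 2, 0, 1, 2, 1], [3, 2, 1, 2, 3, 2, 0, 1, 2, 1],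
  [3, 2, 0, 1, 2, 3, 1, 2, 0, 1, 2, 1, 0], [3, 2, 1, 2, 3, 1, 2, 0, 1, 2, 1, 0], [2, 3, 1, 2, 0, 1, 2, 3, 2, 1, 2, 0, 1, 2, 1, 0], [3, 2, 1, 2, 3, 1, 2, 0, 1, 2, 0, 1, 0], [2, 3, 1, 2, 0, 1, 2, 3, 2, 1, 2, 0, 1, 2, 0, 1, 0], [3, 2, 0, 1, 2, 3, 1, 2, 0, 1, 2, 0, 1, 0], [3, 2, 0, 1, 2, 3, 1, 2, 0, 1, 2, 0], [1, 2, 0, 1, 2, 1, 0],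
  [2, 3, 1, 2, 0, 1, 2, 3, 2, 1, 2, 0, 1, 2, 0], [1, 2, 0, 1, 2, 0, 1, 0], [3, 2, 1, 2, 3, 1, 2, 0, 1, 2, 0], [1, 2, 0, 1, 2, 0], [3, 2, 1, 2, 3, 1, 2, 0, 1, 2], [1, 2, 0, 1, 2], [2, 3, 1, 2, 0, 1, 2, 3, 2, 1, 2, 0, 1, 2], [1, 2, 0, 1, 2, 0, 1],
  [3, 2, 0, 1, 2, 3, 1, 2, 0, 1, 2], [1, 2, 0, 1, 2, 1], [2, 3, 1, 2, 0, 1, 2, 3, 2, 1, 2, 0, 1, 2, 0, 1], [3, 2, 0, 1, 2, 3, 1, 2, 0, 1, 2, 0, 1], [2, 3, 1, 2, 0, 1, 2, 3, 2, 1, 2, 0, 1, 2, 1], [3, 2, 1, 2, 3, 1, 2, 0, 1, 2, 0, 1], [3, 2, 0, 1, 2, 3, 1, 2, 0, 1, 2, 1], [3, 2, 1, 2, 3, 1, 2, 0, 1, 2, 1],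
  [0, 1, 2, 3, 2, 1, 2, 0, 1, 2, 1, 0], [1, 2, 3, 2, 1, 2, 0, 1, 2, 1, 0], [0, 1, 2, 3, 2, 1, 2, 0, 1, 2, 0], [2, 3, 2, 1, 2, 0, 1, 2, 1, 0], [2, 1, 2, 0, 1, 2, 3, 2, 1, 2, 0, 1, 2, 1, 0], [1, 2, 3, 2, 1, 2, 0, 1, 2, 0, 1, 0], [2, 1, 2, 0, 1, 2, 3, 2, 1, 2, 0, 1, 2, 0], [2, 3, 2, 1, 2, 0, 1, 2, 0, 1, 0],
  [1, 2, 3, 2, 1, 2, 0, 1, 2, 0], [2, 3, 2, 1, 2, 0, 1, 2, 0], [2, 1, 2, 0, 1, 2, 3, 2, 1, 2, 0, 1, 2, 0, 1, 0], [0, 1, 2, 3, 2, 1, 2, 0, 1, 2, 0, 1, 0], [2, 1, 2, 0, 1, 2, 3, 2, 1, 2, 0, 1, 2, 0, 1], [0, 1, 2, 3, 2, 1, 2, 0, 1, 2, 0, 1], [1, 2, 3, 2, 1, 2, 0, 1, 2], [2, 3, 2, 1, 2, 0, 1, 2],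
  [2, 1, 2, 0, 1, 2, 3, 2, 1, 2, 0, 1, 2], [2, 3, 2, 1, 2, 0, 1, 2, 0, 1], [2, 1, 2, 0, 1, 2, 3, 2, 1, 2, 0, 1, 2, 1], [1, 2, 3, 2, 1, 2, 0, 1, 2, 0, 1], [0, 1, 2, 3, 2, 1, 2, 0, 1, 2], [2, 3, 2, 1, 2, 0, 1, 2, 1], [0, 1, 2, 3, 2, 1, 2, 0, 1, 2, 1], [1, 2, 3, 2, 1, 2, 0, 1, 2, 1],
  [3, 2, 0, 1, 2, 3, 2, 1, 2, 0, 1, 2, 1, 0], [3, 2, 1, 2, 3, 2, 1, 2, 0, 1, 2, 1, 0], [3, 1, 2, 0, 1, 2, 3, 2, 1, 2, 0, 1, 2, 1, 0], [3, 2, 1, 2, 3, 2, 1, 2, 0, 1, 2, 0, 1, 0], [3, 1, 2, 0, 1, 2, 3, 2, 1, 2, 0, 1, 2, 0, 1, 0], [3, 2, 0, 1, 2, 3, 2, 1, 2, 0, 1, 2, 0, 1, 0], [3, 2, 0, 1, 2, 3, 2, 1, 2, 0, 1, 2, 0], [2, 1, 2, 0, 1, 2, 1, 0],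
  [3, 1, 2, 0, 1, 2, 3, 2, 1, 2, 0, 1, 2, 0], [2, 1, 2, 0, 1, 2, 0, 1, 0], [3, 2, 1, 2, 3, 2, 1, 2, 0, 1, 2, 0], [2, 1, 2, 0, 1, 2, 0], [3, 2, 1, 2, 3, 2, 1, 2, 0, 1, 2], [2, 1, 2, 0, 1, 2], [3, 1, 2, 0, 1, 2, 3, 2, 1, 2, 0, 1, 2], [2, 1, 2, 0, 1, 2, 0, 1],
  [3, 2, 0, 1, 2, 3, 2, 1, 2, 0, 1, 2], [2, 1, 2, 0, 1, 2, 1], [3, 1, 2, 0, 1, 2, 3, 2, 1, 2, 0, 1, 2, 0, 1], [3, 2, 0, 1, 2, 3, 2, 1, 2, 0, 1, 2, 0, 1], [3, 1, 2, 0, 1, 2, 3, 2, 1, 2, 0, 1, 2, 1], [3, 2, 1, 2, 3, 2, 1, 2, 0, 1, 2, 0, 1], [3, 2, 0, 1, 2, 3, 2, 1, 2, 0, 1, 2, 1], [3, 2, 1, 2, 3, 2, 1, 2, 0, 1, 2, 1],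
  [2, 0, 1, 2, 3, 2, 1, 2, 0, 1, 2, 1, 0], [2, 1, 2, 3, 2, 1, 2, 0, 1, 2, 1, 0], [1, 2, 0, 1, 2, 3, 2, 1, 2, 0, 1, 2, 1, 0], [2, 1, 2, 3, 2, 1, 2, 0, 1, 2, 0, 1, 0], [2, 0, 1, 2, 3, 2, 1, 2, 0, 1, 2, 0], [3, 2, 1, 2, 0, 1, 2, 1, 0], [1, 2, 0, 1, 2, 3, 2, 1, 2, 0, 1, 2, 0], [3, 2, 1, 2, 0, 1, 2, 0, 1, 0],
  [1, 2, 0, 1, 2, 3, 2, 1, 2, 0, 1, 2, 0, 1, 0], [2, 0, 1, 2, 3, 2, 1, 2, 0, 1, 2, 0, 1, 0], [2, 1, 2, 3, 2, 1, 2, 0, 1, 2, 0], [3, 2, 1, 2, 0, 1, 2, 0], [2, 1, 2, 3, 2, 1, 2, 0, 1, 2], [3, 2, 1, 2, 0, 1, 2], [1, 2, 0, 1, 2, 3, 2, 1, 2, 0, 1, 2, 0, 1], [2, 0, 1, 2, 3, 2, 1, 2, 0, 1, 2, 0, 1],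
  [1, 2, 0, 1, 2, 3, 2, 1, 2, 0, 1, 2], [3, 2, 1, 2, 0, 1, 2, 0, 1], [2, 0, 1, 2, 3, 2, 1, 2, 0, 1, 2], [3, 2, 1, 2, 0, 1, 2, 1], [1, 2, 0, 1, 2, 3, 2, 1, 2, 0, 1, 2, 1], [2, 1, 2, 3, 2, 1, 2, 0, 1, 2, 0, 1], [2, 0, 1, 2, 3, 2, 1, 2, 0, 1, 2, 1], [2, 1, 2, 3, 2, 1, 2, 0, 1, 2, 1]]

/-- the numbers of positive roots made negative -/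
def expsE6 : List ℕ := [21, 20, 22, 21, 20, 15, 21, 16, 23, 22, 19, 14, 18, 13, 22, 21, 20, 15, 19, 14, 21, 20, 20, 19, 23, 22, 24, 23, 25, 24, 22, 13, 23, 14, 21, 12, 20, 11, 22, 13, 21, 12, 24, 23, 23, 22, 22, 21, 19, 18, 18, 17, 24, 19, 23, 18, 17, 16, 25, 20, 24, 19, 16, 15, 22, 17, 23, 18, 17, 16, 18, 17, 21, 20, 26, 21, 27, 22, 20, 11, 25, 12, 19, 10, 18, 9, 24, 11, 19, 10, 26, 21, 25, 20, 20, 19, 22, 19, 27, 20, 28, 23, 21, 10, 26, 11, 18, 9, 17, 8, 25, 10, 20, 9, 27, 22, 26, 19, 21, 18, 24, 17, 25, 18, 26, 25, 23, 8, 24, 9, 16, 7, 15, 6, 23, 8, 22, 7, 25, 24, 24, 17, 23, 16, 21, 20, 28, 21, 29, 22, 20, 9, 19, 8, 27, 10, 26, 9, 18, 7, 19, 8, 28,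 21, 27, 20, 20, 19, 23, 18, 26, 19, 27, 24, 22, 7, 17, 6, 25, 8, 24, 7, 16, 5, 21, 6, 26, 23, 25, 18, 22, 17, 24, 19, 25, 20, 26, 25, 23, 6, 18, 5, 24, 7, 23, 6, 17, 4, 22, 5, 25, 24, 24, 19, 23, 18, 22, 21, 23, 22, 24, 23, 21, 4, 20, 3, 22, 5, 21, 4, 19, 2, 20, 3, 23, 22, 22, 21, 21, 20, 17, 16, 16, 15, 15, 14, 26, 17, 25, 16, 27, 18, 26, 17, 24, 15, 25, 16, 14, 13, 15, 14, 16, 15, 19, 18, 18, 13, 17, 12, 28, 19, 27, 14, 29, 20, 28, 19, 26, 13, 27, 18, 16, 11, 17, 12, 18, 17, 20, 17, 19, 12, 16, 11, 29, 18, 28, 13, 30, 21, 29, 20, 27, 12, 28, 17, 15, 10, 18, 11, 19, 16, 26, 15, 27, 16, 25, 10, 26, 11, 28, 27, 14, 9, 13, 8, 27, 26, 25, 10, 24, 9, 26,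 15, 25, 14, 22, 15, 21, 14, 14, 13, 31, 16, 30, 15, 32, 23, 31, 22, 29, 14, 30, 15, 13, 12, 20, 13, 21, 14, 24, 13, 23, 12, 29, 14, 28, 13, 12, 11, 30, 25, 29, 24, 11, 10, 27, 12, 28, 13, 22, 11, 23, 12, 19, 18, 18, 11, 17, 10, 30, 19, 31, 20, 29, 12, 28, 11, 30, 19, 29, 18, 16, 9, 17, 10, 18, 17, 25, 16, 28, 17, 24, 9, 27, 10, 29, 26, 15, 8, 14, 7, 28, 25, 26, 9, 23, 8, 27, 16, 24, 15, 26, 17, 27, 18, 25, 8, 26, 9, 28, 27, 16, 7, 15, 6, 27, 26, 25, 8, 24, 7, 26, 17, 25, 16, 21, 16, 20, 13, 15, 12, 32, 17, 33, 22, 31, 14, 30, 13, 32, 21, 31, 16, 14, 11, 19, 12, 20, 15, 23, 14, 22, 11, 30, 15, 29, 12, 13, 10, 31, 24, 30, 23, 12, 9, 28, 11, 29, 14, 21,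 10, 22, 13, 20, 15, 19, 14, 14, 13, 33, 16, 34, 21, 32, 15, 31, 14, 33, 20, 32, 15, 13, 12, 18, 13, 19, 14, 22, 13, 21, 12, 31, 14, 30, 13, 12, 11, 32, 23, 31, 22, 11, 10, 29, 12, 30, 13, 20, 11, 21, 12, 18, 17, 17, 16, 16, 15, 35, 18, 36, 19, 34, 17, 33, 16, 35, 18, 34, 17, 15, 14, 16, 15, 17, 16, 16, 15, 15, 14, 14, 13, 33, 16, 34, 17, 32, 15, 31, 14, 33, 16, 32, 15, 13, 12, 14, 13, 15, 14, 20, 11, 19, 10, 29, 12, 28, 11, 10, 9, 30, 21, 29, 20, 9, 8, 27, 10, 28, 11, 18, 9, 19, 10, 18, 13, 17, 12, 12, 11, 31, 14, 32, 19, 30, 13, 29, 12, 31, 18, 30, 13, 11, 10, 16, 11, 17, 12, 21, 12, 20, 9, 28, 13, 27, 10, 11, 8, 29, 22, 28, 21, 10, 7, 26, 9, 27, 12,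 19, 8, 20, 11, 19, 14, 18, 11, 13, 10, 30, 15, 31, 20, 29, 12, 28, 11, 30, 19, 29, 14, 12, 9, 17, 10, 18, 13, 24, 15, 25, 16, 23, 6, 24, 7, 26, 25, 14, 5, 13, 4, 25, 24, 23, 6, 22, 5, 24, 15, 23, 14, 23, 14, 26, 15, 22, 7, 25, 8, 27, 24, 13, 6, 12, 5, 26, 23, 24, 7, 21, 6, 25, 14, 22, 13, 17, 16, 16, 9, 15, 8, 28, 17, 29, 18, 27, 10, 26, 9, 28, 17, 27, 16, 14, 7, 15, 8, 16, 15, 22, 11, 21, 10, 27, 12, 26, 11, 10, 9, 28, 23, 27, 22, 9, 8, 25, 10, 26, 11, 20, 9, 21, 10, 20, 13, 19, 12, 12, 11, 29, 14, 28, 13, 30, 21, 29, 20, 27, 12, 28, 13, 11, 10, 18, 11, 19, 12, 24, 13, 25, 14, 23, 8, 24, 9, 26, 25, 12, 7, 11, 6, 25, 24, 23, 8, 22, 7, 24, 13, 23, 12,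 18, 15, 17, 10, 14, 9, 27, 16, 26, 11, 28, 19, 27, 18, 25, 10, 26, 15, 13, 8, 16, 9, 17, 14, 17, 16, 16, 11, 15, 10, 26, 17, 25, 12, 27, 18, 26, 17, 24, 11, 25, 16, 14, 9, 15, 10, 16, 15, 15, 14, 14, 13, 13, 12, 24, 15, 23, 14, 25, 16, 24, 15, 22, 13, 23, 14, 12, 11, 13, 12, 14, 13, 20, 19, 21, 20, 22, 21, 19, 2, 18, 1, 20, 3, 19, 2, 17, 0, 18, 1, 21, 20, 20, 19, 19, 18, 22, 17, 23, 18, 24, 23, 21, 4, 16, 3, 22, 5, 21, 4, 15, 2, 20, 3, 23, 22, 22, 17, 21, 16, 21, 16, 24, 17, 25, 22, 20, 5, 15, 4, 23, 6, 22, 5, 14, 3, 19, 4, 24, 21, 23, 16, 20, 15, 19, 18, 26, 19, 27, 20, 18, 7, 17, 6, 25, 8, 24, 7, 16, 5, 17, 6, 26, 19, 25, 18, 18, 17, 22, 15, 23, 16,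 24, 23, 21, 6, 22, 7, 14, 5, 13, 4, 21, 6, 20, 5, 23, 22, 22, 15, 21, 14, 20, 17, 25, 18, 26, 21, 19, 8, 24, 9, 16, 7, 15, 6, 23, 8, 18, 7, 25, 20, 24, 17, 19, 16, 19, 18, 24, 19, 25, 20, 18, 9, 23, 10, 17, 8, 16, 7, 22, 9, 17, 8, 24, 19, 23, 18, 18, 17, 17, 16, 16, 15, 22, 17, 21, 16, 15, 14, 23, 18, 22, 17, 14, 13, 20, 15, 21, 16, 15, 14, 16, 15, 21, 20, 22, 21, 23, 22, 20, 11, 21, 12, 19, 10, 18, 9, 20, 11, 19, 10, 22, 21, 21, 20, 20, 19, 19, 18, 20, 19, 18, 13, 19, 14, 21, 20, 17, 12, 16, 11, 20, 19, 18, 13, 17, 12, 19, 18, 18, 17]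

/-- the coefficients of the Poincare polynomial -/
def cntE6 : List ℕ := [1, 2, 4, 6, 9, 13, 17, 22, 26, 32, 37, 43, 47, 51, 55, 58, 61, 61, 62, 61, 61, 58, 55, 51, 47, 43, 37, 32, 26, 22, 17, 13, 9, 6, 4, 2, 1]

theorem chkTabs_E6 : chkTabs chevE6 genE6 tabE6 negTE6 posLE6 = true := by decide +kernel

theorem keyLE6_lt : ∀ s ∈ keyLE6, s < chevE6.nroots := by decide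

theorem wordsE6_inc : chkInc (wordsE6.map (fastKey tabE6 keyLE6)) = true := by decide +kernel

theorem wordsE6_length : wordsE6.length = 1152 := by decide +kernel

theorem wordsE6_exps : wordsE6.map (fastExp tabE6 negTE6 posLE6) = expsE6 := by decide +kernel

theorem expsE6_lt : ∀ e ∈ expsE6, e < 37 := by decide +kernel

theorem expsE6_count : (List.range 37).map (fun k => expsE6.count k) = cntE6 := by decide +kernel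

end Cfsg.Agent.Lib.Helper36
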