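import Cfsg.Agent.Lib.Helper36.ChevTwFix
import Cfsg.Agent.Lib.Helper36.ChevTwD4H

/-! # The fixed points of `σ` (graph automorphism of order 3 times any ring endomorphism `φ`) on `D₄(K)` lie in the
twisted group (helper36) -/

set_option autoImplicit false
set_option linter.unusedSectionVars false

namespace Cfsg.Agent.Lib.Helper36

open Cfsg Cfsg.Lie Cfsg.Agent.Lib.Helper18
open scoped BigOperators

section
variable (K : Type*) [Field K] [Fintype K] (φ : K →+* K)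

/-- units of square one are fixed by ring endomorphisms -/
theorem phiU_of_sq (z : Kˣ) (hz : z ^ 2 = 1) : phiU K φ z = z := by
  apply Units.ext
  have h5 : ((z : Kˣ) : K) ^ 2 = 1 := by
    have := congrArg (fun u : Kˣ => (u : K)) hz
    simpa using this
  show φ ((z : Kˣ) : K) = ((z : Kˣ) : K)
  rcases sq_eq_one_iff.1 h5 with h | h
  · rw [h, map_one]
  · rw [h, map_neg, map_one]

/-- the kernel of the torus of `D₄` -/
theorem ker_D4 (z : Fin 4 → Kˣ) (hk : monoMap (cartanMat chevD4) (ofF4 z) = 1) :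
    z 1 = 1 ∧ z 0 ^ 2 = 1 ∧ z 2 ^ 2 = 1 ∧ z 3 ^ 2 = 1 ∧ z 0 * z 2 * z 3 = 1 := by
  have e : ∀ k : Fin 4, ∏ j : Fin 4, z j ^ ((fun j k : Fin 4 => cartanMat chevD4 j k) j k) = 1 :=
    fun k => congrFun hk k
  rw [cartanMat_D4] at e
  have e0 := e 0
  have e1 := e 1
  have e2 := e 2
  have e3 := e 3
  simp [Fin.prod_univ_four] at e0 e1 e2 e3
  have f0 : z 0 ^ 2 = z 1 := by rw [← mul_inv_eq_one]; exact e0
  have f2 : z 2 ^ 2 = z 1 := by rw [← mul_inv_eq_one, mul_comm]; exact e2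
  have f3 : z 3 ^ 2 = z 1 := by rw [← mul_inv_eq_one, mul_comm]; exact e3
  have f1 : z 1 ^ 2 = z 0 * z 2 * z 3 := by
    have : z 1 ^ 2 * (z 0 * z 2 * z 3)⁻¹ = 1 := by
      rw [← e1]; simp only [mul_inv_rev]; ac_rfl
    exact mul_inv_eq_one.1 this
  have g1 : z 1 = 1 := by
    have h4 : z 1 ^ 4 = z 1 ^ 3 := by
      calc z 1 ^ 4 = (z 1 ^ 2) ^ 2 := by rw [← pow_mul]
        _ = z 0 ^ 2 * z 2 ^ 2 * z 3 ^ 2 := by rw [f1, mul_pow, mul_pow]
        _ = z 1 ^ 3 := by rw [f0, f2, f3]; simp only [pow_succ, pow_zero, one_mul]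
    have : z 1 ^ 3 * z 1 = z 1 ^ 3 * 1 := by rw [mul_one, ← pow_succ]; exact h4
    exact mul_left_cancel this
  rw [g1] at f0 f2 f3 f1
  rw [one_pow] at f1
  exact ⟨g1, f0, f2, f3, f1.symm⟩

/-- elements of the kernel of the torus of `D₄` -/
theorem mem_ker_D4 (w : Fin 4 → Kˣ) (h1 : w 1 = 1) (h0 : w 0 ^ 2 = 1) (h2 : w 2 ^ 2 = 1) (h3 : w 3 ^ 2 = 1)
    (hp : w 0 * w 2 * w 3 = 1) : torusHom chevD4 K (ofF4 w) = 1 := by
  rw [← MonoidHom.mem_ker, torusHom_ker chevD4 hD4 K, MonoidHom.mem_ker]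
  funext k
  have e : ∀ k : Fin 4, ∏ j : Fin 4, w j ^ ((fun j k : Fin 4 => cartanMat chevD4 j k) j k) = 1 := by
    rw [cartanMat_D4]
    intro k
    fin_cases k
    · simp [Fin.prod_univ_four, h1, h0]
    · simp [Fin.prod_univ_four, h1]
      have : (w 0)⁻¹ * (w 2)⁻¹ * (w 3)⁻¹ = (w 0 * w 2 * w 3)⁻¹ := by
        simp only [mul_inv_rev]; ac_rfl
      rw [this, hp, inv_one]
    · simp [Fin.prod_univ_four, h1, h2]
    · simp [Fin.prod_univ_four, h1, h3]
  exact e k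

/-- the torus part: a `σ`-fixed element of `H` lies in the image of the twisted fixed points of the torus -/
theorem fixed_diag_D4 (h : GL chevD4.Idx K) (hh : h ∈ chevD4.diagonalSubgroup K)
    (hσ : sigma chevD4 graphD4 twOK_D4.hG K φ h = h) :
    h ∈ twDiag chevD4 graphD4 orbsD4 fundD4 stepsD4 twOK_D4 K φ := by
  rw [← torusHom_range chevD4 hD4 K] at hh
  obtain ⟨t, rfl⟩ := hh
  rw [sigma_torusHom chevD4 hD4 graphD4 orbsD4 fundD4 stepsD4 twOK_D4 K φ t] at hσ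
  set t' : Fin chevD4.rank → Kˣ := fun k => phiU K φ (t ((rhoE chevD4 graphD4 twOK_D4.hG).symm k)) with ht'
  have hz : torusHom chevD4 K (t' * t⁻¹) = 1 := by rw [map_mul, map_inv, hσ, mul_inv_cancel]
  rw [← MonoidHom.mem_ker, torusHom_ker chevD4 hD4 K, MonoidHom.mem_ker] at hz
  obtain ⟨z1, z0, z2, z3, zp⟩ := ker_D4 K (toF4 (t' * t⁻¹)) hz
  set a : Fin 4 → Kˣ := toF4 t with ha
  set z : Fin 4 → Kˣ := toF4 (t' * t⁻¹) with hzdef
  have e0 : phiU K φ (a 3) = z 0 * a 0 := by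
    show phiU K φ (a 3) = (phiU K φ (a 3) * (a 0)⁻¹) * a 0
    rw [inv_mul_cancel_right]
  have e1 : phiU K φ (a 1) = z 1 * a 1 := by
    show phiU K φ (a 1) = (phiU K φ (a 1) * (a 1)⁻¹) * a 1
    rw [inv_mul_cancel_right]
  have e2 : phiU K φ (a 0) = z 2 * a 2 := by
    show phiU K φ (a 0) = (phiU K φ (a 0) * (a 2)⁻¹) * a 2
    rw [inv_mul_cancel_right]
  have e3 : phiU K φ (a 2) = z 3 * a 3 := by
    show phiU K φ (a 2) = (phiU K φ (a 2) * (a 3)⁻¹) * a 3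
    rw [inv_mul_cancel_right]
  have p2 := phiU_of_sq K φ (z 2) z2
  have p3 := phiU_of_sq K φ (z 3) z3
  have z02 : z 0 * z 2 = z 3 := by
    have h1 : z 0 * z 2 * z 3 = z 3 * z 3 := by rw [zp, ← pow_two, z3]
    exact mul_right_cancel h1
  set w : Fin 4 → Kˣ := ![z 3, 1, z 2 * z 3, z 2] with hw
  have hwker : torusHom chevD4 K (ofF4 w) = 1 := by
    apply mem_ker_D4 K w
    · rfl
    · exact z3
    · show (z 2 * z 3) ^ 2 = 1
      rw [mul_pow, z2, z3, one_mul]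
    · exact z2
    · show z 3 * (z 2 * z 3) * z 2 = 1
      have : z 3 * (z 2 * z 3) * z 2 = z 2 ^ 2 * z 3 ^ 2 := by
        rw [pow_two, pow_two]; ac_rfl
      rw [this, z2, z3, one_mul]
  have hs : ofF4 (a * w) ∈ Lam chevD4 graphD4 twOK_D4.hG K φ := by
    rw [mem_Lam_D4]
    refine ⟨?_, ?_, ?_, ?_⟩
    · show a 2 * (z 2 * z 3) = phiU K φ (a 0 * z 3)
      rw [map_mul, p3, e2]; ac_rfl
    · show a 1 * 1 = phiU K φ (a 1 * 1)
      rw [mul_one, e1, z1, one_mul]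
    · show a 3 * z 2 = phiU K φ (a 2 * (z 2 * z 3))
      rw [map_mul, map_mul, p2, p3, e3]
      have : z 3 * a 3 * (z 2 * z 3) = a 3 * z 2 * z 3 ^ 2 := by rw [pow_two]; ac_rfl
      rw [this, z3, mul_one]
    · show a 0 * z 3 = phiU K φ (a 3 * z 2)
      rw [map_mul, p2, e0, ← z02]; ac_rfl
  refine ⟨ofF4 (a * w), hs, ?_⟩
  have : ofF4 (a * w) = t * ofF4 w := rfl
  rw [this, map_mul, hwker, mul_one]

/-- fixed points of `σ` on `D₄(K)` lie in the twisted group (for any ring endomorphism `φ` of the finite field `K`,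
in particular for `φ = id`, where `σ` is the triality graph automorphism) -/
theorem fixed_mem_twGroup_D4 (g : GL chevD4.Idx K) (hg : g ∈ chevD4.group K)
    (hσ : sigma chevD4 graphD4 twOK_D4.hG K φ g = g) :
    g ∈ twGroup chevD4 hD4 graphD4 K φ fundD4 := by
  refine fixed_mem_twGroup chevD4 hD4 graphD4 orbsD4 fundD4 stepsD4 twOK_D4 K φ ?_ g hg hσ
  intro h hh hσh
  exact (Subgroup.mem_inf.1 (twDiag_le chevD4 hD4 graphD4 orbsD4 fundD4 stepsD4 twOK_D4 chkFundH_D4 K φ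
    (fixed_diag_D4 K φ h hh hσh))).2

end

end Cfsg.Agent.Lib.Helper36
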