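import Cfsg.Agent.Lib.Helper36.ChevTwU3

/-! # The twisted group generated by the fixed points of the fundamental orbit subgroups (helper36) -/

set_option autoImplicit false

namespace Cfsg.Agent.Lib.Helper36

open Cfsg Cfsg.Lie Cfsg.Agent.Lib.Helper18

section
variable (D : ChevalleyDatum) (hD : D ∈ [chevG2, chevB2, chevD4, chevF4, chevE6, chevE7, chevE8])
variable (G : GraphTab) (hG : GraphOK D G)
variable (F : Type*) [Field F] (φ : F →+* F)

/-- the positive block of fundamental roots of an orbit `J` of nodes -/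
def pBlock (J : List ℕ) : List ℕ := J.map D.simple
/-- the negative block -/
def nBlock (J : List ℕ) : List ℕ := J.map fun j => D.neg (D.simple j)

/-- the generators of the twisted group -/
def twGens (fund : List (List ℕ)) : Set (GL D.Idx F) :=
  {g | ∃ J ∈ fund, ∃ B ∈ [pBlock D J, nBlock D J], ∃ a : ℕ → F, (∀ r ∈ B, a r = tw G F φ a r) ∧
    g = wordGL D hD F (B.map fun r => (r, a r))}

/-- the twisted group -/
def twGroup (fund : List (List ℕ)) : Subgroup (GL D.Idx F) := Subgroup.closure (twGens D hD G F φ fund)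

include hD in
/-- `σ` applied to the product over one block -/
theorem sigma_block' (B : List ℕ) (hBlt : ∀ r ∈ B, r < D.nroots) (hrot : B.map G.ρ = B.rotate 1) (hnd : B.Nodup)
    (hcomm : ∀ r ∈ B, ∀ s ∈ B, r ≠ s → ∀ t u : F, Commute (xGL D hD F r t) (xGL D hD F s u)) (t : ℕ → F) :
    sigma D G hG F φ (wordGL D hD F (B.map fun r => (r, t r))) =
      wordGL D hD F (B.map fun r => (r, tw G F φ t r)) := by
  have e1 : sigma D G hG F φ (wordGL D hD F (B.map fun r => (r, t r))) =
      ((B.map G.ρ).map fun r' => xGL D hD F r' (tw G F φ t r')).prod := by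
    unfold wordGL
    rw [map_list_prod, List.map_map, List.map_map, List.map_map]
    congr 1
    apply List.map_congr_left
    intro r hr
    simp only [Function.comp_apply]
    rw [sigma_xGL D hD G hG F φ r (hBlt r hr)]
    unfold tw
    rw [((graph2_spec D G hG).1 r (hBlt r hr)).2.2.2.2.1]
  rw [e1, hrot]
  unfold wordGL
  rw [List.map_map]
  have hperm : ((B.rotate 1).map fun r' => xGL D hD F r' (tw G F φ t r')).Perm
      (B.map fun r' => xGL D hD F r' (tw G F φ t r')) := (List.rotate_perm B 1).map _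
  apply hperm.prod_eq'
  rw [List.pairwise_map]
  have hrot' : ∀ r ∈ B.rotate 1, r ∈ B := fun r hr => (List.mem_rotate.1 hr)
  have hnd' : (B.rotate 1).Nodup := List.nodup_rotate.2 hnd
  refine hnd'.pairwise_of_forall_ne ?_
  intro r hr s hs hne
  exact hcomm r (hrot' r hr) s (hrot' s hs) hne _ _

end

/-- table check for the fundamental orbits -/
def chkFund (D : ChevalleyDatum) (G : GraphTab) (orbs fund : List (List ℕ)) : Bool :=
  fund.all fun J =>
    (J.all fun j => decide (j < D.rank)) && decide (J.map G.ρs = J.rotate 1) && orbs.contains (pBlock D J) &&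
    decide ((nBlock D J).map G.ρ = (nBlock D J).rotate 1) && decide (nBlock D J).Nodup &&
    ((pBlock D J ++ nBlock D J).all fun r => decide (r < D.nroots) && decide (G.ε (G.ρi r) = 1))

section
variable (D : ChevalleyDatum) (hD : D ∈ [chevG2, chevB2, chevD4, chevF4, chevE6, chevE7, chevE8])
variable (G : GraphTab) (hG : GraphOK D G) (orbs fund : List (List ℕ))

theorem chkFund_spec (h : chkFund D G orbs fund = true) (J : List ℕ) (hJ : J ∈ fund) :
    (∀ j ∈ J, j < D.rank) ∧ J.map G.ρs = J.rotate 1 ∧ pBlock D J ∈ orbs ∧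
    (nBlock D J).map G.ρ = (nBlock D J).rotate 1 ∧ (nBlock D J).Nodup ∧
    ∀ r ∈ pBlock D J ++ nBlock D J, r < D.nroots ∧ G.ε (G.ρi r) = 1 := by
  unfold chkFund at h
  simp only [Bool.and_eq_true, List.all_eq_true, decide_eq_true_eq, List.contains_iff_mem] at h
  obtain ⟨⟨⟨⟨⟨h1, h2⟩, h3⟩, h4⟩, h5⟩, h6⟩ := h J hJ
  exact ⟨h1, h2, h3, h4, h5, h6⟩

variable (F : Type*) [Field F] (φ : F →+* F)

include hD in
theorem block_facts (hchk : chkOrb D G orbs = true) (hf : chkFund D G orbs fund = true) (J : List ℕ) (hJ : J ∈ fund) :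
    (pBlock D J).Nodup ∧
    (∀ r ∈ pBlock D J, ∀ s ∈ pBlock D J, r ≠ s → SO D hD F r s) ∧
    (pBlock D J).map G.ρ = (pBlock D J).rotate 1 := by
  obtain ⟨hk, hb⟩ := chkOrb_spec D G orbs hchk
  obtain ⟨hnd, -, -, -⟩ := chkKeyOrd_spec D _ hk
  obtain ⟨-, -, h3, -⟩ := chkFund_spec D G orbs fund hf J hJ
  refine ⟨(List.nodup_flatten.1 hnd).1 _ h3, ?_, (hb _ h3).1⟩
  intro r hr s hs hne
  exact so_of_chk D hD F r s ((hb _ h3).2.1 r hr s hs hne)

include hD in
/-- the generators are fixed by `σ` -/
theorem sigma_twGens (hchk : chkOrb D G orbs = true) (hf : chkFund D G orbs fund = true) (g : GL D.Idx F)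
    (hg : g ∈ twGens D hD G F φ fund) : sigma D G hG F φ g = g := by
  obtain ⟨J, hJ, B, hB, a, ha, rfl⟩ := hg
  obtain ⟨h1, h2, h3, h4, h5, h6⟩ := chkFund_spec D G orbs fund hf J hJ
  obtain ⟨b1, b2, b3⟩ := block_facts D hD G orbs fund F hchk hf J hJ
  have hcongr : wordGL D hD F (B.map fun r => (r, tw G F φ a r)) = wordGL D hD F (B.map fun r => (r, a r)) := by
    congr 1
    apply List.map_congr_left
    intro r hr
    rw [← ha r hr]
  simp only [List.mem_cons, List.not_mem_nil, or_false] at hB
  rcases hB with rfl | rfl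
  · rw [sigma_block' D hD G hG F φ _ (fun r hr => (h6 r (List.mem_append_left _ hr)).1) b3 b1
      (fun r hr s hs hne => (b2 r hr s hs hne).xx), hcongr]
  · rw [sigma_block' D hD G hG F φ _ (fun r hr => (h6 r (List.mem_append_right _ hr)).1) h4 h5 ?_, hcongr]
    intro r hr s hs hne
    unfold nBlock at hr hs
    obtain ⟨j, hj, rfl⟩ := List.mem_map.1 hr
    obtain ⟨j', hj', rfl⟩ := List.mem_map.1 hs
    have hne' : D.simple j ≠ D.simple j' := fun e => hne (by rw [e])
    exact (b2 _ (List.mem_map.2 ⟨j, hj, rfl⟩) _ (List.mem_map.2 ⟨j', hj', rfl⟩) hne').yy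

include hD in
/-- the twisted group is fixed by `σ` -/
theorem sigma_twGroup (hchk : chkOrb D G orbs = true) (hf : chkFund D G orbs fund = true) (g : GL D.Idx F)
    (hg : g ∈ twGroup D hD G F φ fund) : sigma D G hG F φ g = g := by
  unfold twGroup at hg
  induction hg using Subgroup.closure_induction with
  | mem x hx => exact sigma_twGens D hD G hG orbs fund F φ hchk hf x hx
  | one => exact map_one _
  | mul x y _ _ ihx ihy => rw [map_mul, ihx, ihy]
  | inv x _ ihx => rw [map_inv, ihx]

include hD in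
/-- the twisted group lies in the Chevalley group -/
theorem twGroup_le_group (hf : chkFund D G orbs fund = true) : twGroup D hD G F φ fund ≤ D.group F := by
  unfold twGroup
  rw [Subgroup.closure_le]
  rintro g ⟨J, hJ, B, hB, a, ha, rfl⟩
  obtain ⟨h1, h2, h3, h4, h5, h6⟩ := chkFund_spec D G orbs fund hf J hJ
  apply wordGL_mem
  intro p hp
  obtain ⟨r, hr, rfl⟩ := List.mem_map.1 hp
  exact xGL_mem_group D hD F r (a r)

include hD in
/-- the folded reflections lie in the twisted group -/
theorem nWord_fund_mem (hchk : chkOrb D G orbs = true) (hf : chkFund D G orbs fund = true) (J : List ℕ) (hJ : J ∈ fund) :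
    nWordGL D hD F J ∈ twGroup D hD G F φ fund := by
  obtain ⟨h1, h2, h3, h4, h5, h6⟩ := chkFund_spec D G orbs fund hf J hJ
  obtain ⟨b1, b2, b3⟩ := block_facts D hD G orbs fund F hchk hf J hJ
  set L : List (ℕ × (F →+* F)) := J.map fun j => (D.simple j, RingHom.id F) with hL
  have hLp : L.Pairwise fun p p' => SO D hD F p.1 p'.1 := by
    rw [hL, List.pairwise_map]
    have : (J.map D.simple).Pairwise fun r s => SO D hD F r s :=
      b1.pairwise_of_forall_ne (fun r hr s hs hne => b2 r hr s hs hne)
    rw [List.pairwise_map] at this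
    exact this
  have e1 : nw D hD F L 1 = nWordGL D hD F J := by
    simp [nw, nWordGL, hL, List.map_map, Function.comp_def]
  have hx : ∀ c : F, φ c = c → bw D hD F L c ∈ twGroup D hD G F φ fund := by
    intro c hc
    apply Subgroup.subset_closure
    refine ⟨J, hJ, pBlock D J, by simp, fun _ => c, ?_, ?_⟩
    · intro r hr
      unfold tw
      rw [(h6 r (List.mem_append_left _ hr)).2, hc]
      simp
    · simp [bw, wordGL, hL, pBlock, List.map_map, Function.comp_def]
  have hy : ∀ c : F, φ c = c → bwN D hD F L c ∈ twGroup D hD G F φ fund := by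
    intro c hc
    apply Subgroup.subset_closure
    refine ⟨J, hJ, nBlock D J, by simp, fun _ => c, ?_, ?_⟩
    · intro r hr
      unfold tw
      rw [(h6 r (List.mem_append_right _ hr)).2, hc]
      simp
    · simp [bwN, wordGL, hL, nBlock, List.map_map, Function.comp_def]
  rw [← e1, ← bw_triple D hD F L hLp 1]
  refine mul_mem (mul_mem (hx 1 (map_one φ)) (hy _ ?_)) (hx 1 (map_one φ))
  rw [map_neg, map_inv₀, map_one]

/-- reachability with steps taken among the folded reflections -/
def chkReach2 (steps : List (List ℕ × List ℕ × List ℕ)) : Bool :=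
  chkReachOrb D orbs (fund.map (pBlock D)) steps && steps.all fun st => fund.contains st.1

include hD in
/-- the fixed points of `σ` on `U` lie in the twisted group -/
theorem posFixed_mem [Fintype F] (hchk : chkOrb D G orbs = true) (hf : chkFund D G orbs fund = true)
    (steps : List (List ℕ × List ℕ × List ℕ)) (hreach : chkReach2 D orbs fund steps = true)
    (u : GL D.Idx F) (hu : u ∈ D.posUnipotent F) (hσ : sigma D G hG F φ u = u) :
    u ∈ twGroup D hD G F φ fund := by
  unfold chkReach2 at hreach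
  rw [Bool.and_eq_true, List.all_eq_true] at hreach
  obtain ⟨hr1, hr2⟩ := hreach
  refine posFixed_le D hD G hG orbs F φ hchk _ ?_ u hu hσ
  intro B hB g hg hgσ
  refine XB_fixed_le D hD G hG orbs F φ _ steps hr1 _ (sigma_twGroup D hD G hG orbs fund F φ hchk hf) ?_ ?_
    B hB g hg hgσ
  · intro B' hB' g' hg' hσ'
    obtain ⟨J, hJ, rfl⟩ := List.mem_map.1 hB'
    obtain ⟨-, -, h3, -⟩ := chkFund_spec D G orbs fund hf J hJ
    obtain ⟨a, ha, rfl⟩ := XB_fixed_eq_word D hD G hG orbs F φ hchk _ h3 g' hg' hσ'
    exact Subgroup.subset_closure ⟨J, hJ, pBlock D J, by simp, a, ha, rfl⟩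
  · intro st hst
    have := hr2 st hst
    rw [List.contains_iff_mem] at this
    exact nWord_fund_mem D hD G orbs fund F φ hchk hf _ this

end

end Cfsg.Agent.Lib.Helper36
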