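import Cfsg.Agent.Lib.Helper36.ChevTwEnumE6
import Cfsg.Agent.Lib.Helper36.ChevTwE6H
import Cfsg.Agent.Lib.Helper36.ChevTwCard

/-! # The order of `²E₆(q)` (helper36) -/

set_option autoImplicit false

namespace Cfsg.Agent.Lib.Helper36

open Cfsg Cfsg.Lie Cfsg.Agent.Lib.Helper18

theorem finite_CoxF4 : Finite CoxF4.M.Group := by
  apply Nat.finite_of_card_ne_zero
  have := CoxF4.card_eq
  unfold CoxF4.W at this
  rw [this]
  decide

theorem card_twGroup_E6 (K : Type*) [Field K] [Fintype K] (φ : K →+* K) (q : ℕ) (hq0 : 0 < q)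
    (hK : Fintype.card K = q ^ 2) (hφ : ∀ t, φ t = t ^ q) (hfix : Nat.card {t : K // φ t = t} = q)
    (h2 : ∀ t : K, φ^[2] t = t) :
    Nat.gcd 3 (q + 1) * Nat.card ↥(twGroup chevE6 hE6 graphE6 K φ fundE6) =
      q ^ 36 * ((q - 1) ^ 2 * (q ^ 2 - 1) ^ 2) * (expsE6.map fun e => q ^ e).sum := by
  have h := card_twGroup_tab chevE6 hE6 graphE6 orbsE6 fundE6 stepsE6 twOK_E6 K φ 2 chkFundC_E6
    CoxF4.M CoxF4.A CoxF4.hA CoxF4.rho_ker genE6 genE6_mem genE6_cov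
    (chkBraidF_spec chevE6 4 _ genE6 chkBraidF_E6) (foldP chevE6 genE6) (foldS chevE6 genE6)
    foldSP_E6 foldEqui_E6 tabE6 negTE6 posLE6 keyLE6 chkTabs_E6 keyLE6_lt wordsE6
    (chkInc_nodup _ wordsE6_inc) finite_CoxF4 (by rw [wordsE6_length]; exact CoxF4.card_eq)
    expsE6 wordsE6_exps q hfix hK h2
  have hH := card_twDiag_E6 K φ q hq0 hK hφ hfix h2
  rw [h, twDiag_E6_eq,
    card_pos_tw chevE6 hE6 graphE6 orbsE6 fundE6 stepsE6 twOK_E6 2 chkFundC_E6 K φ chkSgn_E6 q hfix hK h2, ← hH]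
  have : chevE6.nroots / 2 = 36 := rfl
  rw [this]
  ring

/-- a sum of powers from the table of the numbers of occurrences of the exponents -/
theorem sum_pow_eq_cnt (q : ℕ) (L cnt : List ℕ) (n : ℕ) (hn : ∀ e ∈ L, e < n)
    (hc : (List.range n).map (fun k => L.count k) = cnt) :
    (L.map fun e => q ^ e).sum = ((List.range n).map fun k => cnt.getD k 0 * q ^ k).sum := by
  rw [sum_pow_eq_count q L n hn]
  congr 1
  apply List.map_congr_left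
  intro k hk
  rw [List.mem_range] at hk
  rw [← hc, List.getD_eq_getElem _ _ (by rw [List.length_map, List.length_range]; exact hk), List.getElem_map,
    List.getElem_range]

theorem poin_E6 (q : ℕ) : (expsE6.map fun e => q ^ e).sum =
    1 * q ^ 0 + 2 * q ^ 1 + 4 * q ^ 2 + 6 * q ^ 3 + 9 * q ^ 4 + 13 * q ^ 5 + 17 * q ^ 6 + 22 * q ^ 7 + 26 * q ^ 8 + 32 * q ^ 9 + 37 * q ^ 10 + 43 * q ^ 11 + 47 * q ^ 12 + 51 * q ^ 13 + 55 * q ^ 14 + 58 * q ^ 15 + 61 * q ^ 16 + 61 * q ^ 17 + 62 * q ^ 18 + 61 * q ^ 19 + 61 * q ^ 20 + 58 * q ^ 21 + 55 * q ^ 22 + 51 * q ^ 23 + 47 * q ^ 24 + 43 * q ^ 25 + 37 * q ^ 26 + 32 * q ^ 27 + 26 * q ^ 28 + 22 * q ^ 29 + 17 * q ^ 30 + 13 * q ^ 31 + 9 * q ^ 32 + 6 * q ^ 33 + 4 * q ^ 34 + 2 * q ^ 35 + 1 * q ^ 36 := by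
  rw [sum_pow_eq_cnt q expsE6 cntE6 37 expsE6_lt expsE6_count]
  have hr : List.range 37 = [0, 1, 2, 3, 4, 5, 6, 7, 8, 9, 10, 11, 12, 13, 14, 15, 16, 17, 18, 19, 20, 21, 22,
    23, 24, 25, 26, 27, 28, 29, 30, 31, 32, 33, 34, 35, 36] := by decide
  rw [hr]
  simp only [cntE6, List.map_cons, List.map_nil, List.sum_cons, List.sum_nil, List.getD_cons_zero,
    List.getD_cons_succ]
  ring

end Cfsg.Agent.Lib.Helper36
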