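import Cfsg.Agent.Lib.Helper36.ChevTwCount

/-! # Rank one subgroups of a twisted group: explicit parametrisation and the relation
`x_J(t) = x_{-J}(t⁻¹) n_J(t) x_{-J}(t⁻¹)` (helper36) -/

set_option autoImplicit false
set_option linter.unusedSectionVars false

namespace Cfsg.Agent.Lib.Helper36

open Cfsg Cfsg.Lie Cfsg.Agent.Lib.Helper18

section single
variable (D : ChevalleyDatum) (hD : D ∈ [chevG2, chevB2, chevD4, chevF4, chevE6, chevE7, chevE8])
variable (F : Type*) [Field F]

theorem sl2_rel (t : F) (ht : t ≠ 0) :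
    SL2Data.sU t = SL2Data.sV t⁻¹ * (SL2Data.sU t * SL2Data.sV (-t⁻¹) * SL2Data.sU t) * SL2Data.sV t⁻¹ := by
  apply Subtype.ext
  have h : (SL2Data.sV t⁻¹ * (SL2Data.sU t * SL2Data.sV (-t⁻¹) * SL2Data.sU t) * SL2Data.sV t⁻¹).1 =
      (!![1, 0; t⁻¹, 1] : Matrix (Fin 2) (Fin 2) F) * (!![1, t; 0, 1] * !![1, 0; -t⁻¹, 1] * !![1, t; 0, 1]) *
        !![1, 0; t⁻¹, 1] := rfl
  rw [h]
  show (!![1, t; 0, 1] : Matrix (Fin 2) (Fin 2) F) = _
  ext i j
  fin_cases i <;> fin_cases j
  · simp [Matrix.mul_apply, Fin.sum_univ_two, ht]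
  · simp [Matrix.mul_apply, Fin.sum_univ_two, ht]
  · simp [Matrix.mul_apply, Fin.sum_univ_two, ht]
  · simp [Matrix.mul_apply, Fin.sum_univ_two, ht]

theorem iter_ringHom (φ : F →+* F) (n : ℕ) (x : F) : φ^[n] x = (φ ^ n) x := by
  rw [RingHom.coe_pow]

include hD in
/-- `x_r(t) = x_{-r}(t⁻¹) n_r(t) x_{-r}(t⁻¹)` -/
theorem xGL_eq_neg_n_neg (r : ℕ) (hr : r < D.nroots) (t : F) (ht : t ≠ 0) :
    xGL D hD F r t = xGL D hD F (D.neg r) t⁻¹ * nGL D hD F r t * xGL D hD F (D.neg r) t⁻¹ := by
  have h := congrArg (rank1Data D hD F r hr).hom (sl2_rel F t ht)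
  simp only [map_mul, SL2Data.hom_sU, SL2Data.hom_sV] at h
  rw [nGL_eq]
  exact h

include hD in
theorem hGL_one (r : ℕ) : hGL D hD F r 1 = 1 := by
  rw [hGL_eq, ← nGL_inv', mul_inv_cancel]

end single

section lists
variable (D : ChevalleyDatum) (hD : D ∈ [chevG2, chevB2, chevD4, chevF4, chevE6, chevE7, chevE8])
variable (F : Type*) [Field F]
variable (L : List (ℕ × (F →+* F)))

include hD in
theorem hw_one : hw D hD F L 1 = 1 := by
  unfold hw
  apply List.prod_eq_one
  intro x hx
  obtain ⟨p, -, rfl⟩ := List.mem_map.1 hx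
  rw [map_one, hGL_one]

include hD in
theorem nw_eq_hw_mul (hL : L.Pairwise fun p p' => SO D hD F p.1 p'.1) (s : F) :
    nw D hD F L s = hw D hD F L s * nw D hD F L 1 := by
  have h1 := nw_mul_nw D hD F L hL s
  have h2 := nw_mul_nw D hD F L hL 1
  rw [hw_one] at h2
  rw [← h1, mul_assoc, mul_eq_one_iff_eq_inv.1 h2, mul_inv_cancel, mul_one]

theorem commute_nGL {g : GL D.Idx F} (r : ℕ) (h1 : ∀ u, Commute g (xGL D hD F r u))
    (h2 : ∀ u, Commute g (xGL D hD F (D.neg r) u)) (s : F) : Commute g (nGL D hD F r s) := by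
  rw [nGL_eq]
  exact ((h1 _).mul_right (h2 _)).mul_right (h1 _)

include hD in
/-- `x_J(t) = x_{-J}(t⁻¹) n_J(t) x_{-J}(t⁻¹)` -/
theorem bw_eq_neg_n_neg (hL : L.Pairwise fun p p' => SO D hD F p.1 p'.1) (hr : ∀ p ∈ L, p.1 < D.nroots)
    (t : F) (ht : t ≠ 0) :
    bw D hD F L t = bwN D hD F L t⁻¹ * nw D hD F L t * bwN D hD F L t⁻¹ := by
  induction L with
  | nil => simp [bw, bwN, nw]
  | cons p L ih =>
    rw [List.pairwise_cons] at hL
    obtain ⟨hp, hL'⟩ := hL
    have hr' : ∀ p' ∈ L, p'.1 < D.nroots := fun p' hp' => hr p' (List.mem_cons_of_mem _ hp')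
    have hpr := hr p (List.mem_cons_self ..)
    have e1 : bw D hD F (p :: L) t = xGL D hD F p.1 (p.2 t) * bw D hD F L t := by simp [bw]
    have e2 : bwN D hD F (p :: L) t⁻¹ = xGL D hD F (D.neg p.1) (p.2 t⁻¹) * bwN D hD F L t⁻¹ := by simp [bwN]
    have e3 : nw D hD F (p :: L) t = nGL D hD F p.1 (p.2 t) * nw D hD F L t := by simp [nw]
    have hpt : p.2 t ≠ 0 := (map_ne_zero p.2).2 ht
    rw [e1, e2, e3, ih hL' hr', xGL_eq_neg_n_neg D hD F p.1 hpr (p.2 t) hpt, map_inv₀]
    refine (mul3_comm _ _ _ _ _ _ ?_ ?_ ?_).symm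
    · -- `Y` commutes with `n_p`
      apply Commute.symm
      apply commute_bwN
      intro p' hp' u
      exact (commute_nGL D hD F p.1 (fun u' => ((hp p' hp').xy u' u).symm)
        (fun u' => ((hp p' hp').yy u' u).symm) _).symm
    · apply Commute.symm
      exact commute_bwN (fun p' hp' u => (hp p' hp').yy _ u) _
    · apply Commute.symm
      exact commute_nw (fun p' hp' u => (hp p' hp').yx _ u) (fun p' hp' u => (hp p' hp').yy _ u) _

end lists

section block
variable (D : ChevalleyDatum) (hD : D ∈ [chevG2, chevB2, chevD4, chevF4, chevE6, chevE7, chevE8])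
variable (G : GraphTab) (hG : GraphOK D G)
variable (F : Type*) [Field F] (φ : F →+* F)

/-- the list of twisted root parameters attached to a block of roots -/
def LB (B : List ℕ) : List (ℕ × (F →+* F)) := B.mapIdx fun k r => (r, φ ^ k)

theorem LB_length (B : List ℕ) : (LB F φ B).length = B.length := by
  unfold LB
  rw [List.length_mapIdx]

theorem LB_getElem (B : List ℕ) (k : ℕ) (hk : k < (LB F φ B).length) :
    (LB F φ B)[k] = (B[k]'(by rw [LB_length] at hk; exact hk), φ ^ k) := by
  simp only [LB, List.getElem_mapIdx]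

theorem mem_LB (B : List ℕ) (p : ℕ × (F →+* F)) (hp : p ∈ LB F φ B) : p.1 ∈ B := by
  obtain ⟨k, hk, rfl⟩ := List.getElem_of_mem hp
  rw [LB_getElem]
  exact List.getElem_mem _

/-- the block element with a twisted coefficient function equals the `bw` product -/
theorem word_eq_prod_LB (B : List ℕ) (hnd : B.Nodup) (f : ℕ → F → GL D.Idx F) (t : F) :
    (B.map fun r => f r (φ^[B.idxOf r] t)).prod = ((LB F φ B).map fun p => f p.1 (p.2 t)).prod := by
  congr 1
  apply List.ext_getElem
  · rw [List.length_map, List.length_map, LB_length]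
  · intro k h1 h2
    rw [List.getElem_map, List.getElem_map, LB_getElem]
    simp only [RingHom.coe_pow]
    rw [List.Nodup.idxOf_getElem hnd]

include hG in
/-- twisted coefficient functions on a block permuted cyclically by `ρ` -/
theorem block_param (B : List ℕ) (hn : 0 < B.length) (hnd : B.Nodup) (hBlt : ∀ r ∈ B, r < D.nroots)
    (hrot : B.map G.ρ = B.rotate 1) (hε : ∀ r ∈ B, G.ε (G.ρi r) = 1) :
    (∀ t : F, φ^[B.length] t = t → ∀ r ∈ B,
      (fun r => φ^[B.idxOf r] t) r = tw G F φ (fun r => φ^[B.idxOf r] t) r) ∧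
    (∀ a : ℕ → F, (∀ r ∈ B, a r = tw G F φ a r) →
      (∀ r ∈ B, a r = φ^[B.idxOf r] (a (B.getD 0 0))) ∧ φ^[B.length] (a (B.getD 0 0)) = a (B.getD 0 0)) := by
  have hρ : ∀ i, i < B.length → G.ρ (B.getD i 0) = B.getD ((i + 1) % B.length) 0 := by
    intro i hi
    have hi' : (i + 1) % B.length < B.length := Nat.mod_lt _ hn
    rw [List.getD_eq_getElem _ _ hi, List.getD_eq_getElem _ _ hi']
    have h1 : (B.map G.ρ)[i]'(by rw [List.length_map]; exact hi) = G.ρ B[i] := List.getElem_map ..
    rw [← h1]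
    have h2 : (B.rotate 1)[i]'(by rw [List.length_rotate]; exact hi) = B[(i + 1) % B.length] :=
      List.getElem_rotate ..
    rw [← h2]
    congr 1
  have hmemD : ∀ i, i < B.length → B.getD i 0 ∈ B := by
    intro i hi
    rw [List.getD_eq_getElem _ _ hi]; exact List.getElem_mem hi
  have hρi : ∀ i, i + 1 < B.length → G.ρi (B.getD (i + 1) 0) = B.getD i 0 := by
    intro i hi
    have h1 := hρ i (by omega)
    rw [Nat.mod_eq_of_lt hi] at h1
    rw [← h1]
    exact ((graph2_spec D G hG).1 _ (hBlt _ (hmemD i (by omega)))).2.2.2.2.1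
  have hρi0 : G.ρi (B.getD 0 0) = B.getD (B.length - 1) 0 := by
    have h1 := hρ (B.length - 1) (by omega)
    have : (B.length - 1 + 1) % B.length = 0 := by
      rw [Nat.sub_add_cancel hn, Nat.mod_self]
    rw [this] at h1
    rw [← h1]
    exact ((graph2_spec D G hG).1 _ (hBlt _ (hmemD _ (by omega)))).2.2.2.2.1
  have hidx : ∀ i, i < B.length → B.idxOf (B.getD i 0) = i := by
    intro i hi
    rw [List.getD_eq_getElem _ _ hi]
    exact List.Nodup.idxOf_getElem hnd i hi
  have hget : ∀ r ∈ B, ∃ i, i < B.length ∧ B.getD i 0 = r := by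
    intro r hr
    obtain ⟨i, hi, rfl⟩ := List.getElem_of_mem hr
    exact ⟨i, hi, List.getD_eq_getElem _ _ hi⟩
  constructor
  · intro t ht r hr
    obtain ⟨k, hk, rfl⟩ := hget r hr
    unfold tw
    rw [hε _ (hmemD k hk)]
    simp only [Int.cast_one, one_mul]
    rcases Nat.eq_zero_or_pos k with rfl | hkpos
    · have e1 : (B.length - 1).succ = B.length := by omega
      rw [hρi0, hidx 0 hn, hidx _ (by omega), ← Function.iterate_succ_apply' φ, e1, ht]
      rfl
    · obtain ⟨k', rfl⟩ : ∃ k', k = k' + 1 := ⟨k - 1, by omega⟩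
      rw [hρi k' hk, hidx _ hk, hidx _ (by omega), ← Function.iterate_succ_apply' φ]
  · intro a ha
    have h1 : ∀ k, k < B.length → a (B.getD k 0) = φ^[k] (a (B.getD 0 0)) := by
      intro k
      induction k with
      | zero => intro _; rfl
      | succ k ih =>
        intro hk
        have := ha _ (hmemD (k + 1) hk)
        unfold tw at this
        rw [hε _ (hmemD (k + 1) hk), hρi k hk, ih (by omega)] at this
        rw [this, Function.iterate_succ_apply']
        simp
    refine ⟨?_, ?_⟩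
    · intro r hr
      obtain ⟨k, hk, rfl⟩ := hget r hr
      rw [hidx k hk, h1 k hk]
    · have := ha _ (hmemD 0 hn)
      unfold tw at this
      rw [hε _ (hmemD 0 hn), hρi0, h1 (B.length - 1) (by omega)] at this
      have e : φ^[B.length] (a (B.getD 0 0)) = φ (φ^[B.length - 1] (a (B.getD 0 0))) := by
        have e1 : (B.length - 1).succ = B.length := by omega
        rw [← Function.iterate_succ_apply' φ, e1]
      rw [e]
      simpa using this.symm

end block

section tw
variable (D : ChevalleyDatum) (hD : D ∈ [chevG2, chevB2, chevD4, chevF4, chevE6, chevE7, chevE8])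
variable (G : GraphTab) (orbs fund : List (List ℕ)) (steps : List (List ℕ × List ℕ × List ℕ))
variable (hok : TwOK D G orbs fund steps)
variable (F : Type*) [Field F] [Fintype F] (φ : F →+* F)

/-- the twisted parameters of a fundamental orbit -/
def LJ (J : List ℕ) : List (ℕ × (F →+* F)) := LB F φ (pBlock D J)

include hD hok in
theorem LJ_facts (J : List ℕ) (hJ : J ∈ fund) :
    (LJ D F φ J).Pairwise (fun p p' => SO D hD F p.1 p'.1) ∧ (∀ p ∈ LJ D F φ J, p.1 < D.nroots) ∧
      (∀ p ∈ LJ D F φ J, D.IsPosRoot p.1) := by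
  obtain ⟨hJr, -, h3, -, -, h6⟩ := chkFund_spec D G orbs fund hok.fnd J hJ
  obtain ⟨b1, b2, b3⟩ := block_facts D hD G orbs fund F hok.orb hok.fnd J hJ
  refine ⟨?_, ?_, ?_⟩
  · unfold LJ LB
    rw [List.pairwise_iff_getElem]
    intro i j hi hj hij
    rw [List.getElem_mapIdx, List.getElem_mapIdx]
    simp only
    rw [List.length_mapIdx] at hi hj
    apply b2 _ (List.getElem_mem _) _ (List.getElem_mem _)
    intro e
    have := (List.Nodup.getElem_inj_iff b1).1 e
    omega
  · intro p hp
    exact (h6 _ (List.mem_append_left _ (mem_LB F φ _ p hp))).1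
  · intro p hp
    have := mem_LB F φ _ p hp
    unfold pBlock at this
    obtain ⟨j, hj, e⟩ := List.mem_map.1 this
    rw [← e]
    exact isPosRoot_simple D hD j (hJr j hj)

include hD hok in
/-- the explicit fixed points of the positive and negative rank one root subgroups lie in the twisted group -/
theorem bw_LJ_mem (J : List ℕ) (hJ : J ∈ fund) (t : F) (ht : φ^[J.length] t = t) :
    bw D hD F (LJ D F φ J) t ∈ twGroup D hD G F φ fund ∧ bwN D hD F (LJ D F φ J) t ∈ twGroup D hD G F φ fund := by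
  obtain ⟨hJr, -, h3, h4, h5, h6⟩ := chkFund_spec D G orbs fund hok.fnd J hJ
  obtain ⟨b1, b2, b3⟩ := block_facts D hD G orbs fund F hok.orb hok.fnd J hJ
  obtain ⟨hJne, -⟩ := (chkFundW_spec D G fund hok.fw).2 J hJ
  have hlenP : (pBlock D J).length = J.length := by unfold pBlock; rw [List.length_map]
  have hlenN : (nBlock D J).length = J.length := by unfold nBlock; rw [List.length_map]
  have hpos : 0 < J.length := List.length_pos_of_ne_nil hJne
  constructor
  · obtain ⟨hp1, -⟩ := block_param D G hok.hG F φ (pBlock D J) (by rw [hlenP]; exact hpos) b1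
      (fun r hr => (h6 r (List.mem_append_left _ hr)).1) b3 (fun r hr => (h6 r (List.mem_append_left _ hr)).2)
    apply Subgroup.subset_closure
    refine ⟨J, hJ, pBlock D J, by simp, fun r => φ^[(pBlock D J).idxOf r] t, hp1 t (by rw [hlenP]; exact ht), ?_⟩
    unfold bw LJ wordGL
    rw [List.map_map]
    exact (word_eq_prod_LB D F φ (pBlock D J) b1 (fun r u => xGL D hD F r u) t).symm
  · obtain ⟨hp1, -⟩ := block_param D G hok.hG F φ (nBlock D J) (by rw [hlenN]; exact hpos) h5
      (fun r hr => (h6 r (List.mem_append_right _ hr)).1) h4 (fun r hr => (h6 r (List.mem_append_right _ hr)).2)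
    apply Subgroup.subset_closure
    refine ⟨J, hJ, nBlock D J, by simp, fun r => φ^[(nBlock D J).idxOf r] t, hp1 t (by rw [hlenN]; exact ht), ?_⟩
    unfold bwN LJ wordGL
    rw [List.map_map]
    refine Eq.trans ?_ (word_eq_prod_LB D F φ (nBlock D J) h5 (fun r u => xGL D hD F r u) t).symm
    congr 1
    apply List.ext_getElem
    · rw [List.length_map, List.length_map, LB_length, LB_length, hlenP, hlenN]
    · intro k h1 h2
      rw [List.getElem_map, List.getElem_map, LB_getElem, LB_getElem]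
      simp only [pBlock, nBlock, List.getElem_map]

include hD hok in
theorem nw_LJ_one (J : List ℕ) : nw D hD F (LJ D F φ J) 1 = nWordGL D hD F J := by
  unfold nw nWordGL LJ
  congr 1
  apply List.ext_getElem
  · rw [List.length_map, List.length_map, LB_length]
    unfold pBlock
    rw [List.length_map]
  · intro k h1 h2
    rw [List.getElem_map, List.getElem_map, LB_getElem]
    simp only [pBlock, List.getElem_map, map_one]

include hD hok in
/-- the elements `n_J(s)` and `h_J(s)` of the twisted group -/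
theorem nw_LJ_mem (J : List ℕ) (hJ : J ∈ fund) (s : F) (hs : φ^[J.length] s = s) :
    nw D hD F (LJ D F φ J) s ∈ twGroup D hD G F φ fund := by
  obtain ⟨hL, -, -⟩ := LJ_facts D hD G orbs fund steps hok F φ J hJ
  rw [← bw_triple D hD F _ hL]
  have h1 := (bw_LJ_mem D hD G orbs fund steps hok F φ J hJ s hs).1
  have h2 := (bw_LJ_mem D hD G orbs fund steps hok F φ J hJ (-s⁻¹) (by
    rw [iter_ringHom, map_neg, map_inv₀, ← iter_ringHom, hs])).2
  exact mul_mem (mul_mem h1 h2) h1

include hD hok in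
theorem hw_LJ_mem (J : List ℕ) (hJ : J ∈ fund) (s : F) (hs : φ^[J.length] s = s) :
    hw D hD F (LJ D F φ J) s ∈ twGroup D hD G F φ fund := by
  obtain ⟨hL, -, -⟩ := LJ_facts D hD G orbs fund steps hok F φ J hJ
  rw [← nw_mul_nw D hD F _ hL]
  refine mul_mem (nw_LJ_mem D hD G orbs fund steps hok F φ J hJ s hs)
    (nw_LJ_mem D hD G orbs fund steps hok F φ J hJ (-1) ?_)
  rw [iter_ringHom, map_neg, map_one]

include hD hok in
/-- the fixed points of a fundamental orbit root subgroup are the `x_J(t)` -/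
theorem XBfix_eq_bw (J : List ℕ) (hJ : J ∈ fund) (g : GL D.Idx F) (hg : g ∈ XB D hD F (pBlock D J))
    (hgT : g ∈ twGroup D hD G F φ fund) : ∃ t : F, φ^[J.length] t = t ∧ g = bw D hD F (LJ D F φ J) t := by
  obtain ⟨hJr, -, h3, h4, h5, h6⟩ := chkFund_spec D G orbs fund hok.fnd J hJ
  obtain ⟨b1, b2, b3⟩ := block_facts D hD G orbs fund F hok.orb hok.fnd J hJ
  obtain ⟨hJne, -⟩ := (chkFundW_spec D G fund hok.fw).2 J hJ
  have hlenP : (pBlock D J).length = J.length := by unfold pBlock; rw [List.length_map]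
  have hpos : 0 < J.length := List.length_pos_of_ne_nil hJne
  have hσg := sigma_twGroup D hD G hok.hG orbs fund F φ hok.orb hok.fnd g hgT
  obtain ⟨a, ha, rfl⟩ := XB_fixed_eq_word D hD G hok.hG orbs F φ hok.orb _ h3 g hg hσg
  obtain ⟨-, hp2⟩ := block_param D G hok.hG F φ (pBlock D J) (by rw [hlenP]; exact hpos) b1
    (fun r hr => (h6 r (List.mem_append_left _ hr)).1) b3 (fun r hr => (h6 r (List.mem_append_left _ hr)).2)
  obtain ⟨hc1, hc2⟩ := hp2 a ha
  refine ⟨a ((pBlock D J).getD 0 0), by rw [← hlenP]; exact hc2, ?_⟩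
  unfold bw LJ wordGL
  rw [List.map_map, ← word_eq_prod_LB D F φ (pBlock D J) b1 (fun r u => xGL D hD F r u)]
  congr 1
  apply List.map_congr_left
  intro r hr
  simp only [Function.comp_apply]
  rw [hc1 r hr]

end tw

end Cfsg.Agent.Lib.Helper36
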