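import Cfsg.Agent.Lib.Helper36.ChevTwCore
import Cfsg.Agent.Lib.Helper36.ChevSimple

/-! # Simplicity of the twisted groups (helper36) -/

set_option autoImplicit false
set_option linter.unusedSectionVars false

namespace Cfsg.Agent.Lib.Helper36

open Cfsg Cfsg.Lie Cfsg.Agent.Lib.Helper18

/-- the Weyl word `l` acts non-trivially on the roots -/
def nontrivW (D : ChevalleyDatum) (l : List ℕ) : Bool := (List.range D.nroots).any fun r => wRoot D l r != r

/-- the folded reflections `w_J`, `w_J'` do not commute -/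
def adjT (D : ChevalleyDatum) (J J' : List ℕ) : Bool :=
  nontrivW D (J ++ J' ++ J ++ J') && nontrivW D (J' ++ J ++ J' ++ J)

/-- the diagram of the folded reflections is connected -/
def chkConnT (D : ChevalleyDatum) (fund : List (List ℕ)) (ord : List ℕ) : Bool :=
  ((List.range fund.length).all fun i => ord.contains i) && (ord.all fun i => decide (i < fund.length)) &&
    (List.range ord.length).all fun k =>
      k == 0 || (List.range k).any fun k' => adjT D (fund.getD (ord.getD k' 0) []) (fund.getD (ord.getD k 0) [])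

section
variable (D : ChevalleyDatum) (hD : D ∈ [chevG2, chevB2, chevD4, chevF4, chevE6, chevE7, chevE8])
variable (G : GraphTab) (orbs fund : List (List ℕ)) (steps : List (List ℕ × List ℕ × List ℕ))
variable (hok : TwOK D G orbs fund steps) (hsg : chkSgn D G orbs = true)
variable (F : Type*) [Field F] [Fintype F] (φ : F →+* F)

include hD hok φ in
theorem tw_comm_not_mem_borel (J J' : List ℕ) (hJ : J ∈ fund) (hJ' : J' ∈ fund)
    (hadj : nontrivW D (J ++ J' ++ J ++ J') = true) :
    nWordGL D hD F J * nWordGL D hD F J' * (nWordGL D hD F J)⁻¹ * (nWordGL D hD F J')⁻¹ ∉ D.borelSubgroup F := by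
  intro h
  obtain ⟨hN, -, hsq⟩ := tw_nJ D hD G orbs fund steps hok F φ J hJ
  obtain ⟨hN', -, hsq'⟩ := tw_nJ D hD G orbs fund steps hok F φ J' hJ'
  have hJr := fund_lt D G orbs fund steps hok J hJ
  have hJ'r := fund_lt D G orbs fund steps hok J' hJ'
  set s := nWordGL D hD F J with hs
  set s' := nWordGL D hD F J' with hs'
  have hH : s * s' * s⁻¹ * s'⁻¹ ∈ D.diagonalSubgroup F := by
    rw [← borel_inf_monomial D hD F]
    exact Subgroup.mem_inf.2 ⟨h, mul_mem (mul_mem (mul_mem hN hN') (inv_mem hN)) (inv_mem hN')⟩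
  have hl : ∀ k ∈ J ++ J' ++ J ++ J', k < D.rank := by
    intro k hk
    simp only [List.mem_append] at hk
    rcases hk with ((hk | hk) | hk) | hk
    · exact hJr k hk
    · exact hJ'r k hk
    · exact hJr k hk
    · exact hJ'r k hk
  have hw : nWordGL D hD F (J ++ J' ++ J ++ J') ∈ D.diagonalSubgroup F := by
    have e : nWordGL D hD F (J ++ J' ++ J ++ J') =
        (s * s' * s⁻¹ * s'⁻¹) * (s'⁻¹⁻¹ * (s * s) * s'⁻¹) * (s' * s') := by
      rw [nWordGL_append, nWordGL_append, nWordGL_append, ← hs, ← hs']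
      group
    rw [e]
    exact mul_mem (mul_mem hH (conj_mem_diag D hD F _ _ (inv_mem hN') hsq)) hsq'
  unfold nontrivW at hadj
  simp only [List.any_eq_true, List.mem_range, bne_iff_ne, ne_eq] at hadj
  obtain ⟨r, hr, hne⟩ := hadj
  have h1 : (nWordGL D hD F ([] : List ℕ))⁻¹ * nWordGL D hD F (J ++ J' ++ J ++ J') ∈ D.diagonalSubgroup F := by
    simpa [nWordGL] using hw
  exact hne (wRoot_eq_of_mem_diag D hD F [] _ (by simp) hl h1 r hr).symm

include hD hok in
theorem tw_nontrivial : Nontrivial ↥(twGroup D hD G F φ fund) := by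
  obtain ⟨hcov, -⟩ := chkFundW_spec D G fund hok.fw
  obtain ⟨J, hJ, -⟩ := hcov 0 (rank_pos D hD)
  obtain ⟨x, hx, hnot⟩ := tw_conj_ne D hD G orbs fund steps hok F φ J hJ
  obtain ⟨-, hJT, -⟩ := tw_nJ D hD G orbs fund steps hok F φ J hJ
  by_contra hcon
  rw [not_nontrivial_iff_subsingleton] at hcon
  have h1 : (⟨x, hx.2⟩ : ↥(twGroup D hD G F φ fund)) = 1 := Subsingleton.elim _ _
  have h2 : (⟨nWordGL D hD F J, hJT⟩ : ↥(twGroup D hD G F φ fund)) = 1 := Subsingleton.elim _ _
  have h1' : x = 1 := congrArg Subtype.val h1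
  have h2' : nWordGL D hD F J = 1 := congrArg Subtype.val h2
  apply hnot
  rw [h1', h2']
  simp

include hD hok hsg in
/-- simplicity of a perfect twisted group -/
theorem tw_simple (ord : List ℕ) (hconn : chkConnT D fund ord = true)
    (hperf : commutator ↥(twGroup D hD G F φ fund) = ⊤) :
    IsSimpleGroup ↥(twGroup D hD G F φ fund) ∧ ¬ IsMulCommutative ↥(twGroup D hD G F φ fund) := by
  have := tw_nontrivial D hD G orbs fund steps hok F φ
  obtain ⟨P, hB, hN, hS⟩ := exists_bnPair_tw D hD G orbs fund steps hok F φ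
  refine ⟨Cfsg.Agent.S0319.result P ?_ ?_ hperf ?_, ?_⟩
  · -- irreducible
    intro Jset hJset hJne hJc
    unfold chkConnT at hconn
    simp only [Bool.and_eq_true, List.all_eq_true, List.mem_range, List.contains_iff_mem, decide_eq_true_eq,
      Bool.or_eq_true, beq_iff_eq, List.any_eq_true] at hconn
    obtain ⟨⟨hc1, hc2⟩, hc3⟩ := hconn
    have hfm : ∀ i (hi : i < fund.length), fund.getD i [] ∈ fund := by
      intro i hi
      rw [List.getD_eq_getElem _ _ hi]; exact List.getElem_mem hi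
    let sT : (i : ℕ) → i < fund.length → ↥(twGroup D hD G F φ fund) := fun i hi =>
      ⟨nWordGL D hD F (fund.getD i []), (tw_nJ D hD G orbs fund steps hok F φ _ (hfm i hi)).2.1⟩
    have hsT : ∀ i (hi : i < fund.length), sT i hi ∈ P.S := by
      intro i hi
      rw [hS]
      exact ⟨_, hfm i hi, rfl⟩
    have hS' : ∀ s ∈ P.S, ∃ i, ∃ hi : i < fund.length, s = sT i hi := by
      intro s hs
      rw [hS] at hs
      obtain ⟨J, hJ, e⟩ := hs
      obtain ⟨i, hi, rfl⟩ := List.getElem_of_mem hJ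
      refine ⟨i, hi, Subtype.ext ?_⟩
      rw [e]
      show _ = nWordGL D hD F (fund.getD i [])
      rw [List.getD_eq_getElem _ _ hi]
    obtain ⟨s0, hs0⟩ := hJne
    obtain ⟨s1, hs1, hs1'⟩ := hJc
    obtain ⟨i0, hi0, rfl⟩ := hS' s0 (hJset hs0)
    obtain ⟨j0, hj0, rfl⟩ := hS' s1 hs1
    obtain ⟨i, j, hpq, hi, hj, hadj⟩ := conn_cut ord
      (fun i j => i < fund.length ∧ j < fund.length ∧ adjT D (fund.getD i []) (fund.getD j []) = true)
      (by
        intro k hk
        rcases hc3 k hk with h | ⟨k', hk', h⟩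
        · exact Or.inl h
        · refine Or.inr ⟨k', hk', hc2 _ ?_, hc2 _ ?_, h⟩
          · rw [List.getD_eq_getElem _ _ (lt_trans hk' hk)]; exact List.getElem_mem _
          · rw [List.getD_eq_getElem _ _ hk]; exact List.getElem_mem _)
      (fun i => ∃ hi : i < fund.length, sT i hi ∈ Jset) i0 j0 (hc1 i0 hi0) (hc1 j0 hj0) ⟨hi0, hs0⟩
      (fun ⟨_, h⟩ => hs1' h)
    unfold adjT at hadj
    rw [Bool.and_eq_true] at hadj
    rcases hpq with ⟨⟨_, hpi⟩, hpj⟩ | ⟨⟨_, hpj⟩, hpi⟩
    · refine ⟨sT i hi, hpi, sT j hj, ⟨hsT j hj, fun h => hpj ⟨hj, h⟩⟩, ?_⟩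
      rw [hB, Subgroup.mem_subgroupOf]
      intro hmem
      exact tw_comm_not_mem_borel D hD G orbs fund steps hok F φ _ _ (hfm i hi) (hfm j hj) hadj.1 hmem.1
    · refine ⟨sT j hj, hpj, sT i hi, ⟨hsT i hi, fun h => hpi ⟨hi, h⟩⟩, ?_⟩
      rw [hB, Subgroup.mem_subgroupOf]
      intro hmem
      exact tw_comm_not_mem_borel D hD G orbs fund steps hok F φ _ _ (hfm j hj) (hfm i hi) hadj.2 hmem.1
  · -- solvable
    rw [hB]
    have := borel_isSolvable D hD F
    have hle : D.borelSubgroup F ⊓ twGroup D hD G F φ fund ≤ twGroup D hD G F φ fund := inf_le_right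
    have hle2 : D.borelSubgroup F ⊓ twGroup D hD G F φ fund ≤ D.borelSubgroup F := inf_le_left
    exact Group.isSolvable_of_isSolvable_injective
      (f := (Subgroup.inclusion hle2).comp (Subgroup.subgroupOfEquivOfLe hle).toMonoidHom)
      ((Subgroup.inclusion_injective hle2).comp (Subgroup.subgroupOfEquivOfLe hle).injective)
  · -- core
    rw [hB]
    exact tw_normalCore D hD G orbs fund steps hok hsg F φ
  · -- not commutative
    intro hcomm
    have hbot : commutator ↥(twGroup D hD G F φ fund) = ⊥ := by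
      rw [commutator_def, eq_bot_iff, Subgroup.commutator_le]
      intro g₁ _ g₂ _
      rw [Subgroup.mem_bot, commutatorElement_eq_one_iff_mul_comm]
      exact hcomm.is_comm.comm g₁ g₂
    rw [hbot] at hperf
    exact bot_ne_top hperf

end

end Cfsg.Agent.Lib.Helper36
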