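import Cfsg.Agent.Lib.Helper36.ChevTwDescent
import Cfsg.Agent.Lib.Helper36.ChevKeyOrd

/-! # The fixed points of the twisting automorphism on `U` (helper36) -/

set_option autoImplicit false

namespace Cfsg.Agent.Lib.Helper36

open Cfsg Cfsg.Lie Cfsg.Agent.Lib.Helper18

/-- the list of `ρ`-orbits of positive roots, in an admissible order -/
def chkOrb (D : ChevalleyDatum) (G : GraphTab) (orbs : List (List ℕ)) : Bool :=
  chkKeyOrd D orbs.flatten &&
  orbs.all fun B => decide (B.map G.ρ = B.rotate 1) &&
    (B.all fun r => B.all fun s => r == s || chkSO D r s) && decide ((B.map G.ε).prod = 1)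

section
variable (D : ChevalleyDatum) (hD : D ∈ [chevG2, chevB2, chevD4, chevF4, chevE6, chevE7, chevE8])
variable (G : GraphTab) (hG : GraphOK D G) (orbs : List (List ℕ))

theorem chkOrb_spec (h : chkOrb D G orbs = true) :
    chkKeyOrd D orbs.flatten = true ∧ ∀ B ∈ orbs, B.map G.ρ = B.rotate 1 ∧
      (∀ r ∈ B, ∀ s ∈ B, r ≠ s → chkSO D r s = true) ∧ (B.map G.ε).prod = 1 := by
  unfold chkOrb at h
  simp only [Bool.and_eq_true, List.all_eq_true, decide_eq_true_eq, Bool.or_eq_true, beq_iff_eq] at h
  refine ⟨h.1, fun B hB => ?_⟩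
  obtain ⟨⟨h1, h2⟩, h3⟩ := h.2 B hB
  refine ⟨h1, fun r hr s hs hne => ?_, h3⟩
  rcases h2 r hr s hs with h4 | h4
  · exact absurd h4 hne
  · exact h4

variable (F : Type*) [Field F] (φ : F →+* F)

/-- the twisted coefficient function -/
def tw (t : ℕ → F) (r : ℕ) : F := ((G.ε (G.ρi r) : ℤ) : F) * φ (t (G.ρi r))

include hD in
/-- `σ` applied to the product over one orbit block -/
theorem sigma_block (h : chkOrb D G orbs = true) (B : List ℕ) (hB : B ∈ orbs) (t : ℕ → F) :
    sigma D G hG F φ (wordGL D hD F (B.map fun r => (r, t r))) =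
      wordGL D hD F (B.map fun r => (r, tw G F φ t r)) := by
  obtain ⟨hk, hb⟩ := chkOrb_spec D G orbs h
  obtain ⟨h1, h2, -⟩ := hb B hB
  obtain ⟨-, -, h3, -⟩ := chkKeyOrd_spec D _ hk
  have hBlt : ∀ r ∈ B, r < D.nroots := fun r hr =>
    ((h3 r).2 (List.mem_flatten.2 ⟨B, hB, hr⟩)).1
  -- the image
  have e1 : sigma D G hG F φ (wordGL D hD F (B.map fun r => (r, t r))) =
      ((B.map G.ρ).map fun r' => xGL D hD F r' (tw G F φ t r')).prod := by
    unfold wordGL
    rw [map_list_prod, List.map_map, List.map_map, List.map_map]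
    congr 1
    apply List.map_congr_left
    intro r hr
    simp only [Function.comp_apply]
    rw [sigma_xGL D hD G hG F φ r (hBlt r hr)]
    unfold tw
    rw [((graph2_spec D G hG).1 r (hBlt r hr)).2.2.2.2.1]
  rw [e1, h1]
  unfold wordGL
  rw [List.map_map]
  have hperm : ((B.rotate 1).map fun r' => xGL D hD F r' (tw G F φ t r')).Perm
      (B.map fun r' => xGL D hD F r' (tw G F φ t r')) := (List.rotate_perm B 1).map _
  apply hperm.prod_eq'
  rw [List.pairwise_map]
  have hnd : B.Nodup := by
    have := (chkKeyOrd_spec D _ hk).1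
    exact (List.nodup_flatten.1 this).1 B hB
  have hrot : ∀ r ∈ B.rotate 1, r ∈ B := fun r hr => (List.mem_rotate.1 hr)
  have hnd' : (B.rotate 1).Nodup := List.nodup_rotate.2 hnd
  refine hnd'.pairwise_of_forall_ne ?_
  intro r hr s hs hne
  exact (so_of_chk D hD F r s (h2 r (hrot r hr) s (hrot s hs) hne)).xx _ _

include hD in
/-- `σ` applied to an ordered product -/
theorem sigma_word (h : chkOrb D G orbs = true) (t : ℕ → F) :
    sigma D G hG F φ (wordGL D hD F (orbs.flatten.map fun r => (r, t r))) =
      wordGL D hD F (orbs.flatten.map fun r => (r, tw G F φ t r)) := by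
  have key : ∀ (L : List (List ℕ)), (∀ B ∈ L, B ∈ orbs) →
      sigma D G hG F φ (wordGL D hD F (L.flatten.map fun r => (r, t r))) =
        wordGL D hD F (L.flatten.map fun r => (r, tw G F φ t r)) := by
    intro L
    induction L with
    | nil => intro _; simp [wordGL]
    | cons B L ih =>
      intro hL
      have hB := hL B (List.mem_cons_self ..)
      have hL' : ∀ B' ∈ L, B' ∈ orbs := fun B' hB' => hL B' (List.mem_cons_of_mem _ hB')
      have e : ∀ f : ℕ → ℕ × F, wordGL D hD F ((B :: L).flatten.map f) =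
          wordGL D hD F (B.map f) * wordGL D hD F (L.flatten.map f) := by
        intro f
        simp [wordGL]
      rw [e, e, map_mul, ih hL', sigma_block D hD G hG orbs F φ h B hB]
  exact key orbs (fun B hB => hB)

include hD in
/-- characterisation of the fixed points of `σ` on `U` over a finite field -/
theorem sigma_fixed_iff [Fintype F] (h : chkOrb D G orbs = true) (t : ℕ → F) :
    sigma D G hG F φ (wordGL D hD F (orbs.flatten.map fun r => (r, t r))) =
      wordGL D hD F (orbs.flatten.map fun r => (r, t r)) ↔ ∀ r ∈ orbs.flatten, t r = tw G F φ t r := by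
  obtain ⟨hk, -⟩ := chkOrb_spec D G orbs h
  rw [sigma_word D hD G hG orbs F φ h]
  constructor
  · intro e r hr
    exact (key_unique D hD F _ hk _ _ e r hr).symm
  · intro e
    congr 1
    apply List.map_congr_left
    intro r hr
    rw [← e r hr]

end

end Cfsg.Agent.Lib.Helper36
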