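import Cfsg.Agent.Lib.Helper36.ChevTwU

/-! # Orbit root subgroups and their fixed points; `U^σ` lies in the twisted group (helper36) -/

set_option autoImplicit false

namespace Cfsg.Agent.Lib.Helper36

open Cfsg Cfsg.Lie Cfsg.Agent.Lib.Helper18

section
variable (D : ChevalleyDatum) (hD : D ∈ [chevG2, chevB2, chevD4, chevF4, chevE6, chevE7, chevE8])
variable (F : Type*) [Field F]

/-- the subgroup generated by the root subgroups `X_s`, `s ∈ B` -/
def XB (B : List ℕ) : Subgroup (GL D.Idx F) :=
  Subgroup.closure {x | ∃ s ∈ B, ∃ a : F, x = xGL D hD F s a}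

theorem word_mem_XB (B : List ℕ) (a : ℕ → F) : wordGL D hD F (B.map fun s => (s, a s)) ∈ XB D hD F B := by
  apply wordGL_mem
  intro p hp
  obtain ⟨s, hs, rfl⟩ := List.mem_map.1 hp
  exact Subgroup.subset_closure ⟨s, hs, a s, rfl⟩

/-- products over a list of pairwise commuting root subgroups multiply coordinatewise -/
theorem word_mul_word (B : List ℕ)
    (hB : B.Pairwise fun r s => ∀ t u : F, Commute (xGL D hD F r t) (xGL D hD F s u)) (a b : ℕ → F) :
    wordGL D hD F (B.map fun s => (s, a s)) * wordGL D hD F (B.map fun s => (s, b s)) =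
      wordGL D hD F (B.map fun s => (s, a s + b s)) := by
  induction B with
  | nil => simp [wordGL]
  | cons r B ih =>
    rw [List.pairwise_cons] at hB
    have e : ∀ c : ℕ → F, wordGL D hD F ((r :: B).map fun s => (s, c s)) =
        xGL D hD F r (c r) * wordGL D hD F (B.map fun s => (s, c s)) := by
      intro c; simp [wordGL]
    rw [e, e, e, ← ih hB.2, xGL_add]
    have hc : Commute (wordGL D hD F (B.map fun s => (s, a s))) (xGL D hD F r (b r)) := by
      apply Commute.symm
      unfold wordGL
      apply Commute.list_prod_right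
      intro x hx
      rw [List.map_map] at hx
      obtain ⟨s, hs, rfl⟩ := List.mem_map.1 hx
      exact hB.1 s hs _ _
    exact hc.mul_mul_mul_comm _ _

include hD in
/-- every element of `X_B` is a product over `B` -/
theorem exists_word_of_mem_XB (B : List ℕ) (hnd : B.Nodup)
    (hB : B.Pairwise fun r s => ∀ t u : F, Commute (xGL D hD F r t) (xGL D hD F s u))
    (g : GL D.Idx F) (hg : g ∈ XB D hD F B) : ∃ a : ℕ → F, g = wordGL D hD F (B.map fun s => (s, a s)) := by
  classical
  unfold XB at hg
  induction hg using Subgroup.closure_induction with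
  | mem x hx =>
    obtain ⟨s, hs, a, rfl⟩ := hx
    refine ⟨fun r => if r = s then a else 0, ?_⟩
    clear hB
    induction B with
    | nil => simp at hs
    | cons r B ih =>
      rw [List.nodup_cons] at hnd
      have e : wordGL D hD F ((r :: B).map fun s' => (s', if s' = s then a else 0)) =
          xGL D hD F r (if r = s then a else 0) * wordGL D hD F (B.map fun s' => (s', if s' = s then a else 0)) := by
        simp [wordGL]
      rw [e]
      rcases List.mem_cons.1 hs with h | h
      · subst h
        rw [if_pos rfl]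
        have : wordGL D hD F (B.map fun s' => (s', if s' = s then a else 0)) = 1 := by
          unfold wordGL
          rw [List.map_map]
          apply List.prod_eq_one
          intro x hx
          obtain ⟨s', hs', rfl⟩ := List.mem_map.1 hx
          have hne : s' ≠ s := fun e => hnd.1 (e ▸ hs')
          simp only [Function.comp_apply, if_neg hne]
          exact xGL_zero D hD F s'
        rw [this, mul_one]
      · have hne : r ≠ s := fun e => hnd.1 (e ▸ h)
        rw [if_neg hne, xGL_zero, one_mul]
        exact ih hnd.2 h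
  | one =>
    refine ⟨fun _ => 0, ?_⟩
    unfold wordGL
    rw [List.map_map]
    symm
    apply List.prod_eq_one
    intro x hx
    obtain ⟨s', hs', rfl⟩ := List.mem_map.1 hx
    exact xGL_zero D hD F s'
  | mul x y _ _ ihx ihy =>
    obtain ⟨a, rfl⟩ := ihx
    obtain ⟨b, rfl⟩ := ihy
    exact ⟨fun s => a s + b s, word_mul_word D hD F B hB a b⟩
  | inv x _ ihx =>
    obtain ⟨a, rfl⟩ := ihx
    refine ⟨fun s => -a s, ?_⟩
    rw [inv_eq_iff_mul_eq_one, word_mul_word D hD F B hB]
    simp only [add_neg_cancel]
    unfold wordGL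
    rw [List.map_map]
    apply List.prod_eq_one
    intro x hx
    obtain ⟨s', hs', rfl⟩ := List.mem_map.1 hx
    exact xGL_zero D hD F s'

include hD in
/-- conjugation by `n_J⁻¹` maps `X_{B'}` into `X_B` when `w_J` maps `B` onto `B'` -/
theorem conj_XB (J : List ℕ) (hJ : ∀ i ∈ J, i < D.rank) (B B' : List ℕ) (hBlt : ∀ s ∈ B, s < D.nroots)
    (hsurj : ∀ s' ∈ B', ∃ s ∈ B, wRoot D J s = s') (g : GL D.Idx F) (hg : g ∈ XB D hD F B') :
    (nWordGL D hD F J)⁻¹ * g * nWordGL D hD F J ∈ XB D hD F B := by
  unfold XB at hg
  induction hg using Subgroup.closure_induction with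
  | mem x hx =>
    obtain ⟨s', hs', a, rfl⟩ := hx
    obtain ⟨s, hs, rfl⟩ := hsurj s' hs'
    obtain ⟨ε, hε, hconj⟩ := nWordGL_conj D hD F J hJ s (hBlt s hs)
    have h1 := hconj (ε * a)
    rw [← mul_assoc, hε, one_mul] at h1
    rw [← h1]
    have : (nWordGL D hD F J)⁻¹ * (nWordGL D hD F J * xGL D hD F s (ε * a) * (nWordGL D hD F J)⁻¹) *
        nWordGL D hD F J = xGL D hD F s (ε * a) := by group
    rw [this]
    exact Subgroup.subset_closure ⟨s, hs, _, rfl⟩
  | one => simp
  | mul x y _ _ ihx ihy =>
    have : (nWordGL D hD F J)⁻¹ * (x * y) * nWordGL D hD F J =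
        ((nWordGL D hD F J)⁻¹ * x * nWordGL D hD F J) * ((nWordGL D hD F J)⁻¹ * y * nWordGL D hD F J) := by group
    rw [this]; exact mul_mem ihx ihy
  | inv x _ ihx =>
    have : (nWordGL D hD F J)⁻¹ * x⁻¹ * nWordGL D hD F J = ((nWordGL D hD F J)⁻¹ * x * nWordGL D hD F J)⁻¹ := by group
    rw [this]; exact inv_mem ihx

end

section
variable (D : ChevalleyDatum) (hD : D ∈ [chevG2, chevB2, chevD4, chevF4, chevE6, chevE7, chevE8])
variable (G : GraphTab) (hG : GraphOK D G) (orbs : List (List ℕ))
variable (F : Type*) [Field F] (φ : F →+* F)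

/-- reachability of all orbits from the fundamental ones: `steps` lists triples `(J, B, B')` with `w_J B = B'` -/
def chkReachOrb (base : List (List ℕ)) (steps : List (List ℕ × List ℕ × List ℕ)) : Bool :=
  (steps.all fun st => (st.1.all fun i => decide (i < D.rank)) && (st.2.1.all fun s => decide (s < D.nroots)) &&
    (st.2.2.all fun s' => st.2.1.any fun s => wRoot D st.1 s == s')) &&
  (orbs.all fun B => base.contains B || steps.any fun st => st.2.2 == B) &&
  ((List.range steps.length).all fun k =>
    base.contains (steps.getD k ([], [], [])).2.1 ||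
      (List.range k).any fun k' => (steps.getD k' ([], [], [])).2.2 == (steps.getD k ([], [], [])).2.1)

/-- if the fixed points of the fundamental orbit subgroups lie in `T`, and the folded reflections too, then all do -/
theorem XB_fixed_le (base : List (List ℕ)) (steps : List (List ℕ × List ℕ × List ℕ))
    (hchk : chkReachOrb D orbs base steps = true) (T : Subgroup (GL D.Idx F))
    (hTσ : ∀ g ∈ T, sigma D G hG F φ g = g)
    (hbase : ∀ B ∈ base, ∀ g ∈ XB D hD F B, sigma D G hG F φ g = g → g ∈ T)
    (hsteps : ∀ st ∈ steps, nWordGL D hD F st.1 ∈ T) (B : List ℕ) (hB : B ∈ orbs)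
    (g : GL D.Idx F) (hg : g ∈ XB D hD F B) (hσ : sigma D G hG F φ g = g) : g ∈ T := by
  unfold chkReachOrb at hchk
  simp only [Bool.and_eq_true, List.all_eq_true, List.mem_range, Bool.or_eq_true, List.any_eq_true,
    decide_eq_true_eq, beq_iff_eq, List.contains_iff_mem] at hchk
  obtain ⟨⟨h1, h2⟩, h3⟩ := hchk
  -- all step targets are good, by strong induction on the step index
  have hgood : ∀ k, k < steps.length → ∀ g ∈ XB D hD F (steps.getD k ([], [], [])).2.2,
      sigma D G hG F φ g = g → g ∈ T := by
    intro k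
    induction k using Nat.strong_induction_on with
    | _ k ih =>
      intro hk g hg hσ
      have hst : steps.getD k ([], [], []) ∈ steps := by
        rw [List.getD_eq_getElem _ _ hk]; exact List.getElem_mem hk
      set st := steps.getD k ([], [], []) with hstdef
      obtain ⟨⟨hJ, hBlt⟩, hsurj⟩ := h1 st hst
      have hn := hsteps st hst
      have hsrc : ∀ g ∈ XB D hD F st.2.1, sigma D G hG F φ g = g → g ∈ T := by
        rcases h3 k hk with hb | ⟨k', hk', e⟩
        · exact hbase _ hb
        · have := ih k' hk' (by omega)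
          rw [e] at this
          exact this
      have hc := conj_XB D hD F st.1 hJ st.2.1 st.2.2 hBlt
        (fun s' hs' => by
          obtain ⟨s, hs, e⟩ := hsurj s' hs'
          exact ⟨s, hs, e⟩) g hg
      have hcσ : sigma D G hG F φ ((nWordGL D hD F st.1)⁻¹ * g * nWordGL D hD F st.1) =
          (nWordGL D hD F st.1)⁻¹ * g * nWordGL D hD F st.1 := by
        rw [map_mul, map_mul, map_inv, hTσ _ hn, hσ]
      have := hsrc _ hc hcσ
      have e : g = nWordGL D hD F st.1 * ((nWordGL D hD F st.1)⁻¹ * g * nWordGL D hD F st.1) *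
          (nWordGL D hD F st.1)⁻¹ := by group
      rw [e]
      exact mul_mem (mul_mem hn this) (inv_mem hn)
  rcases h2 B hB with hb | ⟨st, hst, e⟩
  · exact hbase B hb g hg hσ
  · obtain ⟨k, hk, rfl⟩ := List.getElem_of_mem hst
    have := hgood k hk
    rw [List.getD_eq_getElem _ _ hk, e] at this
    exact this g hg hσ

end

end Cfsg.Agent.Lib.Helper36
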