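import Cfsg.Agent.Lib.Helper36.ChevTwU2

/-! # `U^σ` is generated by the fixed points of the orbit root subgroups (helper36) -/

set_option autoImplicit false

namespace Cfsg.Agent.Lib.Helper36

open Cfsg Cfsg.Lie Cfsg.Agent.Lib.Helper18

section
variable (D : ChevalleyDatum) (hD : D ∈ [chevG2, chevB2, chevD4, chevF4, chevE6, chevE7, chevE8])
variable (F : Type*) [Field F]

theorem word_flatten (L : List (List ℕ)) (t : ℕ → F) :
    wordGL D hD F (L.flatten.map fun r => (r, t r)) =
      (L.map fun B => wordGL D hD F (B.map fun r => (r, t r))).prod := by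
  induction L with
  | nil => simp [wordGL]
  | cons B L ih =>
    rw [List.map_cons, List.prod_cons, ← ih]
    simp [wordGL]

theorem word_eq_one_of_zero (l : List ℕ) (t : ℕ → F) (h : ∀ r ∈ l, t r = 0) :
    wordGL D hD F (l.map fun r => (r, t r)) = 1 := by
  unfold wordGL
  rw [List.map_map]
  apply List.prod_eq_one
  intro x hx
  obtain ⟨s, hs, rfl⟩ := List.mem_map.1 hx
  simp only [Function.comp_apply]
  rw [h s hs]
  exact xGL_zero D hD F s

end

section
variable (D : ChevalleyDatum) (hD : D ∈ [chevG2, chevB2, chevD4, chevF4, chevE6, chevE7, chevE8])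
variable (G : GraphTab) (hG : GraphOK D G) (orbs : List (List ℕ))
variable (F : Type*) [Field F] (φ : F →+* F)

include hD in
/-- a fixed point of `σ` in `U` lies in any subgroup containing the fixed points of the orbit root subgroups -/
theorem posFixed_le [Fintype F] (hchk : chkOrb D G orbs = true) (T : Subgroup (GL D.Idx F))
    (hT : ∀ B ∈ orbs, ∀ g ∈ XB D hD F B, sigma D G hG F φ g = g → g ∈ T)
    (u : GL D.Idx F) (hu : u ∈ D.posUnipotent F) (hσ : sigma D G hG F φ u = u) : u ∈ T := by
  obtain ⟨hk, hb⟩ := chkOrb_spec D G orbs hchk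
  obtain ⟨t, rfl⟩ := key_exists D hD F _ hk u hu
  have ht := (sigma_fixed_iff D hD G hG orbs F φ hchk t).1 hσ
  rw [word_flatten]
  apply Subgroup.list_prod_mem
  intro x hx
  obtain ⟨B, hB, rfl⟩ := List.mem_map.1 hx
  apply hT B hB _ (word_mem_XB D hD F B t)
  rw [sigma_block D hD G hG orbs F φ hchk B hB]
  congr 1
  apply List.map_congr_left
  intro r hr
  rw [← ht r (List.mem_flatten.2 ⟨B, hB, hr⟩)]

include hD in
/-- the coefficients of a product over one orbit block are determined -/
theorem block_unique [Fintype F] (hchk : chkOrb D G orbs = true) (B : List ℕ) (hB : B ∈ orbs) (a b : ℕ → F)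
    (e : wordGL D hD F (B.map fun r => (r, a r)) = wordGL D hD F (B.map fun r => (r, b r))) :
    ∀ r ∈ B, a r = b r := by
  classical
  obtain ⟨hk, -⟩ := chkOrb_spec D G orbs hchk
  obtain ⟨hnd, -, -, -⟩ := chkKeyOrd_spec D _ hk
  obtain ⟨s, t, hst⟩ := List.append_of_mem hB
  have hfl : orbs.flatten = s.flatten ++ (B ++ t.flatten) := by rw [hst]; simp
  rw [hfl] at hnd
  have hs : ∀ r ∈ s.flatten, r ∉ B := by
    intro r hr hrB
    exact (List.nodup_append.1 hnd).2.2 r hr r (List.mem_append_left _ hrB) rfl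
  have ht : ∀ r ∈ t.flatten, r ∉ B := by
    intro r hr hrB
    exact (List.nodup_append.1 (List.nodup_append.1 hnd).2.1).2.2 r hrB r hr rfl
  have pad : ∀ c : ℕ → F, wordGL D hD F (orbs.flatten.map fun r => (r, if r ∈ B then c r else 0)) =
      wordGL D hD F (B.map fun r => (r, c r)) := by
    intro c
    rw [hfl, List.map_append, List.map_append]
    have e1 := word_eq_one_of_zero D hD F s.flatten (fun r => if r ∈ B then c r else 0)
      (fun r hr => if_neg (hs r hr))
    have e3 := word_eq_one_of_zero D hD F t.flatten (fun r => if r ∈ B then c r else 0)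
      (fun r hr => if_neg (ht r hr))
    have e2 : (B.map fun r => (r, if r ∈ B then c r else 0)) = B.map fun r => (r, c r) := by
      apply List.map_congr_left
      intro r hr
      rw [if_pos hr]
    have happ : ∀ l₁ l₂ : List (ℕ × F), wordGL D hD F (l₁ ++ l₂) = wordGL D hD F l₁ * wordGL D hD F l₂ := by
      intro l₁ l₂; simp [wordGL]
    rw [happ, happ, e1, e3, e2, one_mul, mul_one]
  intro r hr
  have := key_unique D hD F _ hk (fun r => if r ∈ B then a r else 0) (fun r => if r ∈ B then b r else 0)
    (by rw [pad a, pad b, e]) r (List.mem_flatten.2 ⟨B, hB, hr⟩)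
  simpa [hr] using this

include hD in
/-- the fixed points of `σ` on an orbit root subgroup are the twisted products -/
theorem XB_fixed_eq_word [Fintype F] (hchk : chkOrb D G orbs = true) (B : List ℕ) (hB : B ∈ orbs)
    (g : GL D.Idx F) (hg : g ∈ XB D hD F B) (hσ : sigma D G hG F φ g = g) :
    ∃ a : ℕ → F, (∀ r ∈ B, a r = tw G F φ a r) ∧ g = wordGL D hD F (B.map fun r => (r, a r)) := by
  obtain ⟨hk, hb⟩ := chkOrb_spec D G orbs hchk
  obtain ⟨hnd, -, -, -⟩ := chkKeyOrd_spec D _ hk
  have hndB : B.Nodup := (List.nodup_flatten.1 hnd).1 B hB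
  have hcomm : B.Pairwise fun r s => ∀ t u : F, Commute (xGL D hD F r t) (xGL D hD F s u) := by
    refine hndB.pairwise_of_forall_ne ?_
    intro r hr s hs hne
    exact (so_of_chk D hD F r s ((hb B hB).2.1 r hr s hs hne)).xx
  obtain ⟨a, rfl⟩ := exists_word_of_mem_XB D hD F B hndB hcomm g hg
  refine ⟨a, ?_, rfl⟩
  rw [sigma_block D hD G hG orbs F φ hchk B hB] at hσ
  intro r hr
  exact (block_unique D hD G orbs F hchk B hB _ _ hσ r hr).symm

end

end Cfsg.Agent.Lib.Helper36
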