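import Cfsg.Agent.Lib.Helper36.ChevTwGroup
import Cfsg.Agent.Lib.Helper36.ChevCentL

/-! # The Weyl group elements commuting with the graph symmetry (helper36) -/

set_option autoImplicit false

namespace Cfsg.Agent.Lib.Helper36

open Cfsg Cfsg.Lie Cfsg.Agent.Lib.Helper18

section lin
variable (D : ChevalleyDatum) (hD : D ∈ [chevG2, chevB2, chevD4, chevF4, chevE6, chevE7, chevE8])

/-- the Cartan matrix in the form used by `reflMat` -/
def cartA : Matrix (Fin D.rank) (Fin D.rank) ℤ := Matrix.of fun i j => D.cartan j (D.simple i)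

/-- the matrix of a Weyl word on coroot coordinates -/
def wMat : List (Fin D.rank) → Matrix (Fin D.rank) (Fin D.rank) ℤ
  | [] => 1
  | i :: l => wMat l * reflMat (cartA D) i

include hD in
theorem cvec_wRoot' (ω : List (Fin D.rank)) (r : ℕ) (hr : r < D.nroots) :
    cvec D (wRoot D (ω.map Fin.val) r) = Matrix.vecMul (cvec D r) (wMat D ω) := by
  induction ω with
  | nil => simp [wRoot, wMat]
  | cons i ω ih =>
    have hl : ∀ i' ∈ ω.map Fin.val, i' < D.rank := by
      intro i' hi'
      obtain ⟨j, -, rfl⟩ := List.mem_map.1 hi'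
      exact j.isLt
    show cvec D (D.reflectRoot i (wRoot D (ω.map Fin.val) r)) = _
    rw [cvec_reflect D hD (cartA D) (fun _ _ => rfl) i _ (wRoot_lt D hD _ hl r hr), ih, Matrix.vecMul_vecMul]
    rfl

include hD in
/-- linearity of the action of a Weyl word on coroot coordinates -/
theorem cor_wRoot_lin (l : List ℕ) (hl : ∀ i ∈ l, i < D.rank) (r : ℕ) (hr : r < D.nroots) (j : ℕ) (hj : j < D.rank) :
    cor D (wRoot D l r) j = ∑ k : Fin D.rank, cor D r k * cor D (wRoot D l (D.simple k)) j := by
  obtain ⟨ω, rfl⟩ : ∃ ω : List (Fin D.rank), ω.map Fin.val = l :=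
    ⟨l.pmap (fun i hi => ⟨i, hi⟩) hl, by simp [List.map_pmap]⟩
  have h1 := congrFun (cvec_wRoot' D hD ω r hr) ⟨j, hj⟩
  have h2 : ∀ k : Fin D.rank, cor D (wRoot D (ω.map Fin.val) (D.simple k)) j = wMat D ω k ⟨j, hj⟩ := by
    intro k
    have hk := (chkN2_spec D (chkN2_all D hD) k k.isLt).1
    have := congrFun (cvec_wRoot' D hD ω (D.simple k) hk) ⟨j, hj⟩
    rw [cvec_simple D hD k, Matrix.single_vecMul] at this
    simpa [cvec] using this
  simp only [h2]
  simpa [cvec, Matrix.vecMul, dotProduct] using h1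

include hD in
/-- a Weyl word that keeps the fundamental roots positive keeps all positive roots positive -/
theorem pos_of_simple_pos (l : List ℕ) (hl : ∀ i ∈ l, i < D.rank)
    (h : ∀ k < D.rank, D.IsPosRoot (wRoot D l (D.simple k))) (r : ℕ) (hr : D.IsPosRoot r) :
    D.IsPosRoot (wRoot D l r) := by
  have hf := wfFast_all D hD
  have hlt := wRoot_lt D hD l hl r hr.1
  have hnn : ∀ j < D.rank, 0 ≤ cor D (wRoot D l r) j := by
    intro j hj
    rw [cor_wRoot_lin D hD l hl r hr.1 j hj]
    apply Finset.sum_nonneg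
    intro k _
    have hk := (chkN2_spec D (chkN2_all D hD) k k.isLt).1
    exact mul_nonneg ((isPosRoot_iff D hf r hr.1).1 hr k k.isLt)
      ((isPosRoot_iff D hf _ (wRoot_lt D hD l hl _ hk)).1 (h k k.isLt) j hj)
  exact (isPosRoot_iff D hf _ hlt).2 hnn

/-- the number of positive roots made negative by a Weyl word -/
noncomputable def Nw (l : List ℕ) : ℕ := {r : Fin D.nroots | D.IsPosRoot r ∧ D.IsNegRoot (wRoot D l r)}.ncard

include hD in
/-- `N(w s_i) = N(w) - 1` when `w(p_i) < 0` -/
theorem Nw_step (l : List ℕ) (hl : ∀ i ∈ l, i < D.rank) (i : ℕ) (hi : i < D.rank)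
    (hneg : D.IsNegRoot (wRoot D l (D.simple i))) : Nw D l = Nw D (l ++ [i]) + 1 := by
  have hp := (chkN2_spec D (chkN2_all D hD) i hi).1
  have hpos := isPosRoot_simple D hD i hi
  set σ : Equiv.Perm (Fin D.nroots) := wEquiv D hD ⟨i, hi⟩ with hσdef
  have hσr : ∀ r : Fin D.nroots, ((σ • r : Fin D.nroots) : ℕ) = D.reflectRoot i r := by
    intro r
    exact wFin_eq_reflect D hD ⟨i, hi⟩ r
  have hcm := (count_mul_refl (W := Equiv.Perm (Fin D.nroots)) (Φ := Fin D.nroots)
    (pos := fun r => D.IsPosRoot r) (neg := negFin D hD) (pos_negFin D hD) σ ⟨D.simple i, hp⟩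
    (by ext r; show ((σ • (σ • r) : Fin D.nroots) : ℕ) = r
        exact congrArg Fin.val (wFin_wFin_apply D hD ⟨i, hi⟩ r))
    hpos
    (by apply Fin.ext; rw [hσr]; show D.reflectRoot i (D.simple i) = D.neg (D.simple i)
        exact reflectRoot_simple D i)
    (by intro r hr hne
        show D.IsPosRoot ((σ • r : Fin D.nroots) : ℕ)
        rw [hσr]
        exact reflect_pos D hD i r hi hr (fun e => hne (Fin.ext e)))
    (fun r => D.IsNegRoot (wRoot D l r))).1 hneg ?_
  · unfold Nw
    rw [hcm]
    congr 2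
    ext r
    simp only [Set.mem_ofPred_eq]
    rw [hσr, wRoot_append]
    rfl
  · show ¬ D.IsNegRoot (wRoot D l (D.neg (D.simple i)))
    rw [wRoot_neg D hD l hl _ hp]
    intro h
    exact not_pos_and_neg D hD _ (isPosRoot_neg D hD _ hneg) h

include hD in
/-- a word with `N(w) = 0` acts trivially on the roots -/
theorem wRoot_eq_of_Nw_zero (F : Type*) [Field F] (l : List ℕ) (hl : ∀ i ∈ l, i < D.rank) (h0 : Nw D l = 0)
    (r : ℕ) (hr : r < D.nroots) : wRoot D l r = r := by
  have hfin : {r : Fin D.nroots | D.IsPosRoot r ∧ D.IsNegRoot (wRoot D l r)}.Finite := Set.toFinite _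
  unfold Nw at h0
  rw [Set.ncard_eq_zero hfin] at h0
  have hpos : ∀ s, D.IsPosRoot s → D.IsPosRoot (wRoot D l s) := by
    intro s hs
    rcases pos_or_neg D hD _ (wRoot_lt D hD l hl s hs.1) with h | h
    · exact h
    · exfalso
      have : (⟨s, hs.1⟩ : Fin D.nroots) ∈ {r : Fin D.nroots | D.IsPosRoot r ∧ D.IsNegRoot (wRoot D l r)} := ⟨hs, h⟩
      rw [h0] at this
      exact this
  have hmem := nWord_mem_diag_of_pos D hD F l hl hpos
  have h1 : (nWordGL D hD F ([] : List ℕ))⁻¹ * nWordGL D hD F l ∈ D.diagonalSubgroup F := by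
    simpa [nWordGL] using hmem
  exact (wRoot_eq_of_mem_diag D hD F [] l (by simp) hl h1 r hr).symm

include hD in
/-- a word keeping the fundamental roots positive acts trivially on the roots -/
theorem wRoot_eq_of_simple_pos (F : Type*) [Field F] (l : List ℕ) (hl : ∀ i ∈ l, i < D.rank)
    (h : ∀ k < D.rank, D.IsPosRoot (wRoot D l (D.simple k))) (r : ℕ) (hr : r < D.nroots) : wRoot D l r = r := by
  have hmem := nWord_mem_diag_of_pos D hD F l hl (pos_of_simple_pos D hD l hl h)
  have h1 : (nWordGL D hD F ([] : List ℕ))⁻¹ * nWordGL D hD F l ∈ D.diagonalSubgroup F := by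
    simpa [nWordGL] using hmem
  exact (wRoot_eq_of_mem_diag D hD F [] l (by simp) hl h1 r hr).symm

end lin

/-- a Weyl word commutes with the graph symmetry -/
def RhoComm (D : ChevalleyDatum) (G : GraphTab) (l : List ℕ) : Prop :=
  ∀ r < D.nroots, wRoot D (l.map G.ρs) r = wRoot D l r

instance (D : ChevalleyDatum) (G : GraphTab) (l : List ℕ) : Decidable (RhoComm D G l) :=
  inferInstanceAs (Decidable (∀ r < D.nroots, _))

/-- table checks on the folded reflections -/
def chkFundW (D : ChevalleyDatum) (G : GraphTab) (fund : List (List ℕ)) : Bool :=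
  ((List.range D.rank).all fun k => fund.any fun J => J.contains k) &&
  (fund.all fun J => !J.isEmpty &&
    (J.all fun j => J.all fun j' => (List.range 3).any fun m => Nat.iterate G.ρs m j == j') &&
    ((List.range J.length).all fun k => wRoot D (J.take k) (D.simple (J.getD k 0)) == D.simple (J.getD k 0)) &&
    ((List.range D.nroots).all fun r => wRoot D (J.map G.ρs) r == wRoot D J r && wRoot D J (wRoot D J r) == r) &&
    (J.sublists.all fun J' => J' == [] || J' == J ||
      !((List.range D.nroots).all fun r => wRoot D (J'.map G.ρs) r == wRoot D J' r)) &&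
    (fund.all fun J' => J == J' || (List.range D.nroots).any fun r => wRoot D J r != wRoot D J' r) &&
    (J.all fun j => decide (D.IsNegRoot (wRoot D J (D.simple j)))))

section W
variable (D : ChevalleyDatum) (hD : D ∈ [chevG2, chevB2, chevD4, chevF4, chevE6, chevE7, chevE8])
variable (G : GraphTab) (hG : GraphOK D G) (fund : List (List ℕ))

theorem chkFundW_spec (h : chkFundW D G fund = true) :
    (∀ k < D.rank, ∃ J ∈ fund, k ∈ J) ∧
    ∀ J ∈ fund, J ≠ [] ∧ (∀ j ∈ J, ∀ j' ∈ J, ∃ m, Nat.iterate G.ρs m j = j') ∧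
      (∀ k < J.length, wRoot D (J.take k) (D.simple (J.getD k 0)) = D.simple (J.getD k 0)) ∧
      RhoComm D G J ∧ (∀ r < D.nroots, wRoot D J (wRoot D J r) = r) ∧
      (∀ J', J'.Sublist J → RhoComm D G J' → J' = [] ∨ J' = J) ∧
      (∀ J' ∈ fund, J ≠ J' → ∃ r < D.nroots, wRoot D J r ≠ wRoot D J' r) ∧
      (∀ j ∈ J, D.IsNegRoot (wRoot D J (D.simple j))) := by
  unfold chkFundW at h
  simp only [Bool.and_eq_true, List.all_eq_true, List.mem_range, List.any_eq_true, List.contains_iff_mem,
    beq_iff_eq, Bool.or_eq_true, Bool.not_eq_true', bne_iff_ne, ne_eq, List.mem_sublists,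
    List.isEmpty_eq_false_iff, decide_eq_true_eq] at h
  obtain ⟨h1, h2⟩ := h
  refine ⟨h1, fun J hJ => ?_⟩
  obtain ⟨⟨⟨⟨⟨⟨a1, a2⟩, a3⟩, a4⟩, a5⟩, a6⟩, a7⟩ := h2 J hJ
  refine ⟨a1, ?_, a3, fun r hr => (a4 r hr).1, fun r hr => (a4 r hr).2, ?_, ?_, a7⟩
  · intro j hj j' hj'
    obtain ⟨m, -, hm⟩ := a2 j hj j' hj'
    exact ⟨m, hm⟩
  · intro J' hJ' hrc
    rcases a5 J' hJ' with h | h
    · exact h
    · exfalso
      rw [List.all_eq_false] at h
      obtain ⟨r, hr, hne⟩ := h
      rw [List.mem_range] at hr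
      apply hne
      rw [beq_iff_eq]
      exact hrc r hr
  · intro J' hJ' hne
    rcases a6 J' hJ' with h | h
    · exact absurd h hne
    · exact h

include hD hG in
/-- `ρ` commutes with the action of a word commuting with the graph symmetry -/
theorem rho_wRoot_comm (l : List ℕ) (hl : ∀ i ∈ l, i < D.rank) (hrc : RhoComm D G l) (r : ℕ) (hr : r < D.nroots) :
    G.ρ (wRoot D l r) = wRoot D l (G.ρ r) := by
  rw [rho_wRoot D hD G hG l hl r hr]
  exact hrc _ (graph_lt D G hG r hr).1

include hD hG in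
theorem rhoComm_append (l l' : List ℕ) (hl' : ∀ i ∈ l', i < D.rank) (h : RhoComm D G l) (h' : RhoComm D G l') :
    RhoComm D G (l ++ l') := by
  intro r hr
  have hl'' : ∀ i ∈ l'.map G.ρs, i < D.rank := by
    intro i hi
    obtain ⟨j, hj, rfl⟩ := List.mem_map.1 hi
    exact (graph_s_lt D G hG j (hl' j hj)).1
  rw [List.map_append, wRoot_append, wRoot_append, h' r hr, h _ (wRoot_lt D hD l' hl' r hr)]

include hD hG in
/-- the fundamental roots of a whole orbit of nodes are made negative together -/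
theorem orbit_neg (hW : chkFundW D G fund = true) (l : List ℕ) (hl : ∀ i ∈ l, i < D.rank) (hrc : RhoComm D G l)
    (J : List ℕ) (hJ : J ∈ fund) (hJr : ∀ j ∈ J, j < D.rank) (j : ℕ) (hj : j ∈ J)
    (hneg : D.IsNegRoot (wRoot D l (D.simple j))) (j' : ℕ) (hj' : j' ∈ J) :
    D.IsNegRoot (wRoot D l (D.simple j')) := by
  obtain ⟨m, rfl⟩ := ((chkFundW_spec D G fund hW).2 J hJ).2.1 j hj j' hj'
  have key : ∀ m : ℕ, Nat.iterate G.ρs m j < D.rank ∧ D.IsNegRoot (wRoot D l (D.simple (Nat.iterate G.ρs m j))) := by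
    intro m
    induction m with
    | zero => exact ⟨hJr j hj, hneg⟩
    | succ m ih =>
      obtain ⟨ih1, ih2⟩ := ih
      rw [Function.iterate_succ_apply']
      refine ⟨(graph_s_lt D G hG _ ih1).1, ?_⟩
      have hp := (chkN2_spec D (chkN2_all D hD) _ ih1).1
      rw [← ((graph2_spec D G hG).2 _ ih1).1, ← rho_wRoot_comm D hD G hG l hl hrc _ hp]
      exact ((graph2_spec D G hG).1 _ (wRoot_lt D hD l hl _ hp)).2.2.2.1.2 ih2
  exact (key m).2

include hD in
/-- multiplying by a folded reflection all of whose roots are made negative lowers `N(w)` -/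
theorem Nw_orbit (hW : chkFundW D G fund = true) (l : List ℕ) (hl : ∀ i ∈ l, i < D.rank)
    (J : List ℕ) (hJ : J ∈ fund) (hJr : ∀ j ∈ J, j < D.rank)
    (hneg : ∀ j ∈ J, D.IsNegRoot (wRoot D l (D.simple j))) : Nw D (l ++ J) + J.length = Nw D l := by
  obtain ⟨-, -, h3, -⟩ := (chkFundW_spec D G fund hW).2 J hJ
  have key : ∀ k ≤ J.length, Nw D (l ++ J.take k) + k = Nw D l := by
    intro k
    induction k with
    | zero => intro _; simp
    | succ k ih =>
      intro hk
      have hk' : k < J.length := hk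
      have e : J.take (k + 1) = J.take k ++ [J.getD k 0] := by
        rw [List.take_succ_eq_append_getElem hk', List.getD_eq_getElem _ _ hk']
      have hjk : J.getD k 0 ∈ J := by
        rw [List.getD_eq_getElem _ _ hk']; exact List.getElem_mem hk'
      have hlk : ∀ i ∈ l ++ J.take k, i < D.rank := by
        intro i hi
        rcases List.mem_append.1 hi with h | h
        · exact hl i h
        · exact hJr i (List.mem_of_mem_take h)
      have hn : D.IsNegRoot (wRoot D (l ++ J.take k) (D.simple (J.getD k 0))) := by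
        rw [wRoot_append, h3 k hk']
        exact hneg _ hjk
      have := Nw_step D hD (l ++ J.take k) hlk (J.getD k 0) (hJr _ hjk) hn
      rw [e, ← List.append_assoc]
      have ih' := ih (Nat.le_of_succ_le hk)
      omega
  have := key J.length le_rfl
  rwa [List.take_length] at this

include hD hG in
/-- every Weyl word commuting with the graph symmetry acts as a product of folded reflections -/
theorem folded_exists (F : Type*) [Field F] (hW : chkFundW D G fund = true) (hfr : ∀ J ∈ fund, ∀ j ∈ J, j < D.rank)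
    (l : List ℕ) (hl : ∀ i ∈ l, i < D.rank) (hrc : RhoComm D G l) :
    ∃ Js : List (List ℕ), (∀ J ∈ Js, J ∈ fund) ∧ ∀ r < D.nroots, wRoot D Js.flatten r = wRoot D l r := by
  induction hN : Nw D l using Nat.strong_induction_on generalizing l with
  | _ n ih =>
    by_cases hall : ∀ k < D.rank, D.IsPosRoot (wRoot D l (D.simple k))
    · refine ⟨[], by simp, fun r hr => ?_⟩
      rw [wRoot_eq_of_simple_pos D hD F l hl hall r hr]
      rfl
    · push Not at hall
      obtain ⟨k, hk, hnp⟩ := hall
      have hp := (chkN2_spec D (chkN2_all D hD) k hk).1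
      have hneg : D.IsNegRoot (wRoot D l (D.simple k)) := by
        rcases pos_or_neg D hD _ (wRoot_lt D hD l hl _ hp) with h | h
        · exact absurd h hnp
        · exact h
      obtain ⟨hcov, hJs⟩ := chkFundW_spec D G fund hW
      obtain ⟨J, hJ, hkJ⟩ := hcov k hk
      obtain ⟨hJne, -, -, hJrc, hJinv, -, -, -⟩ := hJs J hJ
      have hJr := hfr J hJ
      have hnegJ := orbit_neg D hD G hG fund hW l hl hrc J hJ hJr k hkJ hneg
      have hNw := Nw_orbit D hD G fund hW l hl J hJ hJr hnegJ
      have hlen : 0 < J.length := List.length_pos_of_ne_nil hJne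
      have hlJ : ∀ i ∈ l ++ J, i < D.rank := by
        intro i hi
        rcases List.mem_append.1 hi with h | h
        · exact hl i h
        · exact hJr i h
      obtain ⟨Js, hJs1, hJs2⟩ := ih (Nw D (l ++ J)) (by omega) (l ++ J) hlJ
        (rhoComm_append D hD G hG l J hJr hrc hJrc) rfl
      refine ⟨Js ++ [J], ?_, ?_⟩
      · intro J' hJ'
        rcases List.mem_append.1 hJ' with h | h
        · exact hJs1 J' h
        · rw [List.mem_singleton] at h; rw [h]; exact hJ
      · intro r hr
        rw [List.flatten_append, List.flatten_singleton, wRoot_append,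
          hJs2 _ (wRoot_lt D hD J hJr r hr), wRoot_append, hJinv r hr]

end W

end Cfsg.Agent.Lib.Helper36
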