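import Cfsg.Agent.Lib.Helper36.ChevTwCore

/-! # The Weyl group `N¹/H¹` of a twisted group is a Coxeter group (helper36) -/

set_option autoImplicit false
set_option linter.unusedSectionVars false

namespace Cfsg.Agent.Lib.Helper36

open Cfsg Cfsg.Lie Cfsg.Agent.Lib.Helper18

section mat
variable (D : ChevalleyDatum) (hD : D ∈ [chevG2, chevB2, chevD4, chevF4, chevE6, chevE7, chevE8])

/-- the matrix of a fundamental reflection on coroot coordinates (identity for an index out of range) -/
def reflN (i : ℕ) : Matrix (Fin D.rank) (Fin D.rank) ℤ :=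
  if h : i < D.rank then reflMat (cartA D) ⟨i, h⟩ else 1

/-- the matrix of a Weyl word on coroot coordinates -/
def wMatN : List ℕ → Matrix (Fin D.rank) (Fin D.rank) ℤ
  | [] => 1
  | i :: l => wMatN l * reflN D i

theorem wMatN_append (l₁ l₂ : List ℕ) : wMatN D (l₁ ++ l₂) = wMatN D l₂ * wMatN D l₁ := by
  induction l₁ with
  | nil => simp [wMatN]
  | cons i l ih => simp [wMatN, ih, mul_assoc]

include hD in
theorem cvec_wRootN (l : List ℕ) (hl : ∀ i ∈ l, i < D.rank) (r : ℕ) (hr : r < D.nroots) :
    cvec D (wRoot D l r) = Matrix.vecMul (cvec D r) (wMatN D l) := by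
  induction l with
  | nil => simp [wRoot, wMatN]
  | cons i l ih =>
    have hi := hl i (List.mem_cons_self ..)
    have hl' : ∀ i' ∈ l, i' < D.rank := fun i' hi' => hl i' (List.mem_cons_of_mem _ hi')
    show cvec D (D.reflectRoot i (wRoot D l r)) = _
    have := cvec_reflect D hD (cartA D) (fun _ _ => rfl) ⟨i, hi⟩ _ (wRoot_lt D hD _ hl' r hr)
    rw [this, ih hl', Matrix.vecMul_vecMul]
    simp [wMatN, reflN, hi]

end mat

section main
variable (D : ChevalleyDatum) (hD : D ∈ [chevG2, chevB2, chevD4, chevF4, chevE6, chevE7, chevE8])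
variable (G : GraphTab) (orbs fund : List (List ℕ)) (steps : List (List ℕ × List ℕ × List ℕ))
variable (hok : TwOK D G orbs fund steps)
variable (F : Type*) [Field F] [Fintype F] (φ : F →+* F)

include hD in
theorem nWordGL_replicate (l : List ℕ) (n : ℕ) :
    nWordGL D hD F (List.replicate n l).flatten = (nWordGL D hD F l) ^ n := by
  induction n with
  | zero => simp [nWordGL]
  | succ n ih => rw [List.replicate_succ, List.flatten_cons, nWordGL_append, ih, pow_succ']

include hD in
theorem nWordGL_flatten_map {α : Type*} (ω : List α) (gen : α → List ℕ) :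
    nWordGL D hD F (ω.map gen).flatten = (ω.map fun k => nWordGL D hD F (gen k)).prod := by
  induction ω with
  | nil => simp [nWordGL]
  | cons k ω ih => rw [List.map_cons, List.flatten_cons, nWordGL_append, ih, List.map_cons, List.prod_cons]

include hD hok in
/-- `N¹/H¹` is the Coxeter group with the folded reflections as generators -/
theorem tw_weyl_equiv {m : ℕ} (M' : CoxeterMatrix (Fin m)) (A' : Matrix (Fin m) (Fin m) ℤ)
    (hA' : M'.IsLiftable (reflMat A')) (hker' : ∀ w : M'.Group, rho M' A' hA' w = 1 → w = 1)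
    (gen : Fin m → List ℕ) (hgen : ∀ k, gen k ∈ fund) (hcov : ∀ J ∈ fund, ∃ k, gen k = J)
    (hbraid : ∀ k k' : Fin m, ∀ r < D.nroots,
      wRoot D (List.replicate (M' k k') (gen k ++ gen k')).flatten r = r)
    (P : Matrix (Fin D.rank) (Fin m) ℤ) (S : Matrix (Fin m) (Fin D.rank) ℤ) (hSP : S * P = 1)
    (hequi : ∀ k, wMatN D (gen k) * P = P * reflMat A' k) :
    ∃ f : ↥(D.monomialSubgroup F ⊓ twGroup D hD G F φ fund) →* M'.Group, Function.Surjective f ∧
      f.ker = (D.diagonalSubgroup F ⊓ twGroup D hD G F φ fund).subgroupOf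
        (D.monomialSubgroup F ⊓ twGroup D hD G F φ fund) := by
  set T := twGroup D hD G F φ fund with hT
  set N1 := D.monomialSubgroup F ⊓ T with hN1
  set H1 := (D.diagonalSubgroup F ⊓ T).subgroupOf N1 with hH1
  have hHN := diagonal_le_monomial D F
  have hmemH1 : ∀ x : ↥N1, x ∈ H1 ↔ (x : GL D.Idx F) ∈ D.diagonalSubgroup F := by
    intro x
    rw [hH1, Subgroup.mem_subgroupOf, Subgroup.mem_inf]
    exact ⟨fun h => h.1, fun h => ⟨h, (Subgroup.mem_inf.1 x.2).2⟩⟩
  have hnorm : H1.Normal := by
    constructor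
    intro h hh n
    rw [hmemH1] at hh ⊢
    have := conj_mem_diag D hD F ((n : GL D.Idx F))⁻¹ _ (inv_mem (Subgroup.mem_inf.1 n.2).1) hh
    rw [inv_inv] at this
    simpa using this
  let q := QuotientGroup.mk' H1
  have hq : q.ker = H1 := QuotientGroup.ker_mk' _
  have hqs : Function.Surjective q := QuotientGroup.mk'_surjective _
  have hq1 : ∀ x : ↥N1, q x = 1 ↔ (x : GL D.Idx F) ∈ D.diagonalSubgroup F := by
    intro x
    rw [← MonoidHom.mem_ker, hq, hmemH1]
  have hgr : ∀ k, ∀ j ∈ gen k, j < D.rank := fun k => fund_lt D G orbs fund steps hok _ (hgen k)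
  have hgN : ∀ k, nWordGL D hD F (gen k) ∈ N1 := by
    intro k
    obtain ⟨h1, h2, -⟩ := tw_nJ D hD G orbs fund steps hok F φ _ (hgen k)
    exact Subgroup.mem_inf.2 ⟨h1, h2⟩
  let sgen : Fin m → ↥N1 := fun k => ⟨nWordGL D hD F (gen k), hgN k⟩
  -- the braid relations
  have hlift : M'.IsLiftable (fun k => q (sgen k)) := by
    intro k k'
    rw [← map_mul, ← map_pow, hq1]
    show ((sgen k * sgen k') ^ (M' k k') : ↥N1).1 ∈ D.diagonalSubgroup F
    rw [Subgroup.coe_pow, Subgroup.coe_mul]
    show (nWordGL D hD F (gen k) * nWordGL D hD F (gen k')) ^ (M' k k') ∈ _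
    rw [← nWordGL_append, ← nWordGL_replicate]
    have hl : ∀ i ∈ (List.replicate (M' k k') (gen k ++ gen k')).flatten, i < D.rank := by
      intro i hi
      obtain ⟨l, hl, hil⟩ := List.mem_flatten.1 hi
      rw [List.eq_of_mem_replicate hl] at hil
      rcases List.mem_append.1 hil with h | h
      · exact hgr k i h
      · exact hgr k' i h
    apply nWord_mem_diag_of_pos D hD F _ hl
    intro s hs
    rw [hbraid k k' s hs.1]
    exact hs
  let ψ : M'.Group →* (↥N1 ⧸ H1) := M'.toCoxeterSystem.lift ⟨fun k => q (sgen k), hlift⟩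
  have hψs : ∀ k, ψ (M'.simple k) = q (sgen k) := fun k => M'.toCoxeterSystem.lift_apply_simple _ k
  have hψw : ∀ ω : List (Fin m), ∃ hp : nWordGL D hD F (ω.map gen).flatten ∈ N1,
      ψ (M'.toCoxeterSystem.wordProd ω) = q ⟨_, hp⟩ := by
    intro ω
    induction ω with
    | nil =>
      have h1 : nWordGL D hD F (([] : List (Fin m)).map gen).flatten = 1 := by simp [nWordGL]
      have hp : nWordGL D hD F (([] : List (Fin m)).map gen).flatten ∈ N1 := by rw [h1]; exact one_mem _
      refine ⟨hp, ?_⟩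
      have h2 : (⟨_, hp⟩ : ↥N1) = 1 := Subtype.ext h1
      rw [h2, map_one, CoxeterSystem.wordProd_nil, map_one]
    | cons k ω ih =>
      obtain ⟨hp, e⟩ := ih
      have h1 : nWordGL D hD F ((k :: ω).map gen).flatten =
          nWordGL D hD F (gen k) * nWordGL D hD F (ω.map gen).flatten := by
        rw [List.map_cons, List.flatten_cons, nWordGL_append]
      have hp' : nWordGL D hD F ((k :: ω).map gen).flatten ∈ N1 := by
        rw [h1]
        exact mul_mem (hgN k) hp
      refine ⟨hp', ?_⟩
      have h2 : (⟨_, hp'⟩ : ↥N1) = sgen k * ⟨_, hp⟩ := Subtype.ext h1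
      rw [h2, CoxeterSystem.wordProd_cons, map_mul, e, map_mul]
      congr 1
      exact hψs k
  -- surjectivity
  have hsur : Function.Surjective ψ := by
    intro x
    obtain ⟨n, rfl⟩ := hqs x
    obtain ⟨hnN, hnT⟩ := Subgroup.mem_inf.1 n.2
    obtain ⟨Js, hJs, h, hh, e⟩ := tw_mono_folded D hD G orbs fund steps hok F φ n.1 hnN hnT
    have hprod : ∀ (Js : List (List ℕ)), (∀ J ∈ Js, J ∈ fund) →
        ∀ hp : (Js.map fun J => nWordGL D hD F J).prod ∈ N1, q ⟨_, hp⟩ ∈ ψ.range := by
      intro Js
      induction Js with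
      | nil =>
        intro _ hp
        have : (⟨(([] : List (List ℕ)).map fun J => nWordGL D hD F J).prod, hp⟩ : ↥N1) = 1 := Subtype.ext (by simp)
        rw [this, map_one]
        exact one_mem _
      | cons J Js ih =>
        intro hJs hp
        have hJ := hJs J (List.mem_cons_self ..)
        have hJs' : ∀ J' ∈ Js, J' ∈ fund := fun J' hJ' => hJs J' (List.mem_cons_of_mem _ hJ')
        obtain ⟨k, hk⟩ := hcov J hJ
        have hp' : (Js.map fun J => nWordGL D hD F J).prod ∈ N1 := by
          apply Subgroup.list_prod_mem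
          intro x hx
          obtain ⟨J', hJ', rfl⟩ := List.mem_map.1 hx
          obtain ⟨h1, h2, -⟩ := tw_nJ D hD G orbs fund steps hok F φ J' (hJs' J' hJ')
          exact Subgroup.mem_inf.2 ⟨h1, h2⟩
        have e2 : (⟨((J :: Js).map fun J => nWordGL D hD F J).prod, hp⟩ : ↥N1) =
            sgen k * ⟨(Js.map fun J => nWordGL D hD F J).prod, hp'⟩ := by
          apply Subtype.ext
          show _ = nWordGL D hD F (gen k) * _
          rw [hk]
          simp
        rw [e2, map_mul]
        exact mul_mem ⟨M'.simple k, hψs k⟩ (ih hJs' hp')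
    have hpN : (Js.map fun J => nWordGL D hD F J).prod ∈ N1 := by
      apply Subgroup.list_prod_mem
      intro x hx
      obtain ⟨J', hJ', rfl⟩ := List.mem_map.1 hx
      obtain ⟨h1, h2, -⟩ := tw_nJ D hD G orbs fund steps hok F φ J' (hJs J' hJ')
      exact Subgroup.mem_inf.2 ⟨h1, h2⟩
    have hhN : h ∈ N1 := Subgroup.mem_inf.2 ⟨hHN (Subgroup.mem_inf.1 hh).1, (Subgroup.mem_inf.1 hh).2⟩
    have en : n = (⟨_, hpN⟩ : ↥N1) * ⟨h, hhN⟩ := Subtype.ext e
    have hqh : q ⟨h, hhN⟩ = 1 := (hq1 _).2 (Subgroup.mem_inf.1 hh).1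
    rw [en, map_mul, hqh, mul_one]
    exact hprod Js hJs hpN
  -- injectivity
  have hinj : Function.Injective ψ := by
    rw [injective_iff_map_eq_one]
    intro w hw
    obtain ⟨ω, rfl⟩ := M'.toCoxeterSystem.wordProd_surjective w
    obtain ⟨hp, e⟩ := hψw ω
    rw [e, hq1] at hw
    have hl : ∀ i ∈ (ω.map gen).flatten, i < D.rank := by
      intro i hi
      obtain ⟨l, hl, hil⟩ := List.mem_flatten.1 hi
      obtain ⟨k, -, rfl⟩ := List.mem_map.1 hl
      exact hgr k i hil
    have hid : ∀ r < D.nroots, wRoot D (ω.map gen).flatten r = r := by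
      intro r hr
      have h1 : (nWordGL D hD F ([] : List ℕ))⁻¹ * nWordGL D hD F (ω.map gen).flatten ∈ D.diagonalSubgroup F := by
        simpa [nWordGL] using hw
      exact (wRoot_eq_of_mem_diag D hD F [] _ (by simp) hl h1 r hr).symm
    -- the matrix of the word
    have hmat : ∀ ω : List (Fin m), wMatN D (ω.map gen).flatten * P =
        P * rho M' A' hA' (M'.toCoxeterSystem.wordProd ω)⁻¹ := by
      intro ω
      induction ω with
      | nil => simp [wMatN]
      | cons k ω ih =>
        have h1 : rho M' A' hA' (M'.toCoxeterSystem.simple k)⁻¹ = reflMat A' k := by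
          show rho M' A' hA' (M'.simple k)⁻¹ = reflMat A' k
          rw [simple_inv M' k, rho_simple M' A' hA' k]
        rw [List.map_cons, List.flatten_cons, wMatN_append, Matrix.mul_assoc, hequi k, ← Matrix.mul_assoc, ih,
          Matrix.mul_assoc, CoxeterSystem.wordProd_cons, mul_inv_rev, map_mul, h1]
    have hW : wMatN D (ω.map gen).flatten = 1 := by
      apply Matrix.ext
      intro j j'
      have hpj := (chkN2_spec D (chkN2_all D hD) j j.isLt).1
      have h1 := cvec_wRootN D hD _ hl (D.simple j) hpj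
      rw [hid _ hpj, cvec_simple D hD j, Matrix.single_one_vecMul] at h1
      have h4 := congrFun h1 j'
      rw [Matrix.row] at h4
      rw [← h4, Matrix.one_apply, Pi.single_apply]
      simp [eq_comm]
    have hR : rho M' A' hA' (M'.toCoxeterSystem.wordProd ω)⁻¹ = 1 := by
      have := hmat ω
      rw [hW, Matrix.one_mul] at this
      calc rho M' A' hA' (M'.toCoxeterSystem.wordProd ω)⁻¹
          = (S * P) * rho M' A' hA' (M'.toCoxeterSystem.wordProd ω)⁻¹ := by rw [hSP, one_mul]
        _ = S * (P * rho M' A' hA' (M'.toCoxeterSystem.wordProd ω)⁻¹) := by rw [Matrix.mul_assoc]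
        _ = S * P := by rw [← this]
        _ = 1 := hSP
    exact inv_eq_one.1 (hker' _ hR)
  let e := MulEquiv.ofBijective ψ ⟨hinj, hsur⟩
  refine ⟨e.symm.toMonoidHom.comp q, e.symm.surjective.comp hqs, ?_⟩
  ext g
  rw [MonoidHom.mem_ker, MonoidHom.comp_apply]
  have h1 : g ∈ H1 ↔ q g = 1 := by rw [← MonoidHom.mem_ker, hq]
  rw [h1]
  exact e.symm.map_eq_one_iff

end main

end Cfsg.Agent.Lib.Helper36
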