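import Cfsg.Agent.Lib.Helper36.ChevGraphTab
import Cfsg.Agent.Lib.Helper36.ChevCentL
import Cfsg.Agent.Lib.Helper36.ChevTwPerf

/-! # The twisting automorphism σ = graph ∘ field of a Chevalley group (helper36) -/

set_option autoImplicit false

namespace Cfsg.Agent.Lib.Helper36

open Cfsg Cfsg.Lie Cfsg.Agent.Lib.Helper18

/-- further table properties of a graph automorphism -/
def chkGraph2 (D : ChevalleyDatum) (G : GraphTab) : Bool :=
  ((List.range D.nroots).all fun r =>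
    decide (G.ρ (D.neg r) = D.neg (G.ρ r)) && decide (G.ε (D.neg r) = G.ε r) &&
    decide (D.IsPosRoot (G.ρ r) ↔ D.IsPosRoot r) && decide (D.IsNegRoot (G.ρ r) ↔ D.IsNegRoot r) &&
    decide (G.ρi (G.ρ r) = r) && decide (G.ρ (G.ρi r) = r) &&
    (List.range D.rank).all fun i => decide (G.ρ (D.reflectRoot i r) = D.reflectRoot (G.ρs i) (G.ρ r))) &&
  ((List.range D.rank).all fun i => decide (G.ρ (D.simple i) = D.simple (G.ρs i)) && decide (G.ε (D.simple i) = 1) &&
    decide (G.ρsi (G.ρs i) = i) && decide (G.ρs (G.ρsi i) = i))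

theorem chkGraph2_D4 : chkGraph2 chevD4 graphD4 = true := by decide +kernel
theorem chkGraph2_E6 : chkGraph2 chevE6 graphE6 = true := by decide +kernel

/-- a graph automorphism datum with its checks -/
structure GraphOK (D : ChevalleyDatum) (G : GraphTab) : Prop where
  h1 : chkGraph D G = true
  h2 : chkGraph2 D G = true

theorem graphOK_D4 : GraphOK chevD4 graphD4 := ⟨chkGraph_D4, chkGraph2_D4⟩
theorem graphOK_E6 : GraphOK chevE6 graphE6 := ⟨chkGraph_E6, chkGraph2_E6⟩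

section
variable (D : ChevalleyDatum) (hD : D ∈ [chevG2, chevB2, chevD4, chevF4, chevE6, chevE7, chevE8])
variable (G : GraphTab) (hG : GraphOK D G)

include hG in
theorem graph2_spec :
    (∀ r < D.nroots, G.ρ (D.neg r) = D.neg (G.ρ r) ∧ G.ε (D.neg r) = G.ε r ∧
      (D.IsPosRoot (G.ρ r) ↔ D.IsPosRoot r) ∧ (D.IsNegRoot (G.ρ r) ↔ D.IsNegRoot r) ∧
      G.ρi (G.ρ r) = r ∧ G.ρ (G.ρi r) = r ∧
      ∀ i < D.rank, G.ρ (D.reflectRoot i r) = D.reflectRoot (G.ρs i) (G.ρ r)) ∧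
    (∀ i < D.rank, G.ρ (D.simple i) = D.simple (G.ρs i) ∧ G.ε (D.simple i) = 1 ∧ G.ρsi (G.ρs i) = i ∧
      G.ρs (G.ρsi i) = i) := by
  have h := hG.h2
  unfold chkGraph2 at h
  simp only [Bool.and_eq_true, List.all_eq_true, List.mem_range, decide_eq_true_eq] at h
  obtain ⟨ha, hb⟩ := h
  refine ⟨fun r hr => ?_, fun i hi => ?_⟩
  · obtain ⟨⟨⟨⟨⟨⟨a1, a2⟩, a3⟩, a4⟩, a5⟩, a6⟩, a7⟩ := ha r hr
    exact ⟨a1, a2, a3, a4, a5, a6, a7⟩
  · obtain ⟨⟨⟨b1, b2⟩, b3⟩, b4⟩ := hb i hi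
    exact ⟨b1, b2, b3, b4⟩

include hG in
theorem graph_lt (r : ℕ) (hr : r < D.nroots) : G.ρ r < D.nroots ∧ G.ρi r < D.nroots ∧ (G.ε r = 1 ∨ G.ε r = -1) :=
  (chkGraph_spec D G hG.h1).1 r hr

include hG in
theorem graph_s_lt (i : ℕ) (hi : i < D.rank) : G.ρs i < D.rank ∧ G.ρsi i < D.rank :=
  (chkGraph_spec D G hG.h1).2.1 i hi

variable (F : Type*) [Field F] (φ : F →+* F)

/-- the twisting endomorphism of the general linear group: `g ↦ τ φ(g) τ⁻¹` -/
noncomputable def sigma : GL D.Idx F →* GL D.Idx F :=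
  (MulAut.conj (tauGL D G F hG.h1)).toMonoidHom.comp (glMap D φ)

theorem sigma_apply (g : GL D.Idx F) :
    sigma D G hG F φ g = tauGL D G F hG.h1 * glMap D φ g * (tauGL D G F hG.h1)⁻¹ := rfl

include hD in
theorem sigma_xGL (r : ℕ) (hr : r < D.nroots) (t : F) :
    sigma D G hG F φ (xGL D hD F r t) = xGL D hD F (G.ρ r) ((G.ε r : F) * φ t) := by
  rw [sigma_apply, glMap_xGL, mul_inv_eq_iff_eq_mul]
  apply Units.ext
  rw [Units.val_mul, Units.val_mul, xGL_coe, xGL_coe]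
  exact tauF_mul_x D G F (wf_all D hD) (wfFast_all D hD) hG.h1 r hr (φ t)

include hG in
theorem eps_cast_sq (r : ℕ) (hr : r < D.nroots) : ((G.ε r : ℤ) : F) * ((G.ε r : ℤ) : F) = 1 := by
  rcases (graph_lt D G hG r hr).2.2 with h | h <;> rw [h] <;> simp

include hD in
theorem sigma_nGL (r : ℕ) (hr : r < D.nroots) (t : F) (ht : t ≠ 0) :
    sigma D G hG F φ (nGL D hD F r t) = nGL D hD F (G.ρ r) ((G.ε r : F) * φ t) := by
  obtain ⟨h1, h2, -⟩ := (graph2_spec D G hG).1 r hr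
  have hnr : D.neg r < D.nroots := wf_neg D (wf_all D hD) r hr
  rw [nGL_eq, nGL_eq, map_mul, map_mul, sigma_xGL D hD G hG F φ r hr, sigma_xGL D hD G hG F φ _ hnr, h1, h2]
  congr 3
  have hε := eps_cast_sq D G hG F r hr
  have hφt : φ t ≠ 0 := (map_ne_zero φ).2 ht
  have hε0 : ((G.ε r : ℤ) : F) ≠ 0 := by
    intro e; rw [e, mul_zero] at hε; exact zero_ne_one hε
  rw [map_neg, map_inv₀, mul_inv, neg_mul_eq_mul_neg]
  congr 1
  · exact (inv_eq_of_mul_eq_one_right hε).symm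

include hD in
theorem sigma_nGL_simple (i : ℕ) (hi : i < D.rank) :
    sigma D G hG F φ (nGL D hD F (D.simple i) 1) = nGL D hD F (D.simple (G.ρs i)) 1 := by
  obtain ⟨h1, h2, -⟩ := (graph2_spec D G hG).2 i hi
  have hp := (chkN2_spec D (chkN2_all D hD) i hi).1
  rw [sigma_nGL D hD G hG F φ _ hp 1 one_ne_zero, h1, h2, map_one]
  simp

include hD in
theorem sigma_nWordGL (l : List ℕ) (hl : ∀ i ∈ l, i < D.rank) :
    sigma D G hG F φ (nWordGL D hD F l) = nWordGL D hD F (l.map G.ρs) := by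
  induction l with
  | nil => simp [nWordGL]
  | cons i l ih =>
    have hi := hl i (List.mem_cons_self ..)
    have hl' : ∀ i' ∈ l, i' < D.rank := fun i' hi' => hl i' (List.mem_cons_of_mem _ hi')
    have e1 : nWordGL D hD F (i :: l) = nGL D hD F (D.simple i) 1 * nWordGL D hD F l := by simp [nWordGL]
    have e2 : nWordGL D hD F ((i :: l).map G.ρs) = nGL D hD F (D.simple (G.ρs i)) 1 * nWordGL D hD F (l.map G.ρs) := by
      simp [nWordGL]
    rw [e1, e2, map_mul, ih hl', sigma_nGL_simple D hD G hG F φ i hi]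

include hD in
theorem sigma_hGL_simple (i : ℕ) (hi : i < D.rank) (t : F) (ht : t ≠ 0) :
    sigma D G hG F φ (hGL D hD F (D.simple i) t) = hGL D hD F (D.simple (G.ρs i)) (φ t) := by
  obtain ⟨h1, h2, -⟩ := (graph2_spec D G hG).2 i hi
  have hp := (chkN2_spec D (chkN2_all D hD) i hi).1
  rw [hGL_eq, hGL_eq, map_mul, sigma_nGL D hD G hG F φ _ hp t ht,
    sigma_nGL D hD G hG F φ _ hp (-1) (neg_ne_zero.2 one_ne_zero), h1, h2, map_neg, map_one]
  simp

include hD hG in
/-- `ρ` intertwines the Weyl words `l` and `ρs l` -/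
theorem rho_wRoot (l : List ℕ) (hl : ∀ i ∈ l, i < D.rank) (r : ℕ) (hr : r < D.nroots) :
    G.ρ (wRoot D l r) = wRoot D (l.map G.ρs) (G.ρ r) := by
  induction l with
  | nil => rfl
  | cons i l ih =>
    have hi := hl i (List.mem_cons_self ..)
    have hl' : ∀ i' ∈ l, i' < D.rank := fun i' hi' => hl i' (List.mem_cons_of_mem _ hi')
    show G.ρ (D.reflectRoot i (wRoot D l r)) = D.reflectRoot (G.ρs i) (wRoot D (l.map G.ρs) (G.ρ r))
    rw [← ih hl']
    exact ((graph2_spec D G hG).1 _ (wRoot_lt D hD l hl' r hr)).2.2.2.2.2.2 i hi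

theorem wordGL_flatMap {α : Type*} (L : List α) (f : α → List (ℕ × F)) :
    wordGL D hD F (L.flatMap f) = (L.map fun a => wordGL D hD F (f a)).prod := by
  induction L with
  | nil => simp [wordGL]
  | cons a L ih =>
    rw [List.flatMap_cons, List.map_cons, List.prod_cons, ← ih]
    simp [wordGL]

include hD in
/-- elements of `H` are products of the `h_{p_i}(c_i)` -/
theorem diag_eq_prod (h : GL D.Idx F) (hh : h ∈ D.diagonalSubgroup F) :
    ∃ c : ℕ → F, (∀ i, c i ≠ 0) ∧ h = ((List.range D.rank).map fun i => hGL D hD F (D.simple i) (c i)).prod := by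
  obtain ⟨c, hc, hcoe⟩ := exists_hProd_of_mem_diagonal D hD F h hh
  refine ⟨c, hc, ?_⟩
  have : h = wordGL D hD F ((List.range D.rank).flatMap fun i => D.hWord (D.simple i) (c i)) := by
    apply Units.ext
    rw [wordGL_coe, wordMat_hProd D hD F c (fun i _ => hc i), hcoe]
  rw [this, wordGL_flatMap]
  rfl

include hD in
theorem sigma_diag_le :
    (D.diagonalSubgroup F).map (sigma D G hG F φ) ≤ D.diagonalSubgroup F := by
  rintro _ ⟨h, hh, rfl⟩
  obtain ⟨c, hc, rfl⟩ := diag_eq_prod D hD F h hh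
  rw [map_list_prod, List.map_map]
  apply Subgroup.list_prod_mem
  intro x hx
  obtain ⟨i, hi, rfl⟩ := List.mem_map.1 hx
  have hi' := List.mem_range.1 hi
  simp only [Function.comp_apply]
  rw [sigma_hGL_simple D hD G hG F φ i hi' (c i) (hc i)]
  exact hGL_mem_diag D hD F _ (chkN2_spec D (chkN2_all D hD) _ (graph_s_lt D G hG i hi').1).1 _
    ((map_ne_zero φ).2 (hc i))

include hD in
theorem sigma_pos_le : (D.posUnipotent F).map (sigma D G hG F φ) ≤ D.posUnipotent F := by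
  unfold ChevalleyDatum.posUnipotent
  rw [MonoidHom.map_closure, Subgroup.closure_le]
  rintro _ ⟨x, ⟨r, t, hr, hx⟩, rfl⟩
  have ex : x = xGL D hD F r t := Units.ext (by rw [hx, xGL_coe])
  rw [ex, sigma_xGL D hD G hG F φ r hr.1]
  exact Subgroup.subset_closure ⟨_, _, ((graph2_spec D G hG).1 r hr.1).2.2.1.2 hr, xGL_coe D hD F _ _⟩

include hD in
theorem sigma_neg_le : (D.negUnipotent F).map (sigma D G hG F φ) ≤ D.negUnipotent F := by
  unfold ChevalleyDatum.negUnipotent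
  rw [MonoidHom.map_closure, Subgroup.closure_le]
  rintro _ ⟨x, ⟨r, t, hr, hx⟩, rfl⟩
  have ex : x = xGL D hD F r t := Units.ext (by rw [hx, xGL_coe])
  rw [ex, sigma_xGL D hD G hG F φ r hr.1]
  exact Subgroup.subset_closure ⟨_, _, ((graph2_spec D G hG).1 r hr.1).2.2.2.1.2 hr, xGL_coe D hD F _ _⟩

include hD in
theorem sigma_group_le : (D.group F).map (sigma D G hG F φ) ≤ D.group F := by
  unfold ChevalleyDatum.group
  rw [MonoidHom.map_closure, Subgroup.closure_le]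
  rintro _ ⟨x, ⟨r, t, hx⟩, rfl⟩
  have ex : x = xGL D hD F r.val t := by
    apply Units.ext
    rw [hx, xGL_coe]
    unfold ChevalleyDatum.x
    rw [dif_pos r.isLt]
  rw [ex, sigma_xGL D hD G hG F φ r.val r.isLt]
  exact xGL_mem_group D hD F _ _

include hD in
theorem sigma_borel_le : (D.borelSubgroup F).map (sigma D G hG F φ) ≤ D.borelSubgroup F := by
  unfold ChevalleyDatum.borelSubgroup
  rw [Subgroup.map_sup]
  exact sup_le_sup (sigma_pos_le D hD G hG F φ) (sigma_diag_le D hD G hG F φ)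

include hD in
theorem sigma_monomial_le : (D.monomialSubgroup F).map (sigma D G hG F φ) ≤ D.monomialSubgroup F := by
  unfold ChevalleyDatum.monomialSubgroup
  rw [Subgroup.map_sup]
  apply sup_le (le_trans (sigma_diag_le D hD G hG F φ) le_sup_left)
  rw [MonoidHom.map_closure, Subgroup.closure_le]
  rintro _ ⟨x, ⟨r, hr, hx⟩, rfl⟩
  have ex : x = nGL D hD F r 1 := Units.ext (by rw [hx, nGL_coe])
  rw [ex, sigma_nGL D hD G hG F φ r hr 1 one_ne_zero, map_one, mul_one]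
  have hρr := (graph_lt D G hG r hr).1
  have hmem : nGL D hD F (G.ρ r) 1 ∈ D.diagonalSubgroup F ⊔ Subgroup.closure
      {g : GL D.Idx F | ∃ r : ℕ, r < D.nroots ∧ (g : Matrix D.Idx D.Idx F) = D.nMat F r 1} :=
    (le_sup_right : _ ≤ D.diagonalSubgroup F ⊔ _) (Subgroup.subset_closure ⟨_, hρr, nGL_coe D hD F _ _⟩)
  rcases (graph_lt D G hG r hr).2.2 with h | h
  · rw [h]; simpa using hmem
  · rw [h]
    have : ((-1 : ℤ) : F) = -1 := by simp
    rw [this, ← nGL_inv' D hD F]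
    exact inv_mem hmem

include hD in
/-- `σ` maps `U_w⁻` to `U_{ρ w}⁻` -/
theorem sigma_sGens_le (l : List ℕ) (hl : ∀ i ∈ l, i < D.rank) :
    (Subgroup.closure (sGens D F l)).map (sigma D G hG F φ) ≤ Subgroup.closure (sGens D F (l.map G.ρs)) := by
  rw [MonoidHom.map_closure, Subgroup.closure_le]
  rintro _ ⟨x, ⟨s, t, hs, hws, hx⟩, rfl⟩
  have ex : x = xGL D hD F s t := Units.ext hx
  rw [ex, sigma_xGL D hD G hG F φ s hs.1]
  refine Subgroup.subset_closure ⟨_, _, ((graph2_spec D G hG).1 s hs.1).2.2.1.2 hs, ?_, rfl⟩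
  rw [← rho_wRoot D hD G hG l hl s hs.1]
  exact ((graph2_spec D G hG).1 _ hws.1).2.2.2.1.2 hws

end

end Cfsg.Agent.Lib.Helper36
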