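import Cfsg.Agent.Lib.Helper36.ChevHU

/-! # A word for the longest Weyl group element (helper36) -/

set_option autoImplicit false
set_option maxRecDepth 100000

namespace Cfsg.Agent.Lib.Helper36

open Cfsg Cfsg.Lie

/-- a reduced word of the longest element of the Weyl group -/
def w0word (D : ChevalleyDatum) : List ℕ :=
  if D.nroots = 12 then [0, 1, 0, 1, 0, 1]
  else if D.nroots = 8 then [0, 1, 0, 1]
  else if D.nroots = 24 then [0, 1, 0, 2, 1, 0, 3, 1, 0, 2, 1, 3]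
  else if D.nroots = 48 then [0, 1, 0, 2, 1, 0, 2, 1, 2, 3, 2, 1, 0, 2, 1, 2, 3, 2, 1, 0, 2, 1, 2, 3]
  else if D.nroots = 72 then [0, 1, 2, 0, 3, 1, 2, 0, 3, 2, 4, 3, 1, 2, 0, 3, 2, 4, 3, 1, 5, 4, 3, 1, 2, 0, 3, 2, 4, 3, 1, 5, 4, 3, 2, 0]
  else if D.nroots = 126 then [0, 1, 2, 0, 3, 1, 2, 0, 3, 2, 4, 3, 1, 2, 0, 3, 2, 4, 3, 1, 5, 4, 3, 1, 2, 0, 3, 2, 4, 3, 1, 5, 4, 3, 2, 0, 6, 5, 4, 3, 1, 2, 0, 3, 2, 4, 3, 1, 5, 4, 3, 2, 0, 6, 5, 4, 3, 1, 2, 3, 4, 5, 6]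
  else [0, 1, 2, 0, 3, 1, 2, 0, 3, 2, 4, 3, 1, 2, 0, 3, 2, 4, 3, 1, 5, 4, 3, 1, 2, 0, 3, 2, 4, 3, 1, 5, 4, 3, 2, 0, 6, 5, 4, 3, 1, 2, 0, 3, 2, 4, 3, 1, 5, 4, 3, 2, 0, 6, 5, 4, 3, 1, 2, 3, 4, 5, 6, 7, 6, 5, 4, 3, 1, 2, 0, 3, 2, 4, 3, 1, 5, 4, 3, 2, 0, 6, 5, 4, 3, 1, 2, 3, 4, 5, 6, 7, 6, 5, 4, 3, 1, 2, 0, 3, 2, 4, 3, 1, 5, 4, 3, 2, 0, 6, 5, 4, 3, 1, 2, 3, 4, 5, 6, 7]

/-- the Cartan matrix rows `i ↦ (j ↦ A_{p_j, p_i})` -/
def cmatF (D : ChevalleyDatum) : List (List ℤ) :=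
  (List.range D.rank).map fun i => (List.range D.rank).map fun j => cartanF D j (D.simple i)

/-- the reflection `w_i` on coroot coordinate vectors (lists of length `n`) -/
def reflVec (n : ℕ) (cm : List (List ℤ)) (i : ℕ) (v : List ℤ) : List ℤ :=
  (List.range n).map fun j =>
    if j = i then v.getD i 0 - ((List.range n).map fun j' => (cm.getD i []).getD j' 0 * v.getD j' 0).sum
    else v.getD j 0

def wordVec (n : ℕ) (cm : List (List ℤ)) (l : List ℕ) (v : List ℤ) : List ℤ := l.foldr (reflVec n cm) v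

def unitVec (n j : ℕ) : List ℤ := (List.range n).map fun k => if k = j then 1 else 0

/-- the word `w0word` and its reverse map the fundamental coroots to non-positive vectors -/
def chkW0 (D : ChevalleyDatum) : Bool :=
  (w0word D).all (fun i => decide (i < D.rank)) &&
  (List.range D.rank).all fun j =>
    ((wordVec D.rank (cmatF D) (w0word D) (unitVec D.rank j)).all fun z => decide (z ≤ 0)) &&
    ((wordVec D.rank (cmatF D) (w0word D).reverse (unitVec D.rank j)).all fun z => decide (z ≤ 0))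

theorem chkW0_G2 : chkW0 chevG2 = true := by decide +kernel
theorem chkW0_B2 : chkW0 chevB2 = true := by decide +kernel
theorem chkW0_D4 : chkW0 chevD4 = true := by decide +kernel
theorem chkW0_F4 : chkW0 chevF4 = true := by decide +kernel
theorem chkW0_E6 : chkW0 chevE6 = true := by decide +kernel
theorem chkW0_E7 : chkW0 chevE7 = true := by decide +kernel
theorem chkW0_E8 : chkW0 chevE8 = true := by decide +kernel

theorem chkW0_all (D : ChevalleyDatum) (hD : D ∈ [chevG2, chevB2, chevD4, chevF4, chevE6, chevE7, chevE8]) :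
    chkW0 D = true :=
  seven_cases (P := fun D => chkW0 D = true) D hD chkW0_G2 chkW0_B2 chkW0_D4 chkW0_F4 chkW0_E6 chkW0_E7 chkW0_E8

end Cfsg.Agent.Lib.Helper36
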