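import Cfsg.Agent.Lib.Helper36.ChevW0

/-! # Linear action of reflection words on coroot coordinates (helper36) -/

set_option autoImplicit false

namespace Cfsg.Agent.Lib.Helper36

open Cfsg Cfsg.Lie

variable (D : ChevalleyDatum) (hD : D ∈ [chevG2, chevB2, chevD4, chevF4, chevE6, chevE7, chevE8])

/-- the reflection `w_i` on coroot coordinate functions -/
def reflFun (i : ℕ) (f : ℕ → ℤ) : ℕ → ℤ := fun j =>
  if j = i then f i - ((List.range D.rank).map fun j' => D.cartan j' (D.simple i) * f j').sum else f j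

def wordFun (l : List ℕ) (f : ℕ → ℤ) : ℕ → ℤ := l.foldr (reflFun D) f

theorem list_sum_congr (n : ℕ) (f g : ℕ → ℤ) (h : ∀ j < n, f j = g j) :
    ((List.range n).map f).sum = ((List.range n).map g).sum := by
  congr 1
  apply List.map_congr_left
  intro j hj
  exact h j (List.mem_range.1 hj)

theorem reflFun_add (i : ℕ) (f g : ℕ → ℤ) : reflFun D i (f + g) = reflFun D i f + reflFun D i g := by
  funext j
  simp only [reflFun, Pi.add_apply]
  split_ifs
  · simp only [mul_add]
    rw [List.sum_map_add]
    ring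
  · rfl

theorem reflFun_smul (i : ℕ) (a : ℤ) (f : ℕ → ℤ) : reflFun D i (a • f) = a • reflFun D i f := by
  funext j
  simp only [reflFun, Pi.smul_apply, smul_eq_mul]
  split_ifs
  · have : ((List.range D.rank).map fun j' => D.cartan j' (D.simple i) * (a * f j')) =
        (List.range D.rank).map fun j' => a * (D.cartan j' (D.simple i) * f j') := by
      apply List.map_congr_left; intro j' _; ring
    rw [this, List.sum_map_mul_left]
    ring
  · rfl

theorem wordFun_add (l : List ℕ) (f g : ℕ → ℤ) : wordFun D l (f + g) = wordFun D l f + wordFun D l g := by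
  induction l with
  | nil => rfl
  | cons i l ih =>
    show reflFun D i (wordFun D l (f + g)) = reflFun D i (wordFun D l f) + reflFun D i (wordFun D l g)
    rw [ih, reflFun_add]

theorem wordFun_smul (l : List ℕ) (a : ℤ) (f : ℕ → ℤ) : wordFun D l (a • f) = a • wordFun D l f := by
  induction l with
  | nil => rfl
  | cons i l ih =>
    show reflFun D i (wordFun D l (a • f)) = a • reflFun D i (wordFun D l f)
    rw [ih, reflFun_smul]

theorem wordFun_sum (l : List ℕ) (s : Finset ℕ) (c : ℕ → ℤ) (e : ℕ → ℕ → ℤ) :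
    wordFun D l (∑ j ∈ s, c j • e j) = ∑ j ∈ s, c j • wordFun D l (e j) := by
  induction s using Finset.induction_on with
  | empty =>
    simp only [Finset.sum_empty]
    have := wordFun_smul D l 0 0
    simpa using this
  | insert a s ha ih =>
    rw [Finset.sum_insert ha, Finset.sum_insert ha, wordFun_add, wordFun_smul, ih]

/-- agreement below `n` -/
def EqBelow (n : ℕ) (f g : ℕ → ℤ) : Prop := ∀ j < n, f j = g j

theorem reflFun_eqBelow (i : ℕ) (f g : ℕ → ℤ) (hi : i < D.rank) (h : EqBelow D.rank f g) :
    EqBelow D.rank (reflFun D i f) (reflFun D i g) := by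
  intro j hj
  simp only [reflFun]
  split_ifs
  · rw [h i hi, list_sum_congr D.rank _ _ (fun j' hj' => by rw [h j' hj'])]
  · exact h j hj

theorem wordFun_eqBelow (l : List ℕ) (hl : ∀ i ∈ l, i < D.rank) (f g : ℕ → ℤ) (h : EqBelow D.rank f g) :
    EqBelow D.rank (wordFun D l f) (wordFun D l g) := by
  induction l with
  | nil => exact h
  | cons i l ih =>
    exact reflFun_eqBelow D i _ _ (hl i (List.mem_cons_self ..))
      (ih fun i' hi' => hl i' (List.mem_cons_of_mem _ hi'))

/-- unit coordinate function -/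
def unitFun (j : ℕ) : ℕ → ℤ := fun k => if k = j then 1 else 0

theorem eqBelow_sum_unit (n : ℕ) (f : ℕ → ℤ) :
    EqBelow n f (∑ j ∈ Finset.range n, f j • unitFun j) := by
  intro k hk
  rw [Finset.sum_apply]
  simp only [Pi.smul_apply, unitFun, smul_eq_mul, mul_ite, mul_one, mul_zero]
  rw [Finset.sum_ite_eq, if_pos (Finset.mem_range.2 hk)]

/-- if the word maps the unit vectors to non-positive vectors, it maps non-negative vectors to non-positive ones -/
theorem wordFun_nonpos (l : List ℕ) (hl : ∀ i ∈ l, i < D.rank)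
    (hu : ∀ j < D.rank, ∀ k < D.rank, wordFun D l (unitFun j) k ≤ 0) (f : ℕ → ℤ)
    (hf : ∀ j < D.rank, 0 ≤ f j) : ∀ k < D.rank, wordFun D l f k ≤ 0 := by
  intro k hk
  rw [wordFun_eqBelow D l hl f _ (eqBelow_sum_unit D.rank f) k hk, wordFun_sum, Finset.sum_apply]
  apply Finset.sum_nonpos
  intro j hj
  have hj' := Finset.mem_range.1 hj
  simp only [Pi.smul_apply, smul_eq_mul]
  exact mul_nonpos_of_nonneg_of_nonpos (hf j hj') (hu j hj' k hk)

theorem wordFun_nonneg (l : List ℕ) (hl : ∀ i ∈ l, i < D.rank)
    (hu : ∀ j < D.rank, ∀ k < D.rank, wordFun D l (unitFun j) k ≤ 0) (f : ℕ → ℤ)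
    (hf : ∀ j < D.rank, f j ≤ 0) : ∀ k < D.rank, 0 ≤ wordFun D l f k := by
  intro k hk
  have := wordFun_nonpos D l hl hu (-f) (fun j hj => by simpa using hf j hj) k hk
  have e : wordFun D l (-f) = - wordFun D l f := by
    have := wordFun_smul D l (-1) f
    simpa using this
  rw [e] at this
  simpa using this

end Cfsg.Agent.Lib.Helper36
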