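import Cfsg.Agent.Lib.Helper36.ChevW0
import Cfsg.Agent.Lib.Helper36.ChevW0b

/-! # The longest element maps positive roots to negative roots (helper36) -/

set_option autoImplicit false

namespace Cfsg.Agent.Lib.Helper36

open Cfsg Cfsg.Lie

variable (D : ChevalleyDatum) (hD : D ∈ [chevG2, chevB2, chevD4, chevF4, chevE6, chevE7, chevE8])

def toList (n : ℕ) (f : ℕ → ℤ) : List ℤ := (List.range n).map f

theorem getD_map_range {α : Type*} (n : ℕ) (g : ℕ → α) (d : α) (j : ℕ) (hj : j < n) :
    ((List.range n).map g).getD j d = g j := by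
  simp [List.getD, hj]

theorem getD_toList (n : ℕ) (f : ℕ → ℤ) (j : ℕ) (hj : j < n) : (toList n f).getD j 0 = f j :=
  getD_map_range n f 0 j hj

include hD in
theorem reflVec_toList (i : ℕ) (hi : i < D.rank) (f : ℕ → ℤ) :
    reflVec D.rank (cmatF D) i (toList D.rank f) = toList D.rank (reflFun D i f) := by
  obtain ⟨hp, -⟩ := chkN2_spec D (chkN2_all D hD) i hi
  unfold reflVec toList
  apply List.map_congr_left
  intro j hj
  have hj' := List.mem_range.1 hj
  simp only [reflFun]
  have e1 : ∀ k < D.rank, ((List.range D.rank).map f).getD k 0 = f k := fun k hk => getD_map_range _ f 0 k hk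
  rw [e1 i hi, e1 j hj']
  have e2 : ((List.range D.rank).map fun j' => ((cmatF D).getD i []).getD j' 0 *
      ((List.range D.rank).map f).getD j' 0) =
      (List.range D.rank).map fun j' => D.cartan j' (D.simple i) * f j' := by
    apply List.map_congr_left
    intro j' hj''
    have hj3 := List.mem_range.1 hj''
    rw [e1 j' hj3]
    unfold cmatF
    rw [getD_map_range _ _ _ i hi, getD_map_range _ _ _ j' hj3]
    unfold cartanF
    rw [fast_cartan D (wfFast_all D hD) j' _ hj3 hp]
  rw [e2]

include hD in
theorem wordVec_toList (l : List ℕ) (hl : ∀ i ∈ l, i < D.rank) (f : ℕ → ℤ) :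
    wordVec D.rank (cmatF D) l (toList D.rank f) = toList D.rank (wordFun D l f) := by
  induction l with
  | nil => rfl
  | cons i l ih =>
    show reflVec D.rank (cmatF D) i (wordVec D.rank (cmatF D) l (toList D.rank f)) = _
    rw [ih fun i' hi' => hl i' (List.mem_cons_of_mem _ hi'),
      reflVec_toList D hD i (hl i (List.mem_cons_self ..))]
    rfl

theorem unitVec_eq (n j : ℕ) : unitVec n j = toList n (unitFun j) := rfl

theorem all_toList (n : ℕ) (g : ℕ → ℤ) (h : ((toList n g).all fun z => decide (z ≤ 0)) = true) :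
    ∀ k < n, g k ≤ 0 := by
  intro k hk
  rw [List.all_eq_true] at h
  have := h (g k) (List.mem_map.2 ⟨k, List.mem_range.2 hk, rfl⟩)
  simpa using this

include hD in
theorem chkW0_spec :
    (∀ i ∈ w0word D, i < D.rank) ∧
    (∀ j < D.rank, ∀ k < D.rank, wordFun D (w0word D) (unitFun j) k ≤ 0) ∧
    (∀ j < D.rank, ∀ k < D.rank, wordFun D (w0word D).reverse (unitFun j) k ≤ 0) := by
  have h := chkW0_all D hD
  unfold chkW0 at h
  simp only [Bool.and_eq_true, List.all_eq_true, decide_eq_true_eq] at h
  obtain ⟨h1, h2⟩ := h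
  have h1r : ∀ i ∈ (w0word D).reverse, i < D.rank := fun i hi => h1 i (List.mem_reverse.1 hi)
  refine ⟨h1, fun j hj k hk => ?_, fun j hj k hk => ?_⟩
  · have := (h2 j (List.mem_range.2 hj)).1
    rw [unitVec_eq, wordVec_toList D hD _ h1] at this
    apply all_toList D.rank _ _ k hk
    rw [List.all_eq_true]
    intro z hz
    simpa using this z hz
  · have := (h2 j (List.mem_range.2 hj)).2
    rw [unitVec_eq, wordVec_toList D hD _ h1r] at this
    apply all_toList D.rank _ _ k hk
    rw [List.all_eq_true]
    intro z hz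
    simpa using this z hz

/-- the action of a word in the fundamental reflections on root indices -/
def wRoot (l : List ℕ) (r : ℕ) : ℕ := l.foldr (fun i r => D.reflectRoot i r) r

include hD in
theorem wRoot_lt (l : List ℕ) (hl : ∀ i ∈ l, i < D.rank) (r : ℕ) (hr : r < D.nroots) : wRoot D l r < D.nroots := by
  induction l with
  | nil => exact hr
  | cons i l ih =>
    exact reflectRoot_lt D hD i _ (hl i (List.mem_cons_self ..))
      (ih fun i' hi' => hl i' (List.mem_cons_of_mem _ hi'))

include hD in
theorem cor_wRoot (l : List ℕ) (hl : ∀ i ∈ l, i < D.rank) (r : ℕ) (hr : r < D.nroots) :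
    EqBelow D.rank (fun j => cor D (wRoot D l r) j) (wordFun D l (fun j => cor D r j)) := by
  induction l with
  | nil => intro j _; rfl
  | cons i l ih =>
    have hl' : ∀ i' ∈ l, i' < D.rank := fun i' hi' => hl i' (List.mem_cons_of_mem _ hi')
    have hi := hl i (List.mem_cons_self ..)
    have ih' := ih hl'
    have hlt := wRoot_lt D hD l hl' r hr
    show EqBelow D.rank (fun j => cor D (D.reflectRoot i (wRoot D l r)) j)
      (reflFun D i (wordFun D l (fun j => cor D r j)))
    intro j hj
    have := reflFun_eqBelow D i _ _ hi ih' j hj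
    rw [← this]
    simp only [reflFun]
    rw [cor_reflect D hD i _ j hi hlt hj]
    split_ifs with h
    · subst h; rfl
    · simp

include hD in
theorem wRoot_w0_neg (r : ℕ) (hr : D.IsPosRoot r) : D.IsNegRoot (wRoot D (w0word D) r) := by
  obtain ⟨h1, h2, -⟩ := chkW0_spec D hD
  have hf := wfFast_all D hD
  have hlt := wRoot_lt D hD _ h1 r hr.1
  rw [isNegRoot_iff D hf _ hlt]
  intro j hj
  have := cor_wRoot D hD _ h1 r hr.1 j hj
  simp only at this
  rw [this]
  exact wordFun_nonpos D _ h1 h2 _ ((isPosRoot_iff D hf r hr.1).1 hr) j hj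

include hD in
theorem wRoot_w0_rev_pos (r : ℕ) (hr : D.IsNegRoot r) : D.IsPosRoot (wRoot D (w0word D).reverse r) := by
  obtain ⟨h1, -, h3⟩ := chkW0_spec D hD
  have h1r : ∀ i ∈ (w0word D).reverse, i < D.rank := fun i hi => h1 i (List.mem_reverse.1 hi)
  have hf := wfFast_all D hD
  have hlt := wRoot_lt D hD _ h1r r hr.1
  rw [isPosRoot_iff D hf _ hlt]
  intro j hj
  have := cor_wRoot D hD _ h1r r hr.1 j hj
  simp only at this
  rw [this]
  exact wordFun_nonneg D _ h1r h3 _ ((isNegRoot_iff D hf r hr.1).1 hr) j hj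

include hD in
theorem wRoot_reverse (l : List ℕ) (hl : ∀ i ∈ l, i < D.rank) (r : ℕ) (hr : r < D.nroots) :
    wRoot D l (wRoot D l.reverse r) = r := by
  induction l generalizing r with
  | nil => rfl
  | cons i l ih =>
    have hl' : ∀ i' ∈ l, i' < D.rank := fun i' hi' => hl i' (List.mem_cons_of_mem _ hi')
    have hi := hl i (List.mem_cons_self ..)
    have e : wRoot D (i :: l).reverse r = wRoot D l.reverse (D.reflectRoot i r) := by
      unfold wRoot
      rw [List.reverse_cons, List.foldr_append]
      rfl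
    rw [e]
    show D.reflectRoot i (wRoot D l (wRoot D l.reverse (D.reflectRoot i r))) = r
    rw [ih hl' _ (reflectRoot_lt D hD i r hi hr), reflectRoot_reflectRoot D hD i r hi hr]

end Cfsg.Agent.Lib.Helper36
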