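import Cfsg.Agent.Lib.Helper75.D4gDefs

/-! # D4g mini-hive (S2407), leaves D4G-CONJ2 and D4G-CONJ3 (helper36): powers of the twisted Coxeter lift acting
on the short twisted root group -/

set_option autoImplicit false

namespace Cfsg.Agent.Lib.Helper75.D4g

open Cfsg Cfsg.Lie Cfsg.Agent.Lib.Helper36

theorem h36d4gconj_conj3 {G : Type*} [Group G] (a x y z : G) :
    a * (x * y * z) * a⁻¹ = (a * x * a⁻¹) * (a * y * a⁻¹) * (a * z * a⁻¹) := by group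

theorem h36d4gconj_lt2 : ∀ i ∈ cox ++ cox, i < chevD4.rank := by decide
theorem h36d4gconj_lt3 : ∀ i ∈ cox ++ cox ++ cox, i < chevD4.rank := by decide

theorem h36d4gconj_tab2 :
    wRoot chevD4 (cox ++ cox) 18 = 19 ∧ wSign chevD4 (cox ++ cox) 18 = -1 ∧
    wRoot chevD4 (cox ++ cox) 13 = 16 ∧ wSign chevD4 (cox ++ cox) 13 = 1 ∧
    wRoot chevD4 (cox ++ cox) 12 = 15 ∧ wSign chevD4 (cox ++ cox) 12 = 1 := by decide +kernel

theorem h36d4gconj_tab3 :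
    wRoot chevD4 (cox ++ cox ++ cox) 18 = 5 ∧ wSign chevD4 (cox ++ cox ++ cox) 18 = -1 ∧
    wRoot chevD4 (cox ++ cox ++ cox) 13 = 10 ∧ wSign chevD4 (cox ++ cox ++ cox) 13 = -1 ∧
    wRoot chevD4 (cox ++ cox ++ cox) 12 = 11 ∧ wSign chevD4 (cox ++ cox ++ cox) 12 = -1 ∧
    wRoot chevD4 (cox ++ cox ++ cox) 14 = 9 ∧ wSign chevD4 (cox ++ cox ++ cox) 14 = -1 := by decide +kernel

section stack
variable {K : Type*} [Field K] (φ : K →+* K)

theorem h36d4gconj_pow2 : nC K ^ 2 = nWordGL chevD4 hD4 K (cox ++ cox) := by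
  unfold nC
  rw [pow_two, Cfsg.Agent.Lib.Helper18.nWordGL_append]

theorem h36d4gconj_pow3 : nC K ^ 3 = nWordGL chevD4 hD4 K (cox ++ cox ++ cox) := by
  unfold nC
  rw [pow_succ, pow_two, Cfsg.Agent.Lib.Helper18.nWordGL_append, Cfsg.Agent.Lib.Helper18.nWordGL_append]

/-- D4G-CONJ2 -/
theorem h36d4gconj_nC2_conj_xS (t : K) : nC K ^ 2 * xS K φ t * (nC K ^ 2)⁻¹ = xSL K φ t := by
  obtain ⟨r1, s1, r2, s2, r3, s3⟩ := h36d4gconj_tab2
  rw [h36d4gconj_pow2]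
  unfold xS xSL xg
  rw [h36d4gconj_conj3,
    nWordGL_conj_sign chevD4 hD4 K _ h36d4gconj_lt2 18 (by decide),
    nWordGL_conj_sign chevD4 hD4 K _ h36d4gconj_lt2 13 (by decide),
    nWordGL_conj_sign chevD4 hD4 K _ h36d4gconj_lt2 12 (by decide), r1, s1, r2, s2, r3, s3]
  simp

/-- D4G-CONJ3 -/
theorem h36d4gconj_nC3_conj_xS (t : K) : nC K ^ 3 * xS K φ t * (nC K ^ 3)⁻¹ = xSn K φ (-t) := by
  obtain ⟨r1, s1, r2, s2, r3, s3, -, -⟩ := h36d4gconj_tab3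
  rw [h36d4gconj_pow3]
  unfold xS xSn xg
  rw [h36d4gconj_conj3,
    nWordGL_conj_sign chevD4 hD4 K _ h36d4gconj_lt3 18 (by decide),
    nWordGL_conj_sign chevD4 hD4 K _ h36d4gconj_lt3 13 (by decide),
    nWordGL_conj_sign chevD4 hD4 K _ h36d4gconj_lt3 12 (by decide), r1, s1, r2, s2, r3, s3]
  simp

theorem h36d4gconj_nC3_conj_x14 (s : K) : nC K ^ 3 * xg K 14 s * (nC K ^ 3)⁻¹ = xg K 9 (-s) := by
  obtain ⟨-, -, -, -, -, -, r4, s4⟩ := h36d4gconj_tab3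
  rw [h36d4gconj_pow3]
  unfold xg
  rw [nWordGL_conj_sign chevD4 hD4 K _ h36d4gconj_lt3 14 (by decide), r4, s4]
  simp

end stack

end Cfsg.Agent.Lib.Helper75.D4g
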