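import Cfsg.Agent.Lib.Helper75.D4gDefs

/-! # D4g mini-hive (S2407), leaf D4G-MEM (helper36): the two generators lie in `³D₄(q)` -/

set_option autoImplicit false
set_option linter.unusedSectionVars false
set_option linter.unusedVariables false

namespace Cfsg.Agent.Lib.Helper75.D4g

open Cfsg Cfsg.Lie Cfsg.Agent.Lib.Helper36

section mem
variable {K : Type*} [Field K] [Fintype K] {q : ℕ}

theorem d4gmem_cube (hK : Fintype.card K = q ^ 3) (φ : K →+* K) (hφ : ∀ t : K, φ t = t ^ q) (t : K) :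
    φ^[3] t = t := by
  show φ (φ (φ t)) = t
  rw [hφ, hφ, hφ, ← pow_mul, ← pow_mul, show q * (q * q) = q ^ 3 by ring, ← hK]
  exact FiniteField.pow_card t

theorem d4gmem_J : [0, 2, 3] ∈ fundD4 ∧ [1] ∈ fundD4 := by decide

theorem d4gmem_LJ (φ : K →+* K) :
    LJ chevD4 K φ [0, 2, 3] = [(18, φ ^ 0), (13, φ ^ 1), (12, φ ^ 2)] := by
  have hp1 : pBlock chevD4 [0, 2, 3] = [18, 13, 12] := by decide
  unfold LJ LB
  rw [hp1]
  rfl

theorem d4gmem_tA_eq (φ : K →+* K) (z : K) : tA K φ z = hw chevD4 hD4 K (LJ chevD4 K φ [0, 2, 3]) z := by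
  rw [d4gmem_LJ]
  unfold tA hw hg
  simp only [List.map_cons, List.map_nil, List.prod_cons, List.prod_nil, mul_one, pow_zero, pow_one, pow_two,
    RingHom.coe_one, id_eq, RingHom.coe_mul, Function.comp_apply, mul_assoc]

theorem d4gmem_xS_eq (φ : K →+* K) (t : K) : xS K φ t = bw chevD4 hD4 K (LJ chevD4 K φ [0, 2, 3]) t := by
  rw [d4gmem_LJ]
  unfold xS bw xg
  simp only [List.map_cons, List.map_nil, List.prod_cons, List.prod_nil, mul_one, pow_zero, pow_one, pow_two,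
    RingHom.coe_one, id_eq, RingHom.coe_mul, Function.comp_apply, mul_assoc]

/-- D4G-MEM -/
theorem d4gmem_tA_mem (hK : Fintype.card K = q ^ 3) (φ : K →+* K) (hφ : ∀ t : K, φ t = t ^ q) (z : K) (hz : z ≠ 0) :
    tA K φ z ∈ twistedD4 K q := by
  rw [twistedD4_eq K q φ hφ hK, d4gmem_tA_eq]
  exact hw_LJ_mem chevD4 hD4 graphD4 orbsD4 fundD4 stepsD4 twOK_D4 K φ [0, 2, 3] d4gmem_J.1 z
    (d4gmem_cube hK φ hφ z)

theorem d4gmem_gB_mem (hK : Fintype.card K = q ^ 3) (φ : K →+* K) (hφ : ∀ t : K, φ t = t ^ q) :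
    gB K φ ∈ twistedD4 K q := by
  rw [twistedD4_eq K q φ hφ hK]
  unfold gB
  refine mul_mem ?_ ?_
  · rw [d4gmem_xS_eq]
    exact (bw_LJ_mem chevD4 hD4 graphD4 orbsD4 fundD4 stepsD4 twOK_D4 K φ [0, 2, 3] d4gmem_J.1 1
      (d4gmem_cube hK φ hφ 1)).1
  · have e : nC K = nWordGL chevD4 hD4 K [0, 2, 3] * nWordGL chevD4 hD4 K [1] := by
      unfold nC cox
      rw [← Cfsg.Agent.Lib.Helper18.nWordGL_append]
      rfl
    rw [e]
    exact mul_mem
      (nWord_fund_mem chevD4 hD4 graphD4 orbsD4 fundD4 K φ twOK_D4.orb twOK_D4.fnd [0, 2, 3] d4gmem_J.1)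
      (nWord_fund_mem chevD4 hD4 graphD4 orbsD4 fundD4 K φ twOK_D4.orb twOK_D4.fnd [1] d4gmem_J.2)

end mem

end Cfsg.Agent.Lib.Helper75.D4g
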