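import Cfsg.Agent.Lib.Helper76.E8mDefs
import Cfsg.Prelude.Def_ChevE8

/-! # E8m hive (S2107), leaf T-DEC (helper36): the canonical decomposition of the roots of `E₈` -/

set_option autoImplicit false

namespace Cfsg.Agent.Lib.Helper76.E8m

open Cfsg Cfsg.Lie Cfsg.Agent.Lib.Helper39.Sm

/-- a second decomposition `e = a + b`, read off the row of `-e` -/
def tdec_wit (D : ChevalleyDatum) (e : ℕ) : ℕ × ℕ :=
  match (D.chain.getD (D.neg e) #[]).toList.find? fun p => p.1 != (decOf D e).1 && p.1 != (decOf D e).2 with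
  | some (c, arr) => (c, D.neg ((arr.toList.head?.map Prod.fst).getD 0))
  | none => (0, 0)

/-- the Boolean check -/
def tdec_chk (D : ChevalleyDatum) : Bool :=
  (List.range D.nroots).all fun e =>
    sm D (decOf D e).1 (decOf D e).2 == some e &&
    (sm D (tdec_wit D e).1 (tdec_wit D e).2 == some e &&
      !((tdec_wit D e).1 == (decOf D e).1 && (tdec_wit D e).2 == (decOf D e).2) &&
      !((tdec_wit D e).1 == (decOf D e).2 && (tdec_wit D e).2 == (decOf D e).1))

theorem tdec_chk_E8 : tdec_chk chevE8 = true := by decide +kernel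

theorem tdec_spec (D : ChevalleyDatum) (h : tdec_chk D = true) : TabDec D (decOf D) := by
  unfold tdec_chk at h
  rw [List.all_eq_true] at h
  constructor
  · intro e he
    have h1 := h e (List.mem_range.2 he)
    simp only [Bool.and_eq_true, beq_iff_eq] at h1
    exact h1.1
  · intro e he
    have h1 := h e (List.mem_range.2 he)
    simp only [Bool.and_eq_true, beq_iff_eq, Bool.not_eq_true', Bool.and_eq_false_iff] at h1
    obtain ⟨-, ⟨h2, h3⟩, h4⟩ := h1
    refine ⟨(tdec_wit D e).1, (tdec_wit D e).2, h2, ?_, ?_⟩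
    · rintro ⟨e1, e2⟩
      rcases h3 with h3 | h3
      · simp [e1] at h3
      · simp [e2] at h3
    · rintro ⟨e1, e2⟩
      rcases h4 with h4 | h4
      · simp [e1] at h4
      · simp [e2] at h4

/-- T-DEC (240 roots). -/
theorem tabDec_E8 : TabDec chevE8 (decOf chevE8) := tdec_spec chevE8 tdec_chk_E8

end Cfsg.Agent.Lib.Helper76.E8m
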