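import Cfsg.Agent.Lib.Helper83.EzDefs
import Cfsg.Agent.Lib.Helper36.E8m_TDEC

/-! # Ez hive (S1079, S2105, S2106; owner helper83), leaves T7-DEC and T6-DEC (helper36):
the canonical decomposition of the roots of `E₇` and `E₆` (clones of the E8m leaf T-DEC) -/

set_option autoImplicit false

universe u v

namespace Cfsg.Agent.Lib.Helper83.Ez

open Cfsg Cfsg.Lie Cfsg.Agent.Lib.Helper36 Cfsg.Agent.Lib.Helper18 Cfsg.Agent.Lib.Helper76.E8m

theorem tdec_chk_E7 : tdec_chk chevE7 = true := by decide +kernel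

theorem tdec_chk_E6 : tdec_chk chevE6 = true := by decide +kernel

/-- T7-DEC (126 roots). -/
theorem tabDec_E7 : TabDec chevE7 (decOf chevE7) := tdec_spec chevE7 tdec_chk_E7

/-- T6-DEC (72 roots). -/
theorem tabDec_E6 : TabDec chevE6 (decOf chevE6) := tdec_spec chevE6 tdec_chk_E6

end Cfsg.Agent.Lib.Helper83.Ez
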