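import Cfsg.Agent.Lib.Helper18.StGraphData
import Cfsg.Agent.Lib.Helper36.ChevFieldMap

/-! # The groups `²F₄`: the twisting endomorphism (helper36) -/

set_option autoImplicit false

namespace Cfsg.Agent.Lib.Helper36

open Cfsg Cfsg.Lie Cfsg.Agent.Lib.Helper18

theorem hF4 : chevF4 ∈ [chevG2, chevB2, chevD4, chevF4, chevE6, chevE7, chevE8] := by simp

section field
variable {K : Type*} [Field K] [Fintype K] {m : ℕ}

theorem f4_charP (hK : Fintype.card K = 2 ^ (2 * m + 1)) : CharP K 2 := by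
  obtain ⟨p, hp⟩ := CharP.exists K
  have := hp
  obtain ⟨n, hpp, hcard⟩ := FiniteField.card K p
  have h3 : p ∣ 2 ^ (2 * m + 1) := by
    rw [← hK, hcard]
    exact dvd_pow_self p n.ne_zero
  have : p = 2 := (Nat.prime_dvd_prime_iff_eq hpp Nat.prime_two).1 (hpp.dvd_of_dvd_pow h3)
  rw [← this]
  exact hp

theorem f4_pow_card (hK : Fintype.card K = 2 ^ (2 * m + 1)) (t : K) : t ^ (2 ^ (2 * m + 1)) = t := by
  rw [← hK]
  exact FiniteField.pow_card t

/-- `t^{2θ²} = t` -/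
theorem f4_theta (hK : Fintype.card K = 2 ^ (2 * m + 1)) (t : K) : (t ^ (2 ^ m)) ^ (2 ^ m * 2) = t := by
  rw [← pow_mul]
  have : 2 ^ m * (2 ^ m * 2) = 2 ^ (2 * m + 1) := by ring
  rw [this]
  exact f4_pow_card hK t

theorem f4_theta' (hK : Fintype.card K = 2 ^ (2 * m + 1)) (t : K) : (t ^ (2 ^ m * 2)) ^ (2 ^ m) = t := by
  rw [← pow_mul]
  have : 2 ^ m * 2 * 2 ^ m = 2 ^ (2 * m + 1) := by ring
  rw [this]
  exact f4_pow_card hK t

theorem f4_add_pow (hK : Fintype.card K = 2 ^ (2 * m + 1)) (k : ℕ) (a b : K) :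
    (a + b) ^ (2 ^ k) = a ^ (2 ^ k) + b ^ (2 ^ k) := by
  have := f4_charP hK
  have : Fact (Nat.Prime 2) := ⟨Nat.prime_two⟩
  exact add_pow_char_pow a b 2 k

theorem f4_perfect (hK : Fintype.card K = 2 ^ (2 * m + 1)) (x : K) : ∃ y : K, y ^ 2 = x := by
  refine ⟨x ^ (2 ^ (2 * m)), ?_⟩
  rw [← pow_mul]
  have : 2 ^ (2 * m) * 2 = 2 ^ (2 * m + 1) := by ring
  rw [this]
  exact f4_pow_card hK x

end field

section sig
variable (K : Type*) [Field K]

/-- the defining property of the twisting endomorphism of `F₄(K)` -/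
def IsF4Sig (θ : ℕ) (σ : ↥(chevF4.group K) →* ↥(chevF4.group K)) : Prop :=
  ∀ r < 48, ∀ t : K, σ (xGr chevF4 hF4 K r t) =
    xGr chevF4 hF4 K (rhoF4.getD r 0) (t ^ (θ * lamF4.getD r 0))

/-- the endomorphism of the Chevalley group induced by a ring endomorphism -/
noncomputable def fieldHomF (f : K →+* K) : ↥(chevF4.group K) →* ↥(chevF4.group K) :=
  ((glMap chevF4 f).comp (chevF4.group K).subtype).codRestrict (chevF4.group K)
    (fun g => glMap_group_le chevF4 hF4 f ⟨g, g.2, rfl⟩)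

theorem fieldHomF_xGr (f : K →+* K) (r : ℕ) (t : K) :
    fieldHomF K f (xGr chevF4 hF4 K r t) = xGr chevF4 hF4 K r (f t) := by
  apply Subtype.ext
  show glMap chevF4 f (xGL chevF4 hF4 K r t) = xGL chevF4 hF4 K r (f t)
  exact glMap_xGL chevF4 hF4 f r t

end sig

section exist
variable {K : Type*} [Field K] [Fintype K] {m : ℕ}

theorem exists_f4Sig (hK : Fintype.card K = 2 ^ (2 * m + 1)) :
    ∃ σ : ↥(chevF4.group K) →* ↥(chevF4.group K), IsF4Sig K (2 ^ m) σ := by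
  have := f4_charP hK
  have : Fact (Nat.Prime 2) := ⟨Nat.prime_two⟩
  obtain ⟨α, hα⟩ := tw_aut chevF4 hF4 K 2 rhoF4 lamF4 chkTw_F4 (f4_perfect hK) (Or.inr inferInstance)
  refine ⟨α.toMonoidHom.comp (fieldHomF K (iterateFrobenius K 2 m)), ?_⟩
  intro r hr t
  show α (fieldHomF K (iterateFrobenius K 2 m) (xGr chevF4 hF4 K r t)) = _
  rw [fieldHomF_xGr, hα r hr, iterateFrobenius_def, ← pow_mul]

end exist

end Cfsg.Agent.Lib.Helper36
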