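import Cfsg.Agent.Lib.Helper36.F4Diag

/-! # The groups `²F₄`: products over classes of roots and their fixed points (helper36) -/

set_option autoImplicit false

namespace Cfsg.Agent.Lib.Helper36

open Cfsg Cfsg.Lie Cfsg.Agent.Lib.Helper18

section wfsec
variable {K : Type*} [Field K]

/-- the word over a list of roots with coefficients given by a function -/
noncomputable def f4wf (l : List ℕ) (t : ℕ → K) : GL chevF4.Idx K :=
  wordGL chevF4 hF4 K (l.map fun r => (r, t r))

theorem f4wf_nil (t : ℕ → K) : f4wf [] t = 1 := by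
  unfold f4wf; rw [List.map_nil, f4_wordGL_nil]

theorem f4wf_cons (r : ℕ) (l : List ℕ) (t : ℕ → K) : f4wf (r :: l) t = xGL chevF4 hF4 K r (t r) * f4wf l t := by
  unfold f4wf; rw [List.map_cons, f4_wordGL_cons]

theorem f4wf_append (l l' : List ℕ) (t : ℕ → K) : f4wf (l ++ l') t = f4wf l t * f4wf l' t := by
  unfold f4wf; rw [List.map_append, f4_wordGL_append]

theorem f4wf_congr (l : List ℕ) (t t' : ℕ → K) (h : ∀ r ∈ l, t r = t' r) : f4wf l t = f4wf l t' := by
  unfold f4wf
  congr 1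
  apply List.map_congr_left
  intro r hr
  rw [h r hr]

theorem f4wf_mem_group (l : List ℕ) (t : ℕ → K) : f4wf l t ∈ chevF4.group K :=
  wordGL_mem chevF4 hF4 K _ _ (fun _ _ => xGL_mem_group chevF4 hF4 K _ _)

theorem f4wf_zero (l : List ℕ) (t : ℕ → K) (h : ∀ r ∈ l, t r = 0) : f4wf l t = 1 := by
  induction l with
  | nil => exact f4wf_nil t
  | cons r l ih =>
    rw [f4wf_cons, h r List.mem_cons_self, xGL_zero, one_mul]
    exact ih (fun s hs => h s (List.mem_cons_of_mem _ hs))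

/-- gluing two coefficient functions along a list -/
def f4comb (B : List ℕ) (t₁ t₂ : ℕ → K) : ℕ → K := fun r => if r ∈ B then t₁ r else t₂ r

theorem f4wf_comb_left (B : List ℕ) (t₁ t₂ : ℕ → K) : f4wf B (f4comb B t₁ t₂) = f4wf B t₁ := by
  apply f4wf_congr
  intro r hr
  simp [f4comb, hr]

theorem f4wf_comb_right (B l : List ℕ) (t₁ t₂ : ℕ → K) (h : ∀ r ∈ l, r ∉ B) : f4wf l (f4comb B t₁ t₂) = f4wf l t₂ := by
  apply f4wf_congr
  intro r hr
  simp [f4comb, h r hr]

/-- uniqueness of the coefficients on a suffix of an admissible order -/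
theorem f4wf_suffix_unique [Fintype K] (ord pre suf : List ℕ) (hk : chkKeyOrd chevF4 ord = true) (e : pre ++ suf = ord)
    (t t' : ℕ → K) (h : f4wf suf t = f4wf suf t') : ∀ r ∈ suf, t r = t' r := by
  obtain ⟨hnd, -, -, -⟩ := chkKeyOrd_spec chevF4 ord hk
  rw [← e] at hnd
  have hdisj : ∀ r ∈ pre, r ∉ suf := fun r hr hs => (List.nodup_append.1 hnd).2.2 r hr r hs rfl
  have key : wordGL chevF4 hF4 K (ord.map fun r => (r, f4comb suf t (fun _ => 0) r)) =
      wordGL chevF4 hF4 K (ord.map fun r => (r, f4comb suf t' (fun _ => 0) r)) := by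
    show f4wf ord _ = f4wf ord _
    rw [← e, f4wf_append, f4wf_append, f4wf_comb_left, f4wf_comb_left, h]
    congr 1
    rw [f4wf_zero pre _ (fun r hr => by simp [f4comb, hdisj r hr]), f4wf_zero pre _ (fun r hr => by simp [f4comb, hdisj r hr])]
  intro r hr
  have hro : r ∈ ord := by rw [← e]; exact List.mem_append_right _ hr
  have := key_unique chevF4 hF4 K ord hk _ _ key r hro
  simpa [f4comb, hr] using this

end wfsec

section stab
variable {K : Type*} [Field K] {σ : ↥(chevF4.group K) →* ↥(chevF4.group K)}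

/-- the products over a list of roots are permuted by the twisting endomorphism -/
def F4Stab (σ : ↥(chevF4.group K) →* ↥(chevF4.group K)) (l : List ℕ) : Prop :=
  ∀ t : ℕ → K, ∃ t' : ℕ → K, sgf σ (f4wf l t) = f4wf l t'

theorem f4stab_nil : F4Stab σ [] := by
  intro t
  exact ⟨t, by rw [f4wf_nil, sgf_one]⟩

theorem f4stab_append (l l' : List ℕ) (hl : F4Stab σ l) (hl' : F4Stab σ l') (hdisj : ∀ r ∈ l', r ∉ l) :
    F4Stab σ (l ++ l') := by
  intro t
  obtain ⟨t₁, h₁⟩ := hl t
  obtain ⟨t₂, h₂⟩ := hl' t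
  refine ⟨f4comb l t₁ t₂, ?_⟩
  rw [f4wf_append, f4wf_append, sgf_mul σ _ _ (f4wf_mem_group _ _) (f4wf_mem_group _ _), h₁, h₂, f4wf_comb_left,
    f4wf_comb_right _ _ _ _ hdisj]

/-- a fixed product over `B ++ rest` has fixed factors -/
theorem f4_fixed_split [Fintype K] (ord pre B rest : List ℕ) (hk : chkKeyOrd chevF4 ord = true) (e : pre ++ (B ++ rest) = ord)
    (hB : F4Stab σ B) (hrest : F4Stab σ rest) (t : ℕ → K)
    (hfix : sgf σ (f4wf (B ++ rest) t) = f4wf (B ++ rest) t) :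
    sgf σ (f4wf B t) = f4wf B t ∧ sgf σ (f4wf rest t) = f4wf rest t := by
  obtain ⟨hnd, -, -, -⟩ := chkKeyOrd_spec chevF4 ord hk
  rw [← e] at hnd
  have hnd2 := (List.nodup_append.1 hnd).2.1
  have hdisj : ∀ r ∈ rest, r ∉ B := fun r hr hs => (List.nodup_append.1 hnd2).2.2 r hs r hr rfl
  obtain ⟨t₁, h₁⟩ := hB t
  obtain ⟨t₂, h₂⟩ := hrest t
  have e3 : f4wf (B ++ rest) (f4comb B t₁ t₂) = f4wf (B ++ rest) t := by
    rw [← hfix, f4wf_append, f4wf_append, sgf_mul σ _ _ (f4wf_mem_group _ _) (f4wf_mem_group _ _), h₁, h₂, f4wf_comb_left,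
      f4wf_comb_right _ _ _ _ hdisj]
  have hu := f4wf_suffix_unique ord pre (B ++ rest) hk e _ _ e3
  constructor
  · rw [h₁, ← f4wf_comb_left B t₁ t₂]
    exact f4wf_congr _ _ _ (fun r hr => hu r (List.mem_append_left _ hr))
  · rw [h₂, ← f4wf_comb_right B rest t₁ t₂ hdisj]
    exact f4wf_congr _ _ _ (fun r hr => hu r (List.mem_append_right _ hr))

end stab

end Cfsg.Agent.Lib.Helper36
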