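import Cfsg.Agent.Lib.Helper36.F4Step
import Cfsg.Agent.Lib.Helper36.F4Blocks

/-! # The groups `²F₄`: the fixed points on the two fundamental blocks of root subgroups (helper36) -/

set_option autoImplicit false

namespace Cfsg.Agent.Lib.Helper36

open Cfsg Cfsg.Lie Cfsg.Agent.Lib.Helper18

/-- an admissible order of the positive roots ending with the block of type `A₁ × A₁` -/
def f4OrdA : List ℕ := [27,25,28,30,37,32,35,31,40,46,39,45,29,41,44,47,38,43,34,26,36,42,33,24]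

/-- an admissible order of the positive roots ending with the block of type `B₂` -/
def f4OrdB : List ℕ := [33,24,34,26,36,42,38,43,29,41,44,47,39,45,35,31,40,46,37,32,27,25,28,30]

theorem f4OrdA_ok : chkKeyOrd chevF4 f4OrdA = true := by decide

theorem f4OrdB_ok : chkKeyOrd chevF4 f4OrdB = true := by decide

theorem f4_blkA : ∀ s < 48, chevF4.IsPosRoot s → chevF4.IsNegRoot (wRoot chevF4 [0, 3] s) →
    22 ≤ f4OrdA.idxOf s := by decide

theorem f4_blkB : ∀ s < 48, chevF4.IsPosRoot s → chevF4.IsNegRoot (wRoot chevF4 [1, 2, 1, 2] s) →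
    20 ≤ f4OrdB.idxOf s := by decide

theorem f4_blkA_mem : ∀ s ∈ [33, 24], chevF4.IsPosRoot s ∧ chevF4.IsNegRoot (wRoot chevF4 [0, 3] s) := by decide

theorem f4_blkB_mem : ∀ s ∈ [27, 25, 28, 30],
    chevF4.IsPosRoot s ∧ chevF4.IsNegRoot (wRoot chevF4 [1, 2, 1, 2] s) := by decide

section form
variable {K : Type*} [Field K]

/-- normal form on the block of type `A₁ × A₁` -/
theorem f4_XJ1_form (g : GL chevF4.Idx K) (hg : g ∈ Subgroup.closure (sGens chevF4 K [0, 3])) :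
    ∃ a b : K, g = wordGL chevF4 hF4 K [(33, a), (24, b)] := by
  have hle : Subgroup.closure (sGens chevF4 K [0, 3]) ≤
      Subgroup.closure (keyGens chevF4 K (fun r => f4OrdA.idxOf r) 22) := by
    apply Subgroup.closure_mono
    rintro x ⟨s, t, hs, hws, hx⟩
    exact ⟨s, t, hs, f4_blkA s hs.1 hs hws, hx⟩
  obtain ⟨t, ht⟩ := key_exists_aux chevF4 hF4 K f4OrdA f4OrdA_ok 2 22 (by decide) g (hle hg)
  exact ⟨t 33, t 24, ht⟩

/-- normal form on the block of type `B₂` -/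
theorem f4_XJ2_form (g : GL chevF4.Idx K) (hg : g ∈ Subgroup.closure (sGens chevF4 K [1, 2, 1, 2])) :
    ∃ a b c d : K, g = wordGL chevF4 hF4 K [(27, a), (25, b), (28, c), (30, d)] := by
  have hle : Subgroup.closure (sGens chevF4 K [1, 2, 1, 2]) ≤
      Subgroup.closure (keyGens chevF4 K (fun r => f4OrdB.idxOf r) 20) := by
    apply Subgroup.closure_mono
    rintro x ⟨s, t, hs, hws, hx⟩
    exact ⟨s, t, hs, f4_blkB s hs.1 hs hws, hx⟩
  obtain ⟨t, ht⟩ := key_exists_aux chevF4 hF4 K f4OrdB f4OrdB_ok 4 20 (by decide) g (hle hg)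
  exact ⟨t 27, t 25, t 28, t 30, ht⟩

theorem f4_word_mem_XJ (J : List ℕ) (w : List (ℕ × K))
    (h : ∀ p ∈ w, chevF4.IsPosRoot p.1 ∧ chevF4.IsNegRoot (wRoot chevF4 J p.1)) :
    wordGL chevF4 hF4 K w ∈ Subgroup.closure (sGens chevF4 K J) := by
  apply wordGL_mem
  intro p hp
  exact Subgroup.subset_closure ⟨p.1, p.2, (h p hp).1, (h p hp).2, xGL_coe chevF4 hF4 K _ _⟩

variable [Fintype K]

theorem f4_pair_unique (a b a' b' : K)
    (h : wordGL chevF4 hF4 K [(33, a), (24, b)] = wordGL chevF4 hF4 K [(33, a'), (24, b')]) : a = a' ∧ b = b' := by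
  let t : ℕ → K := fun r => if r = 33 then a else b
  let t' : ℕ → K := fun r => if r = 33 then a' else b'
  have h1 : f4wf [33, 24] t = f4wf [33, 24] t' := h
  have hu := f4wf_suffix_unique f4OrdA (f4OrdA.take 22) [33, 24] f4OrdA_ok (by decide) t t' h1
  exact ⟨hu 33 (by simp), hu 24 (by simp)⟩

theorem f4_class_unique (a b c d a' b' c' d' : K)
    (h : wordGL chevF4 hF4 K [(27, a), (25, b), (28, c), (30, d)] =
      wordGL chevF4 hF4 K [(27, a'), (25, b'), (28, c'), (30, d')]) : a = a' ∧ b = b' ∧ c = c' ∧ d = d' := by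
  let t : ℕ → K := fun r => if r = 27 then a else if r = 25 then b else if r = 28 then c else d
  let t' : ℕ → K := fun r => if r = 27 then a' else if r = 25 then b' else if r = 28 then c' else d'
  have h1 : f4wf [27, 25, 28, 30] t = f4wf [27, 25, 28, 30] t' := h
  have hu := f4wf_suffix_unique f4OrdB (f4OrdB.take 20) [27, 25, 28, 30] f4OrdB_ok (by decide) t t' h1
  exact ⟨hu 27 (by simp), hu 25 (by simp), hu 28 (by simp), hu 30 (by simp)⟩

end form

section base
variable {K : Type*} [Field K] [Fintype K] {m : ℕ} {σ : ↥(chevF4.group K) →* ↥(chevF4.group K)}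

/-- a fixed point on the block of type `A₁ × A₁` is a generator -/
theorem f4_XJ1_fixed (hK : Fintype.card K = 2 ^ (2 * m + 1)) (hσ : IsF4Sig K (2 ^ m) σ) (g : GL chevF4.Idx K)
    (hg : g ∈ Subgroup.closure (sGens chevF4 K [0, 3])) (hfix : sgf σ g = g) :
    ∃ t : K, g = wordGL chevF4 hF4 K (f4PairWord (2 ^ m) f4p1 f4p4 t) := by
  have := f4_charP hK
  obtain ⟨a, b, rfl⟩ := f4_XJ1_form g hg
  rw [sgf_pair hσ] at hfix
  obtain ⟨h1, -⟩ := f4_pair_unique _ _ _ _ hfix
  refine ⟨b, ?_⟩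
  rw [f4_pairWord_eq, h1]
  rfl

/-- a fixed point on the block of type `B₂` is a generator -/
theorem f4_XJ2_fixed (hK : Fintype.card K = 2 ^ (2 * m + 1)) (hσ : IsF4Sig K (2 ^ m) σ) (g : GL chevF4.Idx K)
    (hg : g ∈ Subgroup.closure (sGens chevF4 K [1, 2, 1, 2])) (hfix : sgf σ g = g) :
    ∃ t u : K, g = wordGL chevF4 hF4 K (b2ClassWord (2 ^ m) f4a f4b f4ab f4aab t u) := by
  have := f4_charP hK
  obtain ⟨a, b, c, d, rfl⟩ := f4_XJ2_form g hg
  rw [sgf_class hσ] at hfix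
  obtain ⟨h1, h2, h3, -⟩ := f4_class_unique _ _ _ _ _ _ _ _ hfix
  refine ⟨b, d ^ 2 ^ m, ?_⟩
  rw [f4_classWord_eq]
  have e3 : b ^ (2 ^ m + 1) + d ^ 2 ^ m = c := by
    rw [← h3, h2, pow_succ]
  have e4 : (d ^ 2 ^ m) ^ (2 * 2 ^ m) = d := by
    rw [mul_comm 2 (2 ^ m)]
    exact f4_theta hK d
  rw [e3, e4, h1]
  rfl

end base

end Cfsg.Agent.Lib.Helper36
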