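import Cfsg.Agent.Lib.Helper36.F4Bits2

/-! # The group `²F₄(2)`: the identities and the involution check (helper36) -/

set_option autoImplicit false

namespace Cfsg.Agent.Lib.Helper36

open Cfsg Cfsg.Lie

/-- the word of `x_{p₁}(1) x_{p₄}(1)` -/
def wX : List ℕ := [33, 24]
/-- the word of `α(1,0)` -/
def wA : List ℕ := [27, 25, 28]
/-- the word of `α(1,0)⁻¹` -/
def wA' : List ℕ := [28, 25, 27]
/-- the word of `α(0,1)` -/
def wZ : List ℕ := [28, 30]
/-- the word of `α(1,1)` -/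
def wA11 : List ℕ := [27, 25, 30]
/-- the word of `n_{J₁}` -/
def wN1 : List ℕ := [33, 14, 33, 24, 23, 24]
/-- the word of `n_{J₂}` -/
def wN2 : List ℕ := [27, 20, 27, 25, 22, 25, 27, 20, 27, 25, 22, 25]

theorem bX : prodBits (wX.map f4Tab2) = LX1 := by decide +kernel
theorem bA : prodBits (wA.map f4Tab2) = LA10 := by decide +kernel
theorem bZ : prodBits (wZ.map f4Tab2) = LA01 := by decide +kernel
theorem bA11 : prodBits (wA11.map f4Tab2) = LA11 := by decide +kernel
theorem bN1 : prodBits (wN1.map f4Tab2) = LN1 := by decide +kernel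
theorem bN2 : prodBits (wN2.map f4Tab2) = LN2 := by decide +kernel

theorem bI1 : prodBits ((wA ++ wA').map f4Tab2) = idBits := by decide +kernel
theorem bI2 : prodBits ((wN1 ++ wN1).map f4Tab2) = idBits := by decide +kernel
theorem bI3 : prodBits ((wN2 ++ wN2).map f4Tab2) = idBits := by decide +kernel
theorem bI4 : prodBits ((wX ++ wX).map f4Tab2) = idBits := by decide +kernel
theorem bI7 : prodBits ((wA ++ wA).map f4Tab2) = prodBits (wZ.map f4Tab2) := by decide +kernel
theorem bI8 : prodBits ((wA ++ wZ).map f4Tab2) = prodBits (wA11.map f4Tab2) := by decide +kernel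

/-- the first commutator identity: `n₂ x n₂ = [a, g a g⁻¹]` with `g = n₂ n₁` -/
theorem bI5 : prodBits ((wN2 ++ wX ++ wN2).map f4Tab2) =
    prodBits ((wA ++ ((wN2 ++ wN1) ++ wA ++ (wN1 ++ wN2)) ++ wA' ++ ((wN2 ++ wN1) ++ wA' ++ (wN1 ++ wN2))).map f4Tab2) := by
  decide +kernel

/-- the second commutator identity: `α(0,1) = [g a g⁻¹, n₂ x n₂]` with `g = n₁ n₂` -/
theorem bI6 : prodBits (wZ.map f4Tab2) =
    prodBits ((((wN1 ++ wN2) ++ wA ++ (wN2 ++ wN1)) ++ (wN2 ++ wX ++ wN2) ++ ((wN1 ++ wN2) ++ wA' ++ (wN2 ++ wN1)) ++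
      (wN2 ++ wX ++ wN2)).map f4Tab2) := by
  decide +kernel

theorem len_lits : LX1.length = 52 ∧ LA10.length = 52 ∧ LA01.length = 52 ∧ LA11.length = 52 ∧ LN1.length = 52 ∧
    LN2.length = 52 ∧ idBits.length = 52 := by decide

end Cfsg.Agent.Lib.Helper36
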