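import Cfsg.Agent.Lib.Helper36.F4Bits3

/-! # The group `²F₄(2)`: the elements of the Sylow `2`-subgroup outside the derived group are not involutions
(helper36) -/

set_option autoImplicit false

namespace Cfsg.Agent.Lib.Helper36

open Cfsg Cfsg.Lie

/-- the bit matrix of the `k`-th fixed point on a block -/
def f4XLit (J : List ℕ) (k : ℕ) : List ℕ :=
  if J = [0, 3] then (if k = 0 then idBits else LX1)
  else (if k = 0 then idBits else if k = 1 then LA10 else if k = 2 then LA01 else LA11)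

/-- the class of the `k`-th fixed point on a block modulo the derived group -/
def f4XPar (J : List ℕ) (k : ℕ) : Bool :=
  if J = [0, 3] then false else (k == 1 || k == 3)

/-- the number of fixed points on a block -/
def f4XNum (J : List ℕ) : ℕ := if J = [0, 3] then 2 else 4

/-- the bit matrix of `n_J` -/
def f4NLit (J : List ℕ) : List ℕ := if J = [0, 3] then LN1 else LN2

/-- the action on a row vector of the element with given parameters -/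
def f4Act : List (List ℕ) → List ℕ → ℕ → ℕ
  | [], _, v => v
  | _ :: _, [], v => v
  | J :: rest, k :: ps, v =>
    vecMulF (f4Act rest ps (vecMulF (vecMulF v (f4XLit J k)) (f4NLit J))) (f4NLit J)

/-- the class modulo the derived group of the element with given parameters -/
def f4Par : List (List ℕ) → List ℕ → Bool
  | [], _ => false
  | _ :: _, [] => false
  | J :: rest, k :: ps => xor (f4XPar J k) (f4Par rest ps)

/-- all parameters -/
def f4Params : List (List ℕ) → List (List ℕ)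
  | [] => [[]]
  | J :: rest => (List.range (f4XNum J)).flatMap fun k => (f4Params rest).map fun ps => k :: ps

/-- the last five folded reflections of the longest element -/
def f4W5 : List (List ℕ) := [[0, 3], [1, 2, 1, 2], [0, 3], [1, 2, 1, 2], [0, 3]]

/-- the reversed list of folded reflections of the longest element -/
def f4W0R' : List (List ℕ) := [1, 2, 1, 2] :: [0, 3] :: [1, 2, 1, 2] :: f4W5

set_option maxHeartbeats 0 in
set_option maxRecDepth 1000000 in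
theorem f4_odd_chunk_0_0_0 : ∀ ps ∈ f4Params f4W5, f4Par f4W0R' (0 :: 0 :: 0 :: ps) = true →
    diff52 (f4Act f4W0R' (0 :: 0 :: 0 :: ps) (f4Act f4W0R' (0 :: 0 :: 0 :: ps) (2 ^ 33))) (2 ^ 33) = true := by
  decide +kernel

set_option maxHeartbeats 0 in
set_option maxRecDepth 1000000 in
theorem f4_odd_chunk_0_0_1 : ∀ ps ∈ f4Params f4W5, f4Par f4W0R' (0 :: 0 :: 1 :: ps) = true →
    diff52 (f4Act f4W0R' (0 :: 0 :: 1 :: ps) (f4Act f4W0R' (0 :: 0 :: 1 :: ps) (2 ^ 33))) (2 ^ 33) = true := by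
  decide +kernel

set_option maxHeartbeats 0 in
set_option maxRecDepth 1000000 in
theorem f4_odd_chunk_0_0_2 : ∀ ps ∈ f4Params f4W5, f4Par f4W0R' (0 :: 0 :: 2 :: ps) = true →
    diff52 (f4Act f4W0R' (0 :: 0 :: 2 :: ps) (f4Act f4W0R' (0 :: 0 :: 2 :: ps) (2 ^ 33))) (2 ^ 33) = true := by
  decide +kernel

set_option maxHeartbeats 0 in
set_option maxRecDepth 1000000 in
theorem f4_odd_chunk_0_0_3 : ∀ ps ∈ f4Params f4W5, f4Par f4W0R' (0 :: 0 :: 3 :: ps) = true →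
    diff52 (f4Act f4W0R' (0 :: 0 :: 3 :: ps) (f4Act f4W0R' (0 :: 0 :: 3 :: ps) (2 ^ 33))) (2 ^ 33) = true := by
  decide +kernel

set_option maxHeartbeats 0 in
set_option maxRecDepth 1000000 in
theorem f4_odd_chunk_0_1_0 : ∀ ps ∈ f4Params f4W5, f4Par f4W0R' (0 :: 1 :: 0 :: ps) = true →
    diff52 (f4Act f4W0R' (0 :: 1 :: 0 :: ps) (f4Act f4W0R' (0 :: 1 :: 0 :: ps) (2 ^ 33))) (2 ^ 33) = true := by
  decide +kernel

set_option maxHeartbeats 0 in
set_option maxRecDepth 1000000 in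
theorem f4_odd_chunk_0_1_1 : ∀ ps ∈ f4Params f4W5, f4Par f4W0R' (0 :: 1 :: 1 :: ps) = true →
    diff52 (f4Act f4W0R' (0 :: 1 :: 1 :: ps) (f4Act f4W0R' (0 :: 1 :: 1 :: ps) (2 ^ 33))) (2 ^ 33) = true := by
  decide +kernel

set_option maxHeartbeats 0 in
set_option maxRecDepth 1000000 in
theorem f4_odd_chunk_0_1_2 : ∀ ps ∈ f4Params f4W5, f4Par f4W0R' (0 :: 1 :: 2 :: ps) = true →
    diff52 (f4Act f4W0R' (0 :: 1 :: 2 :: ps) (f4Act f4W0R' (0 :: 1 :: 2 :: ps) (2 ^ 33))) (2 ^ 33) = true := by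
  decide +kernel

set_option maxHeartbeats 0 in
set_option maxRecDepth 1000000 in
theorem f4_odd_chunk_0_1_3 : ∀ ps ∈ f4Params f4W5, f4Par f4W0R' (0 :: 1 :: 3 :: ps) = true →
    diff52 (f4Act f4W0R' (0 :: 1 :: 3 :: ps) (f4Act f4W0R' (0 :: 1 :: 3 :: ps) (2 ^ 33))) (2 ^ 33) = true := by
  decide +kernel

set_option maxHeartbeats 0 in
set_option maxRecDepth 1000000 in
theorem f4_odd_chunk_1_0_0 : ∀ ps ∈ f4Params f4W5, f4Par f4W0R' (1 :: 0 :: 0 :: ps) = true →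
    diff52 (f4Act f4W0R' (1 :: 0 :: 0 :: ps) (f4Act f4W0R' (1 :: 0 :: 0 :: ps) (2 ^ 33))) (2 ^ 33) = true := by
  decide +kernel

set_option maxHeartbeats 0 in
set_option maxRecDepth 1000000 in
theorem f4_odd_chunk_1_0_1 : ∀ ps ∈ f4Params f4W5, f4Par f4W0R' (1 :: 0 :: 1 :: ps) = true →
    diff52 (f4Act f4W0R' (1 :: 0 :: 1 :: ps) (f4Act f4W0R' (1 :: 0 :: 1 :: ps) (2 ^ 33))) (2 ^ 33) = true := by
  decide +kernel

set_option maxHeartbeats 0 in
set_option maxRecDepth 1000000 in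
theorem f4_odd_chunk_1_0_2 : ∀ ps ∈ f4Params f4W5, f4Par f4W0R' (1 :: 0 :: 2 :: ps) = true →
    diff52 (f4Act f4W0R' (1 :: 0 :: 2 :: ps) (f4Act f4W0R' (1 :: 0 :: 2 :: ps) (2 ^ 33))) (2 ^ 33) = true := by
  decide +kernel

set_option maxHeartbeats 0 in
set_option maxRecDepth 1000000 in
theorem f4_odd_chunk_1_0_3 : ∀ ps ∈ f4Params f4W5, f4Par f4W0R' (1 :: 0 :: 3 :: ps) = true →
    diff52 (f4Act f4W0R' (1 :: 0 :: 3 :: ps) (f4Act f4W0R' (1 :: 0 :: 3 :: ps) (2 ^ 33))) (2 ^ 33) = true := by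
  decide +kernel

set_option maxHeartbeats 0 in
set_option maxRecDepth 1000000 in
theorem f4_odd_chunk_1_1_0 : ∀ ps ∈ f4Params f4W5, f4Par f4W0R' (1 :: 1 :: 0 :: ps) = true →
    diff52 (f4Act f4W0R' (1 :: 1 :: 0 :: ps) (f4Act f4W0R' (1 :: 1 :: 0 :: ps) (2 ^ 33))) (2 ^ 33) = true := by
  decide +kernel

set_option maxHeartbeats 0 in
set_option maxRecDepth 1000000 in
theorem f4_odd_chunk_1_1_1 : ∀ ps ∈ f4Params f4W5, f4Par f4W0R' (1 :: 1 :: 1 :: ps) = true →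
    diff52 (f4Act f4W0R' (1 :: 1 :: 1 :: ps) (f4Act f4W0R' (1 :: 1 :: 1 :: ps) (2 ^ 33))) (2 ^ 33) = true := by
  decide +kernel

set_option maxHeartbeats 0 in
set_option maxRecDepth 1000000 in
theorem f4_odd_chunk_1_1_2 : ∀ ps ∈ f4Params f4W5, f4Par f4W0R' (1 :: 1 :: 2 :: ps) = true →
    diff52 (f4Act f4W0R' (1 :: 1 :: 2 :: ps) (f4Act f4W0R' (1 :: 1 :: 2 :: ps) (2 ^ 33))) (2 ^ 33) = true := by
  decide +kernel

set_option maxHeartbeats 0 in
set_option maxRecDepth 1000000 in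
theorem f4_odd_chunk_1_1_3 : ∀ ps ∈ f4Params f4W5, f4Par f4W0R' (1 :: 1 :: 3 :: ps) = true →
    diff52 (f4Act f4W0R' (1 :: 1 :: 3 :: ps) (f4Act f4W0R' (1 :: 1 :: 3 :: ps) (2 ^ 33))) (2 ^ 33) = true := by
  decide +kernel

set_option maxHeartbeats 0 in
set_option maxRecDepth 1000000 in
theorem f4_odd_chunk_2_0_0 : ∀ ps ∈ f4Params f4W5, f4Par f4W0R' (2 :: 0 :: 0 :: ps) = true →
    diff52 (f4Act f4W0R' (2 :: 0 :: 0 :: ps) (f4Act f4W0R' (2 :: 0 :: 0 :: ps) (2 ^ 33))) (2 ^ 33) = true := by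
  decide +kernel

set_option maxHeartbeats 0 in
set_option maxRecDepth 1000000 in
theorem f4_odd_chunk_2_0_1 : ∀ ps ∈ f4Params f4W5, f4Par f4W0R' (2 :: 0 :: 1 :: ps) = true →
    diff52 (f4Act f4W0R' (2 :: 0 :: 1 :: ps) (f4Act f4W0R' (2 :: 0 :: 1 :: ps) (2 ^ 33))) (2 ^ 33) = true := by
  decide +kernel

set_option maxHeartbeats 0 in
set_option maxRecDepth 1000000 in
theorem f4_odd_chunk_2_0_2 : ∀ ps ∈ f4Params f4W5, f4Par f4W0R' (2 :: 0 :: 2 :: ps) = true →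
    diff52 (f4Act f4W0R' (2 :: 0 :: 2 :: ps) (f4Act f4W0R' (2 :: 0 :: 2 :: ps) (2 ^ 33))) (2 ^ 33) = true := by
  decide +kernel

set_option maxHeartbeats 0 in
set_option maxRecDepth 1000000 in
theorem f4_odd_chunk_2_0_3 : ∀ ps ∈ f4Params f4W5, f4Par f4W0R' (2 :: 0 :: 3 :: ps) = true →
    diff52 (f4Act f4W0R' (2 :: 0 :: 3 :: ps) (f4Act f4W0R' (2 :: 0 :: 3 :: ps) (2 ^ 33))) (2 ^ 33) = true := by
  decide +kernel

set_option maxHeartbeats 0 in
set_option maxRecDepth 1000000 in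
theorem f4_odd_chunk_2_1_0 : ∀ ps ∈ f4Params f4W5, f4Par f4W0R' (2 :: 1 :: 0 :: ps) = true →
    diff52 (f4Act f4W0R' (2 :: 1 :: 0 :: ps) (f4Act f4W0R' (2 :: 1 :: 0 :: ps) (2 ^ 33))) (2 ^ 33) = true := by
  decide +kernel

set_option maxHeartbeats 0 in
set_option maxRecDepth 1000000 in
theorem f4_odd_chunk_2_1_1 : ∀ ps ∈ f4Params f4W5, f4Par f4W0R' (2 :: 1 :: 1 :: ps) = true →
    diff52 (f4Act f4W0R' (2 :: 1 :: 1 :: ps) (f4Act f4W0R' (2 :: 1 :: 1 :: ps) (2 ^ 33))) (2 ^ 33) = true := by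
  decide +kernel

set_option maxHeartbeats 0 in
set_option maxRecDepth 1000000 in
theorem f4_odd_chunk_2_1_2 : ∀ ps ∈ f4Params f4W5, f4Par f4W0R' (2 :: 1 :: 2 :: ps) = true →
    diff52 (f4Act f4W0R' (2 :: 1 :: 2 :: ps) (f4Act f4W0R' (2 :: 1 :: 2 :: ps) (2 ^ 33))) (2 ^ 33) = true := by
  decide +kernel

set_option maxHeartbeats 0 in
set_option maxRecDepth 1000000 in
theorem f4_odd_chunk_2_1_3 : ∀ ps ∈ f4Params f4W5, f4Par f4W0R' (2 :: 1 :: 3 :: ps) = true →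
    diff52 (f4Act f4W0R' (2 :: 1 :: 3 :: ps) (f4Act f4W0R' (2 :: 1 :: 3 :: ps) (2 ^ 33))) (2 ^ 33) = true := by
  decide +kernel

set_option maxHeartbeats 0 in
set_option maxRecDepth 1000000 in
theorem f4_odd_chunk_3_0_0 : ∀ ps ∈ f4Params f4W5, f4Par f4W0R' (3 :: 0 :: 0 :: ps) = true →
    diff52 (f4Act f4W0R' (3 :: 0 :: 0 :: ps) (f4Act f4W0R' (3 :: 0 :: 0 :: ps) (2 ^ 33))) (2 ^ 33) = true := by
  decide +kernel

set_option maxHeartbeats 0 in
set_option maxRecDepth 1000000 in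
theorem f4_odd_chunk_3_0_1 : ∀ ps ∈ f4Params f4W5, f4Par f4W0R' (3 :: 0 :: 1 :: ps) = true →
    diff52 (f4Act f4W0R' (3 :: 0 :: 1 :: ps) (f4Act f4W0R' (3 :: 0 :: 1 :: ps) (2 ^ 33))) (2 ^ 33) = true := by
  decide +kernel

set_option maxHeartbeats 0 in
set_option maxRecDepth 1000000 in
theorem f4_odd_chunk_3_0_2 : ∀ ps ∈ f4Params f4W5, f4Par f4W0R' (3 :: 0 :: 2 :: ps) = true →
    diff52 (f4Act f4W0R' (3 :: 0 :: 2 :: ps) (f4Act f4W0R' (3 :: 0 :: 2 :: ps) (2 ^ 33))) (2 ^ 33) = true := by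
  decide +kernel

set_option maxHeartbeats 0 in
set_option maxRecDepth 1000000 in
theorem f4_odd_chunk_3_0_3 : ∀ ps ∈ f4Params f4W5, f4Par f4W0R' (3 :: 0 :: 3 :: ps) = true →
    diff52 (f4Act f4W0R' (3 :: 0 :: 3 :: ps) (f4Act f4W0R' (3 :: 0 :: 3 :: ps) (2 ^ 33))) (2 ^ 33) = true := by
  decide +kernel

set_option maxHeartbeats 0 in
set_option maxRecDepth 1000000 in
theorem f4_odd_chunk_3_1_0 : ∀ ps ∈ f4Params f4W5, f4Par f4W0R' (3 :: 1 :: 0 :: ps) = true →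
    diff52 (f4Act f4W0R' (3 :: 1 :: 0 :: ps) (f4Act f4W0R' (3 :: 1 :: 0 :: ps) (2 ^ 33))) (2 ^ 33) = true := by
  decide +kernel

set_option maxHeartbeats 0 in
set_option maxRecDepth 1000000 in
theorem f4_odd_chunk_3_1_1 : ∀ ps ∈ f4Params f4W5, f4Par f4W0R' (3 :: 1 :: 1 :: ps) = true →
    diff52 (f4Act f4W0R' (3 :: 1 :: 1 :: ps) (f4Act f4W0R' (3 :: 1 :: 1 :: ps) (2 ^ 33))) (2 ^ 33) = true := by
  decide +kernel

set_option maxHeartbeats 0 in
set_option maxRecDepth 1000000 in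
theorem f4_odd_chunk_3_1_2 : ∀ ps ∈ f4Params f4W5, f4Par f4W0R' (3 :: 1 :: 2 :: ps) = true →
    diff52 (f4Act f4W0R' (3 :: 1 :: 2 :: ps) (f4Act f4W0R' (3 :: 1 :: 2 :: ps) (2 ^ 33))) (2 ^ 33) = true := by
  decide +kernel

set_option maxHeartbeats 0 in
set_option maxRecDepth 1000000 in
theorem f4_odd_chunk_3_1_3 : ∀ ps ∈ f4Params f4W5, f4Par f4W0R' (3 :: 1 :: 3 :: ps) = true →
    diff52 (f4Act f4W0R' (3 :: 1 :: 3 :: ps) (f4Act f4W0R' (3 :: 1 :: 3 :: ps) (2 ^ 33))) (2 ^ 33) = true := by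
  decide +kernel

theorem mem_f4Params_cons (J : List ℕ) (rest : List (List ℕ)) (ps : List ℕ) :
    ps ∈ f4Params (J :: rest) ↔ ∃ k < f4XNum J, ∃ ps' ∈ f4Params rest, ps = k :: ps' := by
  simp only [f4Params, List.mem_flatMap, List.mem_map, List.mem_range]
  constructor
  · rintro ⟨k, hk, ps', hps', rfl⟩
    exact ⟨k, hk, ps', hps', rfl⟩
  · rintro ⟨k, hk, ps', hps', rfl⟩
    exact ⟨k, hk, ps', hps', rfl⟩

/-- the elements of the Sylow `2`-subgroup of odd class are not involutions -/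
theorem f4_odd_not_inv : ∀ ps ∈ f4Params f4W0R', f4Par f4W0R' ps = true →
    diff52 (f4Act f4W0R' ps (f4Act f4W0R' ps (2 ^ 33))) (2 ^ 33) = true := by
  intro ps hps
  obtain ⟨a, ha, ps1, hps1, rfl⟩ := (mem_f4Params_cons _ _ _).1 hps
  obtain ⟨b, hb, ps2, hps2, rfl⟩ := (mem_f4Params_cons _ _ _).1 hps1
  obtain ⟨c, hc, ps3, hps3, rfl⟩ := (mem_f4Params_cons _ _ _).1 hps2
  have e4 : f4XNum [1, 2, 1, 2] = 4 := by decide
  have e2 : f4XNum [0, 3] = 2 := by decide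
  rw [e4] at ha hc
  rw [e2] at hb
  interval_cases a <;> interval_cases b <;> interval_cases c
  · exact f4_odd_chunk_0_0_0 ps3 hps3
  · exact f4_odd_chunk_0_0_1 ps3 hps3
  · exact f4_odd_chunk_0_0_2 ps3 hps3
  · exact f4_odd_chunk_0_0_3 ps3 hps3
  · exact f4_odd_chunk_0_1_0 ps3 hps3
  · exact f4_odd_chunk_0_1_1 ps3 hps3
  · exact f4_odd_chunk_0_1_2 ps3 hps3
  · exact f4_odd_chunk_0_1_3 ps3 hps3
  · exact f4_odd_chunk_1_0_0 ps3 hps3
  · exact f4_odd_chunk_1_0_1 ps3 hps3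
  · exact f4_odd_chunk_1_0_2 ps3 hps3
  · exact f4_odd_chunk_1_0_3 ps3 hps3
  · exact f4_odd_chunk_1_1_0 ps3 hps3
  · exact f4_odd_chunk_1_1_1 ps3 hps3
  · exact f4_odd_chunk_1_1_2 ps3 hps3
  · exact f4_odd_chunk_1_1_3 ps3 hps3
  · exact f4_odd_chunk_2_0_0 ps3 hps3
  · exact f4_odd_chunk_2_0_1 ps3 hps3
  · exact f4_odd_chunk_2_0_2 ps3 hps3
  · exact f4_odd_chunk_2_0_3 ps3 hps3
  · exact f4_odd_chunk_2_1_0 ps3 hps3
  · exact f4_odd_chunk_2_1_1 ps3 hps3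
  · exact f4_odd_chunk_2_1_2 ps3 hps3
  · exact f4_odd_chunk_2_1_3 ps3 hps3
  · exact f4_odd_chunk_3_0_0 ps3 hps3
  · exact f4_odd_chunk_3_0_1 ps3 hps3
  · exact f4_odd_chunk_3_0_2 ps3 hps3
  · exact f4_odd_chunk_3_0_3 ps3 hps3
  · exact f4_odd_chunk_3_1_0 ps3 hps3
  · exact f4_odd_chunk_3_1_1 ps3 hps3
  · exact f4_odd_chunk_3_1_2 ps3 hps3
  · exact f4_odd_chunk_3_1_3 ps3 hps3

end Cfsg.Agent.Lib.Helper36
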