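import Cfsg.Agent.Lib.Helper36.F4BN

/-! # The groups `²F₄`: the core of the Borel subgroup is trivial (helper36) -/

set_option autoImplicit false

namespace Cfsg.Agent.Lib.Helper36

open Cfsg Cfsg.Lie Cfsg.Agent.Lib.Helper18

section solve
variable {K : Type*} [Field K]

/-- the four fundamental characters determine an element of the torus -/
theorem f4_char_solve (a b c d : K) (ha : a ≠ 0) (hd : d ≠ 0)
    (e1 : a ^ 2 = b) (e2 : b ^ 2 = a * c) (e3 : c ^ 2 = b ^ 2 * d) (e4 : d ^ 2 = c) :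
    a = 1 ∧ b = 1 ∧ c = 1 ∧ d = 1 := by
  have h1 : a ^ 3 = d ^ 2 := by
    have : a * a ^ 3 = a * d ^ 2 := by
      calc a * a ^ 3 = (a ^ 2) ^ 2 := by ring
        _ = b ^ 2 := by rw [e1]
        _ = a * c := e2
        _ = a * d ^ 2 := by rw [e4]
    exact mul_left_cancel₀ ha this
  have h2 : d ^ 3 = a ^ 4 := by
    have : d * d ^ 3 = d * a ^ 4 := by
      calc d * d ^ 3 = (d ^ 2) ^ 2 := by ring
        _ = c ^ 2 := by rw [e4]
        _ = b ^ 2 * d := e3
        _ = (a ^ 2) ^ 2 * d := by rw [e1]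
        _ = d * a ^ 4 := by ring
    exact mul_left_cancel₀ hd this
  have h3 : a = 1 := by
    have : a ^ 8 * a = a ^ 8 * 1 := by
      calc a ^ 8 * a = (a ^ 3) ^ 3 := by ring
        _ = (d ^ 2) ^ 3 := by rw [h1]
        _ = (d ^ 3) ^ 2 := by ring
        _ = (a ^ 4) ^ 2 := by rw [h2]
        _ = a ^ 8 * 1 := by ring
    exact mul_left_cancel₀ (pow_ne_zero 8 ha) this
  have h4 : d = 1 := by
    rw [h3] at h1 h2
    have h5 : d ^ 2 = 1 := by rw [← h1]; ring
    have h6 : d ^ 3 = 1 := by rw [h2]; ring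
    calc d = d ^ 3 * (d ^ 2)⁻¹ := by field_simp
      _ = 1 := by rw [h5, h6]; simp
  refine ⟨h3, ?_, ?_, h4⟩
  · rw [← e1, h3]; ring
  · rw [← e4, h4]; ring

/-- the character of the torus on a root -/
def tor4Chi (a b c d : Kˣ) (r : ℕ) : K :=
  (a : K) ^ chevF4.cartan 0 r * (b : K) ^ chevF4.cartan 1 r * (c : K) ^ chevF4.cartan 2 r *
    (d : K) ^ chevF4.cartan 3 r

theorem tor4_conj_word (a b c d : Kˣ) (w : List (ℕ × K)) (hw : ∀ p ∈ w, p.1 < 48) :
    torusHom chevF4 K (tor4 a b c d) * wordGL chevF4 hF4 K w * (torusHom chevF4 K (tor4 a b c d))⁻¹ =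
      wordGL chevF4 hF4 K (w.map fun p => (p.1, tor4Chi a b c d p.1 * p.2)) := by
  induction w with
  | nil => simp [wordGL]
  | cons p w ih =>
    have hw' : ∀ q ∈ w, q.1 < 48 := fun q hq => hw q (List.mem_cons_of_mem _ hq)
    rw [List.map_cons, f4_wordGL_cons, f4_wordGL_cons, ← ih hw']
    have e : xGL chevF4 hF4 K p.1 (tor4Chi a b c d p.1 * p.2) =
        torusHom chevF4 K (tor4 a b c d) * xGL chevF4 hF4 K p.1 p.2 * (torusHom chevF4 K (tor4 a b c d))⁻¹ :=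
      (tor4_conj a b c d p.1 (hw p List.mem_cons_self) p.2).symm
    show _ = xGL chevF4 hF4 K p.1 (tor4Chi a b c d p.1 * p.2) * _
    rw [e]
    group

theorem tor4Chi_33 (a b c d : Kˣ) : tor4Chi a b c d 33 = (a : K) ^ 2 * (b : K)⁻¹ := by
  have h : chevF4.cartan 0 33 = 2 ∧ chevF4.cartan 1 33 = -1 ∧ chevF4.cartan 2 33 = 0 ∧ chevF4.cartan 3 33 = 0 := by
    decide
  unfold tor4Chi
  rw [h.1, h.2.1, h.2.2.1, h.2.2.2]
  simp [zpow_ofNat]

theorem tor4Chi_27 (a b c d : Kˣ) : tor4Chi a b c d 27 = (a : K)⁻¹ * (b : K) ^ 2 * (c : K)⁻¹ := by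
  have h : chevF4.cartan 0 27 = -1 ∧ chevF4.cartan 1 27 = 2 ∧ chevF4.cartan 2 27 = -1 ∧ chevF4.cartan 3 27 = 0 := by
    decide
  unfold tor4Chi
  rw [h.1, h.2.1, h.2.2.1, h.2.2.2]
  simp [zpow_ofNat]

theorem tor4Chi_25 (a b c d : Kˣ) : tor4Chi a b c d 25 = ((b : K) ^ 2)⁻¹ * (c : K) ^ 2 * (d : K)⁻¹ := by
  have h : chevF4.cartan 0 25 = 0 ∧ chevF4.cartan 1 25 = -2 ∧ chevF4.cartan 2 25 = 2 ∧ chevF4.cartan 3 25 = -1 := by
    decide
  unfold tor4Chi
  rw [h.1, h.2.1, h.2.2.1, h.2.2.2]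
  simp [zpow_ofNat]

theorem tor4Chi_24 (a b c d : Kˣ) : tor4Chi a b c d 24 = (c : K)⁻¹ * (d : K) ^ 2 := by
  have h : chevF4.cartan 0 24 = 0 ∧ chevF4.cartan 1 24 = 0 ∧ chevF4.cartan 2 24 = -1 ∧ chevF4.cartan 3 24 = 2 := by
    decide
  unfold tor4Chi
  rw [h.1, h.2.1, h.2.2.1, h.2.2.2]
  simp [zpow_ofNat]

end solve

section core
variable {K : Type*} [Field K] [Fintype K] {m : ℕ}

set_option maxRecDepth 100000 in
theorem f4_w0_eq : ∀ r < 48, wRoot chevF4 (f4WordR f4W0R) r = wRoot chevF4 (w0word chevF4) r := by decide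

/-- an element of the twisted group all of whose conjugates lie in `B` lies in `H` -/
theorem f4_mem_diag_of_conj (hK : Fintype.card K = 2 ^ (2 * m + 1)) (k : GL chevF4.Idx K)
    (hk : ∀ g ∈ twistedF4 K (2 ^ m), g * k * g⁻¹ ∈ chevF4.borelSubgroup K) : k ∈ chevF4.diagonalSubgroup K := by
  have hcp := f4_charP hK
  have hθ : (2 : ℕ) ^ m ≠ 0 := pow_ne_zero _ (by norm_num)
  obtain ⟨h1, -, -⟩ := chkW0_spec chevF4 hF4
  set n0 := nWordGL chevF4 hF4 K (w0word chevF4) with hn0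
  set n1 := nWordGL chevF4 hF4 K (f4WordR f4W0R) with hn1
  have hn1T : n1 ∈ twistedF4 K (2 ^ m) := f4WordR_mem hθ f4W0R f4W0R_red
  have hh' : n0⁻¹ * n1 ∈ chevF4.diagonalSubgroup K :=
    mem_diag_of_wRoot_eq chevF4 hF4 K _ _ (f4WordR_lt f4W0R f4W0R_red) h1 f4_w0_eq
  have hn0N : n0 ∈ chevF4.monomialSubgroup K := nWordGL_mem chevF4 hF4 K _ h1
  have hkB : k ∈ chevF4.borelSubgroup K := by
    have := hk 1 (one_mem _)
    simpa using this
  have hb := hk n1⁻¹ (inv_mem hn1T)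
  rw [inv_inv] at hb
  obtain ⟨u, hu, h, hh, e⟩ := (mem_borel_iff chevF4 hF4 K _).1 hb
  set h' := n0⁻¹ * n1 with hh'def
  have en1 : n1 = n0 * h' := by rw [hh'def]; group
  have hu' : h' * u * h'⁻¹ ∈ chevF4.posUnipotent K :=
    (Subgroup.mem_normalizer_iff.1 (diagonal_le_normalizer_pos chevF4 hF4 K hh') u).1 hu
  have hv : n0 * (h' * u * h'⁻¹) * n0⁻¹ ∈ chevF4.negUnipotent K := by
    rw [← posUnipotent_map_conj chevF4 hF4 K]
    exact Subgroup.mem_map.2 ⟨_, hu', rfl⟩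
  have hH2 : n0 * (h' * h * h'⁻¹) * n0⁻¹ ∈ chevF4.diagonalSubgroup K :=
    (Subgroup.mem_normalizer_iff.1 (monomial_le_normalizer chevF4 hF4 K hn0N) _).1
      (mul_mem (mul_mem hh' hh) (inv_mem hh'))
  have ek : k = (n0 * (h' * u * h'⁻¹) * n0⁻¹) * (n0 * (h' * h * h'⁻¹) * n0⁻¹) := by
    have : u * h = n1⁻¹ * k * n1 := e
    calc k = n1 * (n1⁻¹ * k * n1) * n1⁻¹ := by group
      _ = n1 * (u * h) * n1⁻¹ := by rw [this]
      _ = _ := by rw [en1]; group
  have hkVH : k ∈ chevF4.negUnipotent K ⊔ chevF4.diagonalSubgroup K := by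
    rw [ek]
    exact mul_mem ((le_sup_left : chevF4.negUnipotent K ≤ _) hv)
      ((le_sup_right : chevF4.diagonalSubgroup K ≤ _) hH2)
  have : k ∈ chevF4.borelSubgroup K ⊓ (chevF4.negUnipotent K ⊔ chevF4.diagonalSubgroup K) := ⟨hkB, hkVH⟩
  rw [borel_inf_neg_sup_diagonal chevF4 hF4 K] at this
  exact this

/-- an element of the twisted group all of whose conjugates lie in `B` is trivial -/
theorem f4_eq_one_of_conj (hK : Fintype.card K = 2 ^ (2 * m + 1)) (k : GL chevF4.Idx K)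
    (hkT : k ∈ twistedF4 K (2 ^ m))
    (hk : ∀ g ∈ twistedF4 K (2 ^ m), g * k * g⁻¹ ∈ chevF4.borelSubgroup K) : k = 1 := by
  have hkH := f4_mem_diag_of_conj hK k hk
  obtain ⟨a, b, c, d, rfl⟩ := exists_tor4 k hkH
  set k := torusHom chevF4 K (tor4 a b c d) with hkdef
  -- `k` centralises `U¹`
  have hcent : ∀ x ∈ chevF4.posUnipotent K, x ∈ twistedF4 K (2 ^ m) → k * x * k⁻¹ = x := by
    intro x hxU hxT
    have hc : x * k * x⁻¹ * k⁻¹ ∈ chevF4.diagonalSubgroup K := by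
      apply f4_mem_diag_of_conj hK
      intro g hg
      have e : g * (x * k * x⁻¹ * k⁻¹) * g⁻¹ = ((g * x) * k * (g * x)⁻¹) * (g * k * g⁻¹)⁻¹ := by group
      rw [e]
      exact mul_mem (hk _ (mul_mem hg hxT)) (inv_mem (hk g hg))
    have hcU : x * k * x⁻¹ * k⁻¹ ∈ chevF4.posUnipotent K := by
      have h1 : k * x⁻¹ * k⁻¹ ∈ chevF4.posUnipotent K :=
        (Subgroup.mem_normalizer_iff.1 (diagonal_le_normalizer_pos chevF4 hF4 K hkH) _).1 (inv_mem hxU)
      have e : x * k * x⁻¹ * k⁻¹ = x * (k * x⁻¹ * k⁻¹) := by group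
      rw [e]
      exact mul_mem hxU h1
    have hc1 : x * k * x⁻¹ * k⁻¹ = 1 := by
      have : x * k * x⁻¹ * k⁻¹ ∈ chevF4.posUnipotent K ⊓ chevF4.diagonalSubgroup K := ⟨hcU, hc⟩
      rw [pos_inf_diagonal chevF4 hF4 K, Subgroup.mem_bot] at this
      exact this
    have : x * k = k * x := by
      have := mul_eq_one_iff_eq_inv.1 hc1
      rw [inv_inv] at this
      have h2 : x * k * x⁻¹ = k := this
      calc x * k = (x * k * x⁻¹) * x := by group
        _ = k * x := by rw [h2]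
    rw [← this]; group
  -- the two fundamental generators
  have hx1T := f4_pair_mem (K := K) (2 ^ m) 1
  have hx2T := f4_class_mem (K := K) (2 ^ m) 1 0
  rw [f4_pairWord_eq] at hx1T
  rw [f4_classWord_eq] at hx2T
  have hx1U : wordGL chevF4 hF4 K [(f4p1, (1 : K) ^ 2 ^ m), (f4p4, 1)] ∈ chevF4.posUnipotent K := by
    apply sGens_le_pos chevF4 K [0, 3]
    apply f4_word_mem_XJ
    intro p hp
    simp only [List.mem_cons, List.not_mem_nil, or_false] at hp
    rcases hp with rfl | rfl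
    · exact f4_blkA_mem 33 (by decide)
    · exact f4_blkA_mem 24 (by decide)
  have hx2U : wordGL chevF4 hF4 K [(f4a, (1 : K) ^ 2 ^ m), (f4b, 1), (f4ab, (1 : K) ^ (2 ^ m + 1) + 0),
      (f4aab, (0 : K) ^ (2 * 2 ^ m))] ∈ chevF4.posUnipotent K := by
    apply sGens_le_pos chevF4 K [1, 2, 1, 2]
    apply f4_word_mem_XJ
    intro p hp
    simp only [List.mem_cons, List.not_mem_nil, or_false] at hp
    rcases hp with rfl | rfl | rfl | rfl
    · exact f4_blkB_mem 27 (by decide)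
    · exact f4_blkB_mem 25 (by decide)
    · exact f4_blkB_mem 28 (by decide)
    · exact f4_blkB_mem 30 (by decide)
  have h1 := hcent _ hx1U hx1T
  have h2 := hcent _ hx2U hx2T
  have hlt1 : ∀ p ∈ [(f4p1, (1 : K) ^ 2 ^ m), (f4p4, 1)], p.1 < 48 := by
    intro p hp
    simp only [List.mem_cons, List.not_mem_nil, or_false] at hp
    rcases hp with rfl | rfl
    · show (33 : ℕ) < 48; norm_num
    · show (24 : ℕ) < 48; norm_num
  have hlt2 : ∀ p ∈ [(f4a, (1 : K) ^ 2 ^ m), (f4b, 1), (f4ab, (1 : K) ^ (2 ^ m + 1) + 0),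
      (f4aab, (0 : K) ^ (2 * 2 ^ m))], p.1 < 48 := by
    intro p hp
    simp only [List.mem_cons, List.not_mem_nil, or_false] at hp
    rcases hp with rfl | rfl | rfl | rfl
    · show (27 : ℕ) < 48; norm_num
    · show (25 : ℕ) < 48; norm_num
    · show (28 : ℕ) < 48; norm_num
    · show (30 : ℕ) < 48; norm_num
  rw [hkdef, tor4_conj_word a b c d _ hlt1] at h1
  rw [hkdef, tor4_conj_word a b c d _ hlt2] at h2
  obtain ⟨e33, e24⟩ := f4_pair_unique _ _ _ _ h1
  obtain ⟨e27, e25, -, -⟩ := f4_class_unique _ _ _ _ _ _ _ _ h2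
  simp only [one_pow, mul_one] at e33 e24 e27 e25
  have e33' : tor4Chi a b c d 33 = 1 := e33
  have e24' : tor4Chi a b c d 24 = 1 := e24
  have e27' : tor4Chi a b c d 27 = 1 := e27
  have e25' : tor4Chi a b c d 25 = 1 := e25
  rw [tor4Chi_33] at e33'
  rw [tor4Chi_24] at e24'
  rw [tor4Chi_27] at e27'
  rw [tor4Chi_25] at e25'
  have ha : (a : K) ≠ 0 := a.ne_zero
  have hb : (b : K) ≠ 0 := b.ne_zero
  have hc : (c : K) ≠ 0 := c.ne_zero
  have hd : (d : K) ≠ 0 := d.ne_zero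
  have q1 : (a : K) ^ 2 = b := by
    field_simp at e33'
    exact e33'
  have q2 : (b : K) ^ 2 = a * c := by
    field_simp at e27'
    exact e27'
  have q3 : (c : K) ^ 2 = (b : K) ^ 2 * d := by
    field_simp at e25'
    exact e25'
  have q4 : (d : K) ^ 2 = c := by
    field_simp at e24'
    exact e24'
  obtain ⟨r1, r2, r3, r4⟩ := f4_char_solve (a : K) b c d ha hd q1 q2 q3 q4
  have ha1 : a = 1 := Units.ext (by rw [r1, Units.val_one])
  have hb1 : b = 1 := Units.ext (by rw [r2, Units.val_one])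
  have hc1 : c = 1 := Units.ext (by rw [r3, Units.val_one])
  have hd1 : d = 1 := Units.ext (by rw [r4, Units.val_one])
  rw [hkdef, ha1, hb1, hc1, hd1, tor4_one, map_one]

theorem f4_normalCore (hK : Fintype.card K = 2 ^ (2 * m + 1)) :
    ((chevF4.borelSubgroup K ⊓ twistedF4 K (2 ^ m)).subgroupOf (twistedF4 K (2 ^ m))).normalCore = ⊥ := by
  rw [eq_bot_iff]
  intro k hk
  rw [Subgroup.mem_bot]
  have : (k : GL chevF4.Idx K) = 1 := by
    apply f4_eq_one_of_conj hK _ k.2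
    intro g hg
    have := hk ⟨g, hg⟩
    rw [Subgroup.mem_subgroupOf] at this
    simpa using this.1
  exact Subtype.ext this

end core

end Cfsg.Agent.Lib.Helper36
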