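import Cfsg.Agent.Lib.Helper36.F4BaseBlk

/-! # The groups `²F₄`: counting the fixed points on `U_w⁻` (helper36) -/

set_option autoImplicit false

namespace Cfsg.Agent.Lib.Helper36

open Cfsg Cfsg.Lie Cfsg.Agent.Lib.Helper18

section base
variable {K : Type*} [Field K] [Fintype K] {m : ℕ} {σ : ↥(chevF4.group K) →* ↥(chevF4.group K)}

/-- the fixed points on a fundamental block lie in the twisted group -/
theorem f4_base_le (hK : Fintype.card K = 2 ^ (2 * m + 1)) (hσ : IsF4Sig K (2 ^ m) σ) :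
    ∀ J ∈ f4Fund, Subgroup.closure (sGens chevF4 K J) ⊓ f4Fix σ ≤ twistedF4 K (2 ^ m) := by
  intro J hJ g hg
  obtain ⟨hg1, hg2⟩ := Subgroup.mem_inf.1 hg
  simp only [f4Fund, List.mem_cons, List.not_mem_nil, or_false] at hJ
  rcases hJ with rfl | rfl
  · obtain ⟨t, rfl⟩ := f4_XJ1_fixed hK hσ g hg1 hg2.2
    exact f4_pair_mem _ t
  · obtain ⟨t, u, rfl⟩ := f4_XJ2_fixed hK hσ g hg1 hg2.2
    exact f4_class_mem _ t u

omit [Fintype K] in
theorem f4_word_mem_group (w : List (ℕ × K)) : wordGL chevF4 hF4 K w ∈ chevF4.group K :=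
  wordGL_mem chevF4 hF4 K _ _ (fun _ _ => xGL_mem_group chevF4 hF4 K _ _)

/-- the number of fixed points on a fundamental block -/
theorem f4_base_card (hK : Fintype.card K = 2 ^ (2 * m + 1)) (hσ : IsF4Sig K (2 ^ m) σ) :
    ∀ J ∈ f4Fund, Nat.card ↥(Subgroup.closure (sGens chevF4 K J) ⊓ f4Fix σ) =
      (2 ^ (2 * m + 1)) ^ (J.length / 2) := by
  intro J hJ
  simp only [f4Fund, List.mem_cons, List.not_mem_nil, or_false] at hJ
  rcases hJ with rfl | rfl
  · let Θ : K → ↥(Subgroup.closure (sGens chevF4 K [0, 3]) ⊓ f4Fix σ) := fun t =>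
      ⟨wordGL chevF4 hF4 K (f4PairWord (2 ^ m) f4p1 f4p4 t), Subgroup.mem_inf.2
        ⟨f4_word_mem_XJ _ _ (by
          intro p hp
          rw [f4_pairWord_eq] at hp
          simp only [List.mem_cons, List.not_mem_nil, or_false] at hp
          rcases hp with rfl | rfl
          · exact f4_blkA_mem 33 (by decide)
          · exact f4_blkA_mem 24 (by decide)),
        f4_word_mem_group _, f4_pair_fixed hK hσ t⟩⟩
    have hinj : Function.Injective Θ := by
      intro t t' h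
      have h1 := congrArg Subtype.val h
      exact (f4_pair_unique _ _ _ _ h1).2
    have hsurj : Function.Surjective Θ := by
      rintro ⟨g, hg⟩
      obtain ⟨hg1, hg2⟩ := Subgroup.mem_inf.1 hg
      obtain ⟨t, rfl⟩ := f4_XJ1_fixed hK hσ g hg1 hg2.2
      exact ⟨t, rfl⟩
    rw [← Nat.card_congr (Equiv.ofBijective Θ ⟨hinj, hsurj⟩), Nat.card_eq_fintype_card, hK]
    show _ = (2 ^ (2 * m + 1)) ^ 1
    rw [pow_one]
  · let Θ : K × K → ↥(Subgroup.closure (sGens chevF4 K [1, 2, 1, 2]) ⊓ f4Fix σ) := fun p =>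
      ⟨wordGL chevF4 hF4 K (b2ClassWord (2 ^ m) f4a f4b f4ab f4aab p.1 p.2), Subgroup.mem_inf.2
        ⟨f4_word_mem_XJ _ _ (by
          intro q hq
          rw [f4_classWord_eq] at hq
          simp only [List.mem_cons, List.not_mem_nil, or_false] at hq
          rcases hq with rfl | rfl | rfl | rfl
          · exact f4_blkB_mem 27 (by decide)
          · exact f4_blkB_mem 25 (by decide)
          · exact f4_blkB_mem 28 (by decide)
          · exact f4_blkB_mem 30 (by decide)),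
        f4_word_mem_group _, f4_class_fixed hK hσ p.1 p.2⟩⟩
    have hinj : Function.Injective Θ := by
      rintro ⟨t, u⟩ ⟨t', u'⟩ h
      have h1 := congrArg Subtype.val h
      obtain ⟨-, e2, e3, -⟩ := f4_class_unique _ _ _ _ _ _ _ _ h1
      simp only at e2 e3
      subst e2
      rw [Prod.mk.injEq]
      exact ⟨rfl, add_left_cancel e3⟩
    have hsurj : Function.Surjective Θ := by
      rintro ⟨g, hg⟩
      obtain ⟨hg1, hg2⟩ := Subgroup.mem_inf.1 hg
      obtain ⟨t, u, rfl⟩ := f4_XJ2_fixed hK hσ g hg1 hg2.2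
      exact ⟨(t, u), rfl⟩
    rw [← Nat.card_congr (Equiv.ofBijective Θ ⟨hinj, hsurj⟩), Nat.card_prod, Nat.card_eq_fintype_card, hK]
    show _ = (2 ^ (2 * m + 1)) ^ 2
    ring

end base

section step
variable {K : Type*} [Field K] [Fintype K] {θ : ℕ} {σ : ↥(chevF4.group K) →* ↥(chevF4.group K)}

/-- the factorisation of the fixed points on `U_{w w_J}⁻` -/
theorem f4_fix_step (hσ : IsF4Sig K θ σ) (l₁ : List ℕ) (hl₁ : ∀ i ∈ l₁, i < chevF4.rank) (hrc : F4RhoComm l₁)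
    (J : List ℕ) (hJ : J ∈ f4Fund) (hnJ : nWordGL chevF4 hF4 K J ∈ f4Fix σ)
    (hpos : ∀ j ∈ J, chevF4.IsPosRoot (wRoot chevF4 l₁ (chevF4.simple j)))
    (g : GL chevF4.Idx K) (hg : g ∈ Subgroup.closure (sGens chevF4 K (l₁ ++ J)) ⊓ f4Fix σ) :
    ∃ x ∈ Subgroup.closure (sGens chevF4 K J) ⊓ f4Fix σ, ∃ u ∈ Subgroup.closure (sGens chevF4 K l₁) ⊓ f4Fix σ,
      g = x * (nWordGL chevF4 hF4 K J * u * (nWordGL chevF4 hF4 K J)⁻¹) := by
  have hJr := f4_fund_lt J hJ
  have hJrc : F4RhoComm J := fun r hr => (f4_fund_comm J hJ r hr).1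
  obtain ⟨hg1, hgG, hgfix⟩ := Subgroup.mem_inf.1 hg
  obtain ⟨x, hx, u, hu, e⟩ := f4_step_surj l₁ hl₁ J hJ hpos g hg1
  have hxG := f4_sGens_le_group J hx
  have huG := f4_sGens_le_group l₁ hu
  have hnG := hnJ.1
  have hσx := sgf_sGens_self hσ J hJr hJrc x hx
  have hσu := sgf_sGens_self hσ l₁ hl₁ hrc u hu
  have e' : sgf σ x * (nWordGL chevF4 hF4 K J * sgf σ u * (nWordGL chevF4 hF4 K J)⁻¹) =
      x * (nWordGL chevF4 hF4 K J * u * (nWordGL chevF4 hF4 K J)⁻¹) := by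
    calc sgf σ x * (nWordGL chevF4 hF4 K J * sgf σ u * (nWordGL chevF4 hF4 K J)⁻¹)
        = sgf σ (x * (nWordGL chevF4 hF4 K J * u * (nWordGL chevF4 hF4 K J)⁻¹)) := by
          rw [sgf_mul σ _ _ hxG (mul_mem (mul_mem hnG huG) (inv_mem hnG)),
            sgf_mul σ _ _ (mul_mem hnG huG) (inv_mem hnG), sgf_mul σ _ _ hnG huG, sgf_inv σ _ hnG, hnJ.2]
      _ = sgf σ g := by rw [e]
      _ = g := hgfix
      _ = _ := e
  obtain ⟨e1, e2⟩ := f4_step_inj J hJ _ _ _ _ hσx hx (sGens_le_pos chevF4 K l₁ hσu) (sGens_le_pos chevF4 K l₁ hu) e'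
  exact ⟨x, Subgroup.mem_inf.2 ⟨hx, hxG, e1⟩, u, Subgroup.mem_inf.2 ⟨hu, huG, e2⟩, e⟩

/-- the number of fixed points on `U_{w w_J}⁻` -/
theorem f4_card_step (hσ : IsF4Sig K θ σ) (l₁ : List ℕ) (hl₁ : ∀ i ∈ l₁, i < chevF4.rank) (hrc : F4RhoComm l₁)
    (J : List ℕ) (hJ : J ∈ f4Fund) (hnJ : nWordGL chevF4 hF4 K J ∈ f4Fix σ)
    (hpos : ∀ j ∈ J, chevF4.IsPosRoot (wRoot chevF4 l₁ (chevF4.simple j))) :
    Nat.card ↥(Subgroup.closure (sGens chevF4 K (l₁ ++ J)) ⊓ f4Fix σ) =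
      Nat.card ↥(Subgroup.closure (sGens chevF4 K J) ⊓ f4Fix σ) *
        Nat.card ↥(Subgroup.closure (sGens chevF4 K l₁) ⊓ f4Fix σ) := by
  let Θ : ↥(Subgroup.closure (sGens chevF4 K J) ⊓ f4Fix σ) × ↥(Subgroup.closure (sGens chevF4 K l₁) ⊓ f4Fix σ) →
      ↥(Subgroup.closure (sGens chevF4 K (l₁ ++ J)) ⊓ f4Fix σ) := fun p =>
    ⟨p.1.1 * (nWordGL chevF4 hF4 K J * p.2.1 * (nWordGL chevF4 hF4 K J)⁻¹),
      Subgroup.mem_inf.2 ⟨mul_mem (f4_XJ_le l₁ hl₁ J hJ hpos (Subgroup.mem_inf.1 p.1.2).1)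
        (f4_conj_sGens l₁ hl₁ J hJ hpos _ (Subgroup.mem_inf.1 p.2.2).1),
        mul_mem (Subgroup.mem_inf.1 p.1.2).2
          (mul_mem (mul_mem hnJ (Subgroup.mem_inf.1 p.2.2).2) (inv_mem hnJ))⟩⟩
  have hinj : Function.Injective Θ := by
    rintro ⟨⟨x, hx⟩, ⟨u, hu⟩⟩ ⟨⟨x', hx'⟩, ⟨u', hu'⟩⟩ h
    have h1 := congrArg Subtype.val h
    obtain ⟨e1, e2⟩ := f4_step_inj J hJ x x' u u' (Subgroup.mem_inf.1 hx).1
      (Subgroup.mem_inf.1 hx').1 (sGens_le_pos chevF4 K l₁ (Subgroup.mem_inf.1 hu).1)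
      (sGens_le_pos chevF4 K l₁ (Subgroup.mem_inf.1 hu').1) h1
    subst e1 e2
    rfl
  have hsurj : Function.Surjective Θ := by
    rintro ⟨g, hg⟩
    obtain ⟨x, hx, u, hu, e⟩ := f4_fix_step hσ l₁ hl₁ hrc J hJ hnJ hpos g hg
    exact ⟨⟨⟨x, hx⟩, ⟨u, hu⟩⟩, Subtype.ext e.symm⟩
  rw [← Nat.card_prod, Nat.card_congr (Equiv.ofBijective Θ ⟨hinj, hsurj⟩)]

end step

section red

/-- the word of a reversed list of folded reflections -/
def f4WordR (JsR : List (List ℕ)) : List ℕ := JsR.reverse.flatten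

/-- a reversed list of folded reflections is reduced: each folded reflection keeps its roots positive
under the earlier part of the word -/
def f4RedR : List (List ℕ) → Bool
  | [] => true
  | J :: rest => decide (J ∈ f4Fund) &&
      (J.all fun j => decide (chevF4.IsPosRoot (wRoot chevF4 (f4WordR rest) (chevF4.simple j)))) && f4RedR rest

/-- the exponent of the number of fixed points on `U_w⁻` -/
def f4ExpR (JsR : List (List ℕ)) : ℕ := (JsR.map fun J => J.length / 2).sum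

theorem f4WordR_cons (J : List ℕ) (rest : List (List ℕ)) : f4WordR (J :: rest) = f4WordR rest ++ J := by
  simp [f4WordR]

theorem f4RedR_cons (J : List ℕ) (rest : List (List ℕ)) (h : f4RedR (J :: rest) = true) :
    J ∈ f4Fund ∧ (∀ j ∈ J, chevF4.IsPosRoot (wRoot chevF4 (f4WordR rest) (chevF4.simple j))) ∧
      f4RedR rest = true := by
  unfold f4RedR at h
  simp only [Bool.and_eq_true, decide_eq_true_eq, List.all_eq_true] at h
  exact ⟨h.1.1, h.1.2, h.2⟩

theorem f4WordR_lt (JsR : List (List ℕ)) (h : f4RedR JsR = true) : ∀ i ∈ f4WordR JsR, i < chevF4.rank := by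
  induction JsR with
  | nil => intro i hi; simp [f4WordR] at hi
  | cons J rest ih =>
    obtain ⟨h1, -, h3⟩ := f4RedR_cons J rest h
    intro i hi
    rw [f4WordR_cons] at hi
    rcases List.mem_append.1 hi with h' | h'
    · exact ih h3 i h'
    · exact f4_fund_lt J h1 i h'

theorem f4WordR_rhoComm (JsR : List (List ℕ)) (h : f4RedR JsR = true) : F4RhoComm (f4WordR JsR) := by
  induction JsR with
  | nil => intro r _; rfl
  | cons J rest ih =>
    obtain ⟨h1, -, h3⟩ := f4RedR_cons J rest h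
    rw [f4WordR_cons]
    exact f4RhoComm_append _ _ (f4_fund_lt J h1) (ih h3) (fun r hr => (f4_fund_comm J h1 r hr).1)

variable {K : Type*} [Field K]

theorem f4WordR_mem [CharP K 2] {θ : ℕ} (hθ : θ ≠ 0) (JsR : List (List ℕ)) (h : f4RedR JsR = true) :
    nWordGL chevF4 hF4 K (f4WordR JsR) ∈ twistedF4 K θ := by
  induction JsR with
  | nil =>
    have : nWordGL chevF4 hF4 K (f4WordR []) = 1 := by simp [f4WordR, nWordGL]
    rw [this]; exact one_mem _
  | cons J rest ih =>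
    obtain ⟨h1, -, h3⟩ := f4RedR_cons J rest h
    rw [f4WordR_cons, nWordGL_append]
    exact mul_mem (ih h3) (f4_fund_mem hθ J h1)

theorem f4_sGens_nil : Subgroup.closure (sGens chevF4 K []) = ⊥ := by
  rw [Subgroup.closure_eq_bot_iff]
  rintro x ⟨s, t, hs, hws, -⟩
  exact absurd hws (fun h => not_pos_and_neg chevF4 hF4 _ hs h)

variable [Fintype K] {m : ℕ} {σ : ↥(chevF4.group K) →* ↥(chevF4.group K)}

/-- the fixed points on `U_w⁻` for a reduced word in the folded reflections -/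
theorem f4_fix_red (hK : Fintype.card K = 2 ^ (2 * m + 1)) (hσ : IsF4Sig K (2 ^ m) σ) (JsR : List (List ℕ))
    (h : f4RedR JsR = true) :
    Subgroup.closure (sGens chevF4 K (f4WordR JsR)) ⊓ f4Fix σ ≤ twistedF4 K (2 ^ m) ∧
      Nat.card ↥(Subgroup.closure (sGens chevF4 K (f4WordR JsR)) ⊓ f4Fix σ) = (2 ^ (2 * m + 1)) ^ f4ExpR JsR := by
  have := f4_charP hK
  have hθ : (2 : ℕ) ^ m ≠ 0 := pow_ne_zero _ (by norm_num)
  have hle := f4_twisted_le_fix hK hσ
  induction JsR with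
  | nil =>
    have e : f4WordR [] = [] := rfl
    rw [e, f4_sGens_nil, bot_inf_eq]
    refine ⟨bot_le, ?_⟩
    simp [f4ExpR]
  | cons J rest ih =>
    obtain ⟨h1, h2, h3⟩ := f4RedR_cons J rest h
    obtain ⟨ih1, ih2⟩ := ih h3
    have hl₁ := f4WordR_lt rest h3
    have hrc := f4WordR_rhoComm rest h3
    have hnJ : nWordGL chevF4 hF4 K J ∈ f4Fix σ := hle (f4_fund_mem hθ J h1)
    rw [f4WordR_cons]
    constructor
    · intro g hg
      obtain ⟨x, hx, u, hu, e⟩ := f4_fix_step hσ _ hl₁ hrc J h1 hnJ h2 g hg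
      rw [e]
      have hnT := f4_fund_mem (K := K) hθ J h1
      exact mul_mem (f4_base_le hK hσ J h1 hx) (mul_mem (mul_mem hnT (ih1 hu)) (inv_mem hnT))
    · rw [f4_card_step hσ _ hl₁ hrc J h1 hnJ h2, f4_base_card hK hσ J h1, ih2, ← pow_add]
      rfl

/-- the reversed list of folded reflections of the longest element -/
def f4W0R : List (List ℕ) :=
  [[1, 2, 1, 2], [0, 3], [1, 2, 1, 2], [0, 3], [1, 2, 1, 2], [0, 3], [1, 2, 1, 2], [0, 3]]

set_option maxRecDepth 100000 in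
theorem f4W0R_red : f4RedR f4W0R = true := by decide

set_option maxRecDepth 100000 in
theorem f4W0R_neg : ∀ r < 48, wRoot chevF4 (f4WordR f4W0R) r = chevF4.neg r := by decide

omit [Fintype K] in
theorem f4_sGens_w0 : Subgroup.closure (sGens chevF4 K (f4WordR f4W0R)) = chevF4.posUnipotent K := by
  apply le_antisymm (sGens_le_pos chevF4 K _)
  unfold ChevalleyDatum.posUnipotent
  apply Subgroup.closure_mono
  rintro x ⟨s, t, hs, hx⟩
  refine ⟨s, t, hs, ?_, hx⟩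
  rw [f4W0R_neg s hs.1]
  exact isNegRoot_neg_of_pos chevF4 hF4 s hs

/-- the fixed points of the twist in `U` lie in the twisted group -/
theorem f4_pos_fix_le (hK : Fintype.card K = 2 ^ (2 * m + 1)) (hσ : IsF4Sig K (2 ^ m) σ) :
    chevF4.posUnipotent K ⊓ f4Fix σ ≤ twistedF4 K (2 ^ m) := by
  rw [← f4_sGens_w0]
  exact (f4_fix_red hK hσ f4W0R f4W0R_red).1

theorem f4_pos_inf_eq (hK : Fintype.card K = 2 ^ (2 * m + 1)) (hσ : IsF4Sig K (2 ^ m) σ) :
    chevF4.posUnipotent K ⊓ twistedF4 K (2 ^ m) = chevF4.posUnipotent K ⊓ f4Fix σ := by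
  apply le_antisymm
  · exact inf_le_inf_left _ (f4_twisted_le_fix hK hσ)
  · exact le_inf inf_le_left (f4_pos_fix_le hK hσ)

/-- `|U¹| = q^12` -/
theorem f4_card_pos_inf (hK : Fintype.card K = 2 ^ (2 * m + 1)) :
    Nat.card ↥(chevF4.posUnipotent K ⊓ twistedF4 K (2 ^ m)) = (2 ^ (2 * m + 1)) ^ 12 := by
  obtain ⟨σ, hσ⟩ := exists_f4Sig hK
  rw [f4_pos_inf_eq hK hσ, ← f4_sGens_w0]
  exact (f4_fix_red hK hσ f4W0R f4W0R_red).2

end red

end Cfsg.Agent.Lib.Helper36
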