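import Cfsg.Agent.Lib.Helper36.F4Mono

/-! # The groups `²F₄`: Bruhat form of the fixed points of the twist (helper36) -/

set_option autoImplicit false

namespace Cfsg.Agent.Lib.Helper36

open Cfsg Cfsg.Lie Cfsg.Agent.Lib.Helper18

section descent
variable {K : Type*} [Field K] [CharP K 2] {θ : ℕ} {σ : ↥(chevF4.group K) →* ↥(chevF4.group K)}

omit [CharP K 2] in
theorem f4_sGens_le_group (l : List ℕ) : Subgroup.closure (sGens chevF4 K l) ≤ chevF4.group K :=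
  (sGens_le_pos chevF4 K l).trans (posUnipotent_le_group chevF4 hF4 K)

omit [CharP K 2] in
/-- `σ` maps `U_w⁻` into `U_{ρ(w)}⁻` -/
theorem sgf_sGens_le (hσ : IsF4Sig K θ σ) (l : List ℕ) (hl : ∀ i ∈ l, i < chevF4.rank) (g : GL chevF4.Idx K)
    (hg : g ∈ Subgroup.closure (sGens chevF4 K l)) : sgf σ g ∈ Subgroup.closure (sGens chevF4 K (swapF l)) := by
  refine sgf_closure (σ := σ) _ _ ?_ ?_ g hg
  · rintro x ⟨s, t, -, -, hx⟩
    have : x = xGL chevF4 hF4 K s t := Units.ext (by rw [hx, xGL_coe])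
    rw [this]
    exact xGL_mem_group chevF4 hF4 K _ _
  · rintro x ⟨s, t, hs, hws, hx⟩
    have : x = xGL chevF4 hF4 K s t := Units.ext (by rw [hx, xGL_coe])
    rw [this, sgf_xGL hσ s hs.1]
    refine Subgroup.subset_closure ⟨_, _, f4_rho_pos s hs, ?_, xGL_coe chevF4 hF4 K _ _⟩
    rw [wRoot_swapF l hl s hs.1]
    exact f4_rho_negRoot _ hws

omit [CharP K 2] in
theorem f4_sGens_congr (l l' : List ℕ) (h : ∀ r < 48, wRoot chevF4 l' r = wRoot chevF4 l r) :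
    sGens chevF4 K l' = sGens chevF4 K l := by
  ext x
  constructor
  · rintro ⟨s, t, hs, hws, hx⟩
    exact ⟨s, t, hs, by rw [← h s hs.1]; exact hws, hx⟩
  · rintro ⟨s, t, hs, hws, hx⟩
    exact ⟨s, t, hs, by rw [h s hs.1]; exact hws, hx⟩

omit [CharP K 2] in
/-- `σ` preserves `U_w⁻` when `w` commutes with the symmetry -/
theorem sgf_sGens_self (hσ : IsF4Sig K θ σ) (l : List ℕ) (hl : ∀ i ∈ l, i < chevF4.rank) (hrc : F4RhoComm l)
    (g : GL chevF4.Idx K) (hg : g ∈ Subgroup.closure (sGens chevF4 K l)) :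
    sgf σ g ∈ Subgroup.closure (sGens chevF4 K l) := by
  have h1 := sgf_sGens_le hσ l hl g hg
  rwa [f4_sGens_congr (K := K) l (swapF l) hrc] at h1

/-- an element of the Chevalley group fixed by `σ` is `u₁ m u` with `u₁ ∈ U`, `m ∈ N`, `u ∈ U_w⁻` all fixed by `σ`,
and the Weyl element `w` commutes with the symmetry -/
theorem f4_descent (hσ : IsF4Sig K θ σ) (g : GL chevF4.Idx K) (hg : g ∈ f4Fix σ) :
    ∃ l : List ℕ, (∀ i ∈ l, i < chevF4.rank) ∧ F4RhoComm l ∧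
      ∃ u₁ ∈ chevF4.posUnipotent K, ∃ h₁ ∈ chevF4.diagonalSubgroup K, ∃ u ∈ Subgroup.closure (sGens chevF4 K l),
        g = u₁ * (h₁ * nWordGL chevF4 hF4 K l) * u ∧ sgf σ u₁ = u₁ ∧ sgf σ u = u ∧
        sgf σ (h₁ * nWordGL chevF4 hF4 K l) = h₁ * nWordGL chevF4 hF4 K l := by
  have h45 : ∀ i < chevF4.rank, H45 chevF4 K i := fun i hi => Cfsg.Agent.S1045.result chevF4 hF4 i hi
  obtain ⟨hgG, hfix⟩ := hg
  obtain ⟨l, hl, b, hb, u, hu, e3⟩ := bruhat_form chevF4 hF4 K g hgG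
  set n := nWordGL chevF4 hF4 K l with hn
  set l' := swapF l with hl'def
  have hl' : ∀ i ∈ l', i < chevF4.rank := swapF_lt l
  set n' := nWordGL chevF4 hF4 K l' with hn'
  have hσn : sgf σ n = n' := sgf_nWordGL hσ l hl
  have hnN : n ∈ chevF4.monomialSubgroup K := nWordGL_mem chevF4 hF4 K l hl
  have hn'N : n' ∈ chevF4.monomialSubgroup K := nWordGL_mem chevF4 hF4 K l' hl'
  have hnG : n ∈ chevF4.group K := monomial_le_group chevF4 hF4 K hnN
  have hUB := pos_le_borel chevF4 K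
  have hHB := diagonal_le_borel chevF4 K
  have hBG := borel_le_group chevF4 hF4 K
  have hUG := posUnipotent_le_group chevF4 hF4 K
  have hHG := diagonal_le_group chevF4 hF4 K
  have huU : u ∈ chevF4.posUnipotent K := sGens_le_pos chevF4 K l hu
  have hσb : sgf σ b ∈ chevF4.borelSubgroup K := sgf_borel hσ b hb
  have hσu' : sgf σ u ∈ Subgroup.closure (sGens chevF4 K l') := sgf_sGens_le hσ l hl u hu
  have hσuU : sgf σ u ∈ chevF4.posUnipotent K := sGens_le_pos chevF4 K l' hσu'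
  -- both cells contain g
  have e4 : g = sgf σ b * n' * sgf σ u := by
    rw [← hσn, ← sgf_mul σ _ _ (hBG hb) hnG, ← sgf_mul σ _ _ (mul_mem (hBG hb) hnG) (hUG huU), ← e3, hfix]
  have hc1 : g ∈ cell chevF4 K n := ⟨b, hb, u, hUB huU, e3⟩
  have hc2 : g ∈ cell chevF4 K n' := ⟨sgf σ b, hσb, sgf σ u, hUB hσuU, e4⟩
  have h0 := bruhat_unique' chevF4 hF4 K h45 n n' g hnN hn'N hc1 hc2
  have hperm : ∀ r < 48, wRoot chevF4 l' r = wRoot chevF4 l r :=
    fun r hr => (wRoot_eq_of_mem_diag chevF4 hF4 K l l' hl hl' h0 r hr).symm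
  rw [f4_sGens_congr (K := K) l l' hperm] at hσu'
  -- rewrite σ g in the cell form for n
  set h₀ := n⁻¹ * n' with hh₀
  have hnh : n * h₀ * n⁻¹ ∈ chevF4.diagonalSubgroup K := by
    have := conj_mem_diag chevF4 hF4 K n⁻¹ h₀ (inv_mem hnN) h0
    rwa [inv_inv] at this
  have e5 : b * n * u = (sgf σ b * (n * h₀ * n⁻¹)) * n * sgf σ u := by
    rw [← e3, e4, hh₀]; group
  obtain ⟨hbb, huu⟩ := cell_unique chevF4 hF4 K l n (actsBy_nWordGL chevF4 hF4 K l hl) b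
    (sgf σ b * (n * h₀ * n⁻¹)) u (sgf σ u) hb (mul_mem hσb (hHB hnh)) hu hσu' e5
  -- split b
  obtain ⟨u1, hu1, h1, hh1, hb1⟩ := (mem_borel_iff chevF4 hF4 K b).1 hb
  have hσu1 : sgf σ u1 ∈ chevF4.posUnipotent K := sgf_pos hσ u1 hu1
  have hσh1 : sgf σ h1 ∈ chevF4.diagonalSubgroup K := sgf_diag hσ h1 hh1
  have e6 : u1 * h1 = sgf σ u1 * (sgf σ h1 * (n * h₀ * n⁻¹)) := by
    rw [hb1, ← mul_assoc, ← sgf_mul σ _ _ (hUG hu1) (hHG hh1), hb1]; exact hbb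
  have e7 : (sgf σ u1)⁻¹ * u1 = (sgf σ h1 * (n * h₀ * n⁻¹)) * h1⁻¹ := by
    rw [inv_mul_eq_iff_eq_mul, ← mul_assoc, ← e6]; group
  have e8 : (sgf σ u1)⁻¹ * u1 ∈ chevF4.posUnipotent K ⊓ chevF4.diagonalSubgroup K :=
    Subgroup.mem_inf.2 ⟨mul_mem (inv_mem hσu1) hu1, by
      rw [e7]; exact mul_mem (mul_mem hσh1 hnh) (inv_mem hh1)⟩
  rw [pos_inf_diagonal chevF4 hF4 K, Subgroup.mem_bot] at e8
  have hu1fix : sgf σ u1 = u1 := (inv_mul_eq_one.1 e8)
  have hh1eq : h1 = sgf σ h1 * (n * h₀ * n⁻¹) := by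
    rw [hu1fix] at e6
    exact mul_left_cancel e6
  refine ⟨l, hl, hperm, u1, hu1, h1, hh1, u, hu, ?_, hu1fix, huu.symm, ?_⟩
  · rw [← hn, e3, ← hb1]; group
  · rw [← hn, sgf_mul σ _ _ (hHG hh1) hnG, hσn]
    conv_rhs => rw [hh1eq]
    rw [hh₀]; group

end descent

end Cfsg.Agent.Lib.Helper36
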