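import Cfsg.Agent.Lib.Helper36.F4Torus

/-! # The groups `²F₄`: the diagonal subgroup of the twisted group (helper36) -/

set_option autoImplicit false

namespace Cfsg.Agent.Lib.Helper36

open Cfsg Cfsg.Lie Cfsg.Agent.Lib.Helper18

section
variable {K : Type*} [Field K] [Fintype K] {m : ℕ}

/-- `H ∩ ²F₄` -/
theorem f4_diag_inf (hK : Fintype.card K = 2 ^ (2 * m + 1)) (g : GL chevF4.Idx K) :
    g ∈ chevF4.diagonalSubgroup K ⊓ twistedF4 K (2 ^ m) ↔ ∃ p : Kˣ × Kˣ, g = f4Hm (2 ^ m) p := by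
  obtain ⟨σ, hσ⟩ := exists_f4Sig hK
  constructor
  · rintro ⟨hh, ht⟩
    have := f4_twisted_le_fix hK hσ ht
    exact f4_fix_diag hK hσ g hh this.2
  · rintro ⟨p, rfl⟩
    exact ⟨f4Hm_mem_diag _ _, f4Hm_mem hK p⟩

/-- the parametrisation of `H ∩ ²F₄` -/
noncomputable def f4Hmap (hK : Fintype.card K = 2 ^ (2 * m + 1)) :
    Kˣ × Kˣ →* ↥(chevF4.diagonalSubgroup K ⊓ twistedF4 K (2 ^ m)) :=
  (f4Hm (2 ^ m)).codRestrict _ (fun p => (f4_diag_inf hK _).2 ⟨p, rfl⟩)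

theorem f4Hmap_bijective (hK : Fintype.card K = 2 ^ (2 * m + 1)) : Function.Bijective (f4Hmap hK) := by
  constructor
  · intro a b h
    exact f4Hm_injective _ (congrArg Subtype.val h)
  · rintro ⟨g, hg⟩
    obtain ⟨p, rfl⟩ := (f4_diag_inf hK g).1 hg
    exact ⟨p, rfl⟩

theorem f4_card_diag_inf (hK : Fintype.card K = 2 ^ (2 * m + 1)) :
    Nat.card ↥(chevF4.diagonalSubgroup K ⊓ twistedF4 K (2 ^ m)) = (2 ^ (2 * m + 1) - 1) ^ 2 := by
  classical
  rw [← Nat.card_congr (Equiv.ofBijective _ (f4Hmap_bijective hK)), Nat.card_prod, Nat.card_eq_fintype_card,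
    Fintype.card_units, hK, pow_two]

end

end Cfsg.Agent.Lib.Helper36
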