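import Cfsg.Agent.Lib.Helper36.F4Gen

/-! # The groups `²F₄`: the twisted group is fixed by the twisting endomorphism (helper36) -/

set_option autoImplicit false

namespace Cfsg.Agent.Lib.Helper36

open Cfsg Cfsg.Lie Cfsg.Agent.Lib.Helper18

section
variable {K : Type*} [Field K] [Fintype K] {m : ℕ} {σ : ↥(chevF4.group K) →* ↥(chevF4.group K)}

omit [Fintype K] in
theorem f4_pairWord_eq (θ r s : ℕ) (t : K) : f4PairWord θ r s t = [(r, t ^ θ), (s, t)] := rfl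

omit [Fintype K] in
theorem f4_classWord_eq (θ a b ab aab : ℕ) (t u : K) :
    b2ClassWord θ a b ab aab t u = [(a, t ^ θ), (b, t), (ab, t ^ (θ + 1) + u), (aab, u ^ (2 * θ))] := rfl

/-- the arithmetic behind the invariance of the generators of type `B₂` -/
theorem f4_class_arith (hK : Fintype.card K = 2 ^ (2 * m + 1)) (t u : K) :
    (t ^ 2 ^ m * (t ^ 2 ^ m) ^ (2 ^ m * 2) + (u ^ (2 * 2 ^ m)) ^ 2 ^ m = t ^ (2 ^ m + 1) + u) ∧
    ((t ^ 2 ^ m) ^ 2 * (t ^ 2 ^ m) ^ (2 ^ m * 2) + (t ^ (2 ^ m + 1) + u) ^ (2 ^ m * 2) = u ^ (2 * 2 ^ m)) := by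
  have := f4_charP hK
  have T1 := f4_theta hK
  have T2 := f4_theta' hK
  have A : ∀ a b : K, (a + b) ^ (2 ^ m * 2) = a ^ (2 ^ m * 2) + b ^ (2 ^ m * 2) := by
    intro a b
    have := f4_add_pow hK (m + 1) a b
    rwa [pow_succ] at this
  constructor
  · rw [T1, mul_comm 2 (2 ^ m), T2, pow_succ]
  · rw [T1, A, mul_comm 2 (2 ^ m)]
    have e1 : (t ^ (2 ^ m + 1)) ^ (2 ^ m * 2) = (t ^ 2 ^ m) ^ 2 * t := by
      rw [pow_succ, mul_pow, T1, ← pow_mul, mul_comm]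
    rw [e1, ← add_assoc, CharTwo.add_self_eq_zero, zero_add]

theorem f4_class_fixed (hK : Fintype.card K = 2 ^ (2 * m + 1)) (hσ : IsF4Sig K (2 ^ m) σ) (t u : K) :
    sgf σ (wordGL chevF4 hF4 K (b2ClassWord (2 ^ m) f4a f4b f4ab f4aab t u)) =
      wordGL chevF4 hF4 K (b2ClassWord (2 ^ m) f4a f4b f4ab f4aab t u) := by
  have := f4_charP hK
  obtain ⟨h1, h2⟩ := f4_class_arith hK t u
  rw [f4_classWord_eq]
  show sgf σ (wordGL chevF4 hF4 K [(27, _), (25, _), (28, _), (30, _)]) =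
    wordGL chevF4 hF4 K [(27, _), (25, _), (28, _), (30, _)]
  rw [sgf_class hσ, h1, h2, f4_theta hK]

theorem f4_class_neg_fixed (hK : Fintype.card K = 2 ^ (2 * m + 1)) (hσ : IsF4Sig K (2 ^ m) σ) (t u : K) :
    sgf σ (wordGL chevF4 hF4 K (b2ClassWord (2 ^ m) f4ma f4mb f4mab f4maab t u)) =
      wordGL chevF4 hF4 K (b2ClassWord (2 ^ m) f4ma f4mb f4mab f4maab t u) := by
  have := f4_charP hK
  obtain ⟨h1, h2⟩ := f4_class_arith hK t u
  rw [f4_classWord_eq]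
  show sgf σ (wordGL chevF4 hF4 K [(20, _), (22, _), (19, _), (17, _)]) =
    wordGL chevF4 hF4 K [(20, _), (22, _), (19, _), (17, _)]
  rw [sgf_class_neg hσ, h1, h2, f4_theta hK]

theorem f4_pair_fixed (hK : Fintype.card K = 2 ^ (2 * m + 1)) (hσ : IsF4Sig K (2 ^ m) σ) (t : K) :
    sgf σ (wordGL chevF4 hF4 K (f4PairWord (2 ^ m) f4p1 f4p4 t)) =
      wordGL chevF4 hF4 K (f4PairWord (2 ^ m) f4p1 f4p4 t) := by
  have := f4_charP hK
  rw [f4_pairWord_eq]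
  show sgf σ (wordGL chevF4 hF4 K [(33, _), (24, _)]) = wordGL chevF4 hF4 K [(33, _), (24, _)]
  rw [sgf_pair hσ, f4_theta hK]

theorem f4_pair_neg_fixed (hK : Fintype.card K = 2 ^ (2 * m + 1)) (hσ : IsF4Sig K (2 ^ m) σ) (t : K) :
    sgf σ (wordGL chevF4 hF4 K (f4PairWord (2 ^ m) f4m1 f4m4 t)) =
      wordGL chevF4 hF4 K (f4PairWord (2 ^ m) f4m1 f4m4 t) := by
  have := f4_charP hK
  rw [f4_pairWord_eq]
  show sgf σ (wordGL chevF4 hF4 K [(14, _), (23, _)]) = wordGL chevF4 hF4 K [(14, _), (23, _)]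
  rw [sgf_pair_neg hσ, f4_theta hK]

/-- the twisted group consists of fixed points -/
theorem f4_twisted_le_fix (hK : Fintype.card K = 2 ^ (2 * m + 1)) (hσ : IsF4Sig K (2 ^ m) σ) :
    twistedF4 K (2 ^ m) ≤ f4Fix σ := by
  unfold twistedF4 ChevalleyDatum.genSubgroup
  rw [Subgroup.closure_le]
  have hmem : ∀ w : List (ℕ × K), wordGL chevF4 hF4 K w ∈ chevF4.group K := fun w =>
    wordGL_mem chevF4 hF4 K _ _ (fun q _ => xGL_mem_group chevF4 hF4 K _ _)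
  rintro g ⟨w, hw, hg⟩
  have hgw : g = wordGL chevF4 hF4 K w := Units.ext (by rw [hg, wordGL_coe])
  rw [hgw]
  refine ⟨hmem w, ?_⟩
  rcases hw with ⟨t, rfl | rfl⟩ | ⟨t, u, rfl | rfl⟩
  · exact f4_pair_fixed hK hσ t
  · exact f4_pair_neg_fixed hK hσ t
  · exact f4_class_fixed hK hσ t u
  · exact f4_class_neg_fixed hK hσ t u

end

end Cfsg.Agent.Lib.Helper36
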