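import Cfsg.Agent.Lib.Helper36.F4Weyl

/-! # The groups `²F₄`: the monomial elements fixed by the twist (helper36) -/

set_option autoImplicit false

namespace Cfsg.Agent.Lib.Helper36

open Cfsg Cfsg.Lie Cfsg.Agent.Lib.Helper18

section mono
variable {K : Type*} [Field K] [CharP K 2] {θ : ℕ} {σ : ↥(chevF4.group K) →* ↥(chevF4.group K)}

omit [CharP K 2] in
theorem f4_nWordGL_mem_group (l : List ℕ) (hl : ∀ i ∈ l, i < chevF4.rank) :
    nWordGL chevF4 hF4 K l ∈ chevF4.group K :=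
  monomial_le_group chevF4 hF4 K (nWordGL_mem chevF4 hF4 K l hl)

theorem sgf_nWordGL (hσ : IsF4Sig K θ σ) (l : List ℕ) (hl : ∀ i ∈ l, i < chevF4.rank) :
    sgf σ (nWordGL chevF4 hF4 K l) = nWordGL chevF4 hF4 K (swapF l) := by
  induction l with
  | nil => simp [nWordGL, swapF, sgf_one]
  | cons i l ih =>
    have hl' : ∀ j ∈ l, j < chevF4.rank := fun j hj => hl j (List.mem_cons_of_mem _ hj)
    have hi : i < 4 := hl i List.mem_cons_self
    obtain ⟨h1, h2⟩ := f4_rho_simple i hi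
    have hn : nGL chevF4 hF4 K (chevF4.simple i) 1 ∈ chevF4.group K :=
      wordGL_mem chevF4 hF4 K _ _ (fun _ _ => xGL_mem_group chevF4 hF4 K _ _)
    show _ = nWordGL chevF4 hF4 K ((3 - i) :: swapF l)
    rw [nWordGL_cons, nWordGL_cons, sgf_mul σ _ _ hn (f4_nWordGL_mem_group l hl'), ih hl', sgf_nGL hσ _ h2, h1,
      one_pow]

/-- a monomial fixed point is a word commuting with the symmetry, up to a diagonal element -/
theorem f4_mono (hσ : IsF4Sig K θ σ) (n : GL chevF4.Idx K) (hn : n ∈ chevF4.monomialSubgroup K)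
    (hfix : n ∈ f4Fix σ) :
    ∃ l : List ℕ, (∀ i ∈ l, i < chevF4.rank) ∧ F4RhoComm l ∧ ∃ h ∈ chevF4.diagonalSubgroup K,
      n = nWordGL chevF4 hF4 K l * h := by
  obtain ⟨l, hl, h, hh, e⟩ := isNWordH_of_mem chevF4 hF4 K n hn
  refine ⟨l, hl, ?_, h, hh, e⟩
  have hσ' := hfix.2
  rw [e, sgf_mul σ _ _ (f4_nWordGL_mem_group l hl) (diagonal_le_group chevF4 hF4 K hh), sgf_nWordGL hσ l hl] at hσ'
  have hσh : sgf σ h ∈ chevF4.diagonalSubgroup K := sgf_diag hσ h hh
  have hl' := swapF_lt l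
  have hmem : (nWordGL chevF4 hF4 K l)⁻¹ * nWordGL chevF4 hF4 K (swapF l) ∈ chevF4.diagonalSubgroup K := by
    have : (nWordGL chevF4 hF4 K l)⁻¹ * nWordGL chevF4 hF4 K (swapF l) = h * (sgf σ h)⁻¹ := by
      rw [eq_mul_inv_iff_mul_eq, mul_assoc, hσ']; group
    rw [this]
    exact mul_mem hh (inv_mem hσh)
  intro r hr
  exact (wRoot_eq_of_mem_diag chevF4 hF4 K l _ hl hl' hmem r hr).symm

/-- the folded reflections lie in the twisted group -/
theorem f4_fund_mem (hθ : θ ≠ 0) : ∀ J ∈ f4Fund, nWordGL chevF4 hF4 K J ∈ twistedF4 K θ := by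
  intro J hJ
  simp only [f4Fund, List.mem_cons, List.not_mem_nil, or_false] at hJ
  rcases hJ with rfl | rfl
  · have := f4NN_mem (K := K) θ 1
    rw [f4NN_eq, one_pow] at this
    have e : nWordGL chevF4 hF4 K [0, 3] = nGL chevF4 hF4 K 33 1 * nGL chevF4 hF4 K 24 1 := by
      rw [nWordGL_cons, nWordGL_cons]
      simp [nWordGL]
      rfl
    rw [e]
    exact this
  · rw [← f4N2_eq θ hθ]
    exact f4N2_mem θ

/-- monomial elements of the twisted group are products of folded reflections modulo `H` -/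
theorem f4_mono_folded (hσ : IsF4Sig K θ σ) (hθ : θ ≠ 0) (hle : twistedF4 K θ ≤ f4Fix σ) (n : GL chevF4.Idx K)
    (hn : n ∈ chevF4.monomialSubgroup K) (hnT : n ∈ twistedF4 K θ) :
    ∃ Js : List (List ℕ), (∀ J ∈ Js, J ∈ f4Fund) ∧ ∃ h ∈ chevF4.diagonalSubgroup K ⊓ twistedF4 K θ,
      n = (Js.map fun J => nWordGL chevF4 hF4 K J).prod * h := by
  obtain ⟨l, hl, hrc, h, hh, e⟩ := f4_mono hσ n hn (hle hnT)
  obtain ⟨Js, hJs, hw⟩ := f4_folded_exists K l hl hrc
  have hfl : ∀ i ∈ Js.flatten, i < chevF4.rank := by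
    intro i hi
    obtain ⟨J, hJ, hiJ⟩ := List.mem_flatten.1 hi
    exact f4_fund_lt J (hJs J hJ) i hiJ
  have hprod : nWordGL chevF4 hF4 K Js.flatten = (Js.map fun J => nWordGL chevF4 hF4 K J).prod := by
    clear hw hfl hJs
    induction Js with
    | nil => simp [nWordGL]
    | cons J Js ih => rw [List.flatten_cons, nWordGL_append, ih, List.map_cons, List.prod_cons]
  have hmem := mem_diag_of_wRoot_eq chevF4 hF4 K l Js.flatten hl hfl (fun r hr => (hw r hr).symm)
  have hprodT : (Js.map fun J => nWordGL chevF4 hF4 K J).prod ∈ twistedF4 K θ := by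
    apply Subgroup.list_prod_mem
    intro x hx
    obtain ⟨J, hJ, rfl⟩ := List.mem_map.1 hx
    exact f4_fund_mem hθ J (hJs J hJ)
  refine ⟨Js, hJs, ((Js.map fun J => nWordGL chevF4 hF4 K J).prod)⁻¹ * n,
    Subgroup.mem_inf.2 ⟨?_, mul_mem (inv_mem hprodT) hnT⟩, by group⟩
  rw [← hprod, e, ← mul_assoc]
  exact mul_mem hmem hh

end mono

end Cfsg.Agent.Lib.Helper36
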