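import Cfsg.Agent.Lib.Helper36.F4Fix
import Cfsg.Agent.Lib.Helper36.ChevRank1
import Cfsg.Agent.Lib.Helper36.ChevCells

/-! # The groups `²F₄`: monomial elements of the twisted group (helper36) -/

set_option autoImplicit false

namespace Cfsg.Agent.Lib.Helper36

open Cfsg Cfsg.Lie Cfsg.Agent.Lib.Helper18

section
variable {K : Type*} [Field K] [CharP K 2]

theorem f4_twGood_orth : ∀ i ∈ [33, 14], ∀ j ∈ [24, 23], twGood chevF4 2 i j = true ∧ twGood chevF4 2 j i = true := by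
  decide

theorem f4_comm_orth : ∀ i ∈ [33, 14], ∀ j ∈ [24, 23], ∀ a b : K,
    xGL chevF4 hF4 K i a * xGL chevF4 hF4 K j b = xGL chevF4 hF4 K j b * xGL chevF4 hF4 K i a :=
  fun i hi j hj a b => f4_comm i j (f4_twGood_orth i hi j hj).1 a b

/-- the monomial element `n₁(s)` of the twisted group -/
noncomputable def f4NN (θ : ℕ) (s : K) : GL chevF4.Idx K :=
  wordGL chevF4 hF4 K (f4PairWord θ f4p1 f4p4 s) * wordGL chevF4 hF4 K (f4PairWord θ f4m1 f4m4 s⁻¹) *
    wordGL chevF4 hF4 K (f4PairWord θ f4p1 f4p4 s)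

omit [CharP K 2] in
theorem f4NN_mem (θ : ℕ) (s : K) : f4NN θ s ∈ twistedF4 K θ :=
  mul_mem (mul_mem (f4_pair_mem θ s) (f4_pair_neg_mem θ s⁻¹)) (f4_pair_mem θ s)

theorem f4NN_eq (θ : ℕ) (s : K) :
    f4NN θ s = nGL chevF4 hF4 K 33 (s ^ θ) * nGL chevF4 hF4 K 24 s := by
  unfold f4NN
  rw [f4_pairWord_eq, f4_pairWord_eq, nGL_eq, nGL_eq]
  show wordGL chevF4 hF4 K [(33, _), (24, _)] * wordGL chevF4 hF4 K [(14, _), (23, _)] *
    wordGL chevF4 hF4 K [(33, _), (24, _)] = _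
  simp only [f4_wordGL_cons, f4_wordGL_nil, mul_one]
  have n33 : chevF4.neg 33 = 14 := rfl
  have n24 : chevF4.neg 24 = 23 := rfl
  rw [n33, n24, inv_pow, CharTwo.neg_eq, CharTwo.neg_eq]
  have c1 := f4_comm_orth (K := K) 33 (by simp) 24 (by simp)
  have c2 := f4_comm_orth (K := K) 33 (by simp) 23 (by simp)
  have c3 := f4_comm_orth (K := K) 14 (by simp) 24 (by simp)
  have c4 := f4_comm_orth (K := K) 14 (by simp) 23 (by simp)
  set A := xGL chevF4 hF4 K 33 (s ^ θ)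
  set B := xGL chevF4 hF4 K 24 s
  set C := xGL chevF4 hF4 K 14 (s ^ θ)⁻¹
  set E := xGL chevF4 hF4 K 23 s⁻¹
  have hAB : A * B = B * A := c1 _ _
  have hAE : A * E = E * A := c2 _ _
  have hCB : C * B = B * C := c3 _ _
  have hCE : C * E = E * C := c4 _ _
  calc A * B * (C * E) * (A * B) = A * (B * C) * (E * A) * B := by group
    _ = A * (C * B) * (A * E) * B := by rw [hCB, hAE]
    _ = A * C * (B * A) * E * B := by group
    _ = A * C * (A * B) * E * B := by rw [hAB]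
    _ = A * C * A * (B * E * B) := by group

/-- the monomial element `n₂` of the twisted group -/
noncomputable def f4N2 (K : Type*) [Field K] (θ : ℕ) : GL chevF4.Idx K :=
  wordGL chevF4 hF4 K (b2ClassWord θ f4a f4b f4ab f4aab 0 1) *
    wordGL chevF4 hF4 K (b2ClassWord θ f4ma f4mb f4mab f4maab 1 1) *
    wordGL chevF4 hF4 K (b2ClassWord θ f4a f4b f4ab f4aab 1 0)

omit [CharP K 2] in
theorem f4N2_mem (θ : ℕ) : f4N2 K θ ∈ twistedF4 K θ :=
  mul_mem (mul_mem (f4_class_mem θ 0 1) (f4_class_neg_mem θ 1 1)) (f4_class_mem θ 1 0)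

theorem f4N2_eq (θ : ℕ) (hθ : θ ≠ 0) : f4N2 K θ = nWordGL chevF4 hF4 K [1, 2, 1, 2] := by
  set f : ZMod 2 →+* K := ZMod.castHom (dvd_refl 2) K with hf
  have id2 : wordGL chevF4 hF4 (ZMod 2) (f4WA.map fun r => (r, (1 : ZMod 2))) =
      wordGL chevF4 hF4 (ZMod 2) (f4WB.map fun r => (r, (1 : ZMod 2))) :=
    Units.ext (by rw [wordGL_coe, wordGL_coe]; exact f4W_identity)
  have idK := congrArg (glMap chevF4 f) id2
  rw [glMap_wordGL, glMap_wordGL] at idK
  have z1 : (0 : K) ^ θ = 0 := zero_pow hθ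
  have z2 : (0 : K) ^ (θ + 1) = 0 := zero_pow (by omega)
  have z3 : (0 : K) ^ (2 * θ) = 0 := zero_pow (by omega)
  have two : (1 : K) + 1 = 0 := CharTwo.add_self_eq_zero 1
  have eA : wordGL chevF4 hF4 K ((f4WA.map fun r => (r, (1 : ZMod 2))).map fun p => (p.1, f p.2)) = f4N2 K θ := by
    unfold f4N2
    rw [f4_classWord_eq, f4_classWord_eq, f4_classWord_eq]
    show _ = wordGL chevF4 hF4 K [(27, _), (25, _), (28, _), (30, _)] *
      wordGL chevF4 hF4 K [(20, _), (22, _), (19, _), (17, _)] * wordGL chevF4 hF4 K [(27, _), (25, _), (28, _), (30, _)]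
    simp only [f4WA, List.map_cons, List.map_nil, map_one, f4_wordGL_cons, f4_wordGL_nil, z1, z2, z3, one_pow,
      zero_add, add_zero, two, xGL_zero, one_mul, mul_one, mul_assoc]
  have eB : wordGL chevF4 hF4 K ((f4WB.map fun r => (r, (1 : ZMod 2))).map fun p => (p.1, f p.2)) =
      nWordGL chevF4 hF4 K [1, 2, 1, 2] := by
    have s1 : chevF4.simple 1 = 27 := rfl
    have s2 : chevF4.simple 2 = 25 := rfl
    have n27 : chevF4.neg 27 = 20 := rfl
    have n25 : chevF4.neg 25 = 22 := rfl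
    simp only [nWordGL_cons, s1, s2, nGL_eq, n27, n25, inv_one, CharTwo.neg_eq]
    simp only [f4WB, List.map_cons, List.map_nil, map_one, f4_wordGL_cons, f4_wordGL_nil, nWordGL, List.prod_nil,
      mul_one, mul_assoc]
  rw [← eA, ← eB]
  exact idK

end

end Cfsg.Agent.Lib.Helper36
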