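import Cfsg.Agent.Lib.Helper36.F4Count

/-! # The groups `²F₄`: the order, from the Bruhat decomposition of the fixed points (helper36) -/

set_option autoImplicit false

namespace Cfsg.Agent.Lib.Helper36

open Cfsg Cfsg.Lie Cfsg.Agent.Lib.Helper18

/-- the sixteen elements of the folded Weyl group, as reversed reduced lists of folded reflections -/
def f4W16R : List (List (List ℕ)) := [
  [],
  [[0, 3]],
  [[1, 2, 1, 2]],
  [[0, 3], [1, 2, 1, 2]],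
  [[1, 2, 1, 2], [0, 3]],
  [[0, 3], [1, 2, 1, 2], [0, 3]],
  [[1, 2, 1, 2], [0, 3], [1, 2, 1, 2]],
  [[0, 3], [1, 2, 1, 2], [0, 3], [1, 2, 1, 2]],
  [[1, 2, 1, 2], [0, 3], [1, 2, 1, 2], [0, 3]],
  [[0, 3], [1, 2, 1, 2], [0, 3], [1, 2, 1, 2], [0, 3]],
  [[1, 2, 1, 2], [0, 3], [1, 2, 1, 2], [0, 3], [1, 2, 1, 2]],
  [[0, 3], [1, 2, 1, 2], [0, 3], [1, 2, 1, 2], [0, 3], [1, 2, 1, 2]],
  [[1, 2, 1, 2], [0, 3], [1, 2, 1, 2], [0, 3], [1, 2, 1, 2], [0, 3]],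
  [[0, 3], [1, 2, 1, 2], [0, 3], [1, 2, 1, 2], [0, 3], [1, 2, 1, 2], [0, 3]],
  [[1, 2, 1, 2], [0, 3], [1, 2, 1, 2], [0, 3], [1, 2, 1, 2], [0, 3], [1, 2, 1, 2]],
  [[1, 2, 1, 2], [0, 3], [1, 2, 1, 2], [0, 3], [1, 2, 1, 2], [0, 3], [1, 2, 1, 2], [0, 3]]]

set_option maxRecDepth 1000000 in
theorem f4W16R_red : ∀ JsR ∈ f4W16R, f4RedR JsR = true := by decide

theorem f4W16R_closed : ∀ JsR ∈ f4W16R, ∀ J ∈ f4Fund, ∃ JsR' ∈ f4W16R,
    ∀ r < 48, wRoot chevF4 (J ++ f4WordR JsR) r = wRoot chevF4 (f4WordR JsR') r := by decide +kernel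

set_option maxRecDepth 1000000 in
theorem f4W16R_distinct : f4W16R.Pairwise fun a b =>
    ∃ r < 48, wRoot chevF4 (f4WordR a) r ≠ wRoot chevF4 (f4WordR b) r := by decide

/-- every word commuting with the symmetry acts as one of the sixteen -/
theorem f4_cover (F : Type*) [Field F] (l : List ℕ) (hl : ∀ i ∈ l, i < chevF4.rank) (hrc : F4RhoComm l) :
    ∃ JsR ∈ f4W16R, ∀ r < 48, wRoot chevF4 l r = wRoot chevF4 (f4WordR JsR) r := by
  obtain ⟨Js, hJs, hw⟩ := f4_folded_exists F l hl hrc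
  have key : ∀ Js : List (List ℕ), (∀ J ∈ Js, J ∈ f4Fund) → ∃ JsR ∈ f4W16R,
      ∀ r < 48, wRoot chevF4 Js.flatten r = wRoot chevF4 (f4WordR JsR) r := by
    intro Js
    induction Js with
    | nil => intro _; exact ⟨[], List.mem_cons_self, fun r _ => rfl⟩
    | cons J Js ih =>
      intro hJs
      obtain ⟨JsR, hmem, h1⟩ := ih (fun J' hJ' => hJs J' (List.mem_cons_of_mem _ hJ'))
      obtain ⟨JsR', hmem', h2⟩ := f4W16R_closed JsR hmem J (hJs J List.mem_cons_self)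
      refine ⟨JsR', hmem', fun r hr => ?_⟩
      rw [List.flatten_cons, wRoot_append, h1 r hr, ← wRoot_append, h2 r hr]
  obtain ⟨JsR, hmem, h1⟩ := key Js hJs
  exact ⟨JsR, hmem, fun r hr => by rw [← hw r hr, h1 r hr]⟩

section cells
variable {K : Type*} [Field K] [Fintype K] {m : ℕ} {σ : ↥(chevF4.group K) →* ↥(chevF4.group K)}

/-- Bruhat form of an element of the twisted group, keeping track of `U_w⁻` -/
theorem f4_tw_descent (hK : Fintype.card K = 2 ^ (2 * m + 1)) (hσ : IsF4Sig K (2 ^ m) σ) (g : GL chevF4.Idx K)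
    (hg : g ∈ twistedF4 K (2 ^ m)) :
    ∃ l : List ℕ, (∀ i ∈ l, i < chevF4.rank) ∧ F4RhoComm l ∧
      ∃ u₁ ∈ chevF4.posUnipotent K ⊓ twistedF4 K (2 ^ m), ∃ h₁ ∈ chevF4.diagonalSubgroup K,
      ∃ u ∈ Subgroup.closure (sGens chevF4 K l) ⊓ twistedF4 K (2 ^ m),
        g = u₁ * (h₁ * nWordGL chevF4 hF4 K l) * u ∧ h₁ * nWordGL chevF4 hF4 K l ∈ twistedF4 K (2 ^ m) := by
  have := f4_charP hK
  have hle := f4_twisted_le_fix hK hσ
  have hpf := f4_pos_fix_le hK hσ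
  obtain ⟨l, hl, hrc, u₁, hu₁, h₁, hh₁, u, hu, e, hσ1, hσ2, -⟩ := f4_descent hσ g (hle hg)
  have hUG := posUnipotent_le_group chevF4 hF4 K
  have hu₁T : u₁ ∈ twistedF4 K (2 ^ m) := hpf (Subgroup.mem_inf.2 ⟨hu₁, hUG hu₁, hσ1⟩)
  have huU := sGens_le_pos chevF4 K l hu
  have huT : u ∈ twistedF4 K (2 ^ m) := hpf (Subgroup.mem_inf.2 ⟨huU, hUG huU, hσ2⟩)
  refine ⟨l, hl, hrc, u₁, ⟨hu₁, hu₁T⟩, h₁, hh₁, u, ⟨hu, huT⟩, e, ?_⟩
  have : h₁ * nWordGL chevF4 hF4 K l = u₁⁻¹ * g * u⁻¹ := by rw [e]; group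
  rw [this]
  exact mul_mem (mul_mem (inv_mem hu₁T) hg) (inv_mem huT)

/-- the part of a Bruhat cell in the twisted group -/
def f4Cell (K : Type*) [Field K] (θ : ℕ) (n : GL chevF4.Idx K) : Set (GL chevF4.Idx K) :=
  {g | g ∈ twistedF4 K θ ∧ InBnB chevF4 K g n}

theorem f4_sGens_inf_eq (hK : Fintype.card K = 2 ^ (2 * m + 1)) (hσ : IsF4Sig K (2 ^ m) σ) (l : List ℕ) :
    Subgroup.closure (sGens chevF4 K l) ⊓ twistedF4 K (2 ^ m) = Subgroup.closure (sGens chevF4 K l) ⊓ f4Fix σ := by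
  apply le_antisymm
  · exact inf_le_inf_left _ (f4_twisted_le_fix hK hσ)
  · rintro g ⟨h1, h2⟩
    exact ⟨h1, f4_pos_fix_le hK hσ ⟨sGens_le_pos chevF4 K l h1, h2⟩⟩

/-- the number of elements of the part of a Bruhat cell in the twisted group -/
theorem f4_card_cell (hK : Fintype.card K = 2 ^ (2 * m + 1)) (hσ : IsF4Sig K (2 ^ m) σ) (JsR : List (List ℕ))
    (hred : f4RedR JsR = true) :
    (f4Cell K (2 ^ m) (nWordGL chevF4 hF4 K (f4WordR JsR))).ncard =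
      Nat.card ↥(chevF4.posUnipotent K ⊓ twistedF4 K (2 ^ m)) *
        Nat.card ↥(chevF4.diagonalSubgroup K ⊓ twistedF4 K (2 ^ m)) * (2 ^ (2 * m + 1)) ^ f4ExpR JsR := by
  have hcp := f4_charP hK
  have hθ : (2 : ℕ) ^ m ≠ 0 := pow_ne_zero _ (by norm_num)
  have h45 : ∀ i < chevF4.rank, H45 chevF4 K i := fun i hi => Cfsg.Agent.S1045.result chevF4 hF4 i hi
  set T := twistedF4 K (2 ^ m) with hT
  set l := f4WordR JsR with hldef
  have hl := f4WordR_lt JsR hred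
  have hlT : nWordGL chevF4 hF4 K l ∈ T := f4WordR_mem hθ JsR hred
  set n := nWordGL chevF4 hF4 K l with hn
  have hnN : n ∈ chevF4.monomialSubgroup K := nWordGL_mem chevF4 hF4 K l hl
  have hUB := pos_le_borel chevF4 K
  have hHB := diagonal_le_borel chevF4 K
  rw [← (f4_fix_red hK hσ JsR hred).2, ← f4_sGens_inf_eq hK hσ, ← Nat.card_coe_set_eq,
    ← Nat.card_prod, ← Nat.card_prod]
  symm
  let Θ : (↥(chevF4.posUnipotent K ⊓ T) × ↥(chevF4.diagonalSubgroup K ⊓ T)) ×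
      ↥(Subgroup.closure (sGens chevF4 K l) ⊓ T) → ↥(f4Cell K (2 ^ m) n) := fun p =>
    ⟨p.1.1.1 * p.1.2.1 * n * p.2.1, mul_mem (mul_mem (mul_mem (Subgroup.mem_inf.1 p.1.1.2).2
        (Subgroup.mem_inf.1 p.1.2.2).2) hlT) (Subgroup.mem_inf.1 p.2.2).2,
      p.1.1.1 * p.1.2.1, mul_mem (hUB (Subgroup.mem_inf.1 p.1.1.2).1) (hHB (Subgroup.mem_inf.1 p.1.2.2).1),
      p.2.1, hUB (sGens_le_pos chevF4 K l (Subgroup.mem_inf.1 p.2.2).1), rfl⟩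
  apply Nat.card_congr (Equiv.ofBijective Θ ⟨?_, ?_⟩)
  · rintro ⟨⟨⟨u, hu⟩, ⟨h, hh⟩⟩, ⟨v, hv⟩⟩ ⟨⟨⟨u', hu'⟩, ⟨h', hh'⟩⟩, ⟨v', hv'⟩⟩ e
    have e' : u * h * n * v = u' * h' * n * v' := congrArg Subtype.val e
    obtain ⟨huU, huT⟩ := Subgroup.mem_inf.1 hu
    obtain ⟨hu'U, hu'T⟩ := Subgroup.mem_inf.1 hu'
    obtain ⟨hhH, hhT⟩ := Subgroup.mem_inf.1 hh
    obtain ⟨hh'H, hh'T⟩ := Subgroup.mem_inf.1 hh'
    obtain ⟨e1, e2⟩ := cell_unique chevF4 hF4 K l n (actsBy_nWordGL chevF4 hF4 K l hl) (u * h) (u' * h') v v'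
      (mul_mem (hUB huU) (hHB hhH)) (mul_mem (hUB hu'U) (hHB hh'H)) (Subgroup.mem_inf.1 hv).1
      (Subgroup.mem_inf.1 hv').1 e'
    have h1 : u'⁻¹ * u = h' * h⁻¹ := by
      have : u = u' * h' * h⁻¹ := by rw [← e1]; group
      rw [this]; group
    have h2 : u'⁻¹ * u ∈ chevF4.posUnipotent K ⊓ chevF4.diagonalSubgroup K :=
      Subgroup.mem_inf.2 ⟨mul_mem (inv_mem hu'U) huU, by rw [h1]; exact mul_mem hh'H (inv_mem hhH)⟩
    rw [pos_inf_diagonal chevF4 hF4 K, Subgroup.mem_bot] at h2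
    have hu1 : u = u' := by
      rw [inv_mul_eq_one] at h2
      exact h2.symm
    subst hu1
    have hh1 : h = h' := mul_left_cancel e1
    subst hh1
    subst e2
    rfl
  · rintro ⟨g, hgT, hgc⟩
    obtain ⟨l', hl', hrc', u₁, hu₁, h₁, hh₁, u, hu, e, hmT⟩ := f4_tw_descent hK hσ g hgT
    set n' := nWordGL chevF4 hF4 K l' with hn'
    have hn'N : n' ∈ chevF4.monomialSubgroup K := nWordGL_mem chevF4 hF4 K l' hl'
    obtain ⟨hu₁U, hu₁T⟩ := Subgroup.mem_inf.1 hu₁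
    obtain ⟨huS, huT⟩ := Subgroup.mem_inf.1 hu
    have hgc' : g ∈ cell chevF4 K n' := by
      refine ⟨u₁ * h₁, mul_mem (hUB hu₁U) (hHB hh₁), u, hUB (sGens_le_pos chevF4 K l' huS), ?_⟩
      rw [e]; group
    have h0 := bruhat_unique' chevF4 hF4 K h45 n' n g hn'N hnN hgc' hgc
    have hperm : ∀ r < 48, wRoot chevF4 l' r = wRoot chevF4 l r :=
      fun r hr => wRoot_eq_of_mem_diag chevF4 hF4 K l' l hl' hl h0 r hr
    rw [f4_sGens_congr (K := K) l l' hperm] at huS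
    have hh' : h₁ * (n' * n⁻¹) ∈ chevF4.diagonalSubgroup K := by
      apply mul_mem hh₁
      have h3 := conj_mem_diag chevF4 hF4 K n'⁻¹ _ (inv_mem hn'N) (inv_mem h0)
      have e3 : n'⁻¹⁻¹ * (n'⁻¹ * n)⁻¹ * n'⁻¹ = n' * n⁻¹ := by group
      rw [e3] at h3
      exact h3
    have hh'T : h₁ * (n' * n⁻¹) ∈ T := by
      have : h₁ * (n' * n⁻¹) = (h₁ * n') * n⁻¹ := by group
      rw [this]
      exact mul_mem hmT (inv_mem hlT)
    refine ⟨⟨⟨⟨u₁, hu₁⟩, ⟨h₁ * (n' * n⁻¹), Subgroup.mem_inf.2 ⟨hh', hh'T⟩⟩⟩,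
      ⟨u, Subgroup.mem_inf.2 ⟨huS, huT⟩⟩⟩, ?_⟩
    apply Subtype.ext
    show u₁ * (h₁ * (n' * n⁻¹)) * n * u = g
    rw [e]
    group

end cells

end Cfsg.Agent.Lib.Helper36
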