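import Cfsg.Agent.Lib.Helper36.F4Core

/-! # The groups `²F₄`: perfectness (helper36) -/

set_option autoImplicit false

namespace Cfsg.Agent.Lib.Helper36

open Cfsg Cfsg.Lie Cfsg.Agent.Lib.Helper18

section abstract
variable {G : Type*} [Group G]

theorem b2_mul_aux (A B A' B' Z Z' Z₁ : G) (hZA' : Commute Z A') (hZB' : Commute Z B') (hZ₁B' : Commute Z₁ B')
    (hrel : B * A' = A' * B * Z₁) : (A * B * Z) * (A' * B' * Z') = (A * A') * (B * B') * (Z₁ * Z * Z') := by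
  calc (A * B * Z) * (A' * B' * Z') = A * B * (Z * A') * B' * Z' := by group
    _ = A * B * (A' * Z) * B' * Z' := by rw [hZA'.eq]
    _ = A * (B * A') * (Z * B') * Z' := by group
    _ = A * (A' * B * Z₁) * (B' * Z) * Z' := by rw [hrel, hZB'.eq]
    _ = A * A' * B * (Z₁ * B') * Z * Z' := by group
    _ = A * A' * B * (B' * Z₁) * Z * Z' := by rw [hZ₁B'.eq]
    _ = _ := by group

end abstract

section mul
variable {K : Type*} [Field K] [CharP K 2]

theorem f4_tw_blk : ∀ p ∈ [(28, 27), (28, 25), (28, 30), (30, 27), (30, 25), (30, 28), (33, 24)],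
    twGood chevF4 2 p.1 p.2 = true := by decide

theorem f4_Z_mul (p q p' q' : K) :
    (xGL chevF4 hF4 K 28 p * xGL chevF4 hF4 K 30 q) * (xGL chevF4 hF4 K 28 p' * xGL chevF4 hF4 K 30 q') =
      xGL chevF4 hF4 K 28 (p + p') * xGL chevF4 hF4 K 30 (q + q') := by
  rw [xGL_add, xGL_add]
  have h := f4_comm (K := K) 30 28 (f4_tw_blk (30, 28) (by decide)) q p'
  calc (xGL chevF4 hF4 K 28 p * xGL chevF4 hF4 K 30 q) * (xGL chevF4 hF4 K 28 p' * xGL chevF4 hF4 K 30 q')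
      = xGL chevF4 hF4 K 28 p * (xGL chevF4 hF4 K 30 q * xGL chevF4 hF4 K 28 p') * xGL chevF4 hF4 K 30 q' := by
        group
    _ = xGL chevF4 hF4 K 28 p * (xGL chevF4 hF4 K 28 p' * xGL chevF4 hF4 K 30 q) * xGL chevF4 hF4 K 30 q' := by
        rw [h]
    _ = _ := by group

/-- the multiplication law on the fundamental block of type `B₂` -/
theorem f4_U_mul (α β γ δ α' β' γ' δ' : K) :
    wordGL chevF4 hF4 K [(27, α), (25, β), (28, γ), (30, δ)] *
      wordGL chevF4 hF4 K [(27, α'), (25, β'), (28, γ'), (30, δ')] =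
    wordGL chevF4 hF4 K [(27, α + α'), (25, β + β'), (28, γ + γ' + α' * β), (30, δ + δ' + α' ^ 2 * β)] := by
  simp only [f4_wordGL_cons, f4_wordGL_nil, mul_one]
  have c1 : ∀ (r : ℕ) (p : K), r = 27 ∨ r = 25 → ∀ u v : K,
      Commute (xGL chevF4 hF4 K 28 u * xGL chevF4 hF4 K 30 v) (xGL chevF4 hF4 K r p) := by
    intro r p hr u v
    rcases hr with rfl | rfl
    · exact Commute.mul_left (f4_comm 28 27 (f4_tw_blk (28, 27) (by decide)) u p)
        (f4_comm 30 27 (f4_tw_blk (30, 27) (by decide)) v p)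
    · exact Commute.mul_left (f4_comm 28 25 (f4_tw_blk (28, 25) (by decide)) u p)
        (f4_comm 30 25 (f4_tw_blk (30, 25) (by decide)) v p)
  have key := b2_mul_aux (xGL chevF4 hF4 K 27 α) (xGL chevF4 hF4 K 25 β) (xGL chevF4 hF4 K 27 α')
    (xGL chevF4 hF4 K 25 β') (xGL chevF4 hF4 K 28 γ * xGL chevF4 hF4 K 30 δ)
    (xGL chevF4 hF4 K 28 γ' * xGL chevF4 hF4 K 30 δ')
    (xGL chevF4 hF4 K 28 (α' * β) * xGL chevF4 hF4 K 30 (α' ^ 2 * β))
    (c1 27 α' (Or.inl rfl) γ δ) (c1 25 β' (Or.inr rfl) γ δ) (c1 25 β' (Or.inr rfl) _ _) (f4_comm_ab α' β)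
  calc xGL chevF4 hF4 K 27 α * (xGL chevF4 hF4 K 25 β * (xGL chevF4 hF4 K 28 γ * xGL chevF4 hF4 K 30 δ)) *
        (xGL chevF4 hF4 K 27 α' * (xGL chevF4 hF4 K 25 β' * (xGL chevF4 hF4 K 28 γ' * xGL chevF4 hF4 K 30 δ')))
      = (xGL chevF4 hF4 K 27 α * xGL chevF4 hF4 K 25 β * (xGL chevF4 hF4 K 28 γ * xGL chevF4 hF4 K 30 δ)) *
        (xGL chevF4 hF4 K 27 α' * xGL chevF4 hF4 K 25 β' * (xGL chevF4 hF4 K 28 γ' * xGL chevF4 hF4 K 30 δ')) := by
        group
    _ = _ := by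
        rw [key, f4_Z_mul, f4_Z_mul, ← xGL_add, ← xGL_add]
        have e1 : α' * β + γ + γ' = γ + γ' + α' * β := by ring
        have e2 : α' ^ 2 * β + δ + δ' = δ + δ' + α' ^ 2 * β := by ring
        rw [e1, e2]
        group

/-- the multiplication law on the fundamental block of type `A₁ × A₁` -/
theorem f4_P_mul (α β α' β' : K) :
    wordGL chevF4 hF4 K [(33, α), (24, β)] * wordGL chevF4 hF4 K [(33, α'), (24, β')] =
      wordGL chevF4 hF4 K [(33, α + α'), (24, β + β')] := by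
  simp only [f4_wordGL_cons, f4_wordGL_nil, mul_one]
  rw [xGL_add, xGL_add]
  have h := f4_comm (K := K) 24 33 (by decide) β α'
  calc xGL chevF4 hF4 K 33 α * xGL chevF4 hF4 K 24 β * (xGL chevF4 hF4 K 33 α' * xGL chevF4 hF4 K 24 β')
      = xGL chevF4 hF4 K 33 α * (xGL chevF4 hF4 K 24 β * xGL chevF4 hF4 K 33 α') * xGL chevF4 hF4 K 24 β' := by
        group
    _ = xGL chevF4 hF4 K 33 α * (xGL chevF4 hF4 K 33 α' * xGL chevF4 hF4 K 24 β) * xGL chevF4 hF4 K 24 β' := by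
        rw [h]
    _ = _ := by group

end mul

section chi
variable {K : Type*} [Field K]

theorem tor4Chi_28 (a b c d : Kˣ) : tor4Chi a b c d 28 = (a : K)⁻¹ * (c : K) * (d : K)⁻¹ := by
  have h : chevF4.cartan 0 28 = -1 ∧ chevF4.cartan 1 28 = 0 ∧ chevF4.cartan 2 28 = 1 ∧ chevF4.cartan 3 28 = -1 := by
    decide
  unfold tor4Chi
  rw [h.1, h.2.1, h.2.2.1, h.2.2.2]
  simp

theorem tor4Chi_30 (a b c d : Kˣ) : tor4Chi a b c d 30 = ((a : K) ^ 2)⁻¹ * (b : K) ^ 2 * (d : K)⁻¹ := by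
  have h : chevF4.cartan 0 30 = -2 ∧ chevF4.cartan 1 30 = 2 ∧ chevF4.cartan 2 30 = 0 ∧ chevF4.cartan 3 30 = -1 := by
    decide
  unfold tor4Chi
  rw [h.1, h.2.1, h.2.2.1, h.2.2.2]
  simp [zpow_ofNat]

end chi

section words
variable {K : Type*} [Field K] [Fintype K] {m : ℕ}

theorem f4_pw_mul (hK : Fintype.card K = 2 ^ (2 * m + 1)) (s s' : K) :
    wordGL chevF4 hF4 K (f4PairWord (2 ^ m) f4p1 f4p4 s) * wordGL chevF4 hF4 K (f4PairWord (2 ^ m) f4p1 f4p4 s') =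
      wordGL chevF4 hF4 K (f4PairWord (2 ^ m) f4p1 f4p4 (s + s')) := by
  have := f4_charP hK
  rw [f4_pairWord_eq, f4_pairWord_eq, f4_pairWord_eq]
  show wordGL chevF4 hF4 K [(33, _), (24, _)] * wordGL chevF4 hF4 K [(33, _), (24, _)] =
    wordGL chevF4 hF4 K [(33, _), (24, _)]
  rw [f4_P_mul, f4_add_pow hK m]

theorem f4_cw_mul_zero (hK : Fintype.card K = 2 ^ (2 * m + 1)) (t u v : K) :
    wordGL chevF4 hF4 K (b2ClassWord (2 ^ m) f4a f4b f4ab f4aab t u) *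
      wordGL chevF4 hF4 K (b2ClassWord (2 ^ m) f4a f4b f4ab f4aab 0 v) =
      wordGL chevF4 hF4 K (b2ClassWord (2 ^ m) f4a f4b f4ab f4aab t (u + v)) := by
  have := f4_charP hK
  have hθ : (2 : ℕ) ^ m ≠ 0 := pow_ne_zero _ (by norm_num)
  have z1 : (0 : K) ^ 2 ^ m = 0 := zero_pow hθ
  have z2 : (0 : K) ^ (2 ^ m + 1) = 0 := zero_pow (Nat.succ_ne_zero _)
  have A : (u + v) ^ (2 * 2 ^ m) = u ^ (2 * 2 ^ m) + v ^ (2 * 2 ^ m) := by
    have := f4_add_pow hK (m + 1) u v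
    rwa [pow_succ, mul_comm] at this
  rw [f4_classWord_eq, f4_classWord_eq, f4_classWord_eq]
  show wordGL chevF4 hF4 K [(27, _), (25, _), (28, _), (30, _)] * wordGL chevF4 hF4 K [(27, _), (25, _), (28, _), (30, _)] =
    wordGL chevF4 hF4 K [(27, _), (25, _), (28, _), (30, _)]
  rw [f4_U_mul, z1, z2, A]
  congr 1
  simp only [List.cons.injEq, Prod.mk.injEq, true_and, and_true]
  refine ⟨by ring, by ring, by ring, by ring⟩

omit [Fintype K] in
theorem f4_cw_zero_zero :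
    wordGL chevF4 hF4 K (b2ClassWord (2 ^ m) f4a f4b f4ab f4aab (0 : K) 0) = 1 := by
  have hθ : (2 : ℕ) ^ m ≠ 0 := pow_ne_zero _ (by norm_num)
  have z1 : (0 : K) ^ 2 ^ m = 0 := zero_pow hθ
  have z2 : (0 : K) ^ (2 ^ m + 1) = 0 := zero_pow (Nat.succ_ne_zero _)
  have z3 : (0 : K) ^ (2 * 2 ^ m) = 0 := zero_pow (Nat.mul_ne_zero (by norm_num) hθ)
  rw [f4_classWord_eq, z1, z2, z3, add_zero]
  simp [wordGL, xGL_zero]

end words

section perf
variable {K : Type*} [Field K] [Fintype K] {m : ℕ}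

theorem f4_exists_unit (hK : Fintype.card K = 2 ^ (2 * m + 1)) (hm : 1 ≤ m) : ∃ x : Kˣ, x ≠ 1 := by
  classical
  have h8 : 2 ^ 3 ≤ 2 ^ (2 * m + 1) := Nat.pow_le_pow_right (by norm_num) (by omega)
  have hc : 1 < Fintype.card Kˣ := by
    rw [Fintype.card_units, hK]
    omega
  have : Nontrivial Kˣ := Fintype.one_lt_card_iff_nontrivial.1 hc
  exact exists_ne 1

omit [Fintype K] in
/-- conjugation of a generator of type `A₁ × A₁` by an element of the torus -/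
theorem f4Hm_conj_pw (x : Kˣ) (s : K) :
    f4Hm (2 ^ m) (x, 1) * wordGL chevF4 hF4 K (f4PairWord (2 ^ m) f4p1 f4p4 s) * (f4Hm (2 ^ m) (x, 1))⁻¹ =
      wordGL chevF4 hF4 K (f4PairWord (2 ^ m) f4p1 f4p4 ((x : K) ^ 2 * s)) := by
  rw [f4Hm_apply, f4_pairWord_eq, f4_pairWord_eq]
  have hlt : ∀ p ∈ [(f4p1, s ^ 2 ^ m), (f4p4, s)], p.1 < 48 := by
    intro p hp
    simp only [List.mem_cons, List.not_mem_nil, or_false] at hp
    rcases hp with rfl | rfl
    · show (33 : ℕ) < 48; norm_num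
    · show (24 : ℕ) < 48; norm_num
  rw [tor4_conj_word _ _ _ _ _ hlt]
  show wordGL chevF4 hF4 K [(33, tor4Chi _ _ _ _ 33 * _), (24, tor4Chi _ _ _ _ 24 * _)] =
    wordGL chevF4 hF4 K [(33, _), (24, _)]
  rw [tor4Chi_33, tor4Chi_24]
  congr 1
  simp only [List.cons.injEq, Prod.mk.injEq, true_and, and_true]
  constructor
  · simp only [Units.val_pow_eq_pow_val, Units.val_one, one_pow, inv_one, mul_one]
    ring
  · simp only [Units.val_one, inv_one, one_mul]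

omit [Fintype K] in
/-- conjugation of a central generator of type `B₂` by an element of the torus -/
theorem f4Hm_conj_z (y : Kˣ) (u : K) :
    f4Hm (2 ^ m) (1, y) * wordGL chevF4 hF4 K (b2ClassWord (2 ^ m) f4a f4b f4ab f4aab 0 u) *
      (f4Hm (2 ^ m) (1, y))⁻¹ = wordGL chevF4 hF4 K (b2ClassWord (2 ^ m) f4a f4b f4ab f4aab 0 ((y : K) * u)) := by
  have hθ : (2 : ℕ) ^ m ≠ 0 := pow_ne_zero _ (by norm_num)
  have z1 : (0 : K) ^ 2 ^ m = 0 := zero_pow hθ
  have z2 : (0 : K) ^ (2 ^ m + 1) = 0 := zero_pow (Nat.succ_ne_zero _)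
  rw [f4Hm_apply, f4_classWord_eq, f4_classWord_eq]
  have hlt : ∀ p ∈ [(f4a, (0 : K) ^ 2 ^ m), (f4b, 0), (f4ab, (0 : K) ^ (2 ^ m + 1) + u), (f4aab, u ^ (2 * 2 ^ m))],
      p.1 < 48 := by
    intro p hp
    simp only [List.mem_cons, List.not_mem_nil, or_false] at hp
    rcases hp with rfl | rfl | rfl | rfl
    · show (27 : ℕ) < 48; norm_num
    · show (25 : ℕ) < 48; norm_num
    · show (28 : ℕ) < 48; norm_num
    · show (30 : ℕ) < 48; norm_num
  rw [tor4_conj_word _ _ _ _ _ hlt]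
  show wordGL chevF4 hF4 K [(27, tor4Chi _ _ _ _ 27 * _), (25, tor4Chi _ _ _ _ 25 * _), (28, tor4Chi _ _ _ _ 28 * _),
    (30, tor4Chi _ _ _ _ 30 * _)] = wordGL chevF4 hF4 K [(27, _), (25, _), (28, _), (30, _)]
  rw [tor4Chi_28, tor4Chi_30, z1, z2, mul_zero, mul_zero, zero_add, zero_add]
  congr 1
  simp only [List.cons.injEq, Prod.mk.injEq, true_and, and_true]
  constructor
  · simp only [Units.val_pow_eq_pow_val, Units.val_one, one_pow, inv_one, mul_one, one_mul]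
  · simp only [Units.val_pow_eq_pow_val, Units.val_one, one_pow, inv_one, mul_one, one_mul]
    ring

end perf

section der
variable {K : Type*} [Field K] [Fintype K] {m : ℕ}

omit [Fintype K] in
theorem f4_char2_ne [CharP K 2] (x : K) (hx : x ≠ 1) : x + 1 ≠ 0 := by
  intro h0
  apply hx
  have : x = -1 := eq_neg_of_add_eq_zero_left h0
  rw [this, CharTwo.neg_eq]

omit [Fintype K] in
theorem f4_pw_zero : wordGL chevF4 hF4 K (f4PairWord (2 ^ m) f4p1 f4p4 (0 : K)) = 1 := by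
  have hθ : (2 : ℕ) ^ m ≠ 0 := pow_ne_zero _ (by norm_num)
  rw [f4_pairWord_eq, zero_pow hθ]
  simp [wordGL, xGL_zero]

/-- the generators of type `A₁ × A₁` lie in the derived group -/
theorem f4_pw_mem_der (hK : Fintype.card K = 2 ^ (2 * m + 1)) (hm : 1 ≤ m) (t : K) :
    wordGL chevF4 hF4 K (f4PairWord (2 ^ m) f4p1 f4p4 t) ∈ ⁅twistedF4 K (2 ^ m), twistedF4 K (2 ^ m)⁆ := by
  have hcp := f4_charP hK
  obtain ⟨x, hx⟩ := f4_exists_unit hK hm
  have hx' : (x : K) ≠ 1 := fun h => hx (Units.ext (by rw [h, Units.val_one]))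
  have hne : (x : K) ^ 2 + 1 ≠ 0 := by
    have h1 := f4_char2_ne (x : K) hx'
    have h2 : (2 : K) = 0 := CharTwo.two_eq_zero
    have : (x : K) ^ 2 + 1 = ((x : K) + 1) ^ 2 := by
      have : ((x : K) + 1) ^ 2 = (x : K) ^ 2 + 2 * (x : K) + 1 := by ring
      rw [this, h2, zero_mul, add_zero]
    rw [this]
    exact pow_ne_zero 2 h1
  set s := t / ((x : K) ^ 2 + 1) with hs
  have hh : f4Hm (2 ^ m) (x, 1) ∈ twistedF4 K (2 ^ m) := f4Hm_mem hK _
  have hp : wordGL chevF4 hF4 K (f4PairWord (2 ^ m) f4p1 f4p4 s) ∈ twistedF4 K (2 ^ m) := f4_pair_mem _ s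
  have hc := Subgroup.commutator_mem_commutator hh hp
  have hinv : (wordGL chevF4 hF4 K (f4PairWord (2 ^ m) f4p1 f4p4 s))⁻¹ =
      wordGL chevF4 hF4 K (f4PairWord (2 ^ m) f4p1 f4p4 s) := by
    rw [inv_eq_iff_mul_eq_one, f4_pw_mul hK, CharTwo.add_self_eq_zero, f4_pw_zero]
  rw [commutatorElement_def, f4Hm_conj_pw, hinv, f4_pw_mul hK] at hc
  have e : (x : K) ^ 2 * s + s = t := by
    rw [hs]; field_simp
  rwa [e] at hc

/-- the central generators of type `B₂` lie in the derived group -/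
theorem f4_z_mem_der (hK : Fintype.card K = 2 ^ (2 * m + 1)) (hm : 1 ≤ m) (v : K) :
    wordGL chevF4 hF4 K (b2ClassWord (2 ^ m) f4a f4b f4ab f4aab 0 v) ∈
      ⁅twistedF4 K (2 ^ m), twistedF4 K (2 ^ m)⁆ := by
  have hcp := f4_charP hK
  obtain ⟨y, hy⟩ := f4_exists_unit hK hm
  have hy' : (y : K) ≠ 1 := fun h => hy (Units.ext (by rw [h, Units.val_one]))
  have hne : (y : K) + 1 ≠ 0 := f4_char2_ne (y : K) hy'
  set u := v / ((y : K) + 1) with hu
  have hh : f4Hm (2 ^ m) (1, y) ∈ twistedF4 K (2 ^ m) := f4Hm_mem hK _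
  have hp : wordGL chevF4 hF4 K (b2ClassWord (2 ^ m) f4a f4b f4ab f4aab 0 u) ∈ twistedF4 K (2 ^ m) :=
    f4_class_mem _ 0 u
  have hc := Subgroup.commutator_mem_commutator hh hp
  have hinv : (wordGL chevF4 hF4 K (b2ClassWord (2 ^ m) f4a f4b f4ab f4aab 0 u))⁻¹ =
      wordGL chevF4 hF4 K (b2ClassWord (2 ^ m) f4a f4b f4ab f4aab 0 u) := by
    rw [inv_eq_iff_mul_eq_one, f4_cw_mul_zero hK, CharTwo.add_self_eq_zero, f4_cw_zero_zero]
  rw [commutatorElement_def, f4Hm_conj_z, hinv, f4_cw_mul_zero hK] at hc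
  have e : (y : K) * u + u = v := by
    rw [hu]; field_simp
  rwa [e] at hc

end der

end Cfsg.Agent.Lib.Helper36
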