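import Cfsg.Agent.Lib.Helper36.F4Perf

/-! # The groups `²F₄`: perfectness, the main theorem (helper36) -/

set_option autoImplicit false

namespace Cfsg.Agent.Lib.Helper36

open Cfsg Cfsg.Lie Cfsg.Agent.Lib.Helper18

section der
variable {K : Type*} [Field K] [Fintype K] {m : ℕ}

/-- all the generators of type `B₂` lie in the derived group -/
theorem f4_cw_mem_der (hK : Fintype.card K = 2 ^ (2 * m + 1)) (hm : 1 ≤ m) (t u : K) :
    wordGL chevF4 hF4 K (b2ClassWord (2 ^ m) f4a f4b f4ab f4aab t u) ∈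
      ⁅twistedF4 K (2 ^ m), twistedF4 K (2 ^ m)⁆ := by
  have hcp := f4_charP hK
  obtain ⟨σ, hσ⟩ := exists_f4Sig hK
  have hle := f4_twisted_le_fix hK hσ
  obtain ⟨x, hx⟩ := f4_exists_unit hK hm
  have hx' : (x : K)⁻¹ ≠ 1 := by
    intro h
    apply hx
    apply Units.ext
    rw [Units.val_one, ← inv_inv (x : K), h, inv_one]
  have hne : (x : K)⁻¹ + 1 ≠ 0 := f4_char2_ne _ hx'
  set T := twistedF4 K (2 ^ m) with hT
  set t' := t / ((x : K)⁻¹ + 1) with ht'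
  set h := f4Hm (2 ^ m) (x, 1) with hh
  set c := wordGL chevF4 hF4 K (b2ClassWord (2 ^ m) f4a f4b f4ab f4aab t' 0) with hc
  have hhT : h ∈ T := f4Hm_mem hK _
  have hcT : c ∈ T := f4_class_mem _ t' 0
  have hgD : h * c * h⁻¹ * c⁻¹ ∈ ⁅T, T⁆ := by
    have := Subgroup.commutator_mem_commutator hhT hcT
    rwa [commutatorElement_def] at this
  have hgT : h * c * h⁻¹ * c⁻¹ ∈ T := comm_le_self chevF4 K T hgD
  -- the conjugate is a word on the block
  have hlt : ∀ p ∈ [(f4a, t' ^ 2 ^ m), (f4b, t'), (f4ab, t' ^ (2 ^ m + 1) + 0), (f4aab, (0 : K) ^ (2 * 2 ^ m))],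
      p.1 < 48 := by
    intro p hp
    simp only [List.mem_cons, List.not_mem_nil, or_false] at hp
    rcases hp with rfl | rfl | rfl | rfl
    · show (27 : ℕ) < 48; norm_num
    · show (25 : ℕ) < 48; norm_num
    · show (28 : ℕ) < 48; norm_num
    · show (30 : ℕ) < 48; norm_num
  have hconj : h * c * h⁻¹ = wordGL chevF4 hF4 K [(27, tor4Chi (x ^ 2 ^ m) (1 ^ 2 ^ m) 1 x 27 * t' ^ 2 ^ m),
      (25, tor4Chi (x ^ 2 ^ m) (1 ^ 2 ^ m) 1 x 25 * t'),
      (28, tor4Chi (x ^ 2 ^ m) (1 ^ 2 ^ m) 1 x 28 * (t' ^ (2 ^ m + 1) + 0)),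
      (30, tor4Chi (x ^ 2 ^ m) (1 ^ 2 ^ m) 1 x 30 * (0 : K) ^ (2 * 2 ^ m))] := by
    rw [hh, hc, f4Hm_apply, f4_classWord_eq, tor4_conj_word _ _ _ _ _ hlt]
    rfl
  have hblk : ∀ (a b c' d : K), wordGL chevF4 hF4 K [(27, a), (25, b), (28, c'), (30, d)] ∈
      Subgroup.closure (sGens chevF4 K [1, 2, 1, 2]) := by
    intro a b c' d
    apply f4_word_mem_XJ
    intro p hp
    simp only [List.mem_cons, List.not_mem_nil, or_false] at hp
    rcases hp with rfl | rfl | rfl | rfl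
    · exact f4_blkB_mem 27 (by decide)
    · exact f4_blkB_mem 25 (by decide)
    · exact f4_blkB_mem 28 (by decide)
    · exact f4_blkB_mem 30 (by decide)
  have hcX : c ∈ Subgroup.closure (sGens chevF4 K [1, 2, 1, 2]) := by
    rw [hc, f4_classWord_eq]
    exact hblk _ _ _ _
  have hgX : h * c * h⁻¹ * c⁻¹ ∈ Subgroup.closure (sGens chevF4 K [1, 2, 1, 2]) := by
    rw [hconj]
    exact mul_mem (hblk _ _ _ _) (inv_mem hcX)
  obtain ⟨t'', u'', hg⟩ := f4_XJ2_fixed hK hσ _ hgX (hle hgT).2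
  -- the second coordinate
  have e1 : h * c * h⁻¹ * c⁻¹ * c = h * c * h⁻¹ := by group
  rw [hg, hconj, hc, f4_classWord_eq, f4_classWord_eq] at e1
  have e2 := e1
  rw [show (wordGL chevF4 hF4 K [(f4a, t'' ^ 2 ^ m), (f4b, t''), (f4ab, t'' ^ (2 ^ m + 1) + u''),
      (f4aab, u'' ^ (2 * 2 ^ m))] * wordGL chevF4 hF4 K [(f4a, t' ^ 2 ^ m), (f4b, t'), (f4ab, t' ^ (2 ^ m + 1) + 0),
      (f4aab, (0 : K) ^ (2 * 2 ^ m))]) = wordGL chevF4 hF4 K [(27, t'' ^ 2 ^ m + t' ^ 2 ^ m), (25, t'' + t'),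
      (28, t'' ^ (2 ^ m + 1) + u'' + (t' ^ (2 ^ m + 1) + 0) + t' ^ 2 ^ m * t''),
      (30, u'' ^ (2 * 2 ^ m) + (0 : K) ^ (2 * 2 ^ m) + (t' ^ 2 ^ m) ^ 2 * t'')] from f4_U_mul _ _ _ _ _ _ _ _] at e2
  obtain ⟨-, e25, -, -⟩ := f4_class_unique _ _ _ _ _ _ _ _ e2
  rw [tor4Chi_25] at e25
  simp only [Units.val_one, one_pow, inv_one, one_mul] at e25
  have et : t'' = t := by
    have h3 : t'' = (x : K)⁻¹ * t' + t' := by
      have : t'' = (x : K)⁻¹ * t' - t' := by rw [← e25]; ring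
      rw [this, sub_eq_add_neg, CharTwo.neg_eq]
    have hxK : (x : K) ≠ 1 := fun h => hx (Units.ext (by rw [h, Units.val_one]))
    have hx1 : (1 : K) + (x : K) ≠ 0 := by rw [add_comm]; exact f4_char2_ne _ hxK
    rw [h3, ht']
    field_simp
  -- conclusion
  have hfin : wordGL chevF4 hF4 K (b2ClassWord (2 ^ m) f4a f4b f4ab f4aab t u) =
      h * c * h⁻¹ * c⁻¹ * wordGL chevF4 hF4 K (b2ClassWord (2 ^ m) f4a f4b f4ab f4aab 0 (u'' + u)) := by
    rw [hg, et, f4_cw_mul_zero hK, ← add_assoc, CharTwo.add_self_eq_zero, zero_add]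
  rw [hfin]
  exact mul_mem hgD (f4_z_mem_der hK hm _)

/-- the fixed points on the fundamental blocks lie in the derived group -/
theorem f4_XJ_der (hK : Fintype.card K = 2 ^ (2 * m + 1)) (hm : 1 ≤ m) :
    ∀ J ∈ f4Fund, Subgroup.closure (sGens chevF4 K J) ⊓ twistedF4 K (2 ^ m) ≤
      ⁅twistedF4 K (2 ^ m), twistedF4 K (2 ^ m)⁆ := by
  obtain ⟨σ, hσ⟩ := exists_f4Sig hK
  have hle := f4_twisted_le_fix hK hσ
  intro J hJ g hg
  obtain ⟨hg1, hg2⟩ := Subgroup.mem_inf.1 hg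
  simp only [f4Fund, List.mem_cons, List.not_mem_nil, or_false] at hJ
  rcases hJ with rfl | rfl
  · obtain ⟨t, rfl⟩ := f4_XJ1_fixed hK hσ g hg1 (hle hg2).2
    exact f4_pw_mem_der hK hm t
  · obtain ⟨t, u, rfl⟩ := f4_XJ2_fixed hK hσ g hg1 (hle hg2).2
    exact f4_cw_mem_der hK hm t u

omit [Fintype K] in
/-- conjugation by `n_J` maps words on the negative block to the positive block -/
theorem f4_neg_conj (J : List ℕ) (hJ : J ∈ f4Fund) (w : List (ℕ × K))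
    (hw : ∀ p ∈ w, p.1 < 48 ∧ chevF4.IsPosRoot (wRoot chevF4 J p.1) ∧
      chevF4.IsNegRoot (wRoot chevF4 J (wRoot chevF4 J p.1))) :
    nWordGL chevF4 hF4 K J * wordGL chevF4 hF4 K w * (nWordGL chevF4 hF4 K J)⁻¹ ∈
      Subgroup.closure (sGens chevF4 K J) := by
  have hJr := f4_fund_lt J hJ
  induction w with
  | nil => simp [wordGL]
  | cons p w ih =>
    have hw' := fun q hq => hw q (List.mem_cons_of_mem _ hq)
    obtain ⟨h1, h2, h3⟩ := hw p List.mem_cons_self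
    obtain ⟨ε, -, hc⟩ := nWordGL_conj chevF4 hF4 K J hJr p.1 h1
    have e : nWordGL chevF4 hF4 K J * wordGL chevF4 hF4 K (p :: w) * (nWordGL chevF4 hF4 K J)⁻¹ =
        (nWordGL chevF4 hF4 K J * xGL chevF4 hF4 K p.1 p.2 * (nWordGL chevF4 hF4 K J)⁻¹) *
          (nWordGL chevF4 hF4 K J * wordGL chevF4 hF4 K w * (nWordGL chevF4 hF4 K J)⁻¹) := by
      rw [f4_wordGL_cons]; group
    rw [e, hc]
    exact mul_mem (Subgroup.subset_closure ⟨_, _, h2, h3, xGL_coe chevF4 hF4 K _ _⟩) (ih hw')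

theorem f4_neg_facts1 : ∀ r ∈ [14, 23], r < 48 ∧ chevF4.IsPosRoot (wRoot chevF4 [0, 3] r) ∧
    chevF4.IsNegRoot (wRoot chevF4 [0, 3] (wRoot chevF4 [0, 3] r)) := by decide

theorem f4_neg_facts2 : ∀ r ∈ [20, 22, 19, 17], r < 48 ∧ chevF4.IsPosRoot (wRoot chevF4 [1, 2, 1, 2] r) ∧
    chevF4.IsNegRoot (wRoot chevF4 [1, 2, 1, 2] (wRoot chevF4 [1, 2, 1, 2] r)) := by decide

/-- a word on a negative block lying in the twisted group lies in the derived group -/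
theorem f4_neg_der (hK : Fintype.card K = 2 ^ (2 * m + 1)) (hm : 1 ≤ m) (J : List ℕ) (hJ : J ∈ f4Fund)
    (w : List (ℕ × K))
    (hw : ∀ p ∈ w, p.1 < 48 ∧ chevF4.IsPosRoot (wRoot chevF4 J p.1) ∧
      chevF4.IsNegRoot (wRoot chevF4 J (wRoot chevF4 J p.1)))
    (hwT : wordGL chevF4 hF4 K w ∈ twistedF4 K (2 ^ m)) :
    wordGL chevF4 hF4 K w ∈ ⁅twistedF4 K (2 ^ m), twistedF4 K (2 ^ m)⁆ := by
  have hcp := f4_charP hK
  have hθ : (2 : ℕ) ^ m ≠ 0 := pow_ne_zero _ (by norm_num)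
  have hnT := f4_fund_mem (K := K) hθ J hJ
  have h1 := f4_neg_conj J hJ w hw
  have h2 : nWordGL chevF4 hF4 K J * wordGL chevF4 hF4 K w * (nWordGL chevF4 hF4 K J)⁻¹ ∈ twistedF4 K (2 ^ m) :=
    mul_mem (mul_mem hnT hwT) (inv_mem hnT)
  have h3 := f4_XJ_der hK hm J hJ (Subgroup.mem_inf.2 ⟨h1, h2⟩)
  have h4 := conj_mem_comm chevF4 K (twistedF4 K (2 ^ m)) _ _ (inv_mem hnT) h3
  have e : (nWordGL chevF4 hF4 K J)⁻¹ *
      (nWordGL chevF4 hF4 K J * wordGL chevF4 hF4 K w * (nWordGL chevF4 hF4 K J)⁻¹) *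
      (nWordGL chevF4 hF4 K J)⁻¹⁻¹ = wordGL chevF4 hF4 K w := by group
  rwa [e] at h4

/-- `²F₄(q)` is perfect for `q ≥ 8` -/
theorem f4_perfect_group (hK : Fintype.card K = 2 ^ (2 * m + 1)) (hm : 1 ≤ m) :
    commutator ↥(twistedF4 K (2 ^ m)) = ⊤ := by
  apply perfect_of_gens chevF4 K (twistedF4 K (2 ^ m))
    {g | ∃ w ∈ f4Words K (2 ^ m), (g : Matrix chevF4.Idx chevF4.Idx K) = chevF4.wordMat K w} rfl
  rintro g ⟨w, hw, hg⟩
  have eg : g = wordGL chevF4 hF4 K w := Units.ext (by rw [hg, wordGL_coe])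
  rw [eg]
  rcases hw with ⟨t, rfl | rfl⟩ | ⟨t, u, rfl | rfl⟩
  · exact f4_pw_mem_der hK hm t
  · apply f4_neg_der hK hm [0, 3] (by decide) _ _ (f4_pair_neg_mem _ t)
    intro p hp
    rw [f4_pairWord_eq] at hp
    simp only [List.mem_cons, List.not_mem_nil, or_false] at hp
    rcases hp with rfl | rfl
    · exact f4_neg_facts1 14 (by decide)
    · exact f4_neg_facts1 23 (by decide)
  · exact f4_cw_mem_der hK hm t u
  · apply f4_neg_der hK hm [1, 2, 1, 2] (by decide) _ _ (f4_class_neg_mem _ t u)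
    intro p hp
    rw [f4_classWord_eq] at hp
    simp only [List.mem_cons, List.not_mem_nil, or_false] at hp
    rcases hp with rfl | rfl | rfl | rfl
    · exact f4_neg_facts2 20 (by decide)
    · exact f4_neg_facts2 22 (by decide)
    · exact f4_neg_facts2 19 (by decide)
    · exact f4_neg_facts2 17 (by decide)

end der

end Cfsg.Agent.Lib.Helper36
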