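import Cfsg.Agent.Lib.Helper36.F4Base
import Cfsg.Agent.Lib.Helper36.ChevUN

/-! # The groups `²F₄`: the twisting endomorphism on the level of `GL` (helper36) -/

set_option autoImplicit false

namespace Cfsg.Agent.Lib.Helper36

open Cfsg Cfsg.Lie Cfsg.Agent.Lib.Helper18

section sgf
variable {K : Type*} [Field K] (θ : ℕ) (σ : ↥(chevF4.group K) →* ↥(chevF4.group K))

open Classical in
/-- the endomorphism extended (by `1`) to the general linear group -/
noncomputable def sgf (g : GL chevF4.Idx K) : GL chevF4.Idx K :=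
  if hg : g ∈ chevF4.group K then ((σ ⟨g, hg⟩ : ↥(chevF4.group K)) : GL chevF4.Idx K) else 1

theorem sgf_of_mem (g : GL chevF4.Idx K) (hg : g ∈ chevF4.group K) :
    sgf σ g = ((σ ⟨g, hg⟩ : ↥(chevF4.group K)) : GL chevF4.Idx K) := by
  unfold sgf
  rw [dif_pos hg]

theorem sgf_mem_group (g : GL chevF4.Idx K) : sgf σ g ∈ chevF4.group K := by
  unfold sgf
  split_ifs with hg
  · exact (σ ⟨g, hg⟩).2
  · exact one_mem _

theorem sgf_mul (g g' : GL chevF4.Idx K) (hg : g ∈ chevF4.group K) (hg' : g' ∈ chevF4.group K) :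
    sgf σ (g * g') = sgf σ g * sgf σ g' := by
  rw [sgf_of_mem σ _ (mul_mem hg hg'), sgf_of_mem σ _ hg, sgf_of_mem σ _ hg', ← Subgroup.coe_mul, ← map_mul]
  rfl

theorem sgf_one : sgf σ (1 : GL chevF4.Idx K) = 1 := by
  rw [sgf_of_mem σ _ (one_mem _)]
  have : (⟨1, one_mem _⟩ : ↥(chevF4.group K)) = 1 := rfl
  rw [this, map_one]
  rfl

theorem sgf_inv (g : GL chevF4.Idx K) (hg : g ∈ chevF4.group K) : sgf σ g⁻¹ = (sgf σ g)⁻¹ := by
  rw [eq_inv_iff_mul_eq_one, ← sgf_mul σ _ _ (inv_mem hg) hg, inv_mul_cancel, sgf_one]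

/-- the image of a letter -/
def f4Let (p : ℕ × K) : ℕ × K := (rhoF4.getD p.1 0, p.2 ^ (θ * lamF4.getD p.1 0))

variable {θ σ} (hσ : IsF4Sig K θ σ)

include hσ in
theorem sgf_xGL (r : ℕ) (hr : r < 48) (t : K) :
    sgf σ (xGL chevF4 hF4 K r t) = xGL chevF4 hF4 K (rhoF4.getD r 0) (t ^ (θ * lamF4.getD r 0)) := by
  rw [sgf_of_mem σ _ (xGL_mem_group chevF4 hF4 K r t)]
  have := hσ r hr t
  unfold xGr at this
  rw [this]

include hσ in
theorem sgf_wordGL (w : List (ℕ × K)) (hw : ∀ p ∈ w, p.1 < 48) :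
    sgf σ (wordGL chevF4 hF4 K w) = wordGL chevF4 hF4 K (w.map (f4Let θ)) := by
  induction w with
  | nil => simp [wordGL, sgf_one]
  | cons p w ih =>
    have h1 : wordGL chevF4 hF4 K (p :: w) = xGL chevF4 hF4 K p.1 p.2 * wordGL chevF4 hF4 K w := by
      simp [wordGL]
    have h2 : wordGL chevF4 hF4 K ((p :: w).map (f4Let θ)) =
        xGL chevF4 hF4 K (f4Let θ p).1 (f4Let θ p).2 * wordGL chevF4 hF4 K (w.map (f4Let θ)) := by
      simp [wordGL]
    rw [h1, h2, sgf_mul σ _ _ (xGL_mem_group chevF4 hF4 K _ _)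
      (wordGL_mem chevF4 hF4 K _ _ (fun q _ => xGL_mem_group chevF4 hF4 K _ _)),
      ih (fun q hq => hw q (List.mem_cons_of_mem _ hq)), sgf_xGL hσ p.1 (hw p List.mem_cons_self)]
    rfl

theorem f4_rho_neg (r : ℕ) (hr : r < 48) :
    rhoF4.getD (chevF4.neg r) 0 = chevF4.neg (rhoF4.getD r 0) ∧ lamF4.getD (chevF4.neg r) 0 = lamF4.getD r 0 ∧
      chevF4.neg r < 48 ∧ rhoF4.getD r 0 < 48 := by
  revert r
  decide

include hσ in
theorem sgf_nGL [CharP K 2] (r : ℕ) (hr : r < 48) (t : K) :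
    sgf σ (nGL chevF4 hF4 K r t) = nGL chevF4 hF4 K (rhoF4.getD r 0) (t ^ (θ * lamF4.getD r 0)) := by
  obtain ⟨h1, h2, h3, h4⟩ := f4_rho_neg r hr
  unfold nGL
  rw [sgf_wordGL hσ]
  · congr 1
    unfold ChevalleyDatum.nWord
    simp only [List.map_cons, List.map_nil, f4Let]
    rw [h1, h2, CharTwo.neg_eq, CharTwo.neg_eq, inv_pow]
  · intro p hp
    unfold ChevalleyDatum.nWord at hp
    simp only [List.mem_cons, List.not_mem_nil, or_false] at hp
    rcases hp with rfl | rfl | rfl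
    · exact hr
    · exact h3
    · exact hr

include hσ in
theorem sgf_hGL [CharP K 2] (r : ℕ) (hr : r < 48) (t : K) :
    sgf σ (hGL chevF4 hF4 K r t) = hGL chevF4 hF4 K (rhoF4.getD r 0) (t ^ (θ * lamF4.getD r 0)) := by
  obtain ⟨h1, h2, h3, h4⟩ := f4_rho_neg r hr
  have hn : ∀ c : K, nGL chevF4 hF4 K r c ∈ chevF4.group K := fun c =>
    wordGL_mem chevF4 hF4 K _ _ (fun q _ => xGL_mem_group chevF4 hF4 K _ _)
  rw [hGL_eq, hGL_eq, sgf_mul σ _ _ (hn _) (hn _), sgf_nGL hσ r hr, sgf_nGL hσ r hr]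
  simp only [CharTwo.neg_eq, one_pow]

theorem sgf_closure (S : Set (GL chevF4.Idx K)) (T : Subgroup (GL chevF4.Idx K))
    (hS : ∀ g ∈ S, g ∈ chevF4.group K) (h : ∀ g ∈ S, sgf σ g ∈ T) :
    ∀ g ∈ Subgroup.closure S, sgf σ g ∈ T := by
  intro g hg
  have key : g ∈ chevF4.group K ∧ sgf σ g ∈ T := by
    induction hg using Subgroup.closure_induction with
    | mem x hx => exact ⟨hS x hx, h x hx⟩
    | one => exact ⟨one_mem _, by rw [sgf_one]; exact one_mem _⟩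
    | mul x y _ _ hx hy => exact ⟨mul_mem hx.1 hy.1, by rw [sgf_mul σ _ _ hx.1 hy.1]; exact mul_mem hx.2 hy.2⟩
    | inv x _ hx => exact ⟨inv_mem hx.1, by rw [sgf_inv σ _ hx.1]; exact inv_mem hx.2⟩
  exact key.2

theorem f4_rho_pos (r : ℕ) : chevF4.IsPosRoot r → chevF4.IsPosRoot (rhoF4.getD r 0) := by
  intro h
  have hr : r < 48 := h.1
  revert h
  revert r
  decide

theorem f4_rho_negRoot (r : ℕ) : chevF4.IsNegRoot r → chevF4.IsNegRoot (rhoF4.getD r 0) := by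
  intro h
  have hr : r < 48 := h.1
  revert h
  revert r
  decide

include hσ in
theorem sgf_pos (g : GL chevF4.Idx K) (hg : g ∈ chevF4.posUnipotent K) : sgf σ g ∈ chevF4.posUnipotent K := by
  refine sgf_closure (σ := σ) _ _ ?_ ?_ g hg
  · rintro g ⟨r, t, -, e⟩
    have : g = xGL chevF4 hF4 K r t := Units.ext (by rw [e, xGL_coe])
    rw [this]; exact xGL_mem_group chevF4 hF4 K r t
  · rintro g ⟨r, t, hr, e⟩
    have : g = xGL chevF4 hF4 K r t := Units.ext (by rw [e, xGL_coe])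
    rw [this, sgf_xGL hσ r hr.1]
    exact Subgroup.subset_closure ⟨_, _, f4_rho_pos r hr, xGL_coe chevF4 hF4 K _ _⟩

include hσ in
theorem sgf_neg (g : GL chevF4.Idx K) (hg : g ∈ chevF4.negUnipotent K) : sgf σ g ∈ chevF4.negUnipotent K := by
  refine sgf_closure (σ := σ) _ _ ?_ ?_ g hg
  · rintro g ⟨r, t, -, e⟩
    have : g = xGL chevF4 hF4 K r t := Units.ext (by rw [e, xGL_coe])
    rw [this]; exact xGL_mem_group chevF4 hF4 K r t
  · rintro g ⟨r, t, hr, e⟩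
    have : g = xGL chevF4 hF4 K r t := Units.ext (by rw [e, xGL_coe])
    rw [this, sgf_xGL hσ r hr.1]
    exact Subgroup.subset_closure ⟨_, _, f4_rho_negRoot r hr, xGL_coe chevF4 hF4 K _ _⟩

include hσ in
theorem sgf_diag [CharP K 2] (g : GL chevF4.Idx K) (hg : g ∈ chevF4.diagonalSubgroup K) :
    sgf σ g ∈ chevF4.diagonalSubgroup K := by
  refine sgf_closure (σ := σ) _ _ ?_ ?_ g hg
  · rintro g ⟨r, t, hr, ht, e⟩
    have : g = hGL chevF4 hF4 K r t := Units.ext (by rw [e, hGL_coe])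
    rw [this]
    exact diagonal_le_group chevF4 hF4 K (hGL_mem_diag chevF4 hF4 K r hr t ht)
  · rintro g ⟨r, t, hr, ht, e⟩
    have : g = hGL chevF4 hF4 K r t := Units.ext (by rw [e, hGL_coe])
    rw [this, sgf_hGL hσ r hr]
    exact hGL_mem_diag chevF4 hF4 K _ (f4_rho_neg r hr).2.2.2 _ (pow_ne_zero _ ht)

include hσ in
theorem sgf_borel [CharP K 2] (g : GL chevF4.Idx K) (hg : g ∈ chevF4.borelSubgroup K) :
    sgf σ g ∈ chevF4.borelSubgroup K := by
  obtain ⟨u, hu, h, hh, rfl⟩ := (mem_borel_iff chevF4 hF4 K g).1 hg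
  rw [sgf_mul σ _ _ (posUnipotent_le_group chevF4 hF4 K hu) (diagonal_le_group chevF4 hF4 K hh)]
  exact mul_mem (pos_le_borel chevF4 K (sgf_pos hσ u hu)) (diagonal_le_borel chevF4 K (sgf_diag hσ h hh))

/-- the fixed points of the twisting endomorphism -/
def f4Fix (σ : ↥(chevF4.group K) →* ↥(chevF4.group K)) : Subgroup (GL chevF4.Idx K) where
  carrier := {g | g ∈ chevF4.group K ∧ sgf σ g = g}
  mul_mem' := by
    rintro a b ⟨ha, ea⟩ ⟨hb, eb⟩
    exact ⟨mul_mem ha hb, by rw [sgf_mul σ _ _ ha hb, ea, eb]⟩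
  one_mem' := ⟨one_mem _, sgf_one σ⟩
  inv_mem' := by
    rintro a ⟨ha, ea⟩
    exact ⟨inv_mem ha, by rw [sgf_inv σ _ ha, ea]⟩

theorem mem_f4Fix (g : GL chevF4.Idx K) : g ∈ f4Fix σ ↔ g ∈ chevF4.group K ∧ sgf σ g = g := Iff.rfl


end sgf

end Cfsg.Agent.Lib.Helper36
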