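import Cfsg.Agent.Lib.Helper36.F4Perf2
import Cfsg.Agent.Lib.Helper36.ChevSolv
import Cfsg.Agent.S0319

/-! # The groups `²F₄`: simplicity (helper36) -/

set_option autoImplicit false

namespace Cfsg.Agent.Lib.Helper36

open Cfsg Cfsg.Lie Cfsg.Agent.Lib.Helper18

set_option maxRecDepth 100000 in
theorem f4_fund_adj : ∀ J ∈ f4Fund, ∀ J' ∈ f4Fund, J ≠ J' →
    ∃ r < 48, wRoot chevF4 (J ++ J' ++ J ++ J') r ≠ r := by decide

section
variable {K : Type*} [Field K] [Fintype K] {m : ℕ}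

omit [Fintype K] in
theorem f4_comm_not_mem_borel (J J' : List ℕ) (hJ : J ∈ f4Fund) (hJ' : J' ∈ f4Fund) (hne : J ≠ J') :
    nWordGL chevF4 hF4 K J * nWordGL chevF4 hF4 K J' * (nWordGL chevF4 hF4 K J)⁻¹ *
      (nWordGL chevF4 hF4 K J')⁻¹ ∉ chevF4.borelSubgroup K := by
  intro h
  have hJr := f4_fund_lt J hJ
  have hJ'r := f4_fund_lt J' hJ'
  have hN := nWordGL_mem chevF4 hF4 K J hJr
  have hN' := nWordGL_mem chevF4 hF4 K J' hJ'r
  have hsq := f4_nJ_sq (K := K) J hJ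
  have hsq' := f4_nJ_sq (K := K) J' hJ'
  set s := nWordGL chevF4 hF4 K J with hs
  set s' := nWordGL chevF4 hF4 K J' with hs'
  have hH : s * s' * s⁻¹ * s'⁻¹ ∈ chevF4.diagonalSubgroup K := by
    rw [← borel_inf_monomial chevF4 hF4 K]
    exact Subgroup.mem_inf.2 ⟨h, mul_mem (mul_mem (mul_mem hN hN') (inv_mem hN)) (inv_mem hN')⟩
  have hl : ∀ k ∈ J ++ J' ++ J ++ J', k < chevF4.rank := by
    intro k hk
    simp only [List.mem_append] at hk
    rcases hk with ((hk | hk) | hk) | hk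
    · exact hJr k hk
    · exact hJ'r k hk
    · exact hJr k hk
    · exact hJ'r k hk
  have hw : nWordGL chevF4 hF4 K (J ++ J' ++ J ++ J') ∈ chevF4.diagonalSubgroup K := by
    have e : nWordGL chevF4 hF4 K (J ++ J' ++ J ++ J') =
        (s * s' * s⁻¹ * s'⁻¹) * (s'⁻¹⁻¹ * (s * s) * s'⁻¹) * (s' * s') := by
      rw [nWordGL_append, nWordGL_append, nWordGL_append, ← hs, ← hs']
      group
    rw [e]
    exact mul_mem (mul_mem hH (conj_mem_diag chevF4 hF4 K _ _ (inv_mem hN') hsq)) hsq'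
  obtain ⟨r, hr, hne'⟩ := f4_fund_adj J hJ J' hJ' hne
  have h1 : (nWordGL chevF4 hF4 K ([] : List ℕ))⁻¹ * nWordGL chevF4 hF4 K (J ++ J' ++ J ++ J') ∈
      chevF4.diagonalSubgroup K := by
    simpa [nWordGL] using hw
  exact hne' (wRoot_eq_of_mem_diag chevF4 hF4 K [] _ (by simp) hl h1 r hr).symm

omit [Fintype K] in
theorem f4B_solvable :
    Group.IsSolvable ↥((chevF4.borelSubgroup K ⊓ twistedF4 K (2 ^ m)).subgroupOf (twistedF4 K (2 ^ m))) := by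
  have := borel_isSolvable chevF4 hF4 K
  let f : ↥((chevF4.borelSubgroup K ⊓ twistedF4 K (2 ^ m)).subgroupOf (twistedF4 K (2 ^ m))) →*
      ↥(chevF4.borelSubgroup K) :=
    { toFun := fun x => ⟨(x : ↥(twistedF4 K (2 ^ m))), (Subgroup.mem_subgroupOf.1 x.2).1⟩
      map_one' := rfl
      map_mul' := fun _ _ => rfl }
  apply Group.isSolvable_of_isSolvable_injective (f := f)
  intro a b h
  have h1 := congrArg (fun z : ↥(chevF4.borelSubgroup K) => (z : GL chevF4.Idx K)) h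
  exact Subtype.ext (Subtype.ext h1)

/-- `²F₄(q)` is simple for `q ≥ 8` -/
theorem f4_simple (hK : Fintype.card K = 2 ^ (2 * m + 1)) (hm : 1 ≤ m) :
    IsSimpleGroup ↥(twistedF4 K (2 ^ m)) ∧ ¬ IsMulCommutative ↥(twistedF4 K (2 ^ m)) := by
  have hcp := f4_charP hK
  have hθ : (2 : ℕ) ^ m ≠ 0 := pow_ne_zero _ (by norm_num)
  obtain ⟨P, hB, hN, hS⟩ := f4_bnPair hK
  have hJ1 : [0, 3] ∈ f4Fund := by decide
  have hJ2 : [1, 2, 1, 2] ∈ f4Fund := by decide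
  have hJT : ∀ J ∈ f4Fund, nWordGL chevF4 hF4 K J ∈ twistedF4 K (2 ^ m) := fun J hJ => f4_fund_mem hθ J hJ
  let n1 : ↥(twistedF4 K (2 ^ m)) := ⟨nWordGL chevF4 hF4 K [0, 3], hJT _ hJ1⟩
  let n2 : ↥(twistedF4 K (2 ^ m)) := ⟨nWordGL chevF4 hF4 K [1, 2, 1, 2], hJT _ hJ2⟩
  have hnc : n1 * n2 ≠ n2 * n1 := by
    intro h
    have h1 : n1 * n2 * n1⁻¹ * n2⁻¹ = 1 := by rw [h]; group
    have h2 := congrArg Subtype.val h1
    have h3 := f4_comm_not_mem_borel (K := K) [0, 3] [1, 2, 1, 2] hJ1 hJ2 (by decide)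
    apply h3
    have : nWordGL chevF4 hF4 K [0, 3] * nWordGL chevF4 hF4 K [1, 2, 1, 2] * (nWordGL chevF4 hF4 K [0, 3])⁻¹ *
        (nWordGL chevF4 hF4 K [1, 2, 1, 2])⁻¹ = 1 := h2
    rw [this]
    exact one_mem _
  have : Nontrivial ↥(twistedF4 K (2 ^ m)) := by
    refine ⟨⟨n1 * n2, n2 * n1, hnc⟩⟩
  refine ⟨Cfsg.Agent.S0319.result P ?_ ?_ (f4_perfect_group hK hm) ?_, ?_⟩
  · -- irreducible
    intro Jset hJset hJne hJc
    obtain ⟨s0, hs0⟩ := hJne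
    obtain ⟨s1, hs1, hs1'⟩ := hJc
    have hs0S := hJset hs0
    rw [hS] at hs0S hs1
    obtain ⟨Ja, hJa, ea⟩ := hs0S
    obtain ⟨Jb, hJb, eb⟩ := hs1
    have hne : Ja ≠ Jb := by
      intro h
      apply hs1'
      have : s1 = s0 := Subtype.ext (by rw [ea, eb, h])
      rw [this]; exact hs0
    refine ⟨s0, hs0, s1, ⟨?_, hs1'⟩, ?_⟩
    · rw [hS]; exact ⟨Jb, hJb, eb⟩
    · rw [hB, Subgroup.mem_subgroupOf]
      intro hmem
      have := f4_comm_not_mem_borel (K := K) Ja Jb hJa hJb hne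
      apply this
      have e : ((s0 * s1 * s0⁻¹ * s1⁻¹ : ↥(twistedF4 K (2 ^ m))) : GL chevF4.Idx K) =
          nWordGL chevF4 hF4 K Ja * nWordGL chevF4 hF4 K Jb * (nWordGL chevF4 hF4 K Ja)⁻¹ *
            (nWordGL chevF4 hF4 K Jb)⁻¹ := by
        simp only [Subgroup.coe_mul, Subgroup.coe_inv, ea, eb]
      rw [← e]
      exact hmem.1
  · rw [hB]; exact f4B_solvable
  · rw [hB]; exact f4_normalCore hK
  · intro h
    exact hnc (h.is_comm.comm _ _)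

end

end Cfsg.Agent.Lib.Helper36
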