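import Cfsg.Agent.Lib.Helper36.F4Descent
import Cfsg.Agent.Lib.Helper36.ChevTwCount

/-! # The groups `²F₄`: the fixed points on `U_w⁻`, one folded reflection at a time (helper36) -/

set_option autoImplicit false

namespace Cfsg.Agent.Lib.Helper36

open Cfsg Cfsg.Lie Cfsg.Agent.Lib.Helper18

section lin
variable (D : ChevalleyDatum) (hD : D ∈ [chevG2, chevB2, chevD4, chevF4, chevE6, chevE7, chevE8])

include hD in
/-- a Weyl word keeping some fundamental roots positive keeps positive the positive roots in their span -/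
theorem pos_of_lin (l : List ℕ) (hl : ∀ i ∈ l, i < D.rank) (r : ℕ) (hr : D.IsPosRoot r)
    (h : ∀ k < D.rank, cor D r k ≠ 0 → D.IsPosRoot (wRoot D l (D.simple k))) : D.IsPosRoot (wRoot D l r) := by
  have hf := wfFast_all D hD
  have hlt := wRoot_lt D hD l hl r hr.1
  rw [isPosRoot_iff D hf _ hlt]
  intro j hj
  rw [cor_wRoot_lin D hD l hl r hr.1 j hj]
  apply Finset.sum_nonneg
  intro k _
  by_cases h0 : cor D r k = 0
  · rw [h0, zero_mul]
  · have hk := (chkN2_spec D (chkN2_all D hD) k k.isLt).1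
    have h1 := (isPosRoot_iff D hf r hr.1).1 hr k k.isLt
    have h2 := (isPosRoot_iff D hf _ (wRoot_lt D hD l hl _ hk)).1 (h k k.isLt h0) j hj
    exact mul_nonneg h1 h2

include hD in
theorem isNegRoot_of_neg_pos (r : ℕ) (hr : r < D.nroots) (h : D.IsPosRoot (D.neg r)) : D.IsNegRoot r := by
  rcases pos_or_neg D hD r hr with h1 | h1
  · exact absurd (isNegRoot_neg_of_pos D hD r h1) (fun h2 => not_pos_and_neg D hD _ h h2)
  · exact h1

end lin

section blk

theorem f4_blk_supp : ∀ J ∈ f4Fund, ∀ s < 48, chevF4.IsPosRoot s → chevF4.IsNegRoot (wRoot chevF4 J s) →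
    ∀ i < chevF4.rank, cor chevF4 s i ≠ 0 → i ∈ J := by decide

theorem f4_fund_neg : ∀ J ∈ f4Fund, ∀ j ∈ J, chevF4.IsNegRoot (wRoot chevF4 J (chevF4.simple j)) := by decide

variable (l₁ : List ℕ) (hl₁ : ∀ i ∈ l₁, i < chevF4.rank) (J : List ℕ) (hJ : J ∈ f4Fund)
  (hpos : ∀ j ∈ J, chevF4.IsPosRoot (wRoot chevF4 l₁ (chevF4.simple j)))

include hl₁ hJ hpos in
/-- the roots of the block of `J` are kept positive -/
theorem f4_blk_pos (s : ℕ) (hs : chevF4.IsPosRoot s) (hws : chevF4.IsNegRoot (wRoot chevF4 J s)) :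
    chevF4.IsPosRoot (wRoot chevF4 l₁ s) :=
  pos_of_lin chevF4 hF4 l₁ hl₁ s hs (fun k hk h0 => hpos k (f4_blk_supp J hJ s hs.1 hs hws k hk h0))

include hl₁ hJ hpos in
/-- the roots of the block of `J` are made negative by `w w_J` -/
theorem f4_blk_neg (s : ℕ) (hs : chevF4.IsPosRoot s) (hws : chevF4.IsNegRoot (wRoot chevF4 J s)) :
    chevF4.IsNegRoot (wRoot chevF4 (l₁ ++ J) s) := by
  have hJr := f4_fund_lt J hJ
  rw [wRoot_append]
  have hlt := wRoot_lt chevF4 hF4 J hJr s hs.1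
  set s' := chevF4.neg (wRoot chevF4 J s) with hs'
  have hs'p : chevF4.IsPosRoot s' := isPosRoot_neg chevF4 hF4 _ hws
  have hws' : chevF4.IsNegRoot (wRoot chevF4 J s') := by
    rw [hs', wRoot_neg chevF4 hF4 J hJr _ hlt, (f4_fund_comm J hJ s hs.1).2]
    exact isNegRoot_neg_of_pos chevF4 hF4 s hs
  have h1 := f4_blk_pos l₁ hl₁ J hJ hpos s' hs'p hws'
  rw [hs', wRoot_neg chevF4 hF4 l₁ hl₁ _ hlt] at h1
  exact isNegRoot_of_neg_pos chevF4 hF4 _ (wRoot_lt chevF4 hF4 l₁ hl₁ _ hlt) h1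

include hl₁ hJ hpos in
/-- `N(w w_J) = N(w) + |J|` when `w` keeps the roots of `J` positive -/
theorem f4_Nw_append : Nw chevF4 (l₁ ++ J) = Nw chevF4 l₁ + J.length := by
  have hJr := f4_fund_lt J hJ
  have hlJ : ∀ i ∈ l₁ ++ J, i < chevF4.rank := by
    intro i hi
    rcases List.mem_append.1 hi with h | h
    · exact hl₁ i h
    · exact hJr i h
  have hneg : ∀ j ∈ J, chevF4.IsNegRoot (wRoot chevF4 (l₁ ++ J) (chevF4.simple j)) := fun j hj =>
    f4_blk_neg l₁ hl₁ J hJ hpos _ (isPosRoot_simple chevF4 hF4 j (hJr j hj)) (f4_fund_neg J hJ j hj)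
  have h1 := Nw_block chevF4 hF4 (l₁ ++ J) hlJ J hJr (f4_fund_take J hJ) hneg
  have h2 : Nw chevF4 (l₁ ++ J ++ J) = Nw chevF4 l₁ := by
    unfold Nw
    congr 1
    ext r
    simp only [Set.mem_ofPred_eq]
    rw [wRoot_append, wRoot_append, (f4_fund_comm J hJ r r.isLt).2]
  omega

end blk

section step
variable {K : Type*} [Field K] (l₁ : List ℕ) (hl₁ : ∀ i ∈ l₁, i < chevF4.rank) (J : List ℕ) (hJ : J ∈ f4Fund)
  (hpos : ∀ j ∈ J, chevF4.IsPosRoot (wRoot chevF4 l₁ (chevF4.simple j)))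

include hJ in
theorem f4_nJ_sq : nWordGL chevF4 hF4 K J * nWordGL chevF4 hF4 K J ∈ chevF4.diagonalSubgroup K := by
  have hJr := f4_fund_lt J hJ
  rw [← nWordGL_append]
  have hJJ : ∀ i ∈ J ++ J, i < chevF4.rank := by
    intro i hi
    rcases List.mem_append.1 hi with h | h <;> exact hJr i h
  apply nWord_mem_diag_of_pos chevF4 hF4 K _ hJJ
  intro s hs
  rw [wRoot_append, (f4_fund_comm J hJ s hs.1).2]
  exact hs

include hl₁ hJ hpos in
/-- conjugation by `n_J` maps `U_{w}⁻` into `U_{w w_J}⁻` when `w` keeps the roots of `J` positive -/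
theorem f4_conj_sGens (u : GL chevF4.Idx K) (hu : u ∈ Subgroup.closure (sGens chevF4 K l₁)) :
    nWordGL chevF4 hF4 K J * u * (nWordGL chevF4 hF4 K J)⁻¹ ∈ Subgroup.closure (sGens chevF4 K (l₁ ++ J)) := by
  have hJr := f4_fund_lt J hJ
  induction hu using Subgroup.closure_induction with
  | mem x hx =>
    obtain ⟨s, t, hs, hws, hx⟩ := hx
    have ex : x = xGL chevF4 hF4 K s t := Units.ext hx
    obtain ⟨ε, -, hc⟩ := nWordGL_conj chevF4 hF4 K J hJr s hs.1
    rw [ex, hc]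
    have hlt := wRoot_lt chevF4 hF4 J hJr s hs.1
    refine Subgroup.subset_closure ⟨_, _, ?_, ?_, rfl⟩
    · rcases pos_or_neg chevF4 hF4 _ hlt with h | h
      · exact h
      · exfalso
        exact not_pos_and_neg chevF4 hF4 _ (f4_blk_pos l₁ hl₁ J hJ hpos s hs h) hws
    · rw [wRoot_append, (f4_fund_comm J hJ s hs.1).2]
      exact hws
  | one => simp
  | mul x y _ _ ihx ihy =>
    have : nWordGL chevF4 hF4 K J * (x * y) * (nWordGL chevF4 hF4 K J)⁻¹ =
        (nWordGL chevF4 hF4 K J * x * (nWordGL chevF4 hF4 K J)⁻¹) *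
          (nWordGL chevF4 hF4 K J * y * (nWordGL chevF4 hF4 K J)⁻¹) := by group
    rw [this]; exact mul_mem ihx ihy
  | inv x _ ihx =>
    have : nWordGL chevF4 hF4 K J * x⁻¹ * (nWordGL chevF4 hF4 K J)⁻¹ =
        (nWordGL chevF4 hF4 K J * x * (nWordGL chevF4 hF4 K J)⁻¹)⁻¹ := by group
    rw [this]; exact inv_mem ihx

include hl₁ hJ hpos in
theorem f4_XJ_le : Subgroup.closure (sGens chevF4 K J) ≤ Subgroup.closure (sGens chevF4 K (l₁ ++ J)) := by
  rw [Subgroup.closure_le]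
  rintro x ⟨s, a, hs, hws, hx⟩
  exact Subgroup.subset_closure ⟨s, a, hs, f4_blk_neg l₁ hl₁ J hJ hpos s hs hws, hx⟩

include hJ in
/-- conjugation by `n_J` maps `X_J` into `V` -/
theorem f4_conj_XJ_neg (g : GL chevF4.Idx K) (hg : g ∈ Subgroup.closure (sGens chevF4 K J)) :
    nWordGL chevF4 hF4 K J * g * (nWordGL chevF4 hF4 K J)⁻¹ ∈ chevF4.negUnipotent K := by
  have hJr := f4_fund_lt J hJ
  induction hg using Subgroup.closure_induction with
  | mem x hx =>
    obtain ⟨s, a, hs, hws, hx⟩ := hx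
    have ex : x = xGL chevF4 hF4 K s a := Units.ext hx
    obtain ⟨ε, -, hc⟩ := nWordGL_conj chevF4 hF4 K J hJr s hs.1
    rw [ex, hc]
    exact Subgroup.subset_closure ⟨_, _, hws, xGL_coe chevF4 hF4 K _ _⟩
  | one => simp
  | mul x y _ _ ihx ihy =>
    have : nWordGL chevF4 hF4 K J * (x * y) * (nWordGL chevF4 hF4 K J)⁻¹ =
        (nWordGL chevF4 hF4 K J * x * (nWordGL chevF4 hF4 K J)⁻¹) *
          (nWordGL chevF4 hF4 K J * y * (nWordGL chevF4 hF4 K J)⁻¹) := by group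
    rw [this]; exact mul_mem ihx ihy
  | inv x _ ihx =>
    have : nWordGL chevF4 hF4 K J * x⁻¹ * (nWordGL chevF4 hF4 K J)⁻¹ =
        (nWordGL chevF4 hF4 K J * x * (nWordGL chevF4 hF4 K J)⁻¹)⁻¹ := by group
    rw [this]; exact inv_mem ihx

include hJ in
/-- uniqueness of the factorisation `x · n_J u n_J⁻¹` -/
theorem f4_step_inj (x x' u u' : GL chevF4.Idx K) (hx : x ∈ Subgroup.closure (sGens chevF4 K J))
    (hx' : x' ∈ Subgroup.closure (sGens chevF4 K J)) (hu : u ∈ chevF4.posUnipotent K)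
    (hu' : u' ∈ chevF4.posUnipotent K)
    (e : x * (nWordGL chevF4 hF4 K J * u * (nWordGL chevF4 hF4 K J)⁻¹) =
      x' * (nWordGL chevF4 hF4 K J * u' * (nWordGL chevF4 hF4 K J)⁻¹)) :
    x = x' ∧ u = u' := by
  have hJsq := f4_nJ_sq (K := K) J hJ
  set n := nWordGL chevF4 hF4 K J with hn
  have hy : x'⁻¹ * x ∈ Subgroup.closure (sGens chevF4 K J) := mul_mem (inv_mem hx') hx
  have ey : x'⁻¹ * x = n * (u' * u⁻¹) * n⁻¹ := by
    have : x = x' * (n * u' * n⁻¹) * (n * u * n⁻¹)⁻¹ := by rw [← e]; group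
    rw [this]; group
  have hV := f4_conj_XJ_neg (K := K) J hJ _ hy
  rw [← hn] at hV
  have hU : n * (x'⁻¹ * x) * n⁻¹ ∈ chevF4.posUnipotent K := by
    rw [ey]
    have e2 : n * (n * (u' * u⁻¹) * n⁻¹) * n⁻¹ = (n * n) * (u' * u⁻¹) * (n * n)⁻¹ := by group
    rw [e2]
    exact (Subgroup.mem_normalizer_iff.1 (diagonal_le_normalizer_pos chevF4 hF4 K hJsq) _).1
      (mul_mem hu' (inv_mem hu))
  have h1 : n * (x'⁻¹ * x) * n⁻¹ = 1 := by
    have : n * (x'⁻¹ * x) * n⁻¹ ∈ chevF4.borelSubgroup K ⊓ chevF4.negUnipotent K :=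
      ⟨pos_le_borel chevF4 K hU, hV⟩
    rw [borel_inf_neg chevF4 hF4 K] at this
    exact Subgroup.mem_bot.1 this
  have h2 : x'⁻¹ * x = 1 := by
    have : x'⁻¹ * x = n⁻¹ * (n * (x'⁻¹ * x) * n⁻¹) * n := by group
    rw [this, h1]; group
  have hxx : x = x' := by
    have := inv_mul_eq_one.1 h2
    exact this.symm
  refine ⟨hxx, ?_⟩
  rw [hxx] at e
  have e3 := mul_left_cancel e
  have : u = n⁻¹ * (n * u * n⁻¹) * n := by group
  rw [this, e3]; group

include hl₁ hJ hpos in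
/-- every element of `U_{w w_J}⁻` factors as `x · n_J u n_J⁻¹` -/
theorem f4_step_surj [Fintype K] (g : GL chevF4.Idx K) (hg : g ∈ Subgroup.closure (sGens chevF4 K (l₁ ++ J))) :
    ∃ x ∈ Subgroup.closure (sGens chevF4 K J), ∃ u ∈ Subgroup.closure (sGens chevF4 K l₁),
      g = x * (nWordGL chevF4 hF4 K J * u * (nWordGL chevF4 hF4 K J)⁻¹) := by
  have hJr := f4_fund_lt J hJ
  have hlJ : ∀ i ∈ l₁ ++ J, i < chevF4.rank := by
    intro i hi
    rcases List.mem_append.1 hi with h | h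
    · exact hl₁ i h
    · exact hJr i h
  let Θ : ↥(Subgroup.closure (sGens chevF4 K J)) × ↥(Subgroup.closure (sGens chevF4 K l₁)) →
      ↥(Subgroup.closure (sGens chevF4 K (l₁ ++ J))) := fun p =>
    ⟨p.1.1 * (nWordGL chevF4 hF4 K J * p.2.1 * (nWordGL chevF4 hF4 K J)⁻¹),
      mul_mem (f4_XJ_le l₁ hl₁ J hJ hpos p.1.2) (f4_conj_sGens l₁ hl₁ J hJ hpos _ p.2.2)⟩
  have hinj : Function.Injective Θ := by
    rintro ⟨⟨x, hx⟩, ⟨u, hu⟩⟩ ⟨⟨x', hx'⟩, ⟨u', hu'⟩⟩ h
    have h1 := congrArg Subtype.val h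
    obtain ⟨e1, e2⟩ := f4_step_inj J hJ x x' u u' hx hx'
      (sGens_le_pos chevF4 K l₁ hu) (sGens_le_pos chevF4 K l₁ hu') h1
    subst e1 e2
    rfl
  have hNJ : Nw chevF4 J = J.length := by
    have := f4_Nw_append [] (by simp) J hJ (fun j hj => isPosRoot_simple chevF4 hF4 j (hJr j hj))
    have h0 : Nw chevF4 [] = 0 := by
      unfold Nw
      rw [Set.ncard_eq_zero]
      ext r
      simp only [Set.mem_ofPred_eq, Set.mem_empty_iff_false, iff_false, not_and]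
      intro hp hn
      exact not_pos_and_neg chevF4 hF4 _ hp hn
    rw [List.nil_append, h0, zero_add] at this
    exact this
  have hcard : Nat.card ↥(Subgroup.closure (sGens chevF4 K (l₁ ++ J))) ≤
      Nat.card (↥(Subgroup.closure (sGens chevF4 K J)) × ↥(Subgroup.closure (sGens chevF4 K l₁))) := by
    rw [Nat.card_prod, card_sGens chevF4 hF4 K _ hlJ, card_sGens chevF4 hF4 K _ hl₁,
      card_sGens chevF4 hF4 K _ hJr, ← Nw_eq_cellExp, ← Nw_eq_cellExp, ← Nw_eq_cellExp,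
      f4_Nw_append l₁ hl₁ J hJ hpos, hNJ, pow_add, mul_comm]
  obtain ⟨⟨⟨x, hx⟩, ⟨u, hu⟩⟩, e⟩ := (hinj.bijective_of_nat_card_le hcard).2 ⟨g, hg⟩
  exact ⟨x, hx, u, hu, (congrArg Subtype.val e).symm⟩

end step

end Cfsg.Agent.Lib.Helper36
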