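import Cfsg.Agent.Lib.Helper36.F4TitsA
import Cfsg.Agent.Lib.Helper36.F4Bits4

/-! # The group `²F₄(2)`: the involutions lie in the derived subgroup (helper36) -/

set_option autoImplicit false

namespace Cfsg.Agent.Lib.Helper36

open Cfsg Cfsg.Lie Cfsg.Agent.Lib.Helper18

local notation "𝔾" => twistedF4 (ZMod 2) (2 ^ 0)

theorem wordGL_eq_gW (w : List (ℕ × ZMod 2)) (w' : List ℕ) (hw : ∀ p ∈ w, p.1 ∈ f4Allowed)
    (hw' : ∀ r ∈ w', r ∈ f4Allowed) (h : prodBits (w.map f4TabP) = prodBits (w'.map f4Tab2)) :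
    wordGL chevF4 hF4 (ZMod 2) w = gW w' :=
  Units.ext (by rw [wordGL_coe, f4_wordMat_bitsP w hw, gW_coe w' hw', h])

theorem wordGL_eq_one' (w : List (ℕ × ZMod 2)) (hw : ∀ p ∈ w, p.1 ∈ f4Allowed)
    (h : prodBits (w.map f4TabP) = idBits) :
    wordGL chevF4 hF4 (ZMod 2) w = 1 :=
  Units.ext (by rw [wordGL_coe, f4_wordMat_bitsP w hw, h, ← bitMat_one]; rfl)

theorem nJ1_eq : nWordGL chevF4 hF4 (ZMod 2) [0, 3] = gW wN1 := by
  have e : nWordGL chevF4 hF4 (ZMod 2) [0, 3] =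
      wordGL chevF4 hF4 (ZMod 2) (chevF4.nWord (chevF4.simple 0) 1 ++ chevF4.nWord (chevF4.simple 3) 1) := by
    rw [f4_wordGL_append]
    simp [nWordGL, nGL]
  rw [e]
  exact wordGL_eq_gW _ _ (by decide) (by decide) (by decide +kernel)

theorem nJ2_eq : nWordGL chevF4 hF4 (ZMod 2) [1, 2, 1, 2] = gW wN2 := by
  have e : nWordGL chevF4 hF4 (ZMod 2) [1, 2, 1, 2] =
      wordGL chevF4 hF4 (ZMod 2) (chevF4.nWord (chevF4.simple 1) 1 ++ (chevF4.nWord (chevF4.simple 2) 1 ++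
        (chevF4.nWord (chevF4.simple 1) 1 ++ chevF4.nWord (chevF4.simple 2) 1))) := by
    rw [f4_wordGL_append, f4_wordGL_append, f4_wordGL_append]
    simp [nWordGL, nGL]
  rw [e]
  exact wordGL_eq_gW _ _ (by decide) (by decide) (by decide +kernel)

theorem gX_mem : gW wX ∈ 𝔾 := by
  have h := f4_pair_mem (K := ZMod 2) (2 ^ 0) 1
  have e : wordGL chevF4 hF4 (ZMod 2) (f4PairWord (2 ^ 0) f4p1 f4p4 1) = gW wX :=
    wordGL_eq_gW _ _ (by decide) (by decide) (by decide +kernel)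
  rw [← e]; exact h

theorem gA_mem : gW wA ∈ 𝔾 := by
  have h := f4_class_mem (K := ZMod 2) (2 ^ 0) 1 0
  have e : wordGL chevF4 hF4 (ZMod 2) (b2ClassWord (2 ^ 0) f4a f4b f4ab f4aab 1 0) = gW wA :=
    wordGL_eq_gW _ _ (by decide) (by decide) (by decide +kernel)
  rw [← e]; exact h

theorem gN1_mem : gW wN1 ∈ 𝔾 := by
  rw [← nJ1_eq]
  exact f4_fund_mem (K := ZMod 2) (by norm_num) [0, 3] (by decide)

theorem gN2_mem : gW wN2 ∈ 𝔾 := by
  rw [← nJ2_eq]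
  exact f4_fund_mem (K := ZMod 2) (by norm_num) [1, 2, 1, 2] (by decide)

section cases
variable {σ : ↥(chevF4.group (ZMod 2)) →* ↥(chevF4.group (ZMod 2))}

theorem xJ1_cases (hσ : IsF4Sig (ZMod 2) (2 ^ 0) σ) (x : GL chevF4.Idx (ZMod 2))
    (hx : x ∈ Subgroup.closure (sGens chevF4 (ZMod 2) [0, 3]) ⊓ f4Fix σ) : x = 1 ∨ x = gW wX := by
  obtain ⟨hx1, -, hxfix⟩ := Subgroup.mem_inf.1 hx
  obtain ⟨t, rfl⟩ := f4_XJ1_fixed card_zmod2 hσ x hx1 hxfix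
  rcases zmod2_cases t with rfl | rfl
  · left; exact wordGL_eq_one' _ (by decide) (by decide +kernel)
  · right; exact wordGL_eq_gW _ _ (by decide) (by decide) (by decide +kernel)

theorem xJ2_cases (hσ : IsF4Sig (ZMod 2) (2 ^ 0) σ) (x : GL chevF4.Idx (ZMod 2))
    (hx : x ∈ Subgroup.closure (sGens chevF4 (ZMod 2) [1, 2, 1, 2]) ⊓ f4Fix σ) :
    x = 1 ∨ x = gW wA ∨ x = gW wZ ∨ x = gW wA11 := by
  obtain ⟨hx1, -, hxfix⟩ := Subgroup.mem_inf.1 hx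
  obtain ⟨t, u, rfl⟩ := f4_XJ2_fixed card_zmod2 hσ x hx1 hxfix
  rcases zmod2_cases t with rfl | rfl <;> rcases zmod2_cases u with rfl | rfl
  · left; exact wordGL_eq_one' _ (by decide) (by decide +kernel)
  · right; right; left; exact wordGL_eq_gW _ _ (by decide) (by decide) (by decide +kernel)
  · right; left; exact wordGL_eq_gW _ _ (by decide) (by decide) (by decide +kernel)
  · right; right; right; exact wordGL_eq_gW _ _ (by decide) (by decide) (by decide +kernel)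

end cases

/-! ## the abelianisation -/

theorem comm_triv {A : Type*} [CommGroup A] (a b : A) : a * b * a⁻¹ * b⁻¹ = 1 := by
  rw [mul_comm a b, mul_inv_cancel_right, mul_inv_cancel]

theorem conj_triv {A : Type*} [CommGroup A] (a b : A) : a * b * a⁻¹ = b := by
  rw [mul_comm a b, mul_inv_cancel_right]

/-- the class of an element of `²F₄(2)` in the abelianisation -/
noncomputable def f4Ab (g : GL chevF4.Idx (ZMod 2)) (hg : g ∈ 𝔾) : Abelianization ↥𝔾 :=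
  Abelianization.of ⟨g, hg⟩

theorem f4Ab_mul (g h : GL chevF4.Idx (ZMod 2)) (hg : g ∈ 𝔾) (hh : h ∈ 𝔾) :
    f4Ab (g * h) (mul_mem hg hh) = f4Ab g hg * f4Ab h hh := by
  unfold f4Ab
  rw [← map_mul]; rfl

theorem f4Ab_inv (g : GL chevF4.Idx (ZMod 2)) (hg : g ∈ 𝔾) :
    f4Ab g⁻¹ (inv_mem hg) = (f4Ab g hg)⁻¹ := by
  unfold f4Ab
  rw [← map_inv]; rfl

theorem f4Ab_one : f4Ab 1 (one_mem _) = 1 := by
  unfold f4Ab
  exact map_one _

theorem f4Ab_congr (g h : GL chevF4.Idx (ZMod 2)) (e : g = h) (hg : g ∈ 𝔾) (hh : h ∈ 𝔾) :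
    f4Ab g hg = f4Ab h hh := by subst e; rfl

/-- `x_{J₁}` lies in the derived group -/
theorem f4Ab_X : f4Ab (gW wX) gX_mem = 1 := by
  have hN2 := gN2_mem
  have hN1 := gN1_mem
  have hA := gA_mem
  have hX := gX_mem
  have hg : gW wN2 * gW wN1 ∈ 𝔾 := mul_mem hN2 hN1
  have hH : (gW wN2 * gW wN1) * gW wA * (gW wN2 * gW wN1)⁻¹ ∈ 𝔾 := mul_mem (mul_mem hg hA) (inv_mem hg)
  have h1 : f4Ab (gW wN2 * gW wX * (gW wN2)⁻¹) (mul_mem (mul_mem hN2 hX) (inv_mem hN2)) =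
      f4Ab (gW wX) hX := by
    rw [f4Ab_mul _ _ (mul_mem hN2 hX) (inv_mem hN2), f4Ab_mul _ _ hN2 hX, f4Ab_inv _ hN2, conj_triv]
  have h2 : f4Ab (gW wA * ((gW wN2 * gW wN1) * gW wA * (gW wN2 * gW wN1)⁻¹) * (gW wA)⁻¹ *
      ((gW wN2 * gW wN1) * gW wA * (gW wN2 * gW wN1)⁻¹)⁻¹)
      (mul_mem (mul_mem (mul_mem hA hH) (inv_mem hA)) (inv_mem hH)) = 1 := by
    rw [f4Ab_mul _ _ (mul_mem (mul_mem hA hH) (inv_mem hA)) (inv_mem hH),
      f4Ab_mul _ _ (mul_mem hA hH) (inv_mem hA), f4Ab_mul _ _ hA hH, f4Ab_inv _ hA, f4Ab_inv _ hH, comm_triv]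
  rw [← h1, ← h2]
  exact f4Ab_congr _ _ gF1 _ _

theorem gZ_mem : gW wZ ∈ 𝔾 := by
  rw [← gA_sq]; exact mul_mem gA_mem gA_mem

theorem gA11_mem : gW wA11 ∈ 𝔾 := by
  rw [← gA_mul_gZ]; exact mul_mem gA_mem gZ_mem

/-- `α(0,1)` lies in the derived group -/
theorem f4Ab_Z : f4Ab (gW wZ) gZ_mem = 1 := by
  have hN2 := gN2_mem
  have hN1 := gN1_mem
  have hA := gA_mem
  have hX := gX_mem
  have hg : gW wN1 * gW wN2 ∈ 𝔾 := mul_mem hN1 hN2
  have hH : (gW wN1 * gW wN2) * gW wA * (gW wN1 * gW wN2)⁻¹ ∈ 𝔾 := mul_mem (mul_mem hg hA) (inv_mem hg)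
  have hC : gW wN2 * gW wX * (gW wN2)⁻¹ ∈ 𝔾 := mul_mem (mul_mem hN2 hX) (inv_mem hN2)
  have h2 : f4Ab (((gW wN1 * gW wN2) * gW wA * (gW wN1 * gW wN2)⁻¹) * (gW wN2 * gW wX * (gW wN2)⁻¹) *
      ((gW wN1 * gW wN2) * gW wA * (gW wN1 * gW wN2)⁻¹)⁻¹ * (gW wN2 * gW wX * (gW wN2)⁻¹)⁻¹)
      (mul_mem (mul_mem (mul_mem hH hC) (inv_mem hH)) (inv_mem hC)) = 1 := by
    rw [f4Ab_mul _ _ (mul_mem (mul_mem hH hC) (inv_mem hH)) (inv_mem hC),
      f4Ab_mul _ _ (mul_mem hH hC) (inv_mem hH), f4Ab_mul _ _ hH hC, f4Ab_inv _ hH, f4Ab_inv _ hC, comm_triv]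
  rw [← h2]
  exact f4Ab_congr _ _ gF2 _ _

theorem f4Ab_A_sq : f4Ab (gW wA) gA_mem * f4Ab (gW wA) gA_mem = 1 := by
  rw [← f4Ab_mul, ← f4Ab_Z]
  exact f4Ab_congr _ _ gA_sq _ _

theorem f4Ab_A11 : f4Ab (gW wA11) gA11_mem = f4Ab (gW wA) gA_mem := by
  have : f4Ab (gW wA11) gA11_mem = f4Ab (gW wA * gW wZ) (mul_mem gA_mem gZ_mem) :=
    f4Ab_congr _ _ gA_mul_gZ.symm _ _
  rw [this, f4Ab_mul _ _ gA_mem gZ_mem, f4Ab_Z, mul_one]

theorem ite_mul_ite {A : Type*} [Group A] (e : A) (he : e * e = 1) (b1 b2 : Bool) :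
    (if b1 = true then e else 1) * (if b2 = true then e else 1) = if (xor b1 b2) = true then e else 1 := by
  cases b1 <;> cases b2 <;> simp [he]

section facts
variable {σ : ↥(chevF4.group (ZMod 2)) →* ↥(chevF4.group (ZMod 2))}

theorem xJ_facts (hσ : IsF4Sig (ZMod 2) (2 ^ 0) σ) (J : List ℕ) (hJ : J ∈ f4Fund) (x : GL chevF4.Idx (ZMod 2))
    (hx : x ∈ Subgroup.closure (sGens chevF4 (ZMod 2) J) ⊓ f4Fix σ) :
    ∃ k < f4XNum J, (x : Matrix chevF4.Idx chevF4.Idx (ZMod 2)) = bitMat (f4XLit J k) ∧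
      (f4XLit J k).length = 52 ∧ ∃ hxG : x ∈ 𝔾,
        f4Ab x hxG = if f4XPar J k = true then f4Ab (gW wA) gA_mem else 1 := by
  obtain ⟨l1, l2, l3, l4, l5, l6, l7⟩ := len_lits
  simp only [f4Fund, List.mem_cons, List.not_mem_nil, or_false] at hJ
  rcases hJ with rfl | rfl
  · rcases xJ1_cases hσ x hx with rfl | rfl
    · refine ⟨0, by decide, ?_, l7, one_mem _, ?_⟩
      · rw [Units.val_one]; exact bitMat_one
      · rw [f4Ab_one]; rfl
    · refine ⟨1, by decide, ?_, l1, gX_mem, ?_⟩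
      · rw [gW_coe _ (by decide), bX]; rfl
      · rw [f4Ab_X]; rfl
  · rcases xJ2_cases hσ x hx with rfl | rfl | rfl | rfl
    · refine ⟨0, by decide, ?_, l7, one_mem _, ?_⟩
      · rw [Units.val_one]; exact bitMat_one
      · rw [f4Ab_one]; rfl
    · refine ⟨1, by decide, ?_, l2, gA_mem, ?_⟩
      · rw [gW_coe _ (by decide), bA]; rfl
      · rfl
    · refine ⟨2, by decide, ?_, l3, gZ_mem, ?_⟩
      · rw [gW_coe _ (by decide), bZ]; rfl
      · rw [f4Ab_Z]; rfl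
    · refine ⟨3, by decide, ?_, l4, gA11_mem, ?_⟩
      · rw [gW_coe _ (by decide), bA11]; rfl
      · rw [f4Ab_A11]; rfl

theorem nJ_facts (J : List ℕ) (hJ : J ∈ f4Fund) :
    ((nWordGL chevF4 hF4 (ZMod 2) J : GL chevF4.Idx (ZMod 2)) : Matrix chevF4.Idx chevF4.Idx (ZMod 2)) =
      bitMat (f4NLit J) ∧ (f4NLit J).length = 52 ∧
      (nWordGL chevF4 hF4 (ZMod 2) J)⁻¹ = nWordGL chevF4 hF4 (ZMod 2) J ∧
      nWordGL chevF4 hF4 (ZMod 2) J ∈ 𝔾 := by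
  obtain ⟨l1, l2, l3, l4, l5, l6, l7⟩ := len_lits
  simp only [f4Fund, List.mem_cons, List.not_mem_nil, or_false] at hJ
  rcases hJ with rfl | rfl
  · rw [nJ1_eq]
    refine ⟨?_, l5, gN1_inv, gN1_mem⟩
    rw [gW_coe _ (by decide), bN1]; rfl
  · rw [nJ2_eq]
    refine ⟨?_, l6, gN2_inv, gN2_mem⟩
    rw [gW_coe _ (by decide), bN2]; rfl

end facts

theorem act_step (X N : List ℕ) (hX : X.length = 52) (hN : N.length = 52) (x n u : GL chevF4.Idx (ZMod 2))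
    (hx : (x : Matrix chevF4.Idx chevF4.Idx (ZMod 2)) = bitMat X)
    (hn : (n : Matrix chevF4.Idx chevF4.Idx (ZMod 2)) = bitMat N) (hninv : n⁻¹ = n) (f : ℕ → ℕ)
    (hf : ∀ v, bitVec (f v) = Matrix.vecMul (bitVec v) (u : Matrix chevF4.Idx chevF4.Idx (ZMod 2))) (v : ℕ) :
    bitVec (vecMulF (f (vecMulF (vecMulF v X) N)) N) =
      Matrix.vecMul (bitVec v) ((x * (n * u * n⁻¹) : GL chevF4.Idx (ZMod 2)) : Matrix chevF4.Idx chevF4.Idx (ZMod 2)) := by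
  rw [vecMulF_spec _ _ hN, hf, vecMulF_spec _ _ hN, vecMulF_spec _ _ hX, hninv]
  simp only [Units.val_mul, hx, hn, Matrix.vecMul_vecMul, Matrix.mul_assoc]

/-! ## the decomposition of the elements of `U¹` -/

section dec
variable {σ : ↥(chevF4.group (ZMod 2)) →* ↥(chevF4.group (ZMod 2))}

/-- the nested decomposition of an element of `U¹` -/
def F4Dec (σ : ↥(chevF4.group (ZMod 2)) →* ↥(chevF4.group (ZMod 2))) :
    List (List ℕ) → GL chevF4.Idx (ZMod 2) → Prop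
  | [], g => g = 1
  | J :: rest, g => ∃ x ∈ Subgroup.closure (sGens chevF4 (ZMod 2) J) ⊓ f4Fix σ, ∃ u, F4Dec σ rest u ∧
      g = x * (nWordGL chevF4 hF4 (ZMod 2) J * u * (nWordGL chevF4 hF4 (ZMod 2) J)⁻¹)

theorem f4_dec (hσ : IsF4Sig (ZMod 2) (2 ^ 0) σ) (JsR : List (List ℕ)) (h : f4RedR JsR = true) :
    ∀ g ∈ Subgroup.closure (sGens chevF4 (ZMod 2) (f4WordR JsR)) ⊓ f4Fix σ, F4Dec σ JsR g := by
  have hcp := f4_charP card_zmod2
  have hθ : (2 : ℕ) ^ 0 ≠ 0 := by norm_num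
  have hle := f4_twisted_le_fix card_zmod2 hσ
  induction JsR with
  | nil =>
    intro g hg
    have e : f4WordR [] = [] := rfl
    rw [e, f4_sGens_nil, bot_inf_eq] at hg
    exact Subgroup.mem_bot.1 hg
  | cons J rest ih =>
    intro g hg
    obtain ⟨h1, h2, h3⟩ := f4RedR_cons J rest h
    have hl₁ := f4WordR_lt rest h3
    have hrc := f4WordR_rhoComm rest h3
    have hnJ : nWordGL chevF4 hF4 (ZMod 2) J ∈ f4Fix σ := hle (f4_fund_mem hθ J h1)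
    rw [f4WordR_cons] at hg
    obtain ⟨x, hx, u, hu, e⟩ := f4_fix_step hσ _ hl₁ hrc J h1 hnJ h2 g hg
    exact ⟨x, hx, u, ih h3 u hu, e⟩

theorem f4_dec_sound (hσ : IsF4Sig (ZMod 2) (2 ^ 0) σ) (JsR : List (List ℕ)) (hJs : ∀ J ∈ JsR, J ∈ f4Fund) :
    ∀ g, F4Dec σ JsR g → ∃ hg : g ∈ 𝔾, ∃ ps ∈ f4Params JsR,
      (∀ v, bitVec (f4Act JsR ps v) =
        Matrix.vecMul (bitVec v) (g : Matrix chevF4.Idx chevF4.Idx (ZMod 2))) ∧
      f4Ab g hg = if f4Par JsR ps = true then f4Ab (gW wA) gA_mem else 1 := by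
  induction JsR with
  | nil =>
    intro g hg
    have : g = 1 := hg
    subst this
    refine ⟨one_mem _, [], by simp [f4Params], fun v => ?_, ?_⟩
    · show bitVec v = _
      rw [Units.val_one, Matrix.vecMul_one]
    · rw [f4Ab_one]; rfl
  | cons J rest ih =>
    intro g hg
    obtain ⟨x, hx, u, hu, rfl⟩ := hg
    have hJ := hJs J List.mem_cons_self
    obtain ⟨huG, ps, hps, hact, hab⟩ := ih (fun J' hJ' => hJs J' (List.mem_cons_of_mem _ hJ')) u hu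
    obtain ⟨k, hk, hxv, hxl, hxG, hxab⟩ := xJ_facts hσ J hJ x hx
    obtain ⟨hnv, hnl, hninv, hnG⟩ := nJ_facts J hJ
    have hgG : x * (nWordGL chevF4 hF4 (ZMod 2) J * u * (nWordGL chevF4 hF4 (ZMod 2) J)⁻¹) ∈ 𝔾 :=
      mul_mem hxG (mul_mem (mul_mem hnG huG) (inv_mem hnG))
    refine ⟨hgG, k :: ps, (mem_f4Params_cons J rest _).2 ⟨k, hk, ps, hps, rfl⟩, fun v => ?_, ?_⟩
    · exact act_step _ _ hxl hnl x _ u hxv hnv hninv _ hact v
    · rw [f4Ab_mul _ _ hxG (mul_mem (mul_mem hnG huG) (inv_mem hnG)),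
        f4Ab_mul _ _ (mul_mem hnG huG) (inv_mem hnG), f4Ab_mul _ _ hnG huG, f4Ab_inv _ hnG, conj_triv, hxab, hab]
      exact ite_mul_ite _ f4Ab_A_sq _ _

end dec

/-- every `2`-element of `²F₄(q)` is conjugate to an element of `U¹` -/
theorem f4_two_elt_conj {K : Type*} [Field K] [Fintype K] {m : ℕ} (hK : Fintype.card K = 2 ^ (2 * m + 1))
    (x : ↥(twistedF4 K (2 ^ m))) (hx : ∃ j : ℕ, orderOf x = 2 ^ j) :
    ∃ g : ↥(twistedF4 K (2 ^ m)), g * x * g⁻¹ ∈ f4U K (2 ^ m) := by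
  classical
  have : Fact (Nat.Prime 2) := ⟨Nat.prime_two⟩
  have hP0 : IsPGroup 2 ↥(f4U K (2 ^ m)) := by
    apply IsPGroup.of_card (n := 12 * (2 * m + 1))
    rw [f4U_card hK, ← pow_mul, mul_comm]
  let P0 : Sylow 2 ↥(twistedF4 K (2 ^ m)) := hP0.toSylow (f4U_index hK)
  obtain ⟨j, hj⟩ := hx
  have hZ : IsPGroup 2 ↥(Subgroup.zpowers x) := by
    apply IsPGroup.of_card (n := j)
    rw [Nat.card_zpowers, hj]
  obtain ⟨Q, hQ⟩ := hZ.exists_le_sylow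
  obtain ⟨g, hg⟩ := MulAction.exists_smul_eq ↥(twistedF4 K (2 ^ m)) Q P0
  have hxQ : x ∈ Q := hQ (Subgroup.mem_zpowers x)
  have h1 : g * x * g⁻¹ ∈ (P0 : Subgroup ↥(twistedF4 K (2 ^ m))) := by
    rw [← hg, Sylow.coe_subgroup_smul]
    have := Subgroup.smul_mem_pointwise_smul x (MulAut.conj g) (Q : Subgroup ↥(twistedF4 K (2 ^ m))) hxQ
    simpa [MulAut.smul_def] using this
  exact ⟨g, h1⟩

theorem f4W0R_eq : f4W0R = f4W0R' := rfl

/-- in `²F₄(2)` every involution lies in the derived subgroup -/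
theorem f4_tits_invol (g : ↥𝔾) (hg : orderOf g = 2) : g ∈ commutator ↥𝔾 := by
  obtain ⟨σ, hσ⟩ := exists_f4Sig card_zmod2
  obtain ⟨c, hc⟩ := f4_two_elt_conj card_zmod2 g ⟨1, by rw [hg]; norm_num⟩
  have hu1 : ((c * g * c⁻¹ : ↥𝔾) : GL chevF4.Idx (ZMod 2)) ∈ chevF4.posUnipotent (ZMod 2) ⊓ 𝔾 :=
    Subgroup.mem_subgroupOf.1 hc
  rw [f4_pos_inf_eq card_zmod2 hσ, ← f4_sGens_w0] at hu1
  have hdec := f4_dec hσ f4W0R f4W0R_red _ hu1
  obtain ⟨huG, ps, hps, hact, hab⟩ := f4_dec_sound hσ f4W0R (by decide) _ hdec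
  have hgg : g * g = 1 := by
    have h := pow_orderOf_eq_one g
    rw [hg, pow_two] at h
    exact h
  have hsq : (c * g * c⁻¹) * (c * g * c⁻¹) = 1 := by
    calc (c * g * c⁻¹) * (c * g * c⁻¹) = c * (g * g) * c⁻¹ := by group
      _ = 1 := by rw [hgg]; group
  have hsq' : ((c * g * c⁻¹ : ↥𝔾) : GL chevF4.Idx (ZMod 2)) * ((c * g * c⁻¹ : ↥𝔾) : GL chevF4.Idx (ZMod 2)) = 1 := by
    have := congrArg Subtype.val hsq
    simpa using this
  have hpar : f4Par f4W0R ps = false := by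
    by_contra hne
    have hpt : f4Par f4W0R' ps = true := by
      rw [← f4W0R_eq]; simpa using hne
    rw [f4W0R_eq] at hps hact
    have hd := f4_odd_not_inv ps hps hpt
    apply diff52_sound _ _ hd
    rw [hact, hact, Matrix.vecMul_vecMul, ← Units.val_mul, hsq', Units.val_one, Matrix.vecMul_one]
  rw [hpar] at hab
  have h1 : Abelianization.of (c * g * c⁻¹) = 1 := hab
  have h2 : c * g * c⁻¹ ∈ commutator ↥𝔾 := by
    rw [← Abelianization.ker_of]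
    exact h1
  have h3 : g = c⁻¹ * (c * g * c⁻¹) * c⁻¹⁻¹ := by group
  rw [h3]
  exact Subgroup.Normal.conj_mem inferInstance _ h2 _

end Cfsg.Agent.Lib.Helper36
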