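import Cfsg.Agent.Lib.Helper36.F4N
import Cfsg.Agent.Lib.Helper36.ChevTwTorus

/-! # The groups `²F₄`: the fixed points of the torus (helper36) -/

set_option autoImplicit false

namespace Cfsg.Agent.Lib.Helper36

open Cfsg Cfsg.Lie Cfsg.Agent.Lib.Helper18

section
variable {K : Type*} [Field K]

/-- the four indices of the fundamental roots -/
def rJ0 : Fin chevF4.rank := ⟨0, by decide⟩
def rJ1 : Fin chevF4.rank := ⟨1, by decide⟩
def rJ2 : Fin chevF4.rank := ⟨2, by decide⟩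
def rJ3 : Fin chevF4.rank := ⟨3, by decide⟩

theorem rJ_cases (j : Fin chevF4.rank) : j = rJ0 ∨ j = rJ1 ∨ j = rJ2 ∨ j = rJ3 := by
  rcases j with ⟨j, hj⟩
  have : j < 4 := hj
  have : j = 0 ∨ j = 1 ∨ j = 2 ∨ j = 3 := by omega
  rcases this with rfl | rfl | rfl | rfl
  · left; rfl
  · right; left; rfl
  · right; right; left; rfl
  · right; right; right; rfl

theorem prod_rJ {M : Type*} [CommMonoid M] (f : Fin chevF4.rank → M) : ∏ j, f j = f rJ0 * f rJ1 * f rJ2 * f rJ3 := by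
  exact Fin.prod_univ_four (M := M) f

/-- the torus element with coordinates `(a, b, c, d)` -/
def tor4 (a b c d : Kˣ) : Fin chevF4.rank → Kˣ := fun j =>
  if j.val = 0 then a else if j.val = 1 then b else if j.val = 2 then c else d

theorem tor4_mul (a b c d a' b' c' d' : Kˣ) :
    tor4 a b c d * tor4 a' b' c' d' = tor4 (a * a') (b * b') (c * c') (d * d') := by
  funext j
  simp only [Pi.mul_apply, tor4]
  split_ifs <;> rfl

theorem tor4_inv (a b c d : Kˣ) : (tor4 a b c d)⁻¹ = tor4 a⁻¹ b⁻¹ c⁻¹ d⁻¹ := by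
  funext j
  simp only [Pi.inv_apply, tor4]
  split_ifs <;> rfl

theorem tor4_one : tor4 (1 : Kˣ) 1 1 1 = 1 := by
  funext j
  simp [tor4]

theorem tor4_eta (c : Fin chevF4.rank → Kˣ) : c = tor4 (c rJ0) (c rJ1) (c rJ2) (c rJ3) := by
  funext j
  rcases rJ_cases j with rfl | rfl | rfl | rfl <;> rfl

theorem torusHom_tor4 (a b c d : Kˣ) :
    torusHom chevF4 K (tor4 a b c d) = hGL chevF4 hF4 K 33 (a : K) * hGL chevF4 hF4 K 27 (b : K) *
      hGL chevF4 hF4 K 25 (c : K) * hGL chevF4 hF4 K 24 (d : K) := by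
  have h : tor4 a b c d = Pi.mulSingle rJ0 a * Pi.mulSingle rJ1 b * Pi.mulSingle rJ2 c * Pi.mulSingle rJ3 d := by
    funext j
    rcases rJ_cases j with rfl | rfl | rfl | rfl <;> simp [tor4, rJ0, rJ1, rJ2, rJ3]
  rw [h, map_mul, map_mul, map_mul, torusHom_mulSingle chevF4 hF4, torusHom_mulSingle chevF4 hF4,
    torusHom_mulSingle chevF4 hF4, torusHom_mulSingle chevF4 hF4]
  rfl

/-- the action of the torus on the root subgroups -/
theorem tor4_conj (a b c d : Kˣ) (r : ℕ) (hr : r < 48) (u : K) :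
    torusHom chevF4 K (tor4 a b c d) * xGL chevF4 hF4 K r u * (torusHom chevF4 K (tor4 a b c d))⁻¹ =
      xGL chevF4 hF4 K r (((a : K) ^ chevF4.cartan 0 r * (b : K) ^ chevF4.cartan 1 r * (c : K) ^ chevF4.cartan 2 r *
        (d : K) ^ chevF4.cartan 3 r) * u) := by
  rw [torusHom_conj_xGL chevF4 hF4 K _ r hr u, prod_rJ]
  rfl

theorem f4_x_inj (r : ℕ) (hr : r < 48) (s t : K) (e : xGL chevF4 hF4 K r s = xGL chevF4 hF4 K r t) : s = t := by
  have h2 : xGL chevF4 hF4 K r (s - t) = 1 := by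
    rw [sub_eq_add_neg, xGL_add, ← xGL_inv, e, mul_inv_cancel]
  have h3 := x_eq_one_iff chevF4 hF4 K r hr _ (by rw [← xGL_coe chevF4 hF4 K, h2, Units.val_one])
  exact sub_eq_zero.1 h3

theorem torusHom_tor4_inj (a b c d a' b' c' d' : Kˣ)
    (h : torusHom chevF4 K (tor4 a b c d) = torusHom chevF4 K (tor4 a' b' c' d')) :
    a = a' ∧ b = b' ∧ c = c' ∧ d = d' := by
  have h44 := tor4_conj a b c d 44 (by decide) 1
  have h47 := tor4_conj a b c d 47 (by decide) 1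
  have h46 := tor4_conj a b c d 46 (by decide) 1
  have h40 := tor4_conj a b c d 40 (by decide) 1
  rw [h, tor4_conj a' b' c' d' 44 (by decide) 1] at h44
  rw [h, tor4_conj a' b' c' d' 47 (by decide) 1] at h47
  rw [h, tor4_conj a' b' c' d' 46 (by decide) 1] at h46
  rw [h, tor4_conj a' b' c' d' 40 (by decide) 1] at h40
  have c44 : chevF4.cartan 0 44 = 1 ∧ chevF4.cartan 1 44 = 0 ∧ chevF4.cartan 2 44 = 0 ∧ chevF4.cartan 3 44 = 0 := by
    decide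
  have c47 : chevF4.cartan 0 47 = 0 ∧ chevF4.cartan 1 47 = 0 ∧ chevF4.cartan 2 47 = 0 ∧ chevF4.cartan 3 47 = 1 := by
    decide
  have c46 : chevF4.cartan 0 46 = 0 ∧ chevF4.cartan 1 46 = 0 ∧ chevF4.cartan 2 46 = 1 ∧ chevF4.cartan 3 46 = -1 := by
    decide
  have c40 : chevF4.cartan 0 40 = -1 ∧ chevF4.cartan 1 40 = 1 ∧ chevF4.cartan 2 40 = 0 ∧ chevF4.cartan 3 40 = 0 := by
    decide
  rw [c44.1, c44.2.1, c44.2.2.1, c44.2.2.2] at h44
  rw [c47.1, c47.2.1, c47.2.2.1, c47.2.2.2] at h47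
  rw [c46.1, c46.2.1, c46.2.2.1, c46.2.2.2] at h46
  rw [c40.1, c40.2.1, c40.2.2.1, c40.2.2.2] at h40
  simp only [zpow_one, zpow_zero, mul_one, one_mul, zpow_neg] at h44 h47 h46 h40
  have ea : a = a' := Units.ext (f4_x_inj 44 (by decide) _ _ h44.symm)
  have ed : d = d' := Units.ext (f4_x_inj 47 (by decide) _ _ h47.symm)
  have e46 := f4_x_inj 46 (by decide) _ _ h46.symm
  have e40 := f4_x_inj 40 (by decide) _ _ h40.symm
  subst ea ed
  have ec : c = c' := by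
    apply Units.ext
    have hd : ((d : K))⁻¹ ≠ 0 := inv_ne_zero d.ne_zero
    exact mul_right_cancel₀ hd e46
  have eb : b = b' := by
    apply Units.ext
    have ha : ((a : K))⁻¹ ≠ 0 := inv_ne_zero a.ne_zero
    exact mul_left_cancel₀ ha e40
  exact ⟨rfl, eb, ec, rfl⟩

theorem f4_hGL_one (r : ℕ) : hGL chevF4 hF4 K r 1 = 1 := by
  rw [hGL_eq, ← nGL_inv', mul_inv_cancel]

theorem exists_tor4 (h : GL chevF4.Idx K) (hh : h ∈ chevF4.diagonalSubgroup K) :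
    ∃ a b c d : Kˣ, h = torusHom chevF4 K (tor4 a b c d) := by
  rw [← torusHom_range chevF4 hF4 K] at hh
  obtain ⟨c, rfl⟩ := hh
  exact ⟨c rJ0, c rJ1, c rJ2, c rJ3, by rw [← tor4_eta]⟩

theorem tor4_mem_diag (a b c d : Kˣ) : torusHom chevF4 K (tor4 a b c d) ∈ chevF4.diagonalSubgroup K :=
  torusHom_mem_diag chevF4 hF4 K _

theorem f4_h33 (x : Kˣ) : hGL chevF4 hF4 K 33 (x : K) = torusHom chevF4 K (tor4 x 1 1 1) := by
  rw [torusHom_tor4, Units.val_one, f4_hGL_one, f4_hGL_one, f4_hGL_one, mul_one, mul_one, mul_one]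

theorem f4_h27 (x : Kˣ) : hGL chevF4 hF4 K 27 (x : K) = torusHom chevF4 K (tor4 1 x 1 1) := by
  rw [torusHom_tor4, Units.val_one, f4_hGL_one, f4_hGL_one, f4_hGL_one, mul_one, mul_one, one_mul]

theorem f4_h25 (x : Kˣ) : hGL chevF4 hF4 K 25 (x : K) = torusHom chevF4 K (tor4 1 1 x 1) := by
  rw [torusHom_tor4, Units.val_one, f4_hGL_one, f4_hGL_one, f4_hGL_one, mul_one, one_mul, one_mul]

theorem f4_h24 (x : Kˣ) : hGL chevF4 hF4 K 24 (x : K) = torusHom chevF4 K (tor4 1 1 1 x) := by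
  rw [torusHom_tor4, Units.val_one, f4_hGL_one, f4_hGL_one, f4_hGL_one, one_mul, one_mul, one_mul]

theorem sgf_tor4 [CharP K 2] {θ : ℕ} {σ : ↥(chevF4.group K) →* ↥(chevF4.group K)} (hσ : IsF4Sig K θ σ)
    (a b c d : Kˣ) :
    sgf σ (torusHom chevF4 K (tor4 a b c d)) =
      torusHom chevF4 K (tor4 (d ^ θ) (c ^ θ) (b ^ (θ * 2)) (a ^ (θ * 2))) := by
  have hm : ∀ (r : ℕ) (c : K), hGL chevF4 hF4 K r c ∈ chevF4.group K := fun r c =>
    wordGL_mem chevF4 hF4 K _ _ (fun q _ => xGL_mem_group chevF4 hF4 K _ _)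
  rw [torusHom_tor4, sgf_mul σ _ _ (mul_mem (mul_mem (hm _ _) (hm _ _)) (hm _ _)) (hm _ _),
    sgf_mul σ _ _ (mul_mem (hm _ _) (hm _ _)) (hm _ _), sgf_mul σ _ _ (hm _ _) (hm _ _),
    sgf_hGL hσ 33 (by decide), sgf_hGL hσ 27 (by decide), sgf_hGL hσ 25 (by decide), sgf_hGL hσ 24 (by decide)]
  have e1 : rhoF4.getD 33 0 = 24 := rfl
  have e2 : rhoF4.getD 27 0 = 25 := rfl
  have e3 : rhoF4.getD 25 0 = 27 := rfl
  have e4 : rhoF4.getD 24 0 = 33 := rfl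
  have l1 : lamF4.getD 33 0 = 2 := rfl
  have l2 : lamF4.getD 27 0 = 2 := rfl
  have l3 : lamF4.getD 25 0 = 1 := rfl
  have l4 : lamF4.getD 24 0 = 1 := rfl
  rw [e1, e2, e3, e4, l1, l2, l3, l4, mul_one, ← Units.val_pow_eq_pow_val, ← Units.val_pow_eq_pow_val,
    ← Units.val_pow_eq_pow_val, ← Units.val_pow_eq_pow_val, f4_h24, f4_h25, f4_h27, f4_h33, ← map_mul, ← map_mul,
    ← map_mul, tor4_mul, tor4_mul, tor4_mul]
  simp only [one_mul, mul_one]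

theorem f4_hGL24_comm_nGL33 [CharP K 2] (s t : K) :
    hGL chevF4 hF4 K 24 s * nGL chevF4 hF4 K 33 t = nGL chevF4 hF4 K 33 t * hGL chevF4 hF4 K 24 s := by
  unfold hGL nGL
  apply f4_wordGL_comm
  intro p hp q hq a b
  have hp' : p.1 ∈ [24, 23] := by
    have n24 : chevF4.neg 24 = 23 := rfl
    simp only [ChevalleyDatum.hWord, ChevalleyDatum.nWord, List.cons_append, List.nil_append, List.mem_cons,
      List.not_mem_nil, or_false, n24] at hp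
    rcases hp with rfl | rfl | rfl | rfl | rfl | rfl <;> simp
  have hq' : q.1 ∈ [33, 14] := by
    have n33 : chevF4.neg 33 = 14 := rfl
    simp only [ChevalleyDatum.nWord, List.mem_cons, List.not_mem_nil, or_false, n33] at hq
    rcases hq with rfl | rfl | rfl <;> simp
  exact (f4_comm_orth (K := K) q.1 hq' p.1 hp' b a).symm

/-- the diagonal elements `n₁(s) n₁(1)⁻¹` of the twisted group -/
theorem f4NN_mul_inv [CharP K 2] (θ : ℕ) (s : K) :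
    f4NN θ s * (f4NN θ 1)⁻¹ = hGL chevF4 hF4 K 33 (s ^ θ) * hGL chevF4 hF4 K 24 s := by
  rw [f4NN_eq θ, f4NN_eq θ, one_pow, mul_inv_rev, nGL_inv', nGL_inv', hGL_eq chevF4 hF4 K 33]
  calc nGL chevF4 hF4 K 33 (s ^ θ) * nGL chevF4 hF4 K 24 s * (nGL chevF4 hF4 K 24 (-1) * nGL chevF4 hF4 K 33 (-1))
      = nGL chevF4 hF4 K 33 (s ^ θ) * (hGL chevF4 hF4 K 24 s * nGL chevF4 hF4 K 33 (-1)) := by
        rw [hGL_eq chevF4 hF4 K 24]; group
    _ = _ := by rw [f4_hGL24_comm_nGL33]; group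

end

section fin
variable {K : Type*} [Field K] [Fintype K] {m : ℕ} {σ : ↥(chevF4.group K) →* ↥(chevF4.group K)}

/-- the homomorphism `(x, y) ↦ h(x, y)` onto the fixed points of the torus -/
noncomputable def f4Hm (θ : ℕ) : Kˣ × Kˣ →* GL chevF4.Idx K where
  toFun p := torusHom chevF4 K (tor4 (p.1 ^ θ) (p.2 ^ θ) p.2 p.1)
  map_one' := by
    show torusHom chevF4 K (tor4 ((1 : Kˣ) ^ θ) ((1 : Kˣ) ^ θ) 1 1) = 1
    rw [one_pow, tor4_one, map_one]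
  map_mul' a b := by
    show torusHom chevF4 K (tor4 ((a.1 * b.1) ^ θ) ((a.2 * b.2) ^ θ) (a.2 * b.2) (a.1 * b.1)) = _
    rw [mul_pow, mul_pow, ← tor4_mul, map_mul]

omit [Fintype K] in
theorem f4Hm_apply (θ : ℕ) (p : Kˣ × Kˣ) :
    f4Hm θ p = torusHom chevF4 K (tor4 (p.1 ^ θ) (p.2 ^ θ) p.2 p.1) := rfl

omit [Fintype K] in
theorem f4Hm_injective (θ : ℕ) : Function.Injective (f4Hm (K := K) θ) := by
  rintro ⟨x, y⟩ ⟨x', y'⟩ h
  obtain ⟨-, -, h3, h4⟩ := torusHom_tor4_inj _ _ _ _ _ _ _ _ h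
  simp only at h3 h4
  rw [h3, h4]

omit [Fintype K] in
theorem f4Hm_mem_diag (θ : ℕ) (p : Kˣ × Kˣ) : f4Hm θ p ∈ chevF4.diagonalSubgroup K := tor4_mem_diag _ _ _ _

theorem f4_units_pow_card (hK : Fintype.card K = 2 ^ (2 * m + 1)) (t : Kˣ) : t ^ (2 ^ (2 * m + 1)) = t := by
  apply Units.ext
  rw [Units.val_pow_eq_pow_val]
  exact f4_pow_card hK _

theorem f4_units_theta (hK : Fintype.card K = 2 ^ (2 * m + 1)) (t : Kˣ) : (t ^ 2 ^ m) ^ (2 ^ m * 2) = t := by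
  apply Units.ext
  rw [Units.val_pow_eq_pow_val, Units.val_pow_eq_pow_val]
  exact f4_theta hK _

/-- the fixed points of the twisting endomorphism on `H` -/
theorem f4_fix_diag (hK : Fintype.card K = 2 ^ (2 * m + 1)) (hσ : IsF4Sig K (2 ^ m) σ)
    (h : GL chevF4.Idx K) (hh : h ∈ chevF4.diagonalSubgroup K) (hfix : sgf σ h = h) :
    ∃ p : Kˣ × Kˣ, h = f4Hm (2 ^ m) p := by
  have := f4_charP hK
  obtain ⟨a, b, c, d, rfl⟩ := exists_tor4 h hh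
  rw [sgf_tor4 hσ] at hfix
  obtain ⟨h1, h2, -, -⟩ := torusHom_tor4_inj _ _ _ _ _ _ _ _ hfix
  exact ⟨(d, c), by rw [f4Hm_apply, h1, h2]⟩

theorem f4Hm_fixed (hK : Fintype.card K = 2 ^ (2 * m + 1)) (hσ : IsF4Sig K (2 ^ m) σ) (p : Kˣ × Kˣ) :
    sgf σ (f4Hm (2 ^ m) p) = f4Hm (2 ^ m) p := by
  have := f4_charP hK
  rw [f4Hm_apply, sgf_tor4 hσ, f4_units_theta hK, f4_units_theta hK]

/-- the elements `h(x, 1)` lie in the twisted group -/
theorem f4Hm_left_mem (hK : Fintype.card K = 2 ^ (2 * m + 1)) (x : Kˣ) :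
    f4Hm (2 ^ m) (x, 1) ∈ twistedF4 K (2 ^ m) := by
  have := f4_charP hK
  have h1 : f4Hm (2 ^ m) (x, 1) = f4NN (2 ^ m) (x : K) * (f4NN (2 ^ m) (1 : K))⁻¹ := by
    rw [f4NN_mul_inv, ← Units.val_pow_eq_pow_val, f4_h33, f4_h24, ← map_mul, tor4_mul, f4Hm_apply]
    simp only [one_pow, one_mul, mul_one]
  rw [h1]
  exact mul_mem (f4NN_mem _ _) (inv_mem (f4NN_mem _ _))

omit [Fintype K] in
theorem f4_hGL37 (c : Kˣ) : hGL chevF4 hF4 K 37 (c : K) = torusHom chevF4 K (tor4 c (c ^ 2) (c ^ 2) 1) := by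
  rw [hGL_eq_torusHom chevF4 hF4 K 37 (by decide)]
  congr 1
  funext k
  have c0 : cor chevF4 37 0 = 1 := by decide
  have c1 : cor chevF4 37 1 = 2 := by decide
  have c2 : cor chevF4 37 2 = 2 := by decide
  have c3 : cor chevF4 37 3 = 0 := by decide
  rcases rJ_cases k with rfl | rfl | rfl | rfl
  · show c ^ cor chevF4 37 0 = c
    rw [c0, zpow_one]
  · show c ^ cor chevF4 37 1 = c ^ 2
    rw [c1]; rfl
  · show c ^ cor chevF4 37 2 = c ^ 2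
    rw [c2]; rfl
  · show c ^ cor chevF4 37 3 = 1
    rw [c3, zpow_zero]

omit [Fintype K] in
theorem f4_hGL32 (c : Kˣ) : hGL chevF4 hF4 K 32 (c : K) = torusHom chevF4 K (tor4 1 c (c ^ 2) c) := by
  rw [hGL_eq_torusHom chevF4 hF4 K 32 (by decide)]
  congr 1
  funext k
  have c0 : cor chevF4 32 0 = 0 := by decide
  have c1 : cor chevF4 32 1 = 1 := by decide
  have c2 : cor chevF4 32 2 = 2 := by decide
  have c3 : cor chevF4 32 3 = 1 := by decide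
  rcases rJ_cases k with rfl | rfl | rfl | rfl
  · show c ^ cor chevF4 32 0 = 1
    rw [c0, zpow_zero]
  · show c ^ cor chevF4 32 1 = c
    rw [c1, zpow_one]
  · show c ^ cor chevF4 32 2 = c ^ 2
    rw [c2]; rfl
  · show c ^ cor chevF4 32 3 = c
    rw [c3, zpow_one]

theorem f4_w2_lt : ∀ i ∈ [1, 2, 1, 2], i < chevF4.rank := by decide

/-- conjugating `h(s, 1)` by `n₂` -/
theorem f4Hm_conj_n2 (hK : Fintype.card K = 2 ^ (2 * m + 1)) (s : Kˣ) :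
    f4N2 K (2 ^ m) * f4Hm (2 ^ m) (s, 1) * (f4N2 K (2 ^ m))⁻¹ * (f4Hm (2 ^ m) (s, 1))⁻¹ =
      f4Hm (2 ^ m) (1, (s ^ 2 ^ m) ^ 2 * s ^ 2) := by
  have := f4_charP hK
  have hθ : 2 ^ m ≠ 0 := by positivity
  have e1 : f4Hm (2 ^ m) (s, 1) = hGL chevF4 hF4 K 33 ((s ^ 2 ^ m : Kˣ) : K) * hGL chevF4 hF4 K 24 (s : K) := by
    rw [f4_h33, f4_h24, ← map_mul, tor4_mul, f4Hm_apply]
    simp only [one_pow, one_mul, mul_one]
  have w33 : wRoot chevF4 [1, 2, 1, 2] 33 = 37 := by decide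
  have w24 : wRoot chevF4 [1, 2, 1, 2] 24 = 32 := by decide
  have e2 : f4N2 K (2 ^ m) * f4Hm (2 ^ m) (s, 1) * (f4N2 K (2 ^ m))⁻¹ =
      hGL chevF4 hF4 K 37 ((s ^ 2 ^ m : Kˣ) : K) * hGL chevF4 hF4 K 32 (s : K) := by
    rw [f4N2_eq _ hθ, e1]
    have c1 := nWordGL_conj_hGL chevF4 hF4 K [1, 2, 1, 2] f4_w2_lt 33 (by decide) ((s ^ 2 ^ m : Kˣ) : K)
      (Units.ne_zero _)
    have c2 := nWordGL_conj_hGL chevF4 hF4 K [1, 2, 1, 2] f4_w2_lt 24 (by decide) (s : K) (Units.ne_zero _)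
    rw [w33] at c1
    rw [w24] at c2
    rw [← c1, ← c2]
    group
  rw [e2, f4_hGL37, f4_hGL32, ← map_mul, tor4_mul, f4Hm_apply, f4Hm_apply, ← map_inv, ← map_mul, tor4_inv, tor4_mul]
  congr 2
  · simp
  · have hA : ((s ^ 2 ^ m) ^ 2) ^ 2 ^ m = s := by
      rw [← pow_mul, mul_comm]; exact f4_units_theta hK s
    have hB : (s ^ 2) ^ 2 ^ m = (s ^ 2 ^ m) ^ 2 := by rw [← pow_mul, ← pow_mul, mul_comm]
    show (s ^ 2 ^ m) ^ 2 * s * ((1 : Kˣ) ^ 2 ^ m)⁻¹ = ((s ^ 2 ^ m) ^ 2 * s ^ 2) ^ 2 ^ m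
    rw [one_pow, inv_one, mul_one, mul_pow, hA, hB, mul_comm]
  · simp
  · simp

theorem f4Hm_right_mem (hK : Fintype.card K = 2 ^ (2 * m + 1)) (y : Kˣ) :
    f4Hm (2 ^ m) (1, y) ∈ twistedF4 K (2 ^ m) := by
  obtain ⟨s, hs⟩ : ∃ s : Kˣ, s = y * (y ^ 2 ^ m)⁻¹ := ⟨_, rfl⟩
  have hy : (s ^ 2 ^ m) ^ 2 * s ^ 2 = y := by
    have h1 : (s ^ 2 ^ m) ^ 2 * s ^ 2 = (s ^ 2 ^ m * s) ^ 2 := by rw [mul_pow]
    have h2 : s ^ 2 ^ m * s = y * ((y ^ 2 ^ m) ^ 2 ^ m)⁻¹ := by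
      rw [hs, mul_pow, inv_pow]
      calc y ^ 2 ^ m * ((y ^ 2 ^ m) ^ 2 ^ m)⁻¹ * (y * (y ^ 2 ^ m)⁻¹)
          = y * ((y ^ 2 ^ m) ^ 2 ^ m)⁻¹ * (y ^ 2 ^ m * (y ^ 2 ^ m)⁻¹) := by
            simp only [mul_comm, mul_left_comm, mul_assoc]
        _ = y * ((y ^ 2 ^ m) ^ 2 ^ m)⁻¹ := by rw [mul_inv_cancel, mul_one]
    rw [h1, h2, mul_pow, inv_pow, ← pow_mul, f4_units_theta hK, pow_two, mul_assoc, mul_inv_cancel, mul_one]
  rw [← hy, ← f4Hm_conj_n2 hK s]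
  exact mul_mem (mul_mem (mul_mem (f4N2_mem _) (f4Hm_left_mem hK s)) (inv_mem (f4N2_mem _)))
    (inv_mem (f4Hm_left_mem hK s))

/-- the fixed points of the torus lie in the twisted group -/
theorem f4Hm_mem (hK : Fintype.card K = 2 ^ (2 * m + 1)) (p : Kˣ × Kˣ) : f4Hm (2 ^ m) p ∈ twistedF4 K (2 ^ m) := by
  obtain ⟨x, y⟩ := p
  have : ((x, y) : Kˣ × Kˣ) = (x, 1) * (1, y) := by simp
  rw [this, map_mul]
  exact mul_mem (f4Hm_left_mem hK x) (f4Hm_right_mem hK y)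

end fin

end Cfsg.Agent.Lib.Helper36
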