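import Cfsg.Agent.Lib.Helper36.F4Perf2

/-! # The groups `²F₄`: towards two generators (helper36)

Conjugation by `n_w` in characteristic 2, the torus part of the first generator, and the commutator of two
classes of type `B₂`. -/

set_option autoImplicit false

namespace Cfsg.Agent.Lib.Helper36

open Cfsg Cfsg.Lie Cfsg.Agent.Lib.Helper18

section conj
variable {K : Type*} [Field K] [CharP K 2]

/-- conjugation of a root element by `n_w`, in characteristic 2 -/
theorem f4g_conj_x (l : List ℕ) (hl : ∀ i ∈ l, i < chevF4.rank) (r : ℕ) (hr : r < 48) (t : K) :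
    nWordGL chevF4 hF4 K l * xGL chevF4 hF4 K r t * (nWordGL chevF4 hF4 K l)⁻¹ =
      xGL chevF4 hF4 K (wRoot chevF4 l r) t := by
  obtain ⟨ε, hε, hc⟩ := nWordGL_conj chevF4 hF4 K l hl r hr
  have h1 : ε = 1 := by
    have h2 : (2 : K) = 0 := CharTwo.two_eq_zero
    have h : (ε + 1) * (ε + 1) = 0 := by linear_combination hε + (ε + 1) * h2
    have h0 : ε + 1 = 0 := mul_self_eq_zero.1 h
    have : ε = -1 := eq_neg_of_add_eq_zero_left h0
    rw [this, CharTwo.neg_eq]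
  rw [hc, h1, one_mul]

/-- conjugation of a word by `n_w`, in characteristic 2 -/
theorem f4g_conj_word (l : List ℕ) (hl : ∀ i ∈ l, i < chevF4.rank) (w : List (ℕ × K)) (hw : ∀ p ∈ w, p.1 < 48) :
    nWordGL chevF4 hF4 K l * wordGL chevF4 hF4 K w * (nWordGL chevF4 hF4 K l)⁻¹ =
      wordGL chevF4 hF4 K (w.map fun p => (wRoot chevF4 l p.1, p.2)) := by
  induction w with
  | nil => simp [wordGL]
  | cons p w ih =>
    have hw' : ∀ q ∈ w, q.1 < 48 := fun q hq => hw q (List.mem_cons_of_mem _ hq)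
    rw [List.map_cons, f4_wordGL_cons, f4_wordGL_cons, ← ih hw']
    show _ = xGL chevF4 hF4 K (wRoot chevF4 l p.1) p.2 * _
    rw [← f4g_conj_x l hl p.1 (hw p List.mem_cons_self) p.2]
    group

end conj

section chi
variable {K : Type*} [Field K]

theorem tor4Chi_35 (a b c d : Kˣ) : tor4Chi a b c d 35 = (a : K) * (b : K)⁻¹ * (c : K) * (d : K)⁻¹ := by
  have h : chevF4.cartan 0 35 = 1 ∧ chevF4.cartan 1 35 = -1 ∧ chevF4.cartan 2 35 = 1 ∧ chevF4.cartan 3 35 = -1 := by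
    decide
  unfold tor4Chi
  rw [h.1, h.2.1, h.2.2.1, h.2.2.2]
  simp

theorem tor4Chi_31 (a b c d : Kˣ) : tor4Chi a b c d 31 = ((a : K) ^ 2)⁻¹ * (b : K) ^ 2 * (c : K)⁻¹ * (d : K) := by
  have h : chevF4.cartan 0 31 = -2 ∧ chevF4.cartan 1 31 = 2 ∧ chevF4.cartan 2 31 = -1 ∧ chevF4.cartan 3 31 = 1 := by
    decide
  unfold tor4Chi
  rw [h.1, h.2.1, h.2.2.1, h.2.2.2]
  simp [zpow_ofNat]

theorem tor4Chi_40 (a b c d : Kˣ) : tor4Chi a b c d 40 = (a : K)⁻¹ * (b : K) := by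
  have h : chevF4.cartan 0 40 = -1 ∧ chevF4.cartan 1 40 = 1 ∧ chevF4.cartan 2 40 = 0 ∧ chevF4.cartan 3 40 = 0 := by
    decide
  unfold tor4Chi
  rw [h.1, h.2.1, h.2.2.1, h.2.2.2]
  simp

end chi

section tor
variable {K : Type*} [Field K] [Fintype K] {m : ℕ}

/-- the torus part of the first generator -/
noncomputable def f4gH (m : ℕ) (y : Kˣ) : GL chevF4.Idx K :=
  f4Hm (2 ^ m) (y ^ 2 * ((y ^ 2 ^ m) ^ 2)⁻¹, y)

/-- the multiplier of the torus part on the conjugated class -/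
def f4gC (m : ℕ) (y : Kˣ) : Kˣ := y ^ 3 * ((y ^ 2 ^ m) ^ 4)⁻¹

theorem f4gH_eq (hK : Fintype.card K = 2 ^ (2 * m + 1)) (y : Kˣ) :
    f4gH m y = torusHom chevF4 K (tor4 ((y ^ 2 ^ m) ^ 2 * y⁻¹) (y ^ 2 ^ m) y (y ^ 2 * ((y ^ 2 ^ m) ^ 2)⁻¹)) := by
  unfold f4gH
  rw [f4Hm_apply]
  congr 2
  show (y ^ 2 * ((y ^ 2 ^ m) ^ 2)⁻¹) ^ 2 ^ m = (y ^ 2 ^ m) ^ 2 * y⁻¹
  have h := f4_units_theta hK y
  have h' : ((y ^ 2 ^ m) ^ 2) ^ 2 ^ m = y := by
    rw [← pow_mul, ← pow_mul, show 2 ^ m * (2 * 2 ^ m) = 2 ^ m * (2 ^ m * 2) by ring, pow_mul]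
    exact h
  rw [mul_pow, inv_pow, h', pow_right_comm]

/-- the torus part centralises the fundamental class of type `B₂` -/
theorem f4gH_conj_cw (hK : Fintype.card K = 2 ^ (2 * m + 1)) (y : Kˣ) (t u : K) :
    f4gH m y * wordGL chevF4 hF4 K (b2ClassWord (2 ^ m) f4a f4b f4ab f4aab t u) * (f4gH m y)⁻¹ =
      wordGL chevF4 hF4 K (b2ClassWord (2 ^ m) f4a f4b f4ab f4aab t u) := by
  rw [f4gH_eq hK, f4_classWord_eq]
  have hlt : ∀ p ∈ [(f4a, t ^ 2 ^ m), (f4b, t), (f4ab, t ^ (2 ^ m + 1) + u), (f4aab, u ^ (2 * 2 ^ m))],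
      p.1 < 48 := by
    intro p hp
    simp only [List.mem_cons, List.not_mem_nil, or_false] at hp
    rcases hp with rfl | rfl | rfl | rfl
    · show (27 : ℕ) < 48; norm_num
    · show (25 : ℕ) < 48; norm_num
    · show (28 : ℕ) < 48; norm_num
    · show (30 : ℕ) < 48; norm_num
  rw [tor4_conj_word _ _ _ _ _ hlt]
  show wordGL chevF4 hF4 K [(27, tor4Chi _ _ _ _ 27 * _), (25, tor4Chi _ _ _ _ 25 * _), (28, tor4Chi _ _ _ _ 28 * _),
    (30, tor4Chi _ _ _ _ 30 * _)] = wordGL chevF4 hF4 K [(27, _), (25, _), (28, _), (30, _)]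
  rw [tor4Chi_27, tor4Chi_25, tor4Chi_28, tor4Chi_30]
  have hy : (y : K) ≠ 0 := Units.ne_zero y
  have hY : ((y ^ 2 ^ m : Kˣ) : K) ≠ 0 := Units.ne_zero _
  congr 1
  simp only [List.cons.injEq, Prod.mk.injEq, true_and, and_true, Units.val_mul, Units.val_pow_eq_pow_val,
    Units.val_inv_eq_inv_val]
  refine ⟨?_, ?_, ?_, ?_⟩ <;> field_simp

/-- the action of the torus part on the conjugated class -/
theorem f4gH_conj_z (hK : Fintype.card K = 2 ^ (2 * m + 1)) (y : Kˣ) (t : K) :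
    f4gH m y * wordGL chevF4 hF4 K [(35, t ^ 2 ^ m), (31, t), (40, t ^ (2 ^ m + 1)), (46, 0)] * (f4gH m y)⁻¹ =
      wordGL chevF4 hF4 K [(35, ((f4gC m y : K) * t) ^ 2 ^ m), (31, (f4gC m y : K) * t),
        (40, ((f4gC m y : K) * t) ^ (2 ^ m + 1)), (46, 0)] := by
  rw [f4gH_eq hK]
  have hlt : ∀ p ∈ [((35 : ℕ), t ^ 2 ^ m), (31, t), (40, t ^ (2 ^ m + 1)), (46, (0 : K))], p.1 < 48 := by
    intro p hp
    simp only [List.mem_cons, List.not_mem_nil, or_false] at hp
    rcases hp with rfl | rfl | rfl | rfl <;> norm_num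
  rw [tor4_conj_word _ _ _ _ _ hlt]
  show wordGL chevF4 hF4 K [(35, tor4Chi _ _ _ _ 35 * _), (31, tor4Chi _ _ _ _ 31 * _), (40, tor4Chi _ _ _ _ 40 * _),
    (46, tor4Chi _ _ _ _ 46 * _)] = _
  rw [tor4Chi_35, tor4Chi_31, tor4Chi_40, mul_zero]
  have hy : (y : K) ≠ 0 := Units.ne_zero y
  have hY : (y : K) ^ 2 ^ m ≠ 0 := pow_ne_zero _ hy
  have hE : (((y : K) ^ 2 ^ m) ^ 2 ^ m) ^ 2 = (y : K) := by
    have := f4_theta hK (y : K)
    rwa [pow_mul] at this
  have hC : ((f4gC m y : Kˣ) : K) = (y : K) ^ 3 * (((y : K) ^ 2 ^ m) ^ 4)⁻¹ := by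
    unfold f4gC
    simp only [Units.val_mul, Units.val_pow_eq_pow_val, Units.val_inv_eq_inv_val]
  have hCθ : ((f4gC m y : Kˣ) : K) ^ 2 ^ m = ((y : K) ^ 2 ^ m) ^ 3 * ((y : K) ^ 2)⁻¹ := by
    rw [hC, mul_pow, inv_pow, pow_right_comm ((y : K)) 3, pow_right_comm ((y : K) ^ 2 ^ m) 4,
      show (4 : ℕ) = 2 * 2 by norm_num, pow_mul, hE]
  congr 1
  simp only [List.cons.injEq, Prod.mk.injEq, true_and, and_true, Units.val_mul, Units.val_pow_eq_pow_val,
    Units.val_inv_eq_inv_val]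
  refine ⟨?_, ?_, ?_⟩
  · rw [mul_pow, hCθ]; field_simp
  · rw [hC]; field_simp
  · rw [mul_pow, pow_succ ((f4gC m y : Kˣ) : K), hCθ, hC]; field_simp

end tor

/-- the commutator of two products of four factors, where only two pairs of factors do not commute -/
theorem f4g_comm_abs {G : Type*} [Group G] (a1 a2 a3 a4 b1 b2 b3 b4 z1 z2 : G)
    (h12 : Commute b1 a2) (h13 : Commute b1 a3) (h14 : Commute b1 a4)
    (h21 : Commute b2 a1) (h23 : Commute b2 a3) (h24 : Commute b2 a4)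
    (h31 : Commute b3 a1) (h32 : Commute b3 a2) (h33 : Commute b3 a3) (h34 : Commute b3 a4)
    (h41 : Commute b4 a1) (h42 : Commute b4 a2) (h43 : Commute b4 a3) (h44 : Commute b4 a4)
    (k11 : Commute z1 a1) (k12 : Commute z1 a2) (k13 : Commute z1 a3) (k14 : Commute z1 a4)
    (l11 : Commute z1 b1) (l12 : Commute z1 b2) (l13 : Commute z1 b3) (l14 : Commute z1 b4)
    (k21 : Commute z2 a1) (k22 : Commute z2 a2) (k23 : Commute z2 a3) (k24 : Commute z2 a4)
    (l21 : Commute z2 b1) (l22 : Commute z2 b2) (l23 : Commute z2 b3) (l24 : Commute z2 b4)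
    (R1 : b1 * a1 = a1 * b1 * z1) (R2 : b2 * a2 = a2 * b2 * z2) :
    (b1 * (b2 * (b3 * b4))) * (a1 * (a2 * (a3 * a4))) * (b1 * (b2 * (b3 * b4)))⁻¹ * (a1 * (a2 * (a3 * a4)))⁻¹ =
      z1 * z2 := by
  set A := a1 * (a2 * (a3 * a4)) with hA
  set B := b1 * (b2 * (b3 * b4)) with hB
  have S3 : Commute b3 A := h31.mul_right (h32.mul_right (h33.mul_right h34))
  have S4 : Commute b4 A := h41.mul_right (h42.mul_right (h43.mul_right h44))
  have Z1A : Commute z1 A := k11.mul_right (k12.mul_right (k13.mul_right k14))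
  have Z2A : Commute z2 A := k21.mul_right (k22.mul_right (k23.mul_right k24))
  have Z1B : Commute z1 B := l11.mul_right (l12.mul_right (l13.mul_right l14))
  have Z2B : Commute z2 B := l21.mul_right (l22.mul_right (l23.mul_right l24))
  have S1 : b1 * A = A * (b1 * z1) := by
    have hR : Commute b1 (a2 * (a3 * a4)) := h12.mul_right (h13.mul_right h14)
    have hZ : Commute z1 (a2 * (a3 * a4)) := k12.mul_right (k13.mul_right k14)
    calc b1 * A = (b1 * a1) * (a2 * (a3 * a4)) := by rw [hA]; group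
      _ = a1 * (b1 * (z1 * (a2 * (a3 * a4)))) := by rw [R1]; group
      _ = a1 * ((b1 * (a2 * (a3 * a4))) * z1) := by rw [hZ.eq]; group
      _ = a1 * (((a2 * (a3 * a4)) * b1) * z1) := by rw [hR.eq]
      _ = A * (b1 * z1) := by rw [hA]; group
  have S2 : b2 * A = A * (b2 * z2) := by
    have hR : Commute b2 (a3 * a4) := h23.mul_right h24
    have hZ : Commute z2 (a3 * a4) := k23.mul_right k24
    calc b2 * A = (b2 * a1) * (a2 * (a3 * a4)) := by rw [hA]; group
      _ = a1 * ((b2 * a2) * (a3 * a4)) := by rw [h21.eq]; group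
      _ = a1 * (a2 * (b2 * (z2 * (a3 * a4)))) := by rw [R2]; group
      _ = a1 * (a2 * ((b2 * (a3 * a4)) * z2)) := by rw [hZ.eq]; group
      _ = a1 * (a2 * (((a3 * a4) * b2) * z2)) := by rw [hR.eq]
      _ = A * (b2 * z2) := by rw [hA]; group
  have key : B * A = A * B * (z1 * z2) := by
    calc B * A = b1 * (b2 * (b3 * (b4 * A))) := by rw [hB]; group
      _ = b1 * (b2 * ((b3 * A) * b4)) := by rw [S4.eq]; group
      _ = b1 * ((b2 * A) * (b3 * b4)) := by rw [S3.eq]; group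
      _ = (b1 * A) * (b2 * (z2 * (b3 * b4))) := by rw [S2]; group
      _ = A * (b1 * (z1 * (b2 * (z2 * (b3 * b4))))) := by rw [S1]; group
      _ = A * (b1 * (z1 * (b2 * ((b3 * b4) * z2)))) := by rw [(l23.mul_right l24).eq]
      _ = A * (b1 * ((z1 * (b2 * (b3 * b4))) * z2)) := by group
      _ = A * (b1 * (((b2 * (b3 * b4)) * z1) * z2)) := by rw [(l12.mul_right (l13.mul_right l14)).eq]
      _ = A * B * (z1 * z2) := by rw [hB]; group
  have Z : Commute (z1 * z2) (A * B) := (Z1A.mul_right Z1B).mul_left (Z2A.mul_right Z2B)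
  calc B * A * B⁻¹ * A⁻¹ = (A * B * (z1 * z2)) * B⁻¹ * A⁻¹ := by rw [key]
    _ = ((z1 * z2) * (A * B)) * B⁻¹ * A⁻¹ := by rw [Z.eq]
    _ = z1 * z2 := by group

section comm
variable {K : Type*} [Field K] [CharP K 2]

theorem f4g_good : ∀ p ∈ [(27, 31), (27, 40), (27, 46), (25, 35), (25, 40), (25, 46), (28, 35), (28, 31), (28, 40),
    (28, 46), (30, 35), (30, 31), (30, 40), (30, 46), (37, 27), (37, 25), (37, 28), (37, 30), (37, 35), (37, 31),
    (37, 40), (37, 46), (32, 27), (32, 25), (32, 28), (32, 30), (32, 35), (32, 31), (32, 40), (32, 46), (37, 32)],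
    twGood chevF4 2 p.1 p.2 = true := by decide

theorem f4g_comm_27_35 (t u : K) : xGL chevF4 hF4 K 35 u * xGL chevF4 hF4 K 27 t =
    xGL chevF4 hF4 K 27 t * xGL chevF4 hF4 K 35 u * xGL chevF4 hF4 K 37 (t * u) := by
  have key : xGL chevF4 hF4 K 35 u * xGL chevF4 hF4 K 27 t =
      xGL chevF4 hF4 K 27 t * xGL chevF4 hF4 K 35 u * wordGL chevF4 hF4 K [(37, t * u)] := by
    apply Units.ext
    simp only [Units.val_mul, xGL_coe, wordGL_coe]
    rw [comm_formula_all chevF4 hF4 27 35 (by decide) (by decide) (by decide) (by decide) t u]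
    congr 2
    unfold ChevalleyDatum.commWord
    have : chevF4.commTerms 27 35 = [(37, 1, 1, 1)] := by decide
    rw [this]
    simp only [List.map_cons, List.map_nil]
    congr 1
    congr 1; push_cast; simp only [CharTwo.neg_eq]; ring
  rw [key, f4_wordGL_cons, f4_wordGL_nil, mul_one]

theorem f4g_comm_25_31 (t u : K) : xGL chevF4 hF4 K 31 u * xGL chevF4 hF4 K 25 t =
    xGL chevF4 hF4 K 25 t * xGL chevF4 hF4 K 31 u * xGL chevF4 hF4 K 32 (t * u) := by
  have key : xGL chevF4 hF4 K 31 u * xGL chevF4 hF4 K 25 t =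
      xGL chevF4 hF4 K 25 t * xGL chevF4 hF4 K 31 u * wordGL chevF4 hF4 K [(32, t * u)] := by
    apply Units.ext
    simp only [Units.val_mul, xGL_coe, wordGL_coe]
    rw [comm_formula_all chevF4 hF4 25 31 (by decide) (by decide) (by decide) (by decide) t u]
    congr 2
    unfold ChevalleyDatum.commWord
    have : chevF4.commTerms 25 31 = [(32, 1, 1, 1)] := by decide
    rw [this]
    simp only [List.map_cons, List.map_nil]
    congr 1
    congr 1; push_cast; simp only [CharTwo.neg_eq]; ring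
  rw [key, f4_wordGL_cons, f4_wordGL_nil, mul_one]

/-- the commutator of the two classes of type `B₂` -/
theorem f4g_comm (α β γ δ α' β' γ' δ' : K) :
    wordGL chevF4 hF4 K [(35, α'), (31, β'), (40, γ'), (46, δ')] *
      wordGL chevF4 hF4 K [(27, α), (25, β), (28, γ), (30, δ)] *
      (wordGL chevF4 hF4 K [(35, α'), (31, β'), (40, γ'), (46, δ')])⁻¹ *
      (wordGL chevF4 hF4 K [(27, α), (25, β), (28, γ), (30, δ)])⁻¹ =
    wordGL chevF4 hF4 K [(37, α * α'), (32, β * β')] := by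
  simp only [f4_wordGL_cons, f4_wordGL_nil, mul_one]
  have c : ∀ (r s : ℕ), (r, s) ∈ [(27, 31), (27, 40), (27, 46), (25, 35), (25, 40), (25, 46), (28, 35), (28, 31),
      (28, 40), (28, 46), (30, 35), (30, 31), (30, 40), (30, 46), (37, 27), (37, 25), (37, 28), (37, 30), (37, 35),
      (37, 31), (37, 40), (37, 46), (32, 27), (32, 25), (32, 28), (32, 30), (32, 35), (32, 31), (32, 40), (32, 46),
      (37, 32)] → ∀ a b : K, Commute (xGL chevF4 hF4 K r a) (xGL chevF4 hF4 K s b) :=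
    fun r s h a b => f4_comm r s (f4g_good (r, s) h) a b
  exact f4g_comm_abs _ _ _ _ _ _ _ _ _ _
    (c 25 35 (by decide) _ _).symm (c 28 35 (by decide) _ _).symm (c 30 35 (by decide) _ _).symm
    (c 27 31 (by decide) _ _).symm (c 28 31 (by decide) _ _).symm (c 30 31 (by decide) _ _).symm
    (c 27 40 (by decide) _ _).symm (c 25 40 (by decide) _ _).symm (c 28 40 (by decide) _ _).symm
    (c 30 40 (by decide) _ _).symm
    (c 27 46 (by decide) _ _).symm (c 25 46 (by decide) _ _).symm (c 28 46 (by decide) _ _).symm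
    (c 30 46 (by decide) _ _).symm
    (c 37 27 (by decide) _ _) (c 37 25 (by decide) _ _) (c 37 28 (by decide) _ _) (c 37 30 (by decide) _ _)
    (c 37 35 (by decide) _ _) (c 37 31 (by decide) _ _) (c 37 40 (by decide) _ _) (c 37 46 (by decide) _ _)
    (c 32 27 (by decide) _ _) (c 32 25 (by decide) _ _) (c 32 28 (by decide) _ _) (c 32 30 (by decide) _ _)
    (c 32 35 (by decide) _ _) (c 32 31 (by decide) _ _) (c 32 40 (by decide) _ _) (c 32 46 (by decide) _ _)
    (f4g_comm_27_35 α α') (f4g_comm_25_31 β β')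

end comm

end Cfsg.Agent.Lib.Helper36
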