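import Cfsg.Agent.Lib.Helper36.F4TwoGen
import Cfsg.Agent.Lib.Helper36.F4Mono
import Cfsg.Agent.Lib.Helper36.F4Torus
import Cfsg.Agent.Lib.Helper36.ChevTwWeyl

/-! # The groups `²F₄(q)`, `q ≥ 8`, are generated by two elements (helper36) -/

set_option autoImplicit false

namespace Cfsg.Agent.Lib.Helper36

open Cfsg Cfsg.Lie Cfsg.Agent.Lib.Helper18

section gen
variable {K : Type*} [Field K] [Fintype K] {m : ℕ}

/-- the Coxeter word -/
def f4gW : List ℕ := [1, 2, 1, 2, 0, 3]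

theorem f4gW_lt : ∀ k : ℕ, ∀ i ∈ (List.replicate k f4gW).flatten, i < chevF4.rank := by
  intro k i hi
  obtain ⟨l, hl, hil⟩ := List.mem_flatten.1 hi
  rw [List.eq_of_mem_replicate hl] at hil
  have h : ∀ i ∈ f4gW, i < chevF4.rank := by decide
  exact h i hil

/-- the second generator -/
noncomputable def f4gB (K : Type*) [Field K] : GL chevF4.Idx K := nWordGL chevF4 hF4 K f4gW

omit [Fintype K] in
theorem f4gB_mem [CharP K 2] {θ : ℕ} (hθ : θ ≠ 0) : f4gB K ∈ twistedF4 K θ := by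
  have e : f4gB K = nWordGL chevF4 hF4 K [1, 2, 1, 2] * nWordGL chevF4 hF4 K [0, 3] := by
    rw [← nWordGL_append]; rfl
  rw [e]
  exact mul_mem (f4_fund_mem hθ _ (by decide)) (f4_fund_mem hθ _ (by decide))

theorem f4gB_pow (k : ℕ) : (f4gB K) ^ k = nWordGL chevF4 hF4 K (List.replicate k f4gW).flatten :=
  (nWordGL_replicate chevF4 hF4 K f4gW k).symm

/-- conjugation of a word by a power of the second generator -/
theorem f4gB_conj [CharP K 2] (k : ℕ) (w : List (ℕ × K)) (hw : ∀ p ∈ w, p.1 < 48) :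
    (f4gB K) ^ k * wordGL chevF4 hF4 K w * ((f4gB K) ^ k)⁻¹ =
      wordGL chevF4 hF4 K (w.map fun p => (wRoot chevF4 (List.replicate k f4gW).flatten p.1, p.2)) := by
  rw [f4gB_pow]
  exact f4g_conj_word _ (f4gW_lt k) w hw

theorem f4g_roots : (∀ p ∈ [(27, 35), (25, 31), (28, 40), (30, 46)],
      wRoot chevF4 (List.replicate 1 f4gW).flatten p.1 = p.2) ∧
    (∀ p ∈ [(37, 33), (32, 24)], wRoot chevF4 (List.replicate 3 f4gW).flatten p.1 = p.2) ∧
    (∀ p ∈ [(33, 14), (24, 23), (27, 20), (25, 22), (28, 19), (30, 17)],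
      wRoot chevF4 (List.replicate 4 f4gW).flatten p.1 = p.2) := by decide

/-- `(θ + 1)`-th roots -/
theorem f4g_root (hK : Fintype.card K = 2 ^ (2 * m + 1)) (c : K) : ∃ l : K, l ^ (2 ^ m + 1) = c := by
  obtain ⟨n, hn⟩ : ∃ n, 2 ^ m = n + 1 := ⟨2 ^ m - 1, by have := Nat.one_le_two_pow (n := m); omega⟩
  have hq : 2 ^ (2 * m + 1) = (2 * n ^ 2 + 4 * n + 1) + 1 := by
    have : 2 ^ (2 * m + 1) = 2 * (2 ^ m) ^ 2 := by ring
    rw [this, hn]
    ring
  have hc := f4_pow_card hK c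
  rw [hq] at hc
  refine ⟨c ^ (2 * n ^ 2 + 2 * n + 1), ?_⟩
  rw [hn, ← pow_mul]
  have he : (2 * n ^ 2 + 2 * n + 1) * (n + 1 + 1) = (2 * n ^ 2 + 4 * n + 1) * (n + 1) + 1 := by
    ring
  rw [he, pow_succ, pow_mul]
  by_cases h0 : c = 0
  · subst h0; simp
  · have h1 : c ^ (2 * n ^ 2 + 4 * n + 1) = 1 := by
      rw [pow_succ] at hc
      exact mul_right_cancel₀ h0 (by rw [hc, one_mul])
    rw [h1, one_pow, one_mul]

/-- the multiplier is a generator of the multiplicative group -/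
theorem f4gC_gen (hK : Fintype.card K = 2 ^ (2 * m + 1)) (y : Kˣ) (hy : ∀ t : Kˣ, t ∈ Subgroup.zpowers y)
    (t : Kˣ) : ∃ k : ℕ, (f4gC m y) ^ k = t := by
  have hE : ((y ^ 2 ^ m) ^ 2 ^ m) ^ 2 = y := by
    have := f4_units_theta hK y
    rwa [pow_mul] at this
  have hCθ : (f4gC m y) ^ 2 ^ m = (y ^ 2 ^ m) ^ 3 * (y ^ 2)⁻¹ := by
    unfold f4gC
    rw [mul_pow, inv_pow, pow_right_comm y 3, pow_right_comm (y ^ 2 ^ m) 4,
      show (4 : ℕ) = 2 * 2 by norm_num, pow_mul, hE]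
  have hpow : (f4gC m y) ^ (2 ^ m * 4 + 3) = y := by
    rw [pow_add, pow_mul, hCθ]
    unfold f4gC
    apply Units.ext
    simp only [Units.val_mul, Units.val_pow_eq_pow_val, Units.val_inv_eq_inv_val]
    have h0 : (y : K) ≠ 0 := Units.ne_zero y
    field_simp
  have ht : t ∈ Submonoid.powers y := (mem_powers_iff_mem_zpowers).2 (hy t)
  obtain ⟨j, rfl⟩ := ht
  exact ⟨(2 ^ m * 4 + 3) * j, by rw [pow_mul, hpow]⟩

end gen

end Cfsg.Agent.Lib.Helper36
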