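import Cfsg.Agent.Lib.Helper36.F4TwoGen2

set_option autoImplicit false

namespace Cfsg.Agent.Lib.Helper36

open Cfsg Cfsg.Lie Cfsg.Agent.Lib.Helper18

section main
variable {K : Type*} [Field K] [Fintype K] {m : ℕ}

/-- squares in the fundamental class of type `B₂` -/
theorem f4g_cw_sq (hK : Fintype.card K = 2 ^ (2 * m + 1)) (t : K) :
    wordGL chevF4 hF4 K (b2ClassWord (2 ^ m) f4a f4b f4ab f4aab t 0) *
      wordGL chevF4 hF4 K (b2ClassWord (2 ^ m) f4a f4b f4ab f4aab t 0) =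
      wordGL chevF4 hF4 K (b2ClassWord (2 ^ m) f4a f4b f4ab f4aab 0 (t ^ (2 ^ m + 1))) := by
  have := f4_charP hK
  have hθ : (2 : ℕ) ^ m ≠ 0 := pow_ne_zero _ (by norm_num)
  have z1 : (0 : K) ^ 2 ^ m = 0 := zero_pow hθ
  have z2 : (0 : K) ^ (2 ^ m + 1) = 0 := zero_pow (Nat.succ_ne_zero _)
  have z3 : (0 : K) ^ (2 * 2 ^ m) = 0 := zero_pow (Nat.mul_ne_zero (by norm_num) hθ)
  rw [f4_classWord_eq, f4_classWord_eq]
  show wordGL chevF4 hF4 K [(27, _), (25, _), (28, _), (30, _)] * wordGL chevF4 hF4 K [(27, _), (25, _), (28, _), (30, _)] =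
    wordGL chevF4 hF4 K [(27, _), (25, _), (28, _), (30, _)]
  rw [f4_U_mul, z1, z2, z3]
  congr 1
  simp only [List.cons.injEq, Prod.mk.injEq, true_and, and_true]
  have h2 : (t ^ (2 ^ m + 1)) ^ (2 * 2 ^ m) = (t ^ 2 ^ m) ^ 2 * t := by
    have T1 := f4_theta hK t
    rw [pow_succ, mul_pow, mul_comm 2 (2 ^ m), T1, ← pow_mul, mul_comm]
  refine ⟨CharTwo.add_self_eq_zero _, CharTwo.add_self_eq_zero _, ?_, ?_⟩
  · rw [add_zero, CharTwo.add_self_eq_zero, zero_add, zero_add, pow_succ]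
  · rw [add_zero, zero_add, h2]

/-- the first generator determines its two factors -/
theorem f4g_sep (hK : Fintype.card K = 2 ^ (2 * m + 1)) (hm : 1 ≤ m) (y : Kˣ) (H : Subgroup (GL chevF4.Idx K))
    (ha : f4gH m y * wordGL chevF4 hF4 K (b2ClassWord (2 ^ m) f4a f4b f4ab f4aab 1 0) ∈ H) :
    f4gH m y ∈ H ∧ wordGL chevF4 hF4 K (b2ClassWord (2 ^ m) f4a f4b f4ab f4aab 1 0) ∈ H := by
  have := f4_charP hK
  set h := f4gH m y with hh
  set yy := wordGL chevF4 hF4 K (b2ClassWord (2 ^ m) f4a f4b f4ab f4aab 1 0) with hyy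
  have hc : Commute h yy := by
    have := f4gH_conj_cw hK y 1 0
    rw [mul_inv_eq_iff_eq_mul] at this
    exact this
  have h4 : yy ^ 4 = 1 := by
    have e : yy ^ 4 = (yy * yy) * (yy * yy) := by
      rw [show (4 : ℕ) = 2 + 2 by norm_num, pow_add, pow_two]
    rw [e, hyy, f4g_cw_sq hK, f4_cw_mul_zero hK, CharTwo.add_self_eq_zero, f4_cw_zero_zero]
  have hq : yy ^ 2 ^ (2 * m + 1) = 1 := by
    have e : 2 ^ (2 * m + 1) = 4 * 2 ^ (2 * m - 1) := by
      rw [show 2 * m + 1 = 2 + (2 * m - 1) by omega, pow_add]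
      norm_num
    rw [e, pow_mul, h4, one_pow]
  have hhq : h ^ 2 ^ (2 * m + 1) = h := by
    rw [hh]
    unfold f4gH
    rw [← map_pow]
    congr 1
    apply Prod.ext
    · exact f4_units_pow_card hK _
    · exact f4_units_pow_card hK _
  have h1 : (h * yy) ^ 2 ^ (2 * m + 1) = h := by rw [hc.mul_pow, hq, hhq, mul_one]
  have hH : h ∈ H := h1 ▸ pow_mem ha _
  refine ⟨hH, ?_⟩
  have : yy = h⁻¹ * (h * yy) := by group
  rw [this]
  exact mul_mem (inv_mem hH) ha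

/-- conjugating the fundamental class of type `B₂` by the second generator -/
theorem f4gB_conj_cw (hK : Fintype.card K = 2 ^ (2 * m + 1)) (s : K) :
    f4gB K * wordGL chevF4 hF4 K (b2ClassWord (2 ^ m) f4a f4b f4ab f4aab s 0) * (f4gB K)⁻¹ =
      wordGL chevF4 hF4 K [(35, s ^ 2 ^ m), (31, s), (40, s ^ (2 ^ m + 1)), (46, 0)] := by
  have := f4_charP hK
  have hθ : (2 : ℕ) ^ m ≠ 0 := pow_ne_zero _ (by norm_num)
  have z3 : (0 : K) ^ (2 * 2 ^ m) = 0 := zero_pow (Nat.mul_ne_zero (by norm_num) hθ)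
  have h1 := f4gB_conj (K := K) 1 (b2ClassWord (2 ^ m) f4a f4b f4ab f4aab s 0) (by
    intro p hp
    rw [f4_classWord_eq] at hp
    simp only [List.mem_cons, List.not_mem_nil, or_false] at hp
    rcases hp with rfl | rfl | rfl | rfl
    · show (27 : ℕ) < 48; norm_num
    · show (25 : ℕ) < 48; norm_num
    · show (28 : ℕ) < 48; norm_num
    · show (30 : ℕ) < 48; norm_num)
  rw [pow_one] at h1
  rw [h1, f4_classWord_eq]
  show wordGL chevF4 hF4 K [(wRoot chevF4 (List.replicate 1 f4gW).flatten 27, _),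
    (wRoot chevF4 (List.replicate 1 f4gW).flatten 25, _), (wRoot chevF4 (List.replicate 1 f4gW).flatten 28, _),
    (wRoot chevF4 (List.replicate 1 f4gW).flatten 30, _)] = _
  rw [f4g_roots.1 (27, 35) (by decide), f4g_roots.1 (25, 31) (by decide), f4g_roots.1 (28, 40) (by decide),
    f4g_roots.1 (30, 46) (by decide), add_zero, z3]

/-- the multiplication step -/
theorem f4g_step (hK : Fintype.card K = 2 ^ (2 * m + 1)) (y : Kˣ) (H : Subgroup (GL chevF4.Idx K))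
    (hb : f4gB K ∈ H) (hh : f4gH m y ∈ H) (t : K)
    (ht : wordGL chevF4 hF4 K (b2ClassWord (2 ^ m) f4a f4b f4ab f4aab t 0) ∈ H) :
    wordGL chevF4 hF4 K (b2ClassWord (2 ^ m) f4a f4b f4ab f4aab ((f4gC m y : K) * t) 0) ∈ H := by
  have e : wordGL chevF4 hF4 K (b2ClassWord (2 ^ m) f4a f4b f4ab f4aab ((f4gC m y : K) * t) 0) =
      (f4gB K)⁻¹ * (f4gH m y * (f4gB K * wordGL chevF4 hF4 K (b2ClassWord (2 ^ m) f4a f4b f4ab f4aab t 0) *
        (f4gB K)⁻¹) * (f4gH m y)⁻¹) * f4gB K := by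
    rw [f4gB_conj_cw hK t, f4gH_conj_z hK, ← f4gB_conj_cw hK]
    group
  rw [e]
  exact mul_mem (mul_mem (inv_mem hb) (mul_mem (mul_mem hh (mul_mem (mul_mem hb ht) (inv_mem hb))) (inv_mem hh))) hb

/-- the whole fundamental class of type `B₂` -/
theorem f4g_all_cw (hK : Fintype.card K = 2 ^ (2 * m + 1)) (y : Kˣ) (hy : ∀ t : Kˣ, t ∈ Subgroup.zpowers y)
    (H : Subgroup (GL chevF4.Idx K)) (hb : f4gB K ∈ H) (hh : f4gH m y ∈ H)
    (h1 : wordGL chevF4 hF4 K (b2ClassWord (2 ^ m) f4a f4b f4ab f4aab 1 0) ∈ H) (t u : K) :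
    wordGL chevF4 hF4 K (b2ClassWord (2 ^ m) f4a f4b f4ab f4aab t u) ∈ H := by
  have := f4_charP hK
  have hpow : ∀ k : ℕ, wordGL chevF4 hF4 K (b2ClassWord (2 ^ m) f4a f4b f4ab f4aab
      (((f4gC m y) ^ k : Kˣ) : K) 0) ∈ H := by
    intro k
    induction k with
    | zero => simpa using h1
    | succ k ih =>
      have h2 := f4g_step hK y H hb hh _ ih
      rwa [← Units.val_mul, ← pow_succ'] at h2
  have hne : ∀ s : K, s ≠ 0 → wordGL chevF4 hF4 K (b2ClassWord (2 ^ m) f4a f4b f4ab f4aab s 0) ∈ H := by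
    intro s hs
    obtain ⟨k, hk⟩ := f4gC_gen hK y hy (Units.mk0 s hs)
    have h2 := hpow k
    rwa [hk, Units.val_mk0] at h2
  have hz : ∀ v : K, wordGL chevF4 hF4 K (b2ClassWord (2 ^ m) f4a f4b f4ab f4aab 0 v) ∈ H := by
    intro v
    obtain ⟨s, rfl⟩ := f4g_root hK v
    by_cases hs : s = 0
    · subst hs
      rw [zero_pow (Nat.succ_ne_zero _), f4_cw_zero_zero]
      exact one_mem _
    · rw [← f4g_cw_sq hK]
      exact mul_mem (hne s hs) (hne s hs)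
  by_cases ht : t = 0
  · subst ht
    exact hz u
  · have h2 := f4_cw_mul_zero hK t 0 u
    rw [zero_add] at h2
    rw [← h2]
    exact mul_mem (hne t ht) (hz u)

/-- the class of type `A₁ × A₁` between the two classes of type `B₂` -/
theorem f4g_R7 (hK : Fintype.card K = 2 ^ (2 * m + 1)) (H : Subgroup (GL chevF4.Idx K)) (hb : f4gB K ∈ H)
    (hcw : ∀ t u : K, wordGL chevF4 hF4 K (b2ClassWord (2 ^ m) f4a f4b f4ab f4aab t u) ∈ H) (s : K) :
    wordGL chevF4 hF4 K [(37, s ^ 2 ^ m), (32, s)] ∈ H := by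
  have := f4_charP hK
  have e := f4g_comm (K := K) (s ^ 2 ^ m) s (s ^ (2 ^ m + 1) + 0) ((0 : K) ^ (2 * 2 ^ m)) ((1 : K) ^ 2 ^ m) 1
    ((1 : K) ^ (2 ^ m + 1)) 0
  have e' : wordGL chevF4 hF4 K [(37, s ^ 2 ^ m * (1 : K) ^ 2 ^ m), (32, s * 1)] =
      wordGL chevF4 hF4 K [(37, s ^ 2 ^ m), (32, s)] := by rw [one_pow, mul_one, mul_one]
  have e2 : (f4gB K * wordGL chevF4 hF4 K (b2ClassWord (2 ^ m) f4a f4b f4ab f4aab 1 0) * (f4gB K)⁻¹) *
      wordGL chevF4 hF4 K (b2ClassWord (2 ^ m) f4a f4b f4ab f4aab s 0) *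
      (f4gB K * wordGL chevF4 hF4 K (b2ClassWord (2 ^ m) f4a f4b f4ab f4aab 1 0) * (f4gB K)⁻¹)⁻¹ *
      (wordGL chevF4 hF4 K (b2ClassWord (2 ^ m) f4a f4b f4ab f4aab s 0))⁻¹ =
      wordGL chevF4 hF4 K [(37, s ^ 2 ^ m), (32, s)] := by
    rw [f4gB_conj_cw hK 1, ← e']
    exact e
  rw [← e2]
  have hZ : f4gB K * wordGL chevF4 hF4 K (b2ClassWord (2 ^ m) f4a f4b f4ab f4aab 1 0) * (f4gB K)⁻¹ ∈ H :=
    mul_mem (mul_mem hb (hcw 1 0)) (inv_mem hb)
  exact mul_mem (mul_mem (mul_mem hZ (hcw s 0)) (inv_mem hZ)) (inv_mem (hcw s 0))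

/-- the fundamental class of type `A₁ × A₁` -/
theorem f4g_pw (hK : Fintype.card K = 2 ^ (2 * m + 1)) (H : Subgroup (GL chevF4.Idx K)) (hb : f4gB K ∈ H)
    (hcw : ∀ t u : K, wordGL chevF4 hF4 K (b2ClassWord (2 ^ m) f4a f4b f4ab f4aab t u) ∈ H) (s : K) :
    wordGL chevF4 hF4 K (f4PairWord (2 ^ m) f4p1 f4p4 s) ∈ H := by
  have := f4_charP hK
  have h3 := f4gB_conj (K := K) 3 [(37, s ^ 2 ^ m), (32, s)] (by
    intro p hp
    simp only [List.mem_cons, List.not_mem_nil, or_false] at hp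
    rcases hp with rfl | rfl <;> norm_num)
  have e : (f4gB K) ^ 3 * wordGL chevF4 hF4 K [(37, s ^ 2 ^ m), (32, s)] * ((f4gB K) ^ 3)⁻¹ =
      wordGL chevF4 hF4 K (f4PairWord (2 ^ m) f4p1 f4p4 s) := by
    rw [h3, f4_pairWord_eq]
    show wordGL chevF4 hF4 K [(wRoot chevF4 (List.replicate 3 f4gW).flatten 37, _),
      (wRoot chevF4 (List.replicate 3 f4gW).flatten 32, _)] = wordGL chevF4 hF4 K [(33, _), (24, _)]
    rw [f4g_roots.2.1 (37, 33) (by decide), f4g_roots.2.1 (32, 24) (by decide)]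
  rw [← e]
  exact mul_mem (mul_mem (pow_mem hb 3) (f4g_R7 hK H hb hcw s)) (inv_mem (pow_mem hb 3))

/-- the negative classes -/
theorem f4g_neg (hK : Fintype.card K = 2 ^ (2 * m + 1)) (H : Subgroup (GL chevF4.Idx K)) (hb : f4gB K ∈ H)
    (hcw : ∀ t u : K, wordGL chevF4 hF4 K (b2ClassWord (2 ^ m) f4a f4b f4ab f4aab t u) ∈ H) :
    (∀ s : K, wordGL chevF4 hF4 K (f4PairWord (2 ^ m) f4m1 f4m4 s) ∈ H) ∧
    (∀ t u : K, wordGL chevF4 hF4 K (b2ClassWord (2 ^ m) f4ma f4mb f4mab f4maab t u) ∈ H) := by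
  have := f4_charP hK
  constructor
  · intro s
    have h4 := f4gB_conj (K := K) 4 (f4PairWord (2 ^ m) f4p1 f4p4 s) (by
      intro p hp
      rw [f4_pairWord_eq] at hp
      simp only [List.mem_cons, List.not_mem_nil, or_false] at hp
      rcases hp with rfl | rfl
      · show (33 : ℕ) < 48; norm_num
      · show (24 : ℕ) < 48; norm_num)
    have e : (f4gB K) ^ 4 * wordGL chevF4 hF4 K (f4PairWord (2 ^ m) f4p1 f4p4 s) * ((f4gB K) ^ 4)⁻¹ =
        wordGL chevF4 hF4 K (f4PairWord (2 ^ m) f4m1 f4m4 s) := by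
      rw [h4, f4_pairWord_eq, f4_pairWord_eq]
      show wordGL chevF4 hF4 K [(wRoot chevF4 (List.replicate 4 f4gW).flatten 33, _),
        (wRoot chevF4 (List.replicate 4 f4gW).flatten 24, _)] = wordGL chevF4 hF4 K [(14, _), (23, _)]
      rw [f4g_roots.2.2 (33, 14) (by decide), f4g_roots.2.2 (24, 23) (by decide)]
    rw [← e]
    exact mul_mem (mul_mem (pow_mem hb 4) (f4g_pw hK H hb hcw s)) (inv_mem (pow_mem hb 4))
  · intro t u
    have h4 := f4gB_conj (K := K) 4 (b2ClassWord (2 ^ m) f4a f4b f4ab f4aab t u) (by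
      intro p hp
      rw [f4_classWord_eq] at hp
      simp only [List.mem_cons, List.not_mem_nil, or_false] at hp
      rcases hp with rfl | rfl | rfl | rfl
      · show (27 : ℕ) < 48; norm_num
      · show (25 : ℕ) < 48; norm_num
      · show (28 : ℕ) < 48; norm_num
      · show (30 : ℕ) < 48; norm_num)
    have e : (f4gB K) ^ 4 * wordGL chevF4 hF4 K (b2ClassWord (2 ^ m) f4a f4b f4ab f4aab t u) * ((f4gB K) ^ 4)⁻¹ =
        wordGL chevF4 hF4 K (b2ClassWord (2 ^ m) f4ma f4mb f4mab f4maab t u) := by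
      rw [h4, f4_classWord_eq, f4_classWord_eq]
      show wordGL chevF4 hF4 K [(wRoot chevF4 (List.replicate 4 f4gW).flatten 27, _),
        (wRoot chevF4 (List.replicate 4 f4gW).flatten 25, _), (wRoot chevF4 (List.replicate 4 f4gW).flatten 28, _),
        (wRoot chevF4 (List.replicate 4 f4gW).flatten 30, _)] =
        wordGL chevF4 hF4 K [(20, _), (22, _), (19, _), (17, _)]
      rw [f4g_roots.2.2 (27, 20) (by decide), f4g_roots.2.2 (25, 22) (by decide),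
        f4g_roots.2.2 (28, 19) (by decide), f4g_roots.2.2 (30, 17) (by decide)]
    rw [← e]
    exact mul_mem (mul_mem (pow_mem hb 4) (hcw t u)) (inv_mem (pow_mem hb 4))

/-- `²F₄(q)`, `q ≥ 8`, is generated by two elements -/
theorem f4g_le (hK : Fintype.card K = 2 ^ (2 * m + 1)) (hm : 1 ≤ m) (y : Kˣ)
    (hy : ∀ t : Kˣ, t ∈ Subgroup.zpowers y) :
    twistedF4 K (2 ^ m) ≤ Subgroup.closure
      {f4gH m y * wordGL chevF4 hF4 K (b2ClassWord (2 ^ m) f4a f4b f4ab f4aab 1 0), f4gB K} := by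
  set H := Subgroup.closure
    {f4gH m y * wordGL chevF4 hF4 K (b2ClassWord (2 ^ m) f4a f4b f4ab f4aab 1 0), f4gB K} with hH
  have ha : f4gH m y * wordGL chevF4 hF4 K (b2ClassWord (2 ^ m) f4a f4b f4ab f4aab 1 0) ∈ H :=
    Subgroup.subset_closure (Set.mem_insert _ _)
  have hb : f4gB K ∈ H := Subgroup.subset_closure (Set.mem_insert_of_mem _ rfl)
  obtain ⟨hh, h1⟩ := f4g_sep hK hm y H ha
  have hcw := f4g_all_cw hK y hy H hb hh h1
  have hpw := f4g_pw hK H hb hcw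
  obtain ⟨hpn, hcn⟩ := f4g_neg hK H hb hcw
  show Subgroup.closure {g : GL chevF4.Idx K | ∃ w ∈ f4Words K (2 ^ m),
    (g : Matrix chevF4.Idx chevF4.Idx K) = chevF4.wordMat K w} ≤ H
  refine (Subgroup.closure_le H).2 ?_
  rintro g ⟨w, hw, hg⟩
  have eg : g = wordGL chevF4 hF4 K w := Units.ext (by rw [hg, wordGL_coe])
  rw [SetLike.mem_coe, eg]
  rcases hw with ⟨t, rfl | rfl⟩ | ⟨t, u, rfl | rfl⟩
  · exact hpw t
  · exact hpn t
  · exact hcw t u
  · exact hcn t u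

end main

end Cfsg.Agent.Lib.Helper36
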