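import Cfsg.Agent.Lib.Helper36.F4Diag

/-! # The groups `²F₄`: the Weyl group elements commuting with the twist (helper36) -/

set_option autoImplicit false

namespace Cfsg.Agent.Lib.Helper36

open Cfsg Cfsg.Lie Cfsg.Agent.Lib.Helper18

section lin
variable (D : ChevalleyDatum) (hD : D ∈ [chevG2, chevB2, chevD4, chevF4, chevE6, chevE7, chevE8])

include hD in
/-- a Weyl word making some fundamental roots negative makes negative the positive roots in their span -/
theorem neg_of_lin (l : List ℕ) (hl : ∀ i ∈ l, i < D.rank) (r : ℕ) (hr : D.IsPosRoot r)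
    (h : ∀ k < D.rank, cor D r k ≠ 0 → D.IsNegRoot (wRoot D l (D.simple k))) : D.IsNegRoot (wRoot D l r) := by
  have hf := wfFast_all D hD
  have hlt := wRoot_lt D hD l hl r hr.1
  rw [isNegRoot_iff D hf _ hlt]
  intro j hj
  rw [cor_wRoot_lin D hD l hl r hr.1 j hj]
  apply Finset.sum_nonpos
  intro k _
  by_cases h0 : cor D r k = 0
  · rw [h0, zero_mul]
  · have hk := (chkN2_spec D (chkN2_all D hD) k k.isLt).1
    have h1 := (isPosRoot_iff D hf r hr.1).1 hr k k.isLt
    have h2 := (isNegRoot_iff D hf _ (wRoot_lt D hD l hl _ hk)).1 (h k k.isLt h0) j hj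
    exact mul_nonpos_iff.2 (Or.inl ⟨h1, h2⟩)

include hD in
/-- multiplying by a block of reflections all of whose roots are made negative lowers `N(w)` -/
theorem Nw_block (l : List ℕ) (hl : ∀ i ∈ l, i < D.rank) (J : List ℕ) (hJr : ∀ j ∈ J, j < D.rank)
    (hJ : ∀ k < J.length, D.IsPosRoot (wRoot D (J.take k) (D.simple (J.getD k 0))) ∧
      ∀ i < D.rank, cor D (wRoot D (J.take k) (D.simple (J.getD k 0))) i ≠ 0 → i ∈ J)
    (hneg : ∀ j ∈ J, D.IsNegRoot (wRoot D l (D.simple j))) : Nw D (l ++ J) + J.length = Nw D l := by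
  have key : ∀ k ≤ J.length, Nw D (l ++ J.take k) + k = Nw D l := by
    intro k
    induction k with
    | zero => intro _; simp
    | succ k ih =>
      intro hk
      have hk' : k < J.length := hk
      have e : J.take (k + 1) = J.take k ++ [J.getD k 0] := by
        rw [List.take_succ_eq_append_getElem hk', List.getD_eq_getElem _ _ hk']
      have hjk : J.getD k 0 ∈ J := by
        rw [List.getD_eq_getElem _ _ hk']; exact List.getElem_mem hk'
      have hlk : ∀ i ∈ l ++ J.take k, i < D.rank := by
        intro i hi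
        rcases List.mem_append.1 hi with h | h
        · exact hl i h
        · exact hJr i (List.mem_of_mem_take h)
      have hn : D.IsNegRoot (wRoot D (l ++ J.take k) (D.simple (J.getD k 0))) := by
        rw [wRoot_append]
        obtain ⟨hp, hs⟩ := hJ k hk'
        exact neg_of_lin D hD l hl _ hp (fun i hi h0 => hneg i (hs i hi h0))
      have := Nw_step D hD (l ++ J.take k) hlk (J.getD k 0) (hJr _ hjk) hn
      rw [e, ← List.append_assoc]
      have ih' := ih (Nat.le_of_succ_le hk)
      omega
  have := key J.length le_rfl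
  rwa [List.take_length] at this

end lin

section weyl

/-- the word with the fundamental reflections exchanged by the symmetry of the diagram -/
def swapF (l : List ℕ) : List ℕ := l.map fun i => 3 - i

theorem swapF_lt (l : List ℕ) : ∀ i ∈ swapF l, i < chevF4.rank := by
  intro i hi
  obtain ⟨j, -, rfl⟩ := List.mem_map.1 hi
  show 3 - j < 4
  omega

theorem swapF_swapF (l : List ℕ) (hl : ∀ i ∈ l, i < chevF4.rank) : swapF (swapF l) = l := by
  unfold swapF
  rw [List.map_map]
  conv_rhs => rw [← List.map_id l]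
  apply List.map_congr_left
  intro i hi
  have : i < 4 := hl i hi
  show 3 - (3 - i) = i
  omega

theorem swapF_append (l l' : List ℕ) : swapF (l ++ l') = swapF l ++ swapF l' := List.map_append

theorem f4_rho_reflect : ∀ i < 4, ∀ s < 48,
    chevF4.reflectRoot (3 - i) (rhoF4.getD s 0) = rhoF4.getD (chevF4.reflectRoot i s) 0 := by decide

theorem f4_rho_simple : ∀ i < 4, rhoF4.getD (chevF4.simple i) 0 = chevF4.simple (3 - i) ∧ chevF4.simple i < 48 := by
  decide

theorem f4_rho_invol : ∀ s < 48, rhoF4.getD (rhoF4.getD s 0) 0 = s ∧ rhoF4.getD s 0 < 48 := by decide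

theorem f4_wRoot_cons (i : ℕ) (l : List ℕ) (s : ℕ) :
    wRoot chevF4 (i :: l) s = chevF4.reflectRoot i (wRoot chevF4 l s) := rfl

theorem wRoot_swapF (l : List ℕ) (hl : ∀ i ∈ l, i < chevF4.rank) (s : ℕ) (hs : s < 48) :
    wRoot chevF4 (swapF l) (rhoF4.getD s 0) = rhoF4.getD (wRoot chevF4 l s) 0 := by
  induction l with
  | nil => rfl
  | cons i l ih =>
    have hl' : ∀ j ∈ l, j < chevF4.rank := fun j hj => hl j (List.mem_cons_of_mem _ hj)
    have hi : i < 4 := hl i List.mem_cons_self
    show wRoot chevF4 ((3 - i) :: swapF l) _ = _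
    rw [f4_wRoot_cons, f4_wRoot_cons, ih hl']
    exact f4_rho_reflect i hi _ (wRoot_lt chevF4 hF4 l hl' s hs)

/-- a Weyl word commutes with the symmetry -/
def F4RhoComm (l : List ℕ) : Prop := ∀ r < 48, wRoot chevF4 (swapF l) r = wRoot chevF4 l r

theorem f4RhoComm_append (l l' : List ℕ) (hl' : ∀ i ∈ l', i < chevF4.rank) (h : F4RhoComm l) (h' : F4RhoComm l') :
    F4RhoComm (l ++ l') := by
  intro r hr
  rw [swapF_append, wRoot_append, wRoot_append, h' r hr, h _ (wRoot_lt chevF4 hF4 l' hl' r hr)]

/-- a word commuting with the symmetry makes the two roots of an orbit negative together -/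
theorem f4_orbit_neg (l : List ℕ) (hl : ∀ i ∈ l, i < chevF4.rank) (hrc : F4RhoComm l) (j : ℕ) (hj : j < 4)
    (hneg : chevF4.IsNegRoot (wRoot chevF4 l (chevF4.simple j))) :
    chevF4.IsNegRoot (wRoot chevF4 l (chevF4.simple (3 - j))) := by
  obtain ⟨h1, h2⟩ := f4_rho_simple j hj
  rw [← h1, ← hrc _ (f4_rho_invol _ h2).2, wRoot_swapF l hl _ h2]
  exact f4_rho_negRoot _ hneg

/-- the two folded reflections -/
def f4Fund : List (List ℕ) := [[0, 3], [1, 2, 1, 2]]

theorem f4_fund_lt : ∀ J ∈ f4Fund, ∀ j ∈ J, j < chevF4.rank := by decide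

theorem f4_fund_take : ∀ J ∈ f4Fund, ∀ k < J.length,
    chevF4.IsPosRoot (wRoot chevF4 (J.take k) (chevF4.simple (J.getD k 0))) ∧
    ∀ i < chevF4.rank, cor chevF4 (wRoot chevF4 (J.take k) (chevF4.simple (J.getD k 0))) i ≠ 0 → i ∈ J := by decide

theorem f4_fund_comm : ∀ J ∈ f4Fund, ∀ r < 48,
    wRoot chevF4 (swapF J) r = wRoot chevF4 J r ∧ wRoot chevF4 J (wRoot chevF4 J r) = r := by decide

theorem f4_fund_cover : ∀ k < 4, ∃ J ∈ f4Fund, k ∈ J ∧ ∀ j ∈ J, j = k ∨ j = 3 - k := by decide

/-- every Weyl word commuting with the symmetry acts as a product of folded reflections -/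
theorem f4_folded_exists (F : Type*) [Field F] (l : List ℕ) (hl : ∀ i ∈ l, i < chevF4.rank) (hrc : F4RhoComm l) :
    ∃ Js : List (List ℕ), (∀ J ∈ Js, J ∈ f4Fund) ∧ ∀ r < 48, wRoot chevF4 Js.flatten r = wRoot chevF4 l r := by
  induction hN : Nw chevF4 l using Nat.strong_induction_on generalizing l with
  | _ n ih =>
    by_cases hall : ∀ k < chevF4.rank, chevF4.IsPosRoot (wRoot chevF4 l (chevF4.simple k))
    · refine ⟨[], by simp, fun r hr => ?_⟩
      rw [wRoot_eq_of_simple_pos chevF4 hF4 F l hl hall r hr]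
      rfl
    · push Not at hall
      obtain ⟨k, hk, hnp⟩ := hall
      have hp := (chkN2_spec chevF4 (chkN2_all chevF4 hF4) k hk).1
      have hneg : chevF4.IsNegRoot (wRoot chevF4 l (chevF4.simple k)) := by
        rcases pos_or_neg chevF4 hF4 _ (wRoot_lt chevF4 hF4 l hl _ hp) with h | h
        · exact absurd h hnp
        · exact h
      obtain ⟨J, hJ, hkJ, hJk⟩ := f4_fund_cover k hk
      have hJr := f4_fund_lt J hJ
      have hnegJ : ∀ j ∈ J, chevF4.IsNegRoot (wRoot chevF4 l (chevF4.simple j)) := by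
        intro j hj
        rcases hJk j hj with rfl | rfl
        · exact hneg
        · exact f4_orbit_neg l hl hrc k hk hneg
      have hNw := Nw_block chevF4 hF4 l hl J hJr (f4_fund_take J hJ) hnegJ
      have hlen : 0 < J.length := List.length_pos_of_ne_nil (List.ne_nil_of_mem hkJ)
      have hlJ : ∀ i ∈ l ++ J, i < chevF4.rank := by
        intro i hi
        rcases List.mem_append.1 hi with h | h
        · exact hl i h
        · exact hJr i h
      have hJrc : F4RhoComm J := fun r hr => (f4_fund_comm J hJ r hr).1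
      obtain ⟨Js, hJs1, hJs2⟩ := ih (Nw chevF4 (l ++ J)) (by omega) (l ++ J) hlJ
        (f4RhoComm_append l J hJr hrc hJrc) rfl
      refine ⟨Js ++ [J], ?_, ?_⟩
      · intro J' hJ'
        rcases List.mem_append.1 hJ' with h | h
        · exact hJs1 J' h
        · rw [List.mem_singleton] at h; rw [h]; exact hJ
      · intro r hr
        rw [List.flatten_append, List.flatten_singleton, wRoot_append,
          hJs2 _ (wRoot_lt chevF4 hF4 J hJr r hr), wRoot_append, (f4_fund_comm J hJ r hr).2]

end weyl

end Cfsg.Agent.Lib.Helper36
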