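import Cfsg.Agent.Lib.Helper36.F4Mono
import Mathlib.GroupTheory.SpecificGroups.Dihedral

/-! # The groups `²F₄`: the Weyl group `N¹/H¹` is dihedral of order 16 (helper36) -/

set_option autoImplicit false

namespace Cfsg.Agent.Lib.Helper36

open Cfsg Cfsg.Lie Cfsg.Agent.Lib.Helper18

section dihedral
variable {G : Type*} [Group G]

theorem dih_conj (a b : G) (hb : b * b = 1) (hab : b * a * b = a⁻¹) (k : ℕ) : b * a ^ k * b = (a ^ k)⁻¹ := by
  induction k with
  | zero => simpa using hb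
  | succ k ih =>
    have : b * a ^ (k + 1) * b = (b * a ^ k * b) * (b * a * b) := by
      rw [pow_succ]
      calc b * (a ^ k * a) * b = b * a ^ k * 1 * a * b := by group
        _ = b * a ^ k * (b * b) * a * b := by rw [hb]
        _ = _ := by group
    rw [this, ih, hab, pow_succ', mul_inv_rev]

/-- a homomorphism from a dihedral group given by a rotation and a reflection -/
theorem dihedral_lift (n : ℕ) [NeZero n] (a b : G) (ha : a ^ n = 1) (hb : b * b = 1) (hab : b * a * b = a⁻¹) :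
    ∃ f : DihedralGroup n →* G, (∀ i : ZMod n, f (DihedralGroup.r i) = a ^ i.val) ∧
      (∀ i : ZMod n, f (DihedralGroup.sr i) = b * a ^ i.val) := by
  let g : ZMod n → G := fun i => a ^ i.val
  have g_add : ∀ i j : ZMod n, g (i + j) = g i * g j := by
    intro i j
    show a ^ (i + j).val = a ^ i.val * a ^ j.val
    rw [ZMod.val_add, ← pow_eq_pow_mod _ ha, pow_add]
  have g_zero : g 0 = 1 := by
    show a ^ (0 : ZMod n).val = 1
    rw [ZMod.val_zero, pow_zero]
  have g_neg : ∀ i : ZMod n, g (-i) = (g i)⁻¹ := by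
    intro i
    rw [eq_inv_iff_mul_eq_one, ← g_add, neg_add_cancel, g_zero]
  have g_sub : ∀ i j : ZMod n, g (j - i) = g j * (g i)⁻¹ := by
    intro i j
    rw [sub_eq_add_neg, g_add, g_neg]
  have g_comm : ∀ i j : ZMod n, g i * g j = g j * g i := by
    intro i j
    rw [← g_add, ← g_add, add_comm]
  have g_conj : ∀ i : ZMod n, b * g i * b = (g i)⁻¹ := fun i => dih_conj a b hb hab i.val
  have g_swap : ∀ i : ZMod n, g i * b = b * (g i)⁻¹ := by
    intro i
    rw [← g_conj i]
    calc g i * b = 1 * g i * b := by rw [one_mul]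
      _ = (b * b) * g i * b := by rw [hb]
      _ = _ := by group
  let f : DihedralGroup n → G := fun x => match x with
    | DihedralGroup.r i => g i
    | DihedralGroup.sr i => b * g i
  have hmul : ∀ x y : DihedralGroup n, f (x * y) = f x * f y := by
    intro x y
    rcases x with i | i <;> rcases y with j | j
    · show g (i + j) = g i * g j
      exact g_add i j
    · show b * g (j - i) = g i * (b * g j)
      rw [g_sub, ← mul_assoc (g i), g_swap, mul_assoc b]
      congr 1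
      rw [← g_neg, ← g_add, ← g_add, add_comm]
    · show b * g (i + j) = b * g i * g j
      rw [g_add, mul_assoc]
    · show g (j - i) = b * g i * (b * g j)
      rw [g_sub, ← mul_assoc, g_conj, ← g_neg, ← g_add, ← g_add, add_comm]
  exact ⟨MonoidHom.mk' f hmul, fun i => rfl, fun i => rfl⟩

end dihedral

section facts

set_option maxRecDepth 100000 in
theorem f4_rel_a : ∀ r < 48, wRoot chevF4 (List.replicate 8 ([0, 3] ++ [1, 2, 1, 2])).flatten r = r := by decide

theorem f4_rel_b : ∀ r < 48, wRoot chevF4 ([0, 3] ++ [0, 3]) r = r := by decide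

set_option maxRecDepth 100000 in
theorem f4_rel_ab : ∀ r < 48,
    wRoot chevF4 ([0, 3] ++ ([0, 3] ++ [1, 2, 1, 2]) ++ [0, 3] ++ ([0, 3] ++ [1, 2, 1, 2])) r = r := by decide

set_option maxRecDepth 100000 in
theorem f4_rot_ne : ∀ k < 8, k ≠ 0 → ∃ r < 48,
    wRoot chevF4 (List.replicate k ([0, 3] ++ [1, 2, 1, 2])).flatten r ≠ r := by decide

set_option maxRecDepth 100000 in
theorem f4_refl_ne : ∀ k < 8, ∃ r < 48,
    wRoot chevF4 ([0, 3] ++ (List.replicate k ([0, 3] ++ [1, 2, 1, 2])).flatten) r ≠ r := by decide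

end facts

section main
variable {K : Type*} [Field K]

theorem f4_nWordGL_replicate (l : List ℕ) (n : ℕ) :
    nWordGL chevF4 hF4 K (List.replicate n l).flatten = (nWordGL chevF4 hF4 K l) ^ n := by
  induction n with
  | zero => simp [nWordGL]
  | succ n ih => rw [List.replicate_succ, List.flatten_cons, nWordGL_append, ih, pow_succ']

theorem f4_word_id_of_diag (l : List ℕ) (hl : ∀ i ∈ l, i < chevF4.rank)
    (h : nWordGL chevF4 hF4 K l ∈ chevF4.diagonalSubgroup K) : ∀ r < 48, wRoot chevF4 l r = r := by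
  intro r hr
  have h1 : (nWordGL chevF4 hF4 K ([] : List ℕ))⁻¹ * nWordGL chevF4 hF4 K l ∈ chevF4.diagonalSubgroup K := by
    simpa [nWordGL] using h
  exact (wRoot_eq_of_mem_diag chevF4 hF4 K [] l (by simp) hl h1 r hr).symm

theorem f4_diag_of_word_id (l : List ℕ) (hl : ∀ i ∈ l, i < chevF4.rank)
    (h : ∀ r < 48, wRoot chevF4 l r = r) : nWordGL chevF4 hF4 K l ∈ chevF4.diagonalSubgroup K := by
  apply nWord_mem_diag_of_pos chevF4 hF4 K l hl
  intro s hs
  rw [h s hs.1]
  exact hs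

theorem f4_rep_lt (k : ℕ) : ∀ i ∈ (List.replicate k ([0, 3] ++ [1, 2, 1, 2])).flatten, i < chevF4.rank := by
  intro i hi
  obtain ⟨l, hl, hil⟩ := List.mem_flatten.1 hi
  rw [List.eq_of_mem_replicate hl] at hil
  have : ∀ j ∈ [0, 3] ++ [1, 2, 1, 2], j < chevF4.rank := by decide
  exact this i hil

/-- `N¹/H¹` is dihedral of order 16 -/
theorem f4_weyl_equiv [Fintype K] {m : ℕ} (hK : Fintype.card K = 2 ^ (2 * m + 1)) :
    ∃ φ : ↥(chevF4.monomialSubgroup K ⊓ twistedF4 K (2 ^ m)) →* DihedralGroup 8, Function.Surjective φ ∧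
      φ.ker = (chevF4.diagonalSubgroup K ⊓ twistedF4 K (2 ^ m)).subgroupOf
        (chevF4.monomialSubgroup K ⊓ twistedF4 K (2 ^ m)) := by
  have := f4_charP hK
  obtain ⟨σ, hσ⟩ := exists_f4Sig hK
  have hle := f4_twisted_le_fix hK hσ
  have hθ : (2 : ℕ) ^ m ≠ 0 := pow_ne_zero _ (by norm_num)
  set T := twistedF4 K (2 ^ m) with hT
  set N1 := chevF4.monomialSubgroup K ⊓ T with hN1
  set H1 := (chevF4.diagonalSubgroup K ⊓ T).subgroupOf N1 with hH1
  have hHN := diagonal_le_monomial chevF4 K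
  have hmemH1 : ∀ x : ↥N1, x ∈ H1 ↔ (x : GL chevF4.Idx K) ∈ chevF4.diagonalSubgroup K := by
    intro x
    rw [hH1, Subgroup.mem_subgroupOf, Subgroup.mem_inf]
    exact ⟨fun h => h.1, fun h => ⟨h, (Subgroup.mem_inf.1 x.2).2⟩⟩
  have hnorm : H1.Normal := by
    constructor
    intro h hh n
    rw [hmemH1] at hh ⊢
    have := conj_mem_diag chevF4 hF4 K ((n : GL chevF4.Idx K))⁻¹ _ (inv_mem (Subgroup.mem_inf.1 n.2).1) hh
    rw [inv_inv] at this
    simpa using this
  let q := QuotientGroup.mk' H1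
  have hq : q.ker = H1 := QuotientGroup.ker_mk' _
  have hqs : Function.Surjective q := QuotientGroup.mk'_surjective _
  have hq1 : ∀ x : ↥N1, q x = 1 ↔ (x : GL chevF4.Idx K) ∈ chevF4.diagonalSubgroup K := by
    intro x
    rw [← MonoidHom.mem_ker, hq, hmemH1]
  have hJ1 : [0, 3] ∈ f4Fund := by decide
  have hJ2 : [1, 2, 1, 2] ∈ f4Fund := by decide
  have hgN : ∀ J ∈ f4Fund, nWordGL chevF4 hF4 K J ∈ N1 := fun J hJ =>
    Subgroup.mem_inf.2 ⟨nWordGL_mem chevF4 hF4 K J (f4_fund_lt J hJ), f4_fund_mem hθ J hJ⟩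
  let n1 : ↥N1 := ⟨nWordGL chevF4 hF4 K [0, 3], hgN _ hJ1⟩
  let n2 : ↥N1 := ⟨nWordGL chevF4 hF4 K [1, 2, 1, 2], hgN _ hJ2⟩
  have hpow : ∀ k : ℕ, (((n1 * n2) ^ k : ↥N1) : GL chevF4.Idx K) =
      nWordGL chevF4 hF4 K (List.replicate k ([0, 3] ++ [1, 2, 1, 2])).flatten := by
    intro k
    rw [f4_nWordGL_replicate, nWordGL_append, Subgroup.coe_pow, Subgroup.coe_mul]
  have ha : (q (n1 * n2)) ^ 8 = 1 := by
    rw [← map_pow, hq1, hpow]
    exact f4_diag_of_word_id _ (f4_rep_lt 8) f4_rel_a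
  have hb : q n1 * q n1 = 1 := by
    rw [← map_mul, hq1]
    show nWordGL chevF4 hF4 K [0, 3] * nWordGL chevF4 hF4 K [0, 3] ∈ _
    rw [← nWordGL_append]
    exact f4_diag_of_word_id _ (by decide) f4_rel_b
  have hab : q n1 * q (n1 * n2) * q n1 = (q (n1 * n2))⁻¹ := by
    rw [eq_inv_iff_mul_eq_one, ← map_mul, ← map_mul, ← map_mul, hq1]
    show nWordGL chevF4 hF4 K [0, 3] * (nWordGL chevF4 hF4 K [0, 3] * nWordGL chevF4 hF4 K [1, 2, 1, 2]) *
      nWordGL chevF4 hF4 K [0, 3] * (nWordGL chevF4 hF4 K [0, 3] * nWordGL chevF4 hF4 K [1, 2, 1, 2]) ∈ _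
    rw [← nWordGL_append, ← nWordGL_append, ← nWordGL_append, ← nWordGL_append]
    exact f4_diag_of_word_id _ (by decide) f4_rel_ab
  obtain ⟨ψ, hψr, hψs⟩ := dihedral_lift 8 (q (n1 * n2)) (q n1) ha hb hab
  -- surjectivity
  have hr1 : q (n1 * n2) ∈ ψ.range := by
    have h1 : (1 : ZMod 8).val = 1 := by decide
    exact ⟨DihedralGroup.r 1, by rw [hψr, h1, pow_one]⟩
  have hs0 : q n1 ∈ ψ.range := ⟨DihedralGroup.sr 0, by rw [hψs]; simp⟩
  have hs2 : q n2 ∈ ψ.range := by
    have : q n2 = (q n1)⁻¹ * q (n1 * n2) := by rw [map_mul]; group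
    rw [this]
    exact mul_mem (inv_mem hs0) hr1
  have hsur : Function.Surjective ψ := by
    intro x
    obtain ⟨n, rfl⟩ := hqs x
    obtain ⟨hnN, hnT⟩ := Subgroup.mem_inf.1 n.2
    obtain ⟨Js, hJs, h, hh, e⟩ := f4_mono_folded hσ hθ hle n.1 hnN hnT
    have hprod : ∀ (Js : List (List ℕ)), (∀ J ∈ Js, J ∈ f4Fund) →
        ∀ hp : (Js.map fun J => nWordGL chevF4 hF4 K J).prod ∈ N1, q ⟨_, hp⟩ ∈ ψ.range := by
      intro Js
      induction Js with
      | nil =>
        intro _ hp
        have : (⟨(([] : List (List ℕ)).map fun J => nWordGL chevF4 hF4 K J).prod, hp⟩ : ↥N1) = 1 :=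
          Subtype.ext (by simp)
        rw [this, map_one]
        exact one_mem _
      | cons J Js ih =>
        intro hJs hp
        have hJ := hJs J (List.mem_cons_self ..)
        have hJs' : ∀ J' ∈ Js, J' ∈ f4Fund := fun J' hJ' => hJs J' (List.mem_cons_of_mem _ hJ')
        have hp' : (Js.map fun J => nWordGL chevF4 hF4 K J).prod ∈ N1 := by
          apply Subgroup.list_prod_mem
          intro x hx
          obtain ⟨J', hJ', rfl⟩ := List.mem_map.1 hx
          exact hgN J' (hJs' J' hJ')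
        have e2 : (⟨((J :: Js).map fun J => nWordGL chevF4 hF4 K J).prod, hp⟩ : ↥N1) =
            ⟨nWordGL chevF4 hF4 K J, hgN J hJ⟩ * ⟨(Js.map fun J => nWordGL chevF4 hF4 K J).prod, hp'⟩ := by
          apply Subtype.ext
          simp
        rw [e2, map_mul]
        refine mul_mem ?_ (ih hJs' hp')
        simp only [f4Fund, List.mem_cons, List.not_mem_nil, or_false] at hJ
        rcases hJ with rfl | rfl
        · exact hs0
        · exact hs2
    have hpN : (Js.map fun J => nWordGL chevF4 hF4 K J).prod ∈ N1 := by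
      apply Subgroup.list_prod_mem
      intro x hx
      obtain ⟨J', hJ', rfl⟩ := List.mem_map.1 hx
      exact hgN J' (hJs J' hJ')
    have hhN : h ∈ N1 := Subgroup.mem_inf.2 ⟨hHN (Subgroup.mem_inf.1 hh).1, (Subgroup.mem_inf.1 hh).2⟩
    have en : n = (⟨_, hpN⟩ : ↥N1) * ⟨h, hhN⟩ := Subtype.ext e
    have hqh : q ⟨h, hhN⟩ = 1 := (hq1 _).2 (Subgroup.mem_inf.1 hh).1
    rw [en, map_mul, hqh, mul_one]
    exact hprod Js hJs hpN
  -- injectivity
  have hinj : Function.Injective ψ := by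
    rw [injective_iff_map_eq_one]
    intro w hw
    rcases w with i | i
    · rw [hψr, ← map_pow, hq1, hpow] at hw
      have hid := f4_word_id_of_diag _ (f4_rep_lt i.val) hw
      by_cases h0 : i.val = 0
      · have : i = 0 := (ZMod.val_eq_zero i).1 h0
        rw [this]
        rfl
      · exfalso
        obtain ⟨r, hr, hne⟩ := f4_rot_ne i.val (ZMod.val_lt i) h0
        exact hne (hid r hr)
    · exfalso
      rw [hψs, ← map_pow, ← map_mul, hq1] at hw
      have hw' : nWordGL chevF4 hF4 K ([0, 3] ++ (List.replicate i.val ([0, 3] ++ [1, 2, 1, 2])).flatten) ∈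
          chevF4.diagonalSubgroup K := by
        rw [nWordGL_append, ← hpow]
        exact hw
      have hlt : ∀ j ∈ [0, 3] ++ (List.replicate i.val ([0, 3] ++ [1, 2, 1, 2])).flatten, j < chevF4.rank := by
        intro j hj
        rcases List.mem_append.1 hj with h | h
        · have : ∀ j' ∈ [0, 3], j' < chevF4.rank := by decide
          exact this j h
        · exact f4_rep_lt _ j h
      have hid := f4_word_id_of_diag _ hlt hw'
      obtain ⟨r, hr, hne⟩ := f4_refl_ne i.val (ZMod.val_lt i)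
      exact hne (hid r hr)
  let e := MulEquiv.ofBijective ψ ⟨hinj, hsur⟩
  refine ⟨e.symm.toMonoidHom.comp q, e.symm.surjective.comp hqs, ?_⟩
  ext g
  rw [MonoidHom.mem_ker, MonoidHom.comp_apply]
  have h1 : g ∈ H1 ↔ q g = 1 := by rw [← MonoidHom.mem_ker, hq]
  rw [h1]
  exact e.symm.map_eq_one_iff

end main

end Cfsg.Agent.Lib.Helper36
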