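import Cfsg.Agent.Lib.Helper20.G2cDefs
import Cfsg.Agent.Lib.Helper18.ChevNWord

/-! # G2c mini-hive (S2180), leaf G2C-NRIG (helper36): an element of `N` that maps some `T c d e`, `c ≠ 0`,
to some `T c' d' e'` normalises the radical `U_b` of `G₂(F)` -/

set_option autoImplicit false

namespace Cfsg.Agent.Lib.Helper20.G2c

open Cfsg Cfsg.Lie Cfsg.Agent.Lib.Helper36

section cols
variable (D : ChevalleyDatum) (F : Type*) [Field F]

/-- the basis vector `h_i` -/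
def g2cnrig_eh (i : Fin D.rank) : D.Idx → F := Pi.single (Sum.inl i) 1
/-- the basis vector `e_s` -/
def g2cnrig_ee (s : Fin D.nroots) : D.Idx → F := Pi.single (Sum.inr s) 1

theorem g2cnrig_x_eh (r : ℕ) (hr : r < D.nroots) (t : F) (i : Fin D.rank) :
    (D.x F r t).mulVec (g2cnrig_eh D F i) =
      g2cnrig_eh D F i - (((D.cartan i.val r : ℤ) : F) * t) • g2cnrig_ee D F ⟨r, hr⟩ := by
  unfold g2cnrig_eh g2cnrig_ee
  rw [Matrix.mulVec_single_one]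
  funext row
  unfold ChevalleyDatum.x
  rw [dif_pos hr]
  rcases row with i' | u
  · simp [ChevalleyDatum.xMat, Pi.single_apply]
  · simp only [ChevalleyDatum.xMat, Matrix.col_apply, Matrix.of_apply, Pi.sub_apply, Pi.smul_apply, Pi.single_apply,
      ChevalleyDatum.cartan, smul_eq_mul]
    by_cases h : u = ⟨r, hr⟩
    · subst h; simp
    · simp [h]

theorem g2cnrig_x_ee (r s : ℕ) (hr : r < D.nroots) (hs : s < D.nroots) (hneg : s ≠ D.neg r)
    (hch : ∀ u < D.nroots, D.chainCoeff r s u = []) (t : F) :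
    (D.x F r t).mulVec (g2cnrig_ee D F ⟨s, hs⟩) = g2cnrig_ee D F ⟨s, hs⟩ := by
  unfold g2cnrig_ee
  rw [Matrix.mulVec_single_one]
  funext row
  unfold ChevalleyDatum.x
  rw [dif_pos hr]
  simp only [ChevalleyDatum.xMat, Matrix.col_apply, Matrix.of_apply, Pi.single_apply]
  by_cases h1 : (⟨s, hs⟩ : Fin D.nroots) = ⟨r, hr⟩
  · rw [if_pos h1]
    rcases row with i' | u
    · simp
    · rw [h1]; simp
  · rw [if_neg h1]
    have h2 : ¬ (s = D.negIdx.getD r 0) := hneg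
    rw [if_neg h2]
    rcases row with i' | u
    · simp
    · simp only [hch u.val u.isLt, List.map_nil, List.sum_nil, add_zero, Sum.inr.injEq]

theorem g2cnrig_triple (s1 s2 s3 : ℕ) (h1 : s1 < D.nroots) (h2 : s2 < D.nroots) (h3 : s3 < D.nroots)
    (n12 : s2 ≠ D.neg s1) (c12 : ∀ u < D.nroots, D.chainCoeff s1 s2 u = [])
    (n13 : s3 ≠ D.neg s1) (c13 : ∀ u < D.nroots, D.chainCoeff s1 s3 u = [])
    (n23 : s3 ≠ D.neg s2) (c23 : ∀ u < D.nroots, D.chainCoeff s2 s3 u = [])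
    (a b c : F) (i : Fin D.rank) :
    (D.x F s1 a * D.x F s2 b * D.x F s3 c).mulVec (g2cnrig_eh D F i) =
      g2cnrig_eh D F i - (((D.cartan i.val s1 : ℤ) : F) * a) • g2cnrig_ee D F ⟨s1, h1⟩
        - (((D.cartan i.val s2 : ℤ) : F) * b) • g2cnrig_ee D F ⟨s2, h2⟩
        - (((D.cartan i.val s3 : ℤ) : F) * c) • g2cnrig_ee D F ⟨s3, h3⟩ := by
  rw [← Matrix.mulVec_mulVec, ← Matrix.mulVec_mulVec, g2cnrig_x_eh D F s3 h3, Matrix.mulVec_sub,
    Matrix.mulVec_smul, g2cnrig_x_ee D F s2 s3 h2 h3 n23 c23, g2cnrig_x_eh D F s2 h2, Matrix.mulVec_sub,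
    Matrix.mulVec_sub, Matrix.mulVec_smul, Matrix.mulVec_smul, g2cnrig_x_ee D F s1 s2 h1 h2 n12 c12,
    g2cnrig_x_ee D F s1 s3 h1 h3 n13 c13, g2cnrig_x_eh D F s1 h1]

end cols

section g2
variable (F : Type*) [Field F]

/-- the conditions on a triple of roots `(s1, s2, s3)` that make `x_{s1} x_{s2} x_{s3} = T` impossible -/
def g2cnrig_bad (s1 s2 s3 : ℕ) : Prop :=
  s1 < chevG2.nroots ∧ s2 < chevG2.nroots ∧ s3 < chevG2.nroots ∧
  s2 ≠ chevG2.neg s1 ∧ (∀ u < chevG2.nroots, chevG2.chainCoeff s1 s2 u = []) ∧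
  s3 ≠ chevG2.neg s1 ∧ (∀ u < chevG2.nroots, chevG2.chainCoeff s1 s3 u = []) ∧
  s3 ≠ chevG2.neg s2 ∧ (∀ u < chevG2.nroots, chevG2.chainCoeff s2 s3 u = []) ∧
  s1 ≠ 9 ∧ s1 ≠ 10 ∧ s1 ≠ 11 ∧ s1 ≠ s2 ∧ s1 ≠ s3 ∧
  ∃ i < chevG2.rank, chevG2.cartan i s1 = 1 ∨ chevG2.cartan i s1 = -1

instance (s1 s2 s3 : ℕ) : Decidable (g2cnrig_bad s1 s2 s3) := by
  unfold g2cnrig_bad
  infer_instance

theorem g2cnrig_T_col (c' d' e' : F) (i : Fin chevG2.rank) :
    ((T F c' d' e' : GL chevG2.Idx F) : Matrix chevG2.Idx chevG2.Idx F).mulVec (g2cnrig_eh chevG2 F i) =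
      g2cnrig_eh chevG2 F i - (((chevG2.cartan i.val 9 : ℤ) : F) * c') • g2cnrig_ee chevG2 F ⟨9, by decide⟩
        - (((chevG2.cartan i.val 10 : ℤ) : F) * d') • g2cnrig_ee chevG2 F ⟨10, by decide⟩
        - (((chevG2.cartan i.val 11 : ℤ) : F) * e') • g2cnrig_ee chevG2 F ⟨11, by decide⟩ := by
  unfold T xg
  rw [Units.val_mul, Units.val_mul, xGL_coe, xGL_coe, xGL_coe]
  exact g2cnrig_triple chevG2 F 9 10 11 (by decide) (by decide) (by decide) (by decide) (by decide) (by decide)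
    (by decide) (by decide) (by decide) c' d' e' i

theorem g2cnrig_contra (s1 s2 s3 : ℕ) (hb : g2cnrig_bad s1 s2 s3) (a b c c' d' e' : F)
    (h : xg F s1 a * xg F s2 b * xg F s3 c = T F c' d' e') : a = 0 := by
  obtain ⟨h1, h2, h3, n12, c12, n13, c13, n23, c23, ne9, ne10, ne11, ne12, ne13, i, hi, hA⟩ := hb
  have hm : ((xg F s1 a * xg F s2 b * xg F s3 c : GL chevG2.Idx F) : Matrix chevG2.Idx chevG2.Idx F) =
      chevG2.x F s1 a * chevG2.x F s2 b * chevG2.x F s3 c := by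
    unfold xg
    rw [Units.val_mul, Units.val_mul, xGL_coe, xGL_coe, xGL_coe]
  have e1 := g2cnrig_triple chevG2 F s1 s2 s3 h1 h2 h3 n12 c12 n13 c13 n23 c23 a b c ⟨i, hi⟩
  have e2 := g2cnrig_T_col F c' d' e' ⟨i, hi⟩
  rw [← hm, h, e2] at e1
  have e3 := congrFun e1 (Sum.inr ⟨s1, h1⟩)
  have q9 : (⟨s1, h1⟩ : Fin chevG2.nroots) ≠ ⟨9, by decide⟩ := fun e => ne9 (Fin.mk.inj_iff.1 e)
  have q10 : (⟨s1, h1⟩ : Fin chevG2.nroots) ≠ ⟨10, by decide⟩ := fun e => ne10 (Fin.mk.inj_iff.1 e)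
  have q11 : (⟨s1, h1⟩ : Fin chevG2.nroots) ≠ ⟨11, by decide⟩ := fun e => ne11 (Fin.mk.inj_iff.1 e)
  have q2 : (⟨s1, h1⟩ : Fin chevG2.nroots) ≠ ⟨s2, h2⟩ := fun e => ne12 (Fin.mk.inj_iff.1 e)
  have q3 : (⟨s1, h1⟩ : Fin chevG2.nroots) ≠ ⟨s3, h3⟩ := fun e => ne13 (Fin.mk.inj_iff.1 e)
  simp only [g2cnrig_eh, g2cnrig_ee, Pi.sub_apply, Pi.smul_apply, Pi.single_apply, smul_eq_mul, reduceCtorEq,
    if_false, Sum.inr.injEq, q9, q10, q11, q2, q3, if_true, mul_zero, sub_zero, mul_one, zero_sub] at e3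
  rcases hA with hA | hA
  · rw [hA] at e3
    simpa using e3.symm
  · rw [hA] at e3
    simpa using e3.symm

/-- the orbit of `(7, 8, 9, 10, 11)` under the Weyl group -/
def g2cnrig_O : List (ℕ × ℕ × ℕ × ℕ × ℕ) :=
  [(7, 8, 9, 10, 11), (4, 9, 8, 6, 11), (8, 7, 9, 11, 10), (3, 9, 7, 5, 10), (9, 4, 8, 11, 6), (2, 8, 4, 1, 6),
   (9, 3, 7, 10, 5), (2, 7, 3, 0, 5), (8, 2, 4, 6, 1), (3, 4, 2, 0, 1), (7, 2, 3, 5, 0), (4, 3, 2, 1, 0)]

theorem g2cnrig_O_closed : ∀ τ ∈ g2cnrig_O, ∀ i < chevG2.rank,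
    (chevG2.reflectRoot i τ.1, chevG2.reflectRoot i τ.2.1, chevG2.reflectRoot i τ.2.2.1,
      chevG2.reflectRoot i τ.2.2.2.1, chevG2.reflectRoot i τ.2.2.2.2) ∈ g2cnrig_O := by decide

theorem g2cnrig_O_spec : ∀ τ ∈ g2cnrig_O,
    (τ.2.2.1 = 9 ∧ ((τ.1 = 7 ∧ τ.2.1 = 8 ∧ τ.2.2.2.1 = 10 ∧ τ.2.2.2.2 = 11) ∨
      (τ.1 = 8 ∧ τ.2.1 = 7 ∧ τ.2.2.2.1 = 11 ∧ τ.2.2.2.2 = 10))) ∨
    g2cnrig_bad τ.2.2.1 τ.2.2.2.1 τ.2.2.2.2 := by decide

theorem g2cnrig_orbit (l : List ℕ) (hl : ∀ i ∈ l, i < chevG2.rank) :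
    (wRoot chevG2 l 7, wRoot chevG2 l 8, wRoot chevG2 l 9, wRoot chevG2 l 10, wRoot chevG2 l 11) ∈ g2cnrig_O := by
  induction l with
  | nil => decide
  | cons i l ih =>
    exact g2cnrig_O_closed _ (ih fun i' hi' => hl i' (List.mem_cons_of_mem _ hi')) i (hl i (List.mem_cons_self ..))

theorem g2cnrig_inRootSub (r : ℕ) :
    chevG2.InRootSub {1} r ↔ (r < chevG2.nroots ∧ (chevG2.coroot.getD r #[]).getD 0 0 = 0) := by
  unfold ChevalleyDatum.InRootSub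
  constructor
  · rintro ⟨h1, h2⟩
    exact ⟨h1, h2 0 (by decide) (by simp)⟩
  · rintro ⟨h1, h2⟩
    refine ⟨h1, fun i hi hiJ => ?_⟩
    have hi2 : i < 2 := hi
    have h3 : i ≠ 1 := fun e => hiJ (by rw [e]; rfl)
    have h4 : i = 0 := by omega
    rw [h4]; exact h2

theorem g2cnrig_gen_tab : ∀ r < chevG2.nroots,
    (chevG2.IsPosRoot r ∧ ¬ (r < chevG2.nroots ∧ (chevG2.coroot.getD r #[]).getD 0 0 = 0)) ↔
      r ∈ [7, 8, 9, 10, 11] := by decide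

theorem g2cnrig_gen_iff (r : ℕ) :
    (chevG2.IsPosRoot r ∧ ¬ chevG2.InRootSub {1} r) ↔ r ∈ [7, 8, 9, 10, 11] := by
  rw [g2cnrig_inRootSub]
  by_cases hr : r < chevG2.nroots
  · exact g2cnrig_gen_tab r hr
  · constructor
    · rintro ⟨h1, -⟩
      exact absurd h1.1 hr
    · intro h
      exfalso
      apply hr
      simp only [List.mem_cons, List.not_mem_nil, or_false] at h
      rcases h with rfl | rfl | rfl | rfl | rfl <;> decide

theorem g2cnrig_mem_radical (r : ℕ) (hr : r ∈ [7, 8, 9, 10, 11]) (t : F) :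
    xg F r t ∈ chevG2.unipotentRadical F {1} := by
  obtain ⟨hp, hn⟩ := (g2cnrig_gen_iff r).2 hr
  exact Subgroup.subset_closure ⟨r, t, hp, hn, xGL_coe chevG2 hG2 F r t⟩

theorem g2cnrig_conj_mem (m : GL chevG2.Idx F)
    (hm : ∀ r ∈ [7, 8, 9, 10, 11], ∀ t : F, m * xg F r t * m⁻¹ ∈ chevG2.unipotentRadical F {1})
    (g : GL chevG2.Idx F) (hg : g ∈ chevG2.unipotentRadical F {1}) :
    m * g * m⁻¹ ∈ chevG2.unipotentRadical F {1} := by
  have hg' := hg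
  unfold ChevalleyDatum.unipotentRadical at hg'
  induction hg' using Subgroup.closure_induction with
  | mem x hx =>
    obtain ⟨r, t, hp, hn, hx⟩ := hx
    have e : x = xg F r t := Units.ext (by rw [hx]; rfl)
    rw [e]
    exact hm r ((g2cnrig_gen_iff r).1 ⟨hp, hn⟩) t
  | one =>
    have : m * 1 * m⁻¹ = 1 := by group
    rw [this]; exact one_mem _
  | mul a b ha' hb' ha hb =>
    have e : m * (a * b) * m⁻¹ = (m * a * m⁻¹) * (m * b * m⁻¹) := by group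
    rw [e]
    exact mul_mem (ha ha') (hb hb')
  | inv a ha' ha =>
    have e : m * a⁻¹ * m⁻¹ = (m * a * m⁻¹)⁻¹ := by group
    rw [e]
    exact inv_mem (ha ha')

theorem g2cnrig_norm (n : GL chevG2.Idx F) (σ : ℕ → ℕ)
    (hconj : ∀ r ∈ [7, 8, 9, 10, 11], ∃ k : F, k ≠ 0 ∧ ∀ t : F, n * xg F r t * n⁻¹ = xg F (σ r) (k * t))
    (hσ : ∀ r ∈ [7, 8, 9, 10, 11], σ r ∈ [7, 8, 9, 10, 11])
    (hsurj : ∀ r' ∈ [7, 8, 9, 10, 11], ∃ r ∈ [7, 8, 9, 10, 11], σ r = r') :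
    n ∈ Subgroup.normalizer (chevG2.unipotentRadical F {1} : Set (GL chevG2.Idx F)) := by
  rw [Subgroup.mem_set_normalizer_iff]
  intro g
  rw [SetLike.mem_coe, SetLike.mem_coe]
  constructor
  · intro hg
    refine g2cnrig_conj_mem F n (fun r hr t => ?_) g hg
    obtain ⟨k, -, hk⟩ := hconj r hr
    rw [hk t]
    exact g2cnrig_mem_radical F _ (hσ r hr) _
  · intro hg
    have key : ∀ r' ∈ [7, 8, 9, 10, 11], ∀ t : F,
        n⁻¹ * xg F r' t * n⁻¹⁻¹ ∈ chevG2.unipotentRadical F {1} := by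
      intro r' hr' t
      obtain ⟨r, hr, rfl⟩ := hsurj r' hr'
      obtain ⟨k, hk0, hk⟩ := hconj r hr
      have e : xg F (σ r) t = n * xg F r (k⁻¹ * t) * n⁻¹ := by
        rw [hk, ← mul_assoc, mul_inv_cancel₀ hk0, one_mul]
      rw [e]
      have e2 : n⁻¹ * (n * xg F r (k⁻¹ * t) * n⁻¹) * n⁻¹⁻¹ = xg F r (k⁻¹ * t) := by group
      rw [e2]
      exact g2cnrig_mem_radical F r hr _
    have h2 := g2cnrig_conj_mem F n⁻¹ key _ hg
    have e3 : n⁻¹ * (n * g * n⁻¹) * n⁻¹⁻¹ = g := by group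
    rwa [e3] at h2

/-- G2C-NRIG -/
theorem g2cnrig_monomial_rigid (n : GL chevG2.Idx F) (hn : n ∈ chevG2.monomialSubgroup F) (c d e c' d' e' : F)
    (hc : c ≠ 0) (h : n * T F c d e * n⁻¹ = T F c' d' e') :
    n ∈ Subgroup.normalizer (chevG2.unipotentRadical F {1} : Set (GL chevG2.Idx F)) := by
  obtain ⟨l, hl, hconj⟩ := Cfsg.Agent.Lib.Helper18.exists_word_conj chevG2 hG2 F n hn
  have horb := g2cnrig_orbit l hl
  obtain ⟨k9, hk9, h9⟩ := hconj 9 (by decide)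
  obtain ⟨k10, hk10, h10⟩ := hconj 10 (by decide)
  obtain ⟨k11, hk11, h11⟩ := hconj 11 (by decide)
  have hT : xg F (wRoot chevG2 l 9) (k9 * c) * xg F (wRoot chevG2 l 10) (k10 * d) *
      xg F (wRoot chevG2 l 11) (k11 * e) = T F c' d' e' := by
    rw [← h]
    unfold T xg
    rw [← h9, ← h10, ← h11]
    group
  rcases g2cnrig_O_spec _ horb with ⟨e9, hcase⟩ | hbad
  · simp only at e9 hcase
    have hmem : ∀ r ∈ [7, 8, 9, 10, 11], r < chevG2.nroots := by decide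
    apply g2cnrig_norm F n (fun r => wRoot chevG2 l r)
    · intro r hr
      exact hconj r (hmem r hr)
    · intro r hr
      simp only [List.mem_cons, List.not_mem_nil, or_false] at hr
      rcases hcase with ⟨a1, a2, a3, a4⟩ | ⟨a1, a2, a3, a4⟩ <;> rcases hr with rfl | rfl | rfl | rfl | rfl <;>
        simp [a1, a2, a3, a4, e9]
    · intro r' hr'
      simp only [List.mem_cons, List.not_mem_nil, or_false] at hr'
      rcases hcase with ⟨a1, a2, a3, a4⟩ | ⟨a1, a2, a3, a4⟩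
      · rcases hr' with rfl | rfl | rfl | rfl | rfl
        · exact ⟨7, by simp, a1⟩
        · exact ⟨8, by simp, a2⟩
        · exact ⟨9, by simp, e9⟩
        · exact ⟨10, by simp, a3⟩
        · exact ⟨11, by simp, a4⟩
      · rcases hr' with rfl | rfl | rfl | rfl | rfl
        · exact ⟨8, by simp, a2⟩
        · exact ⟨7, by simp, a1⟩
        · exact ⟨9, by simp, e9⟩
        · exact ⟨11, by simp, a4⟩
        · exact ⟨10, by simp, a3⟩
  · exfalso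
    have := g2cnrig_contra F _ _ _ hbad _ _ _ _ _ _ hT
    exact mul_ne_zero hk9 hc this

end g2

end Cfsg.Agent.Lib.Helper20.G2c
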