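import Cfsg.Agent.Lib.Helper20.G2cDefs
import Cfsg.Agent.S1025

/-! # G2c mini-hive (S2180), leaf G2C-UORB (helper36): conjugation by `U` keeps the shape `T c · ·` -/

set_option autoImplicit false

namespace Cfsg.Agent.Lib.Helper20.G2c

open Cfsg Cfsg.Lie Cfsg.Agent.Lib.Helper36

theorem g2cuorb_conj_comm {G : Type*} [Group G] (a b : G) (h : a * b = b * a) : a * b * a⁻¹ = b := by
  rw [h]; group

theorem g2cuorb_conj_one {G : Type*} [Group G] (a b g : G) (h : a * b = b * a * g) (hg : a * g = g * a) :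
    a * b * a⁻¹ = b * g := by
  calc a * b * a⁻¹ = b * (a * g) * a⁻¹ := by rw [h]; group
    _ = b * (g * a) * a⁻¹ := by rw [hg]
    _ = b * g := by group

theorem g2cuorb_conj3 {G : Type*} [Group G] (a x y z : G) :
    a * (x * y * z) * a⁻¹ = (a * x * a⁻¹) * (a * y * a⁻¹) * (a * z * a⁻¹) := by group

variable (F : Type*) [Field F]

theorem g2cuorb_hp (c : ℤ) (hc : c % 0 = 0) : (c : F) = 0 := by
  have h0 : c = 0 := by simpa using hc
  rw [h0]
  simp

theorem g2cuorb_comm (r s : ℕ) (hr : r < chevG2.nroots) (h : commVanish chevG2 0 r s = true) (t u : F) :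
    xg F s u * xg F r t = xg F r t * xg F s u :=
  comm_of_vanish chevG2 hG2 F 0 (g2cuorb_hp F) r s hr h t u

theorem g2cuorb_self (r : ℕ) (s t : F) : xg F r s * xg F r t = xg F r t * xg F r s := by
  unfold xg
  rw [← xGL_add, ← xGL_add, add_comm]

/-- a single term in the commutator formula -/
theorem g2cuorb_comm_one (r s : ℕ) (hr : r < chevG2.nroots) (hs : s < chevG2.nroots) (hne1 : s ≠ r)
    (hne2 : s ≠ chevG2.neg r) (g : ℕ) (k : ℤ) (hone : chevG2.commTerms r s = [(g, k, 1, 1)]) (t u : F) :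
    xg F s u * xg F r t = xg F r t * xg F s u * xg F g ((k : F) * (-t) * u) := by
  have h : xg F s u * xg F r t = xg F r t * xg F s u * wordGL chevG2 hG2 F (chevG2.commWord F r s t u) := by
    apply Units.ext
    simp only [Units.val_mul, xGL_coe, wordGL_coe]
    exact Cfsg.Agent.S1025.result (F := F) chevG2 hG2 r s hr hs hne1 hne2 t u
  have hw : wordGL chevG2 hG2 F (chevG2.commWord F r s t u) = xg F g ((k : F) * (-t) * u) := by
    unfold ChevalleyDatum.commWord wordGL
    rw [hone]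
    simp
  rw [hw] at h
  exact h

theorem g2cuorb_gen (ρ : ℕ) (hρ : ρ ∈ [6, 7, 8, 9, 10, 11]) (s c d e : F) :
    ∃ d' e' : F, xg F ρ s * T F c d e * (xg F ρ s)⁻¹ = T F c d' e' := by
  have hnr : chevG2.nroots = 12 := by decide
  have c910 : ∀ t u : F, xg F 10 u * xg F 9 t = xg F 9 t * xg F 10 u :=
    g2cuorb_comm F 9 10 (by decide) (by decide)
  have c911 : ∀ t u : F, xg F 11 u * xg F 9 t = xg F 9 t * xg F 11 u :=
    g2cuorb_comm F 9 11 (by decide) (by decide)
  have c1011 : ∀ t u : F, xg F 11 u * xg F 10 t = xg F 10 t * xg F 11 u :=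
    g2cuorb_comm F 10 11 (by decide) (by decide)
  unfold T
  rw [g2cuorb_conj3]
  simp only [List.mem_cons, List.not_mem_nil, or_false] at hρ
  rcases hρ with rfl | rfl | rfl | rfl | rfl | rfl
  · -- ρ = 6
    have h9 : xg F 6 s * xg F 9 c = xg F 9 c * xg F 6 s := g2cuorb_comm F 9 6 (by decide) (by decide) c s
    have h11 : ∀ t : F, xg F 6 s * xg F 11 t = xg F 11 t * xg F 6 s :=
      fun t => g2cuorb_comm F 11 6 (by decide) (by decide) t s
    have h10 := g2cuorb_comm_one F 10 6 (by decide) (by decide) (by decide) (by decide) 11 (-1) (by decide) d s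
    rw [g2cuorb_conj_comm _ _ h9, g2cuorb_conj_comm _ _ (h11 e), g2cuorb_conj_one _ _ _ h10 (h11 _)]
    refine ⟨d, ((-1 : ℤ) : F) * (-d) * s + e, ?_⟩
    unfold xg
    rw [xGL_add]
    group
  · -- ρ = 7
    have h10 : ∀ t : F, xg F 7 s * xg F 10 t = xg F 10 t * xg F 7 s :=
      fun t => g2cuorb_comm F 10 7 (by decide) (by decide) t s
    have h11 : xg F 7 s * xg F 11 e = xg F 11 e * xg F 7 s := g2cuorb_comm F 11 7 (by decide) (by decide) e s
    have h9 := g2cuorb_comm_one F 9 7 (by decide) (by decide) (by decide) (by decide) 10 (-3) (by decide) c s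
    rw [g2cuorb_conj_comm _ _ (h10 d), g2cuorb_conj_comm _ _ h11, g2cuorb_conj_one _ _ _ h9 (h10 _)]
    refine ⟨((-3 : ℤ) : F) * (-c) * s + d, e, ?_⟩
    unfold xg
    rw [xGL_add]
    group
  · -- ρ = 8
    have h10 : xg F 8 s * xg F 10 d = xg F 10 d * xg F 8 s := g2cuorb_comm F 10 8 (by decide) (by decide) d s
    have h11 : ∀ t : F, xg F 8 s * xg F 11 t = xg F 11 t * xg F 8 s :=
      fun t => g2cuorb_comm F 11 8 (by decide) (by decide) t s
    have h9 := g2cuorb_comm_one F 9 8 (by decide) (by decide) (by decide) (by decide) 11 (-3) (by decide) c s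
    rw [g2cuorb_conj_comm _ _ h10, g2cuorb_conj_comm _ _ (h11 e), g2cuorb_conj_one _ _ _ h9 (h11 _)]
    refine ⟨d, ((-3 : ℤ) : F) * (-c) * s + e, ?_⟩
    rw [mul_assoc (xg F 9 c), c1011, ← mul_assoc]
    unfold xg
    rw [xGL_add]
    group
  · -- ρ = 9
    rw [g2cuorb_conj_comm _ _ (g2cuorb_self F 9 s c), g2cuorb_conj_comm _ _ (c910 s d).symm,
      g2cuorb_conj_comm _ _ (c911 s e).symm]
    exact ⟨d, e, rfl⟩
  · -- ρ = 10
    rw [g2cuorb_conj_comm _ _ (c910 c s), g2cuorb_conj_comm _ _ (g2cuorb_self F 10 s d),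
      g2cuorb_conj_comm _ _ (c1011 s e).symm]
    exact ⟨d, e, rfl⟩
  · -- ρ = 11
    rw [g2cuorb_conj_comm _ _ (c911 c s), g2cuorb_conj_comm _ _ (c1011 d s),
      g2cuorb_conj_comm _ _ (g2cuorb_self F 11 s e)]
    exact ⟨d, e, rfl⟩

theorem g2cuorb_pos : ∀ r < chevG2.nroots, chevG2.IsPosRoot r → r ∈ [6, 7, 8, 9, 10, 11] := by decide

/-- G2C-UORB -/
theorem g2cuorb_pos_conj_T (u : GL chevG2.Idx F) (hu : u ∈ chevG2.posUnipotent F) (c d e : F) :
    ∃ d' e' : F, u * T F c d e * u⁻¹ = T F c d' e' := by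
  have key : ∀ u ∈ chevG2.posUnipotent F, ∀ c d e : F, ∃ d' e' : F, u * T F c d e * u⁻¹ = T F c d' e' := by
    intro u hu
    unfold ChevalleyDatum.posUnipotent at hu
    induction hu using Subgroup.closure_induction'' with
    | mem x hx =>
      obtain ⟨r, t, hr, hx⟩ := hx
      have e1 : x = xg F r t := Units.ext hx
      rw [e1]
      intro c d e
      exact g2cuorb_gen F r (g2cuorb_pos r hr.1 hr) t c d e
    | inv_mem x hx =>
      obtain ⟨r, t, hr, hx⟩ := hx
      have e1 : x = xg F r t := Units.ext hx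
      rw [e1]
      unfold xg
      rw [xGL_inv]
      intro c d e
      exact g2cuorb_gen F r (g2cuorb_pos r hr.1 hr) (-t) c d e
    | one =>
      intro c d e
      exact ⟨d, e, by group⟩
    | mul a b _ _ ha hb =>
      intro c d e
      obtain ⟨d1, e1, h1⟩ := hb c d e
      obtain ⟨d2, e2, h2⟩ := ha c d1 e1
      exact ⟨d2, e2, by rw [← h2, ← h1]; group⟩
  exact key u hu c d e

end Cfsg.Agent.Lib.Helper20.G2c
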