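import Cfsg.Agent.Lib.Helper36.ChevRank1Pair

/-! # `G₂(F)`, `2 ≠ 0`: the involution `t₀ = h_b(-1) = h_{2a+b}(-1)` and the two commuting `SL₂(F)`
`L₁ = ⟨X_6, X_5⟩` (long), `L₂ = ⟨X_9, X_2⟩` (short) (helper36; for helper37's G2z hive, S4279)

Root numbering of `chevG2`: `6 = b`, `7 = a`, `8 = a+b`, `9 = 2a+b`, `10 = 3a+b`, `11 = 3a+2b`, `neg r = 11 - r`. -/

set_option autoImplicit false

namespace Cfsg.Agent.Lib.Helper36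

open Cfsg Cfsg.Lie Matrix

theorem g2z_hG2 : chevG2 ∈ [chevG2, chevB2, chevD4, chevF4, chevE6, chevE7, chevE8] := by simp

variable (F : Type*) [Field F]

theorem g2z_neg6 : chevG2.neg 6 = 5 := by decide
theorem g2z_neg9 : chevG2.neg 9 = 2 := by decide

/-- `h_b(-1) = h_{2a+b}(-1)` -/
theorem g2z_h6_eq_h9 : hGL chevG2 g2z_hG2 F 6 (-1) = hGL chevG2 g2z_hG2 F 9 (-1) :=
  hGL_neg_one_eq_of_parity chevG2 g2z_hG2 F 6 9 (by decide) (by decide) (by decide)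

/-- `t₀ ≠ 1` -/
theorem g2z_h6_ne_one (h2 : (2 : F) ≠ 0) : hGL chevG2 g2z_hG2 F 6 (-1) ≠ 1 :=
  hGL_neg_one_ne_one chevG2 g2z_hG2 F 6 7 (by decide) (by decide) h2 (by decide)

theorem g2z_h9_ne_one (h2 : (2 : F) ≠ 0) : hGL chevG2 g2z_hG2 F 9 (-1) ≠ 1 := by
  rw [← g2z_h6_eq_h9]; exact g2z_h6_ne_one F h2

/-- `t₀ * t₀ = 1` -/
theorem g2z_t0_sq : hGL chevG2 g2z_hG2 F 6 (-1) * hGL chevG2 g2z_hG2 F 6 (-1) = 1 := by
  have hm : (-1 : F) ≠ 0 := by simp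
  have := (rank1Data chevG2 g2z_hG2 F 6 (by decide)).hmul (-1) (-1) hm hm
  rw [rank1Data_h, rank1Data_h] at this
  rw [this]
  norm_num
  rw [← rank1Data_h chevG2 g2z_hG2 F 6 (by decide), SL2Data.h_one]

theorem g2z_comm_6_9 (t u : F) : Commute (xGL chevG2 g2z_hG2 F 6 t) (xGL chevG2 g2z_hG2 F 9 u) :=
  xGL_commute_of_nil chevG2 g2z_hG2 F 6 9 (by decide) (by decide) (by decide) (by decide) (by decide) t u

theorem g2z_comm_6_2 (t u : F) : Commute (xGL chevG2 g2z_hG2 F 6 t) (xGL chevG2 g2z_hG2 F 2 u) :=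
  xGL_commute_of_nil chevG2 g2z_hG2 F 6 2 (by decide) (by decide) (by decide) (by decide) (by decide) t u

theorem g2z_comm_5_9 (t u : F) : Commute (xGL chevG2 g2z_hG2 F 5 t) (xGL chevG2 g2z_hG2 F 9 u) :=
  xGL_commute_of_nil chevG2 g2z_hG2 F 5 9 (by decide) (by decide) (by decide) (by decide) (by decide) t u

theorem g2z_comm_5_2 (t u : F) : Commute (xGL chevG2 g2z_hG2 F 5 t) (xGL chevG2 g2z_hG2 F 2 u) :=
  xGL_commute_of_nil chevG2 g2z_hG2 F 5 2 (by decide) (by decide) (by decide) (by decide) (by decide) t u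

/-- the long `SL₂` -/
def g2zL1 : Subgroup (GL chevG2.Idx F) := chevG2.rootSubgroup F 6 ⊔ chevG2.rootSubgroup F 5

/-- the short `SL₂` -/
def g2zL2 : Subgroup (GL chevG2.Idx F) := chevG2.rootSubgroup F 9 ⊔ chevG2.rootSubgroup F 2

theorem g2zL1_eq : g2zL1 F = chevG2.rootSubgroup F 6 ⊔ chevG2.rootSubgroup F (chevG2.neg 6) := by
  rw [g2z_neg6]; rfl

theorem g2zL2_eq : g2zL2 F = chevG2.rootSubgroup F 9 ⊔ chevG2.rootSubgroup F (chevG2.neg 9) := by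
  rw [g2z_neg9]; rfl

/-- `L₁` and `L₂` commute elementwise -/
theorem g2zL_commute : ∀ x ∈ g2zL1 F, ∀ y ∈ g2zL2 F, x * y = y * x := by
  rw [g2zL1_eq, g2zL2_eq]
  apply rank1pair_commute chevG2 g2z_hG2 F 6 9
  · exact g2z_comm_6_9 F
  · rw [g2z_neg9]; exact g2z_comm_6_2 F
  · rw [g2z_neg6]; exact g2z_comm_5_9 F
  · rw [g2z_neg6, g2z_neg9]; exact g2z_comm_5_2 F

/-- `L₁ ∩ L₂ = ⟨t₀⟩` -/
theorem g2zL_inf (h2 : (2 : F) ≠ 0) : g2zL1 F ⊓ g2zL2 F = Subgroup.zpowers (hGL chevG2 g2z_hG2 F 6 (-1)) := by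
  have hc := g2zL_commute F
  rw [g2zL1_eq, g2zL2_eq] at hc ⊢
  exact rank1pair_inf chevG2 g2z_hG2 F 6 9 (by decide) (by decide) hc (g2z_h6_eq_h9 F) (g2z_h6_ne_one F h2)

/-- `L₁ ≅ SL₂(F)` -/
theorem g2zL1_equiv (h2 : (2 : F) ≠ 0) : Nonempty (↥(g2zL1 F) ≃* Matrix.SpecialLinearGroup (Fin 2) F) := by
  rw [g2zL1_eq]
  exact rank1_equiv chevG2 g2z_hG2 F 6 (by decide) (g2z_h6_ne_one F h2)

/-- `L₂ ≅ SL₂(F)` -/
theorem g2zL2_equiv (h2 : (2 : F) ≠ 0) : Nonempty (↥(g2zL2 F) ≃* Matrix.SpecialLinearGroup (Fin 2) F) := by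
  rw [g2zL2_eq]
  exact rank1_equiv chevG2 g2z_hG2 F 9 (by decide) (g2z_h9_ne_one F h2)

/-- `t₀ ∈ L₁`, `t₀ ∈ L₂` -/
theorem g2z_t0_mem (h2 : (2 : F) ≠ 0) :
    hGL chevG2 g2z_hG2 F 6 (-1) ∈ g2zL1 F ∧ hGL chevG2 g2z_hG2 F 6 (-1) ∈ g2zL2 F := by
  have := g2zL_inf F h2
  have hm : hGL chevG2 g2z_hG2 F 6 (-1) ∈ g2zL1 F ⊓ g2zL2 F := by
    rw [this]; exact Subgroup.mem_zpowers _
  exact ⟨hm.1, hm.2⟩

/-- `L₁, L₂ ≤ C(t₀)` -/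
theorem g2zL_le_centralizer (h2 : (2 : F) ≠ 0) :
    g2zL1 F ⊔ g2zL2 F ≤ Subgroup.centralizer ({hGL chevG2 g2z_hG2 F 6 (-1)} : Set (GL chevG2.Idx F)) := by
  obtain ⟨hm1, hm2⟩ := g2z_t0_mem F h2
  have hz1 : ∀ x ∈ g2zL1 F, hGL chevG2 g2z_hG2 F 6 (-1) * x = x * hGL chevG2 g2z_hG2 F 6 (-1) :=
    fun x hx => (g2zL_commute F x hx _ hm2).symm
  have hz2 : ∀ y ∈ g2zL2 F, hGL chevG2 g2z_hG2 F 6 (-1) * y = y * hGL chevG2 g2z_hG2 F 6 (-1) :=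
    fun y hy => g2zL_commute F _ hm1 y hy
  rw [sup_le_iff]
  refine ⟨fun x hx => ?_, fun y hy => ?_⟩
  · rw [Subgroup.mem_centralizer_iff]
    intro z hz
    rw [Set.mem_singleton_iff] at hz
    rw [hz]; exact hz1 x hx
  · rw [Subgroup.mem_centralizer_iff]
    intro z hz
    rw [Set.mem_singleton_iff] at hz
    rw [hz]; exact hz2 y hy

end Cfsg.Agent.Lib.Helper36
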