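import Cfsg.Agent.Lib.Helper36.G2zBase
import Cfsg.Agent.Lib.Helper36.ChevKeyOrd

/-! # `G₂(F)`, `F` finite, `2 ≠ 0`: `C_U(t₀) = X_6 X_9` for `t₀ = h_b(-1)` (helper36; Z2 of helper37's G2z hive, S4279) -/

set_option autoImplicit false

namespace Cfsg.Agent.Lib.Helper36

open Cfsg Cfsg.Lie Matrix

variable (F : Type*) [Field F]

theorem g2zcentu_ord : chkKeyOrd chevG2 [6, 7, 8, 9, 10, 11] = true := by decide

theorem g2zcentu_odd : ∀ r ∈ [7, 8, 10, 11], gc chevG2 6 r % 2 = 1 := by decide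

theorem g2zcentu_even : ∀ r ∈ [6, 9], gc chevG2 6 r % 2 = 0 := by decide

/-- `t₀ x_r(c) t₀⁻¹ = x_r(±c)` -/
theorem g2zcentu_conj (r : ℕ) (hr : r < chevG2.nroots) (c : F) :
    hGL chevG2 g2z_hG2 F 6 (-1) * xGL chevG2 g2z_hG2 F r c * (hGL chevG2 g2z_hG2 F 6 (-1))⁻¹ =
      xGL chevG2 g2z_hG2 F r ((-1 : F) ^ (gc chevG2 6 r) * c) :=
  hGL_conj_xGL chevG2 g2z_hG2 F 6 r (by decide) hr (-1) (by simp) c

/-- the word of an element of `U` along the order `6, 7, 8, 9, 10, 11` -/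
theorem g2zcentu_word (t : ℕ → F) :
    wordGL chevG2 g2z_hG2 F ([6, 7, 8, 9, 10, 11].map fun r => (r, t r)) =
      xGL chevG2 g2z_hG2 F 6 (t 6) * xGL chevG2 g2z_hG2 F 7 (t 7) * xGL chevG2 g2z_hG2 F 8 (t 8) *
        xGL chevG2 g2z_hG2 F 9 (t 9) * xGL chevG2 g2z_hG2 F 10 (t 10) * xGL chevG2 g2z_hG2 F 11 (t 11) := by
  simp only [wordGL, List.map_cons, List.map_nil, List.prod_cons, List.prod_nil, mul_one, mul_assoc]

/-- Z2: `C_U(t₀) = X_6 X_9` -/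
theorem g2z_cent_pos [Fintype F] (h2 : (2 : F) ≠ 0) (u : GL chevG2.Idx F) (hu : u ∈ chevG2.posUnipotent F)
    (hc : hGL chevG2 g2z_hG2 F 6 (-1) * u = u * hGL chevG2 g2z_hG2 F 6 (-1)) :
    ∃ a b : F, u = xGL chevG2 g2z_hG2 F 6 a * xGL chevG2 g2z_hG2 F 9 b := by
  obtain ⟨t, ht⟩ := key_exists chevG2 g2z_hG2 F [6, 7, 8, 9, 10, 11] g2zcentu_ord u hu
  set t0 := hGL chevG2 g2z_hG2 F 6 (-1) with ht0
  set t' : ℕ → F := fun r => (-1 : F) ^ (gc chevG2 6 r) * t r with ht'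
  have hconj : t0 * u * t0⁻¹ = u := by rw [hc, mul_inv_cancel_right]
  have e : wordGL chevG2 g2z_hG2 F ([6, 7, 8, 9, 10, 11].map fun r => (r, t r)) =
      wordGL chevG2 g2z_hG2 F ([6, 7, 8, 9, 10, 11].map fun r => (r, t' r)) := by
    rw [← ht]
    nth_rewrite 1 [← hconj]
    rw [ht, g2zcentu_word, g2zcentu_word]
    have hsplit : ∀ a b c d e f : GL chevG2.Idx F, t0 * (a * b * c * d * e * f) * t0⁻¹ =
        (t0 * a * t0⁻¹) * (t0 * b * t0⁻¹) * (t0 * c * t0⁻¹) * (t0 * d * t0⁻¹) * (t0 * e * t0⁻¹) *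
          (t0 * f * t0⁻¹) := by
      intro a b c d e f; group
    rw [hsplit, g2zcentu_conj F 6 (by decide), g2zcentu_conj F 7 (by decide), g2zcentu_conj F 8 (by decide),
      g2zcentu_conj F 9 (by decide), g2zcentu_conj F 10 (by decide), g2zcentu_conj F 11 (by decide)]
  have huniq := key_unique chevG2 g2z_hG2 F [6, 7, 8, 9, 10, 11] g2zcentu_ord t t' e
  have hzero : ∀ r ∈ [7, 8, 10, 11], t r = 0 := by
    intro r hr
    have hmem : r ∈ [6, 7, 8, 9, 10, 11] := by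
      simp only [List.mem_cons, List.not_mem_nil, or_false] at hr ⊢
      rcases hr with h | h | h | h <;> simp [h]
    have h1 := huniq r hmem
    have hodd : Odd (gc chevG2 6 r) := Int.odd_iff.2 (g2zcentu_odd r hr)
    have h1' : t r = (-1 : F) ^ (gc chevG2 6 r) * t r := h1
    rw [hodd.neg_one_zpow] at h1'
    have h3 : (2 : F) * t r = 0 := by linear_combination h1'
    rcases mul_eq_zero.1 h3 with h | h
    · exact absurd h h2
    · exact h
  refine ⟨t 6, t 9, ?_⟩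
  rw [ht, g2zcentu_word, hzero 7 (by simp), hzero 8 (by simp), hzero 10 (by simp), hzero 11 (by simp)]
  simp only [xGL_zero, mul_one]

/-- Z2, corollary: `C_U(t₀) ≤ L₁ L₂` -/
theorem g2z_cent_pos_mem [Fintype F] (h2 : (2 : F) ≠ 0) (u : GL chevG2.Idx F) (hu : u ∈ chevG2.posUnipotent F)
    (hc : hGL chevG2 g2z_hG2 F 6 (-1) * u = u * hGL chevG2 g2z_hG2 F 6 (-1)) :
    u ∈ g2zL1 F ⊔ g2zL2 F := by
  obtain ⟨a, b, rfl⟩ := g2z_cent_pos F h2 u hu hc
  refine mul_mem (Subgroup.mem_sup_left ?_) (Subgroup.mem_sup_right ?_)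
  · unfold g2zL1
    refine Subgroup.mem_sup_left ?_
    rw [rootSubgroup_eq chevG2 g2z_hG2]
    exact Subgroup.subset_closure ⟨a, rfl⟩
  · unfold g2zL2
    refine Subgroup.mem_sup_left ?_
    rw [rootSubgroup_eq chevG2 g2z_hG2]
    exact Subgroup.subset_closure ⟨b, rfl⟩

end Cfsg.Agent.Lib.Helper36
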