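import Cfsg.Agent.Lib.Helper37.G2zDefs
import Cfsg.Agent.Lib.Helper36.ChevBruhatCent

/-! # G2z hive (S4279, architect helper37), leaf G2Z-BRUHAT: the centraliser of a torus element in Bruhat form
(helper36; from the generic `Helper36.bruhat_cent`) -/

set_option autoImplicit false

namespace Cfsg.Agent.Lib.Helper37.G2z

open Cfsg Cfsg.Lie Cfsg.Agent.Lib.Helper36 Cfsg.Agent.Lib.Helper20.G2c Cfsg.Agent.Lib.Helper18

/-- generic form -/
theorem g2zbruhat_gen (D : ChevalleyDatum) (hD : D ∈ [chevG2, chevB2, chevD4, chevF4, chevE6, chevE7, chevE8])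
    (F : Type*) [Field F] (t : GL D.Idx F) (ht : t ∈ D.diagonalSubgroup F) (g : GL D.Idx F)
    (hg : g ∈ D.group F) (hc : t * g = g * t) :
    ∃ u1 ∈ D.posUnipotent F, ∃ h ∈ D.diagonalSubgroup F, ∃ n ∈ D.monomialSubgroup F,
      ∃ u2 ∈ D.posUnipotent F,
      g = u1 * h * n * u2 ∧ t * u1 = u1 * t ∧ t * n = n * t ∧ t * u2 = u2 * t := by
  have h45 : ∀ i < D.rank, H45 D F i := fun i hi => Cfsg.Agent.S1045.result D hD i hi
  obtain ⟨P, hB, hN, -⟩ := exists_bnPair D hD F h45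
  obtain ⟨b, hb, n, hn, u, hu, rfl⟩ := Cfsg.Agent.Lib.Helper18.bruhat_exists D hD F P hB hN g hg
  obtain ⟨hcb, hcn, hcu⟩ := bruhat_cent D hD F t b n u ht hb hn hu hc
  obtain ⟨u1, hu1, h1, hh1, rfl⟩ := (mem_borel_iff D hD F b).1 hb
  have hk : (1 : GL D.Idx F) ∈ D.diagonalSubgroup F := one_mem _
  have hcb' : u1 * h1 = t * (u1 * h1) * t⁻¹ * 1 := by
    rw [mul_one, hcb, mul_inv_cancel_right]
  obtain ⟨hcu1, -⟩ := bruhatcent_borel D hD F t u1 h1 1 ht hu1 hh1 hk hcb'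
  exact ⟨u1, hu1, h1, hh1, n, hn, u, uMinus_le_pos D F n hu, rfl, hcu1, hcn, hcu⟩

variable (F : Type*) [Field F]

/-- G2Z-BRUHAT -/
theorem cent_bruhat (t : GL chevG2.Idx F) (ht : t ∈ chevG2.diagonalSubgroup F) (g : GL chevG2.Idx F)
    (hg : g ∈ chevG2.group F) (hc : t * g = g * t) :
    ∃ u1 ∈ chevG2.posUnipotent F, ∃ h ∈ chevG2.diagonalSubgroup F, ∃ n ∈ chevG2.monomialSubgroup F,
      ∃ u2 ∈ chevG2.posUnipotent F,
      g = u1 * h * n * u2 ∧ t * u1 = u1 * t ∧ t * n = n * t ∧ t * u2 = u2 * t :=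
  g2zbruhat_gen chevG2 hG2 F t ht g hg hc

end Cfsg.Agent.Lib.Helper37.G2z
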