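import Cfsg.Agent.Lib.Helper37.G2zDefs
import Cfsg.Agent.Lib.Helper36.G2zBase

/-! # G2z hive (S4279, architect helper37), leaves G2Z-INJ6 / G2Z-INJ9: the rank one homomorphisms
`SL₂(F) → ⟨X_6, X_5⟩`, `SL₂(F) → ⟨X_9, X_2⟩` of `G₂(F)` are injective, any field (helper36) -/

set_option autoImplicit false

namespace Cfsg.Agent.Lib.Helper37.G2z

open Cfsg Cfsg.Lie Cfsg.Agent.Lib.Helper36 Cfsg.Agent.Lib.Helper20.G2c Cfsg.Agent.Lib.Helper18

open Matrix in
/-- characteristic free version of `SL2Data.hom_injective`: only `h(-1) ≠ 1` when `-1 ≠ 1` is needed -/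
theorem g2zinj_hom_injective {F : Type*} [Field F] {G : Type*} [Group G] (S : SL2Data F G)
    (hA : ∀ u v, S.x u = S.y v → u = 0) (hC : (-1 : F) ≠ 1 → S.h (-1) ≠ 1) :
    Function.Injective S.hom := by
  by_cases hm1 : (-1 : F) = 1
  swap
  · exact S.hom_injective hA (hC hm1)
  rw [injective_iff_map_eq_one]
  intro g hg
  have hg' : S.phi g = 1 := hg
  by_cases hc : g.1 1 0 = 0
  · obtain ⟨ha, hgeq⟩ := SL2Data.eq_of_eq_zero g hc
    rw [S.phi_of_eq_zero g hc] at hg'
    set a := g.1 0 0 with haa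
    set b := g.1 0 1 with hbb
    have hh : S.h a = S.x (-(a * b)) := by
      rw [← S.x_inv]
      exact eq_inv_of_mul_eq_one_right hg'
    have hsq : a ^ 2 = 1 := by
      have h1 := S.hx a 1 ha
      rw [hh, S.x_add, S.x_add, mul_one] at h1
      have := S.x_injective_of hA _ _ h1
      linear_combination -this
    have h1 : a = 1 := by
      have : (a - 1) * (a + 1) = 0 := by linear_combination hsq
      rcases mul_eq_zero.1 this with h | h
      · linear_combination h
      · have : a = -1 := by linear_combination h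
        rw [this, hm1]
    rw [h1, S.h_one] at hh
    have hb0 : -(1 * b) = 0 := by
      apply S.x_injective_of hA
      rw [← hh, S.x_zero]
    have hb : b = 0 := by linear_combination -hb0
    rw [hgeq]
    apply Matrix.SpecialLinearGroup.ext
    intro i j
    have e00 : (SL2Data.sU (a * b) * SL2Data.sD a ha).1 0 0 = 1 := by
      obtain ⟨e00, -, -, -⟩ := SL2Data.mul_sD (SL2Data.sU (a * b)) a ha
      rw [e00]; simp [SL2Data.sU, h1]
    have e01 : (SL2Data.sU (a * b) * SL2Data.sD a ha).1 0 1 = 0 := by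
      obtain ⟨-, e01, -, -⟩ := SL2Data.mul_sD (SL2Data.sU (a * b)) a ha
      rw [e01]; simp [SL2Data.sU, h1, hb]
    have e10 : (SL2Data.sU (a * b) * SL2Data.sD a ha).1 1 0 = 0 := by
      obtain ⟨-, -, e10, -⟩ := SL2Data.mul_sD (SL2Data.sU (a * b)) a ha
      rw [e10]; simp [SL2Data.sU]
    have e11 : (SL2Data.sU (a * b) * SL2Data.sD a ha).1 1 1 = 1 := by
      obtain ⟨-, -, -, e11⟩ := SL2Data.mul_sD (SL2Data.sU (a * b)) a ha
      rw [e11]; simp [SL2Data.sU, h1]
    fin_cases i <;> fin_cases j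
    · simpa using e00
    · simpa using e01
    · simpa using e10
    · simpa using e11
  · exfalso
    rw [S.phi_of_ne_zero g hc] at hg'
    set k : F := -(g.1 1 0)⁻¹ with hk
    have hk0 : k ≠ 0 := neg_ne_zero.2 (inv_ne_zero hc)
    set p := g.1 0 0 / g.1 1 0 with hp
    set q := g.1 1 1 / g.1 1 0 with hq
    have hn : S.n k = S.x (-p + -q) := by
      rw [← S.x_add, ← S.x_inv, ← S.x_inv]
      have h1 : S.n k * S.x q = (S.x p)⁻¹ := by
        apply eq_inv_of_mul_eq_one_right
        rw [← mul_assoc]; exact hg'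
      rw [← h1, mul_assoc, mul_inv_cancel, mul_one]
    have h2 : S.n k * S.x 1 = S.y ((k ^ 2)⁻¹ * (-1)) * S.n k := by
      rw [S.n_eq k, mul_assoc, S.nx, ← mul_assoc, S.hy k _ hk0, mul_assoc]
    rw [hn, S.x_add] at h2
    have h3 : S.x 1 = S.y ((k ^ 2)⁻¹ * (-1)) := by
      have : S.x (-p + -q + 1) * (S.x (-p + -q))⁻¹ = S.y ((k ^ 2)⁻¹ * (-1)) := by
        rw [h2, mul_assoc, mul_inv_cancel, mul_one]
      rw [S.x_inv, S.x_add] at this
      rw [← this]
      congr 1
      ring
    exact one_ne_zero (hA _ _ h3)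

variable (F : Type*) [Field F]

theorem g2zinj_two_ne (h : (-1 : F) ≠ 1) : (2 : F) ≠ 0 := by
  intro h2
  apply h
  linear_combination -h2

/-- G2Z-INJ6 -/
theorem phi6_inj : Function.Injective (phi6 F) := by
  unfold phi6
  apply g2zinj_hom_injective
  · intro u v huv
    exact rank1_xy chevG2 hG2 F 6 (by decide) u v huv
  · intro hm
    rw [rank1Data_h]
    exact g2z_h6_ne_one F (g2zinj_two_ne F hm)

/-- G2Z-INJ9 -/
theorem phi9_inj : Function.Injective (phi9 F) := by
  unfold phi9
  apply g2zinj_hom_injective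
  · intro u v huv
    exact rank1_xy chevG2 hG2 F 9 (by decide) u v huv
  · intro hm
    rw [rank1Data_h]
    exact g2z_h9_ne_one F (g2zinj_two_ne F hm)

end Cfsg.Agent.Lib.Helper37.G2z
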