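import Cfsg.Agent.Lib.Helper37.G2zDefs
import Cfsg.Agent.Lib.Helper36.G2zBase

/-! # G2z hive (S4279, architect helper37), leaves G2Z-T0 / G2Z-RANGE: ranges of `phi6`, `phi9`, images of `-1`,
and the involution `t₀` (helper36) -/

set_option autoImplicit false

namespace Cfsg.Agent.Lib.Helper37.G2z

open Cfsg Cfsg.Lie Cfsg.Agent.Lib.Helper36 Cfsg.Agent.Lib.Helper20.G2c Cfsg.Agent.Lib.Helper18

variable (F : Type*) [Field F]

/-- G2Z-RANGE -/
theorem phi6_range : (phi6 F).range = L1 F := by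
  unfold phi6 L1
  rw [rank1_range chevG2 hG2 F 6 (by decide), g2z_neg6]

theorem phi9_range : (phi9 F).range = L2 F := by
  unfold phi9 L2
  rw [rank1_range chevG2 hG2 F 9 (by decide), g2z_neg9]

/-- G2Z-T0 -/
theorem phi6_neg_one : phi6 F (-1) = t0 F :=
  rank1_hom_neg_one chevG2 hG2 F 6 (by decide)

theorem phi9_neg_one : phi9 F (-1) = t0 F := by
  unfold phi9 t0
  rw [rank1_hom_neg_one chevG2 hG2 F 9 (by decide)]
  exact (g2z_h6_eq_h9 F).symm

theorem t0_mem_diag (h2 : (2 : F) ≠ 0) : t0 F ∈ chevG2.diagonalSubgroup F :=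
  hGL_mem_diag chevG2 hG2 F 6 (by decide) (-1) (by simp)

theorem t0_ne_one (h2 : (2 : F) ≠ 0) : t0 F ≠ 1 :=
  g2z_h6_ne_one F h2

theorem t0_mul_self : t0 F * t0 F = 1 :=
  g2z_t0_sq F

end Cfsg.Agent.Lib.Helper37.G2z
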