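import Cfsg.Agent.Lib.Helper37.GtDefs2
import Cfsg.Agent.Lib.Helper36.ChevTwTorus
import Cfsg.Prelude.Def_ChevAutomorphisms

/-! # Gt hive (S2734), leaf GT-TAU (helper36): a graph automorphism of order 3 of `D₄(F)` has the same fixed points
as the triality `σ` -/

set_option autoImplicit false
set_option linter.unusedSectionVars false
set_option linter.unusedVariables false

namespace Cfsg.Agent.Lib.Helper37.Gt

open Cfsg Cfsg.Lie Cfsg.Agent.Lib.Helper36

/-- the permutation `ρs` of the nodes of `D₄` -/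
def tau_rho : Equiv.Perm (Fin chevD4.rank) := rhoE chevD4 graphD4 graphOK_D4

instance tau_decSym : DecidablePred (chevD4.IsDiagramSymmetry) := fun π => by
  unfold ChevalleyDatum.IsDiagramSymmetry
  infer_instance

set_option maxRecDepth 100000 in
theorem tau_perm_cases : ∀ π : Equiv.Perm (Fin chevD4.rank), chevD4.IsDiagramSymmetry π →
    π = 1 ∨ π ^ 2 = 1 ∨ π = tau_rho ∨ π ^ 2 = tau_rho := by decide +kernel

theorem tau_notLong : ∀ j < chevD4.rank, chevD4.isLong (chevD4.simple j) = false := by decide +kernel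

theorem tau_graphExp (c : ℕ) (i j : Fin chevD4.rank) : chevD4.graphExp c i.val j.val = 1 := by
  unfold ChevalleyDatum.graphExp
  rw [tau_notLong j.val j.isLt]
  simp

variable {F : Type*} [Field F]

/-- the generating set of fundamental root elements -/
def tau_S (F : Type*) [Field F] : Set (GL chevD4.Idx F) :=
  {g | ∃ i < chevD4.rank, ∃ t : F,
    (g : Matrix chevD4.Idx chevD4.Idx F) = chevD4.x F (chevD4.simple i) t ∨
      (g : Matrix chevD4.Idx chevD4.Idx F) = chevD4.x F (chevD4.neg (chevD4.simple i)) t}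

/-- the Chevalley group is generated by the root elements of the fundamental roots and their negatives -/
theorem tau_group_eq : chevD4.group F = Subgroup.closure (tau_S F) := by
  set K := Subgroup.closure (tau_S F) with hK
  apply le_antisymm
  · apply group_le chevD4 hD4 F K
    intro r hr
    refine root_induction chevD4 hD4 (fun r => ∀ t : F, xGL chevD4 hD4 F r t ∈ K) ?_ ?_ r hr
    · intro i hi t
      exact Subgroup.subset_closure ⟨i, hi, t, Or.inl (xGL_coe chevD4 hD4 F _ t)⟩
    · intro i hi r hr ih t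
      rw [xGL_reflect chevD4 hD4 F i r hi hr t]
      have hn : nGL chevD4 hD4 F (chevD4.simple i) 1 ∈ K := by
        apply wordGL_mem chevD4 hD4 F K
        intro p hp
        simp only [ChevalleyDatum.nWord, List.mem_cons, List.mem_nil_iff, or_false] at hp
        rcases hp with rfl | rfl | rfl
        · exact Subgroup.subset_closure ⟨i, hi, _, Or.inl (xGL_coe chevD4 hD4 F _ _)⟩
        · exact Subgroup.subset_closure ⟨i, hi, _, Or.inr (xGL_coe chevD4 hD4 F _ _)⟩
        · exact Subgroup.subset_closure ⟨i, hi, _, Or.inl (xGL_coe chevD4 hD4 F _ _)⟩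
      exact mul_mem (mul_mem hn (ih _)) (inv_mem hn)
  · rw [hK, Subgroup.closure_le]
    rintro g ⟨i, hi, t, hg | hg⟩
    · have : g = xGL chevD4 hD4 F (chevD4.simple i) t := Units.ext (by rw [hg, xGL_coe])
      rw [this]; exact xGL_mem_group chevD4 hD4 F _ t
    · have : g = xGL chevD4 hD4 F (chevD4.neg (chevD4.simple i)) t := Units.ext (by rw [hg, xGL_coe])
      rw [this]; exact xGL_mem_group chevD4 hD4 F _ t

/-- two homomorphisms that agree on the fundamental root elements agree on the group -/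
theorem tau_ext (α : MulAut ↥(chevD4.group F)) (β : GL chevD4.Idx F →* GL chevD4.Idx F)
    (h : ∀ g : ↥(chevD4.group F), (g : GL chevD4.Idx F) ∈ tau_S F →
      ((α g : ↥(chevD4.group F)) : GL chevD4.Idx F) = β (g : GL chevD4.Idx F))
    (g : ↥(chevD4.group F)) : ((α g : ↥(chevD4.group F)) : GL chevD4.Idx F) = β (g : GL chevD4.Idx F) := by
  have key : ∀ x (hx : x ∈ Subgroup.closure (tau_S F)),
      ((α ⟨x, by rw [tau_group_eq]; exact hx⟩ : ↥(chevD4.group F)) : GL chevD4.Idx F) = β x := by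
    intro x hx
    induction hx using Subgroup.closure_induction with
    | mem x hx => exact h ⟨x, _⟩ hx
    | one =>
      have : (⟨1, by rw [tau_group_eq]; exact one_mem _⟩ : ↥(chevD4.group F)) = 1 := rfl
      rw [this, map_one, map_one]; rfl
    | mul a b ha hb iha ihb =>
      have : (⟨a * b, by rw [tau_group_eq]; exact mul_mem ha hb⟩ : ↥(chevD4.group F)) =
          ⟨a, by rw [tau_group_eq]; exact ha⟩ * ⟨b, by rw [tau_group_eq]; exact hb⟩ := rfl
      rw [this, map_mul, map_mul, Subgroup.coe_mul, iha, ihb]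
    | inv a ha iha =>
      have : (⟨a⁻¹, by rw [tau_group_eq]; exact inv_mem ha⟩ : ↥(chevD4.group F)) =
          (⟨a, by rw [tau_group_eq]; exact ha⟩ : ↥(chevD4.group F))⁻¹ := rfl
      rw [this, map_inv, map_inv, Subgroup.coe_inv, iha]
  have hg : (g : GL chevD4.Idx F) ∈ Subgroup.closure (tau_S F) := by
    rw [← tau_group_eq]; exact g.2
  exact key g hg

/-- powers of a graph automorphism on the fundamental root elements -/
theorem tau_pow (τ : MulAut ↥(chevD4.group F)) (π : Equiv.Perm (Fin chevD4.rank))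
    (hπ : ∀ (g : ↥(chevD4.group F)) (i : Fin chevD4.rank) (t : F),
      (((g : GL chevD4.Idx F) : Matrix chevD4.Idx chevD4.Idx F) = chevD4.x F (chevD4.simple i) t →
        ((τ g : GL chevD4.Idx F) : Matrix chevD4.Idx chevD4.Idx F) =
          chevD4.x F (chevD4.simple (π i)) (t ^ chevD4.graphExp (ringChar F) i (π i))) ∧
      (((g : GL chevD4.Idx F) : Matrix chevD4.Idx chevD4.Idx F) = chevD4.x F (chevD4.neg (chevD4.simple i)) t →
        ((τ g : GL chevD4.Idx F) : Matrix chevD4.Idx chevD4.Idx F) =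
          chevD4.x F (chevD4.neg (chevD4.simple (π i))) (t ^ chevD4.graphExp (ringChar F) i (π i))))
    (k : ℕ) (g : ↥(chevD4.group F)) (i : Fin chevD4.rank) (t : F) :
    (((g : GL chevD4.Idx F) : Matrix chevD4.Idx chevD4.Idx F) = chevD4.x F (chevD4.simple i) t →
        (((τ ^ k) g : GL chevD4.Idx F) : Matrix chevD4.Idx chevD4.Idx F) =
          chevD4.x F (chevD4.simple ((π ^ k) i)) t) ∧
      (((g : GL chevD4.Idx F) : Matrix chevD4.Idx chevD4.Idx F) = chevD4.x F (chevD4.neg (chevD4.simple i)) t →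
        (((τ ^ k) g : GL chevD4.Idx F) : Matrix chevD4.Idx chevD4.Idx F) =
          chevD4.x F (chevD4.neg (chevD4.simple ((π ^ k) i))) t) := by
  induction k generalizing g i with
  | zero => simp
  | succ k ih =>
    rw [pow_succ, pow_succ]
    constructor
    · intro hg
      have h1 := (hπ g i t).1 hg
      rw [tau_graphExp, pow_one] at h1
      exact (ih (τ g) (π i)).1 h1
    · intro hg
      have h1 := (hπ g i t).2 hg
      rw [tau_graphExp, pow_one] at h1
      exact (ih (τ g) (π i)).2 h1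

/-- if `π ^ k` is the triality permutation, `τ ^ k` is `σ` -/
theorem tau_eq_sig (τ : MulAut ↥(chevD4.group F)) (π : Equiv.Perm (Fin chevD4.rank))
    (hπ : ∀ (g : ↥(chevD4.group F)) (i : Fin chevD4.rank) (t : F),
      (((g : GL chevD4.Idx F) : Matrix chevD4.Idx chevD4.Idx F) = chevD4.x F (chevD4.simple i) t →
        ((τ g : GL chevD4.Idx F) : Matrix chevD4.Idx chevD4.Idx F) =
          chevD4.x F (chevD4.simple (π i)) (t ^ chevD4.graphExp (ringChar F) i (π i))) ∧
      (((g : GL chevD4.Idx F) : Matrix chevD4.Idx chevD4.Idx F) = chevD4.x F (chevD4.neg (chevD4.simple i)) t →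
        ((τ g : GL chevD4.Idx F) : Matrix chevD4.Idx chevD4.Idx F) =
          chevD4.x F (chevD4.neg (chevD4.simple (π i))) (t ^ chevD4.graphExp (ringChar F) i (π i))))
    (k : ℕ) (hk : π ^ k = tau_rho) (g : ↥(chevD4.group F)) :
    (((τ ^ k) g : ↥(chevD4.group F)) : GL chevD4.Idx F) = sig F (g : GL chevD4.Idx F) := by
  apply tau_ext (τ ^ k) (sig F)
  rintro g ⟨i, hi, t, hg | hg⟩
  · have h1 := (tau_pow τ π hπ k g ⟨i, hi⟩ t).1 hg
    rw [hk] at h1
    have e : (g : GL chevD4.Idx F) = xGL chevD4 hD4 F (chevD4.simple i) t := Units.ext (by rw [hg, xGL_coe])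
    obtain ⟨a1, a2, -⟩ := (graph2_spec chevD4 graphD4 graphOK_D4).2 i hi
    have hp := (chkN2_spec chevD4 (chkN2_all chevD4 hD4) i hi).1
    rw [e, sigma_xGL chevD4 hD4 graphD4 graphOK_D4 F (RingHom.id F) _ hp t, a1, a2]
    apply Units.ext
    rw [h1, xGL_coe]
    simp [tau_rho, rhoE]
  · have h1 := (tau_pow τ π hπ k g ⟨i, hi⟩ t).2 hg
    rw [hk] at h1
    have e : (g : GL chevD4.Idx F) = xGL chevD4 hD4 F (chevD4.neg (chevD4.simple i)) t :=
      Units.ext (by rw [hg, xGL_coe])
    obtain ⟨a1, a2, -⟩ := (graph2_spec chevD4 graphD4 graphOK_D4).2 i hi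
    have hp := (chkN2_spec chevD4 (chkN2_all chevD4 hD4) i hi).1
    obtain ⟨b1, b2, -⟩ := (graph2_spec chevD4 graphD4 graphOK_D4).1 _ hp
    have hnp : chevD4.neg (chevD4.simple i) < chevD4.nroots := wf_neg chevD4 (wf_all chevD4 hD4) _ hp
    rw [e, sigma_xGL chevD4 hD4 graphD4 graphOK_D4 F (RingHom.id F) _ hnp t, b1, b2, a1, a2]
    apply Units.ext
    rw [h1, xGL_coe]
    simp [tau_rho, rhoE]

/-- if `π ^ k = 1` then `τ ^ k = 1` -/
theorem tau_eq_one (τ : MulAut ↥(chevD4.group F)) (π : Equiv.Perm (Fin chevD4.rank))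
    (hπ : ∀ (g : ↥(chevD4.group F)) (i : Fin chevD4.rank) (t : F),
      (((g : GL chevD4.Idx F) : Matrix chevD4.Idx chevD4.Idx F) = chevD4.x F (chevD4.simple i) t →
        ((τ g : GL chevD4.Idx F) : Matrix chevD4.Idx chevD4.Idx F) =
          chevD4.x F (chevD4.simple (π i)) (t ^ chevD4.graphExp (ringChar F) i (π i))) ∧
      (((g : GL chevD4.Idx F) : Matrix chevD4.Idx chevD4.Idx F) = chevD4.x F (chevD4.neg (chevD4.simple i)) t →
        ((τ g : GL chevD4.Idx F) : Matrix chevD4.Idx chevD4.Idx F) =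
          chevD4.x F (chevD4.neg (chevD4.simple (π i))) (t ^ chevD4.graphExp (ringChar F) i (π i))))
    (k : ℕ) (hk : π ^ k = 1) : τ ^ k = 1 := by
  apply MulEquiv.ext
  intro g
  apply Subtype.ext
  have := tau_ext (τ ^ k) (MonoidHom.id _) (fun g hg => ?_) g
  · rw [MonoidHom.id_apply] at this
    rw [this]
    rfl
  · obtain ⟨i, hi, t, hg | hg⟩ := hg
    · have h1 := (tau_pow τ π hπ k g ⟨i, hi⟩ t).1 hg
      rw [hk] at h1
      apply Units.ext
      rw [h1, MonoidHom.id_apply, hg]
      rfl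
    · have h1 := (tau_pow τ π hπ k g ⟨i, hi⟩ t).2 hg
      rw [hk] at h1
      apply Units.ext
      rw [h1, MonoidHom.id_apply, hg]
      rfl

/-- GT-TAU -/
theorem tau_fix_iff (τ : MulAut ↥(chevD4.group F)) (hτ : chevD4.IsGraphAut τ) (hτ3 : orderOf τ = 3)
    (g : ↥(chevD4.group F)) : τ g = g ↔ sig F (g : GL chevD4.Idx F) = g := by
  obtain ⟨π, hsym, hπ⟩ := hτ
  rcases tau_perm_cases π hsym with h | h | h | h
  · exfalso
    have h1 := tau_eq_one τ π hπ 1 (by rw [pow_one]; exact h)
    rw [pow_one] at h1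
    rw [h1, orderOf_one] at hτ3
    omega
  · exfalso
    have h1 := tau_eq_one τ π hπ 2 h
    have h2 := orderOf_dvd_of_pow_eq_one h1
    rw [hτ3] at h2
    omega
  · have h1 := tau_eq_sig τ π hπ 1 (by rw [pow_one]; exact h) g
    rw [pow_one] at h1
    rw [← h1]
    exact Subtype.ext_iff
  · have h1 := tau_eq_sig τ π hπ 2 h g
    rw [← h1]
    have h3 : τ ^ 3 = 1 := by rw [← hτ3]; exact pow_orderOf_eq_one τ
    constructor
    · intro hg
      have : (τ ^ 2) g = g := by
        rw [pow_two, MulAut.mul_apply, hg, hg]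
      rw [this]
    · intro hg
      have hg' : (τ ^ 2) g = g := Subtype.ext hg
      have : τ g = (τ ^ 3) g := by
        rw [pow_succ', MulAut.mul_apply, hg']
      rw [this, h3]
      rfl

end Cfsg.Agent.Lib.Helper37.Gt
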