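import Cfsg.Agent.Lib.Helper18.StGraphData
import Cfsg.Agent.Lib.Helper36.ChevFieldMap

/-! # The Ree groups `²G₂`: the twisting endomorphism (helper36) -/

set_option autoImplicit false

namespace Cfsg.Agent.Lib.Helper36

open Cfsg Cfsg.Lie Cfsg.Agent.Lib.Helper18

theorem hG2 : chevG2 ∈ [chevG2, chevB2, chevD4, chevF4, chevE6, chevE7, chevE8] := by simp

section field
variable {K : Type*} [Field K] [Fintype K] {m : ℕ}

theorem ree_charP (hK : Fintype.card K = 3 ^ (2 * m + 1)) : CharP K 3 := by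
  obtain ⟨p, hp⟩ := CharP.exists K
  have := hp
  obtain ⟨n, hpp, hcard⟩ := FiniteField.card K p
  have h3 : p ∣ 3 ^ (2 * m + 1) := by
    rw [← hK, hcard]
    exact dvd_pow_self p n.ne_zero
  have : p = 3 := (Nat.prime_dvd_prime_iff_eq hpp Nat.prime_three).1 (hpp.dvd_of_dvd_pow h3)
  rw [← this]
  exact hp

theorem ree_pow_card (hK : Fintype.card K = 3 ^ (2 * m + 1)) (t : K) : t ^ (3 ^ (2 * m + 1)) = t := by
  rw [← hK]
  exact FiniteField.pow_card t

/-- `t^{3θ²} = t` -/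
theorem ree_pow_three_theta_sq (hK : Fintype.card K = 3 ^ (2 * m + 1)) (t : K) : (t ^ (3 ^ m)) ^ (3 * 3 ^ m) = t := by
  rw [← pow_mul]
  have : 3 ^ m * (3 * 3 ^ m) = 3 ^ (2 * m + 1) := by ring
  rw [this]
  exact ree_pow_card hK t

theorem ree_pow_three_theta_sq' (hK : Fintype.card K = 3 ^ (2 * m + 1)) (t : K) : (t ^ (3 * 3 ^ m)) ^ (3 ^ m) = t := by
  rw [← pow_mul]
  have : 3 * 3 ^ m * 3 ^ m = 3 ^ (2 * m + 1) := by ring
  rw [this]
  exact ree_pow_card hK t

theorem ree_add_pow (hK : Fintype.card K = 3 ^ (2 * m + 1)) (k : ℕ) (a b : K) :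
    (a + b) ^ (3 ^ k) = a ^ (3 ^ k) + b ^ (3 ^ k) := by
  have := ree_charP hK
  have : Fact (Nat.Prime 3) := ⟨Nat.prime_three⟩
  exact add_pow_char_pow a b 3 k

omit [Fintype K] in
theorem ree_neg_pow (k : ℕ) (a : K) : (-a) ^ (3 ^ k) = -(a ^ (3 ^ k)) := by
  apply Odd.neg_pow
  exact Odd.pow (by decide)

theorem ree_perfect (hK : Fintype.card K = 3 ^ (2 * m + 1)) (x : K) : ∃ y : K, y ^ 3 = x := by
  refine ⟨x ^ (3 ^ (2 * m)), ?_⟩
  rw [← pow_mul]
  have : 3 ^ (2 * m) * 3 = 3 ^ (2 * m + 1) := by ring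
  rw [this]
  exact ree_pow_card hK x

end field

section sig
variable (K : Type*) [Field K]

/-- the defining property of the twisting endomorphism of `G₂(K)` -/
def IsReeSig (θ : ℕ) (σ : ↥(chevG2.group K) →* ↥(chevG2.group K)) : Prop :=
  ∀ r < 12, ∀ t : K, σ (xGr chevG2 hG2 K r t) =
    xGr chevG2 hG2 K (rhoG2.getD r 0) (t ^ (θ * lamG2.getD r 0))

/-- the endomorphism of the Chevalley group induced by a ring endomorphism -/
noncomputable def fieldHomG (f : K →+* K) : ↥(chevG2.group K) →* ↥(chevG2.group K) :=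
  ((glMap chevG2 f).comp (chevG2.group K).subtype).codRestrict (chevG2.group K)
    (fun g => glMap_group_le chevG2 hG2 f ⟨g, g.2, rfl⟩)

theorem fieldHomG_xGr (f : K →+* K) (r : ℕ) (t : K) :
    fieldHomG K f (xGr chevG2 hG2 K r t) = xGr chevG2 hG2 K r (f t) := by
  apply Subtype.ext
  show glMap chevG2 f (xGL chevG2 hG2 K r t) = xGL chevG2 hG2 K r (f t)
  exact glMap_xGL chevG2 hG2 f r t

end sig

section exist
variable {K : Type*} [Field K] [Fintype K] {m : ℕ}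

theorem exists_reeSig (hK : Fintype.card K = 3 ^ (2 * m + 1)) :
    ∃ σ : ↥(chevG2.group K) →* ↥(chevG2.group K), IsReeSig K (3 ^ m) σ := by
  have := ree_charP hK
  have : Fact (Nat.Prime 3) := ⟨Nat.prime_three⟩
  obtain ⟨α, hα⟩ := tw_aut chevG2 hG2 K 3 rhoG2 lamG2 chkTw_G2 (ree_perfect hK) (Or.inr inferInstance)
  refine ⟨α.toMonoidHom.comp (fieldHomG K (iterateFrobenius K 3 m)), ?_⟩
  intro r hr t
  show α (fieldHomG K (iterateFrobenius K 3 m) (xGr chevG2 hG2 K r t)) = _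
  rw [fieldHomG_xGr, hα r hr, iterateFrobenius_def, ← pow_mul]

end exist

end Cfsg.Agent.Lib.Helper36
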