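import Cfsg.Agent.Lib.Helper36.ReeN
import Cfsg.Agent.Lib.Helper36.ChevTwDescent
import Cfsg.Agent.Lib.Helper36.ChevCentL

/-! # The Ree groups `²G₂`: Bruhat decomposition of the fixed points (helper36) -/

set_option autoImplicit false

namespace Cfsg.Agent.Lib.Helper36

open Cfsg Cfsg.Lie Cfsg.Agent.Lib.Helper18

section weyl

/-- the word with the two fundamental reflections exchanged -/
def swapW (l : List ℕ) : List ℕ := l.map fun i => 1 - i

theorem swapW_lt (l : List ℕ) (_hl : ∀ i ∈ l, i < chevG2.rank) : ∀ i ∈ swapW l, i < chevG2.rank := by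
  intro i hi
  obtain ⟨j, -, rfl⟩ := List.mem_map.1 hi
  show 1 - j < 2
  omega

theorem rho_reflect : ∀ i < 2, ∀ s < 12,
    chevG2.reflectRoot (1 - i) (rhoG2.getD s 0) = rhoG2.getD (chevG2.reflectRoot i s) 0 := by decide

theorem wRoot_cons' (i : ℕ) (l : List ℕ) (s : ℕ) :
    wRoot chevG2 (i :: l) s = chevG2.reflectRoot i (wRoot chevG2 l s) := rfl

theorem wRoot_swapW (l : List ℕ) (hl : ∀ i ∈ l, i < chevG2.rank) (s : ℕ) (hs : s < 12) :
    wRoot chevG2 (swapW l) (rhoG2.getD s 0) = rhoG2.getD (wRoot chevG2 l s) 0 := by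
  induction l with
  | nil => rfl
  | cons i l ih =>
    have hl' : ∀ j ∈ l, j < chevG2.rank := fun j hj => hl j (List.mem_cons_of_mem _ hj)
    have hi : i < 2 := hl i List.mem_cons_self
    show wRoot chevG2 ((1 - i) :: swapW l) _ = _
    rw [wRoot_cons', wRoot_cons', ih hl']
    exact rho_reflect i hi _ (wRoot_lt chevG2 hG2 l hl' s hs)

/-- the action of a word on the list of all roots -/
def permOf (l : List ℕ) : List ℕ := (List.range 12).map (wRoot chevG2 l)

/-- the twelve elements of the Weyl group as permutations of the roots -/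
def reeWlist : List (List ℕ) :=
  [[0, 1, 2, 3, 4, 5, 6, 7, 8, 9, 10, 11], [0, 5, 3, 2, 7, 1, 10, 4, 9, 8, 6, 11], [1, 0, 2, 4, 3, 6, 5, 8, 7, 9, 11, 10],
   [5, 0, 3, 7, 2, 10, 1, 9, 4, 8, 11, 6], [1, 6, 4, 2, 8, 0, 11, 3, 9, 7, 5, 10],
   [5, 10, 7, 3, 9, 0, 11, 2, 8, 4, 1, 6], [6, 1, 4, 8, 2, 11, 0, 9, 3, 7, 10, 5],
   [10, 5, 7, 9, 3, 11, 0, 8, 2, 4, 6, 1], [6, 11, 8, 4, 9, 1, 10, 2, 7, 3, 0, 5],
   [10, 11, 9, 7, 8, 5, 6, 3, 4, 2, 0, 1], [11, 6, 8, 9, 4, 10, 1, 7, 2, 3, 5, 0],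
   [11, 10, 9, 8, 7, 6, 5, 4, 3, 2, 1, 0]]

theorem reeWlist_closed : ∀ p ∈ reeWlist, ∀ i < 2, p.map (chevG2.reflectRoot i) ∈ reeWlist := by decide

theorem permOf_mem (l : List ℕ) (hl : ∀ i ∈ l, i < chevG2.rank) : permOf l ∈ reeWlist := by
  induction l with
  | nil => decide
  | cons i l ih =>
    have hl' : ∀ j ∈ l, j < chevG2.rank := fun j hj => hl j (List.mem_cons_of_mem _ hj)
    have hi : i < 2 := hl i List.mem_cons_self
    have : permOf (i :: l) = (permOf l).map (chevG2.reflectRoot i) := by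
      unfold permOf
      rw [List.map_map]
      rfl
    rw [this]
    exact reeWlist_closed _ (ih hl') i hi

theorem reeWlist_comm : ∀ p ∈ reeWlist, (∀ s < 12, p.getD (rhoG2.getD s 0) 0 = rhoG2.getD (p.getD s 0) 0) →
    p = [0, 1, 2, 3, 4, 5, 6, 7, 8, 9, 10, 11] ∨ p = [11, 10, 9, 8, 7, 6, 5, 4, 3, 2, 1, 0] := by decide

theorem permOf_getD (l : List ℕ) (s : ℕ) (hs : s < 12) : (permOf l).getD s 0 = wRoot chevG2 l s := by
  unfold permOf
  rw [List.getD_eq_getElem?_getD, List.getElem?_map, List.getElem?_range hs]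
  rfl

/-- a Weyl group element commuting with the symmetry is trivial or the longest element -/
theorem weyl_comm_rho (l : List ℕ) (hl : ∀ i ∈ l, i < chevG2.rank)
    (h : ∀ r < 12, wRoot chevG2 (swapW l) r = wRoot chevG2 l r) :
    (∀ r < 12, wRoot chevG2 l r = r) ∨ (∀ r < 12, wRoot chevG2 l r = chevG2.neg r) := by
  have h1 : ∀ s < 12, (permOf l).getD (rhoG2.getD s 0) 0 = rhoG2.getD ((permOf l).getD s 0) 0 := by
    intro s hs
    have hρ : rhoG2.getD s 0 < 12 := (rho_neg s hs).2.2.2.1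
    rw [permOf_getD l _ hρ, permOf_getD l s hs, ← h _ hρ]
    exact wRoot_swapW l hl s hs
  rcases reeWlist_comm _ (permOf_mem l hl) h1 with h2 | h2
  · left
    intro r hr
    rw [← permOf_getD l r hr, h2]
    revert r; decide
  · right
    intro r hr
    rw [← permOf_getD l r hr, h2]
    revert r; decide

end weyl

section descent
variable {K : Type*} [Field K] {θ : ℕ} {σ : ↥(chevG2.group K) →* ↥(chevG2.group K)}

theorem nWordGL_mem_group (l : List ℕ) (hl : ∀ i ∈ l, i < chevG2.rank) :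
    nWordGL chevG2 hG2 K l ∈ chevG2.group K :=
  monomial_le_group chevG2 hG2 K (nWordGL_mem chevG2 hG2 K l hl)

theorem rho_simple : ∀ i < 2, rhoG2.getD (chevG2.simple i) 0 = chevG2.simple (1 - i) ∧ chevG2.simple i < 12 := by
  decide

theorem sgl_nWordGL (hσ : IsReeSig K θ σ) (hθ : Odd θ) (l : List ℕ) (hl : ∀ i ∈ l, i < chevG2.rank) :
    sgl σ (nWordGL chevG2 hG2 K l) = nWordGL chevG2 hG2 K (swapW l) := by
  induction l with
  | nil => simp [nWordGL, swapW, sgl_one]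
  | cons i l ih =>
    have hl' : ∀ j ∈ l, j < chevG2.rank := fun j hj => hl j (List.mem_cons_of_mem _ hj)
    have hi : i < 2 := hl i List.mem_cons_self
    obtain ⟨h1, h2⟩ := rho_simple i hi
    have hn : nGL chevG2 hG2 K (chevG2.simple i) 1 ∈ chevG2.group K :=
      wordGL_mem chevG2 hG2 K _ _ (fun q _ => xGL_mem_group chevG2 hG2 K _ _)
    show _ = nWordGL chevG2 hG2 K ((1 - i) :: swapW l)
    rw [nWordGL_cons, nWordGL_cons, sgl_mul σ _ _ hn (nWordGL_mem_group l hl'), ih hl', sgl_nGL hσ hθ _ h2, h1,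
      one_pow]

/-- words acting in the same way on the roots give the same monomial element modulo `H` -/
theorem ree_mem_diag_of_wRoot_eq (l l' : List ℕ) (hl : ∀ i ∈ l, i < chevG2.rank) (hl' : ∀ i ∈ l', i < chevG2.rank)
    (h : ∀ r < 12, wRoot chevG2 l r = wRoot chevG2 l' r) :
    (nWordGL chevG2 hG2 K l)⁻¹ * nWordGL chevG2 hG2 K l' ∈ chevG2.diagonalSubgroup K := by
  obtain ⟨h₁, hh₁, e⟩ := nWord_inv_eq chevG2 hG2 K l hl
  have hlr : ∀ i ∈ l.reverse, i < chevG2.rank := fun i hi => hl i (List.mem_reverse.1 hi)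
  have hl'' : ∀ i ∈ l.reverse ++ l', i < chevG2.rank := by
    intro i hi
    rcases List.mem_append.1 hi with h | h
    · exact hlr i h
    · exact hl' i h
  have hmem : nWordGL chevG2 hG2 K (l.reverse ++ l') ∈ chevG2.diagonalSubgroup K := by
    apply nWord_mem_diag_of_pos chevG2 hG2 K _ hl''
    intro s hs
    rw [wRoot_append, ← h s hs.1, wRoot_reverse' chevG2 hG2 l hl s hs.1]
    exact hs
  have hn'N : nWordGL chevG2 hG2 K l' ∈ chevG2.monomialSubgroup K := nWordGL_mem chevG2 hG2 K l' hl'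
  have h2 := conj_mem_diag chevG2 hG2 K _ _ hn'N hh₁
  have e2 : (nWordGL chevG2 hG2 K l)⁻¹ * nWordGL chevG2 hG2 K l' =
      nWordGL chevG2 hG2 K (l.reverse ++ l') * ((nWordGL chevG2 hG2 K l')⁻¹ * h₁ * nWordGL chevG2 hG2 K l') := by
    rw [e, nWordGL_append]; group
  rw [e2]
  exact mul_mem hmem h2

theorem w0word_lt : ∀ i ∈ w0word chevG2, i < chevG2.rank := by decide

theorem wRoot_w0 : ∀ r < 12, wRoot chevG2 (w0word chevG2) r = chevG2.neg r := by decide

/-- the longest monomial element -/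
noncomputable def reeN0 (K : Type*) [Field K] : GL chevG2.Idx K := nWordGL chevG2 hG2 K (w0word chevG2)

theorem reeN0_mem : reeN0 K ∈ chevG2.monomialSubgroup K := nWordGL_mem chevG2 hG2 K _ w0word_lt

/-- a fixed point lies in `B` or in the big cell -/
theorem fix_cases (hσ : IsReeSig K θ σ) (hθ : Odd θ) (g : GL chevG2.Idx K) (hg : g ∈ reeFix σ) :
    g ∈ chevG2.borelSubgroup K ∨ g ∈ cell chevG2 K (reeN0 K) := by
  have h45 : ∀ i < chevG2.rank, H45 chevG2 K i := fun i hi => Cfsg.Agent.S1045.result chevG2 hG2 i hi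
  obtain ⟨hgG, hfix⟩ := hg
  obtain ⟨l, hl, b, hb, u, hu, e⟩ := bruhat_form chevG2 hG2 K g hgG
  have hl' := swapW_lt l hl
  have huU : u ∈ chevG2.posUnipotent K := sGens_le_pos chevG2 K l hu
  have hUB := pos_le_borel chevG2 K
  have hnN := nWordGL_mem chevG2 hG2 K l hl
  have hn'N := nWordGL_mem chevG2 hG2 K _ hl'
  have hc1 : g ∈ cell chevG2 K (nWordGL chevG2 hG2 K l) := ⟨b, hb, u, hUB huU, e⟩
  have e' : g = sgl σ b * nWordGL chevG2 hG2 K (swapW l) * sgl σ u := by
    rw [← sgl_nWordGL hσ hθ l hl, ← sgl_mul σ _ _ (borel_le_group chevG2 hG2 K hb) (nWordGL_mem_group l hl),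
      ← sgl_mul σ _ _ (mul_mem (borel_le_group chevG2 hG2 K hb) (nWordGL_mem_group l hl))
        (posUnipotent_le_group chevG2 hG2 K huU), ← e, hfix]
  have hc2 : g ∈ cell chevG2 K (nWordGL chevG2 hG2 K (swapW l)) :=
    ⟨_, sgl_borel hσ hθ b hb, _, hUB (sgl_pos hσ u huU), e'⟩
  have h0 := bruhat_unique' chevG2 hG2 K h45 _ _ g hnN hn'N hc1 hc2
  have hperm : ∀ r < 12, wRoot chevG2 (swapW l) r = wRoot chevG2 l r :=
    fun r hr => (wRoot_eq_of_mem_diag chevG2 hG2 K l _ hl hl' h0 r hr).symm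
  rcases weyl_comm_rho l hl hperm with h1 | h1
  · left
    have : nWordGL chevG2 hG2 K l ∈ chevG2.diagonalSubgroup K := by
      apply nWord_mem_diag_of_pos chevG2 hG2 K l hl
      intro s hs
      rw [h1 s hs.1]; exact hs
    rw [e]
    exact mul_mem (mul_mem hb (diagonal_le_borel chevG2 K this)) (hUB huU)
  · right
    have h2 : (reeN0 K)⁻¹ * nWordGL chevG2 hG2 K l ∈ chevG2.diagonalSubgroup K := by
      apply ree_mem_diag_of_wRoot_eq _ _ w0word_lt hl
      intro r hr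
      rw [h1 r hr, wRoot_w0 r hr]
    have h3 : nWordGL chevG2 hG2 K l = reeN0 K * ((reeN0 K)⁻¹ * nWordGL chevG2 hG2 K l) := by group
    rw [h3, cell_mul_right chevG2 K _ _ (diagonal_le_borel chevG2 K h2)] at hc1
    exact hc1

end descent

end Cfsg.Agent.Lib.Helper36
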