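import Cfsg.Agent.Lib.Helper36.ReeSig
import Cfsg.Agent.Lib.Helper36.ChevKeyOrd

/-! # The Ree groups `²G₂`: commutator computations in `U` and `V` (helper36) -/

set_option autoImplicit false

namespace Cfsg.Agent.Lib.Helper36

open Cfsg Cfsg.Lie Cfsg.Agent.Lib.Helper18

section abel
variable {K : Type*} [Field K]

/-- the sum of the coefficients of the letters of a word at the root `r` -/
def coefAt (r : ℕ) (w : List (ℕ × K)) : K := ((w.filter fun p => p.1 = r).map Prod.snd).sum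

theorem coefAt_nil (r : ℕ) : coefAt r ([] : List (ℕ × K)) = 0 := rfl

theorem coefAt_cons_self (r : ℕ) (t : K) (w : List (ℕ × K)) : coefAt r ((r, t) :: w) = t + coefAt r w := by
  simp [coefAt]

theorem coefAt_cons_ne (r s : ℕ) (h : s ≠ r) (t : K) (w : List (ℕ × K)) : coefAt r ((s, t) :: w) = coefAt r w := by
  simp [coefAt, h]

theorem wordGL_cons (p : ℕ × K) (w : List (ℕ × K)) :
    wordGL chevG2 hG2 K (p :: w) = xGL chevG2 hG2 K p.1 p.2 * wordGL chevG2 hG2 K w := by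
  simp [wordGL]

theorem wordGL_nil' : wordGL chevG2 hG2 K ([] : List (ℕ × K)) = 1 := by
  simp [wordGL]

theorem wordGL_append' (w w' : List (ℕ × K)) :
    wordGL chevG2 hG2 K (w ++ w') = wordGL chevG2 hG2 K w * wordGL chevG2 hG2 K w' := by
  simp [wordGL]

/-- collecting a word in four pairwise commuting root subgroups -/
theorem abel4 (r1 r2 r3 r4 : ℕ) (h12 : r1 ≠ r2) (h13 : r1 ≠ r3) (h14 : r1 ≠ r4) (h23 : r2 ≠ r3) (h24 : r2 ≠ r4)
    (h34 : r3 ≠ r4)
    (hc : ∀ i ∈ [r1, r2, r3, r4], ∀ j ∈ [r1, r2, r3, r4], ∀ a b : K,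
      xGL chevG2 hG2 K i a * xGL chevG2 hG2 K j b = xGL chevG2 hG2 K j b * xGL chevG2 hG2 K i a)
    (w : List (ℕ × K)) (hw : ∀ p ∈ w, p.1 ∈ [r1, r2, r3, r4]) :
    wordGL chevG2 hG2 K w = xGL chevG2 hG2 K r1 (coefAt r1 w) * xGL chevG2 hG2 K r2 (coefAt r2 w) *
      xGL chevG2 hG2 K r3 (coefAt r3 w) * xGL chevG2 hG2 K r4 (coefAt r4 w) := by
  induction w with
  | nil => simp only [coefAt_nil, xGL_zero, mul_one, wordGL_nil']
  | cons p w ih =>
    obtain ⟨r, t⟩ := p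
    rw [wordGL_cons, ih (fun q hq => hw q (List.mem_cons_of_mem _ hq))]
    have hr := hw (r, t) List.mem_cons_self
    simp only [List.mem_cons, List.not_mem_nil, or_false] at hr
    have m1 : r1 ∈ [r1, r2, r3, r4] := by simp
    have m2 : r2 ∈ [r1, r2, r3, r4] := by simp
    have m3 : r3 ∈ [r1, r2, r3, r4] := by simp
    have m4 : r4 ∈ [r1, r2, r3, r4] := by simp
    rcases hr with rfl | rfl | rfl | rfl
    · rw [coefAt_cons_self, coefAt_cons_ne _ _ h12, coefAt_cons_ne _ _ h13, coefAt_cons_ne _ _ h14, xGL_add]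
      simp only [mul_assoc]
    · rw [coefAt_cons_self, coefAt_cons_ne _ _ h12.symm, coefAt_cons_ne _ _ h23, coefAt_cons_ne _ _ h24, xGL_add]
      simp only [← mul_assoc]
      rw [hc _ m2 _ m1]
    · rw [coefAt_cons_self, coefAt_cons_ne _ _ h13.symm, coefAt_cons_ne _ _ h23.symm, coefAt_cons_ne _ _ h34, xGL_add]
      simp only [← mul_assoc]
      rw [hc _ m3 _ m1, mul_assoc (xGL chevG2 hG2 K r1 _), hc _ m3 _ m2]
      simp only [← mul_assoc]
    · rw [coefAt_cons_self, coefAt_cons_ne _ _ h14.symm, coefAt_cons_ne _ _ h24.symm, coefAt_cons_ne _ _ h34.symm,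
        xGL_add]
      simp only [← mul_assoc]
      rw [hc _ m4 _ m1, mul_assoc (xGL chevG2 hG2 K r1 _), hc _ m4 _ m2]
      simp only [← mul_assoc]
      rw [mul_assoc (xGL chevG2 hG2 K r1 _ * xGL chevG2 hG2 K r2 _), hc _ m4 _ m3]
      simp only [← mul_assoc]

end abel

section comm
variable {K : Type*} [Field K] [CharP K 3]

theorem twGood_hi : ∀ i ∈ [8, 9, 10, 11], ∀ j ∈ [8, 9, 10, 11], twGood chevG2 3 i j = true := by decide

theorem twGood_lo : ∀ i ∈ [3, 2, 1, 0], ∀ j ∈ [3, 2, 1, 0], twGood chevG2 3 i j = true := by decide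

theorem comm_hi : ∀ i ∈ [8, 9, 10, 11], ∀ j ∈ [8, 9, 10, 11], ∀ a b : K,
    xGL chevG2 hG2 K i a * xGL chevG2 hG2 K j b = xGL chevG2 hG2 K j b * xGL chevG2 hG2 K i a :=
  fun i hi j hj a b => tw_commute chevG2 hG2 K 3 i j (twGood_hi i hi j hj) a b

theorem comm_lo : ∀ i ∈ [3, 2, 1, 0], ∀ j ∈ [3, 2, 1, 0], ∀ a b : K,
    xGL chevG2 hG2 K i a * xGL chevG2 hG2 K j b = xGL chevG2 hG2 K j b * xGL chevG2 hG2 K i a :=
  fun i hi j hj a b => tw_commute chevG2 hG2 K 3 i j (twGood_lo i hi j hj) a b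

omit [CharP K 3] in
theorem comm_76 (t u : K) : xGL chevG2 hG2 K 6 u * xGL chevG2 hG2 K 7 t =
    xGL chevG2 hG2 K 7 t * xGL chevG2 hG2 K 6 u *
      wordGL chevG2 hG2 K [(8, t * u), (9, t ^ 2 * u), (10, -(t ^ 3 * u)), (11, -(t ^ 3 * u ^ 2))] := by
  apply Units.ext
  simp only [Units.val_mul, xGL_coe, wordGL_coe]
  rw [comm_formula_all chevG2 hG2 7 6 (by decide) (by decide) (by decide) (by decide) t u]
  congr 2
  unfold ChevalleyDatum.commWord
  have : chevG2.commTerms 7 6 = [(8, -1, 1, 1), (9, 1, 2, 1), (10, 1, 3, 1), (11, 1, 3, 2)] := by decide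
  rw [this]
  simp only [List.map_cons, List.map_nil]
  congr 1
  · congr 1; push_cast; ring
  congr 1
  · congr 1; push_cast; ring
  congr 1
  · congr 1; push_cast; ring
  congr 1
  · congr 1; push_cast; ring

omit [CharP K 3] in
theorem comm_45 (t u : K) : xGL chevG2 hG2 K 5 u * xGL chevG2 hG2 K 4 t =
    xGL chevG2 hG2 K 4 t * xGL chevG2 hG2 K 5 u *
      wordGL chevG2 hG2 K [(3, -(t * u)), (2, t ^ 2 * u), (1, t ^ 3 * u), (0, -(t ^ 3 * u ^ 2))] := by
  apply Units.ext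
  simp only [Units.val_mul, xGL_coe, wordGL_coe]
  rw [comm_formula_all chevG2 hG2 4 5 (by decide) (by decide) (by decide) (by decide) t u]
  congr 2
  unfold ChevalleyDatum.commWord
  have : chevG2.commTerms 4 5 = [(3, 1, 1, 1), (2, 1, 2, 1), (1, -1, 3, 1), (0, 1, 3, 2)] := by decide
  rw [this]
  simp only [List.map_cons, List.map_nil]
  congr 1
  · congr 1; push_cast; ring
  congr 1
  · congr 1; push_cast; ring
  congr 1
  · congr 1; push_cast; ring
  congr 1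
  · congr 1; push_cast; ring

end comm

section words
variable {K : Type*} [Field K]

/-- the canonical words in `U` and `V` -/
def uWord (a b c d e f : K) : List (ℕ × K) := [(7, a), (6, b), (8, c), (9, d), (10, e), (11, f)]

def vWord (a b c d e f : K) : List (ℕ × K) := [(4, a), (5, b), (3, c), (2, d), (1, e), (0, f)]

theorem reeWordU_eq (θ : ℕ) (t u v : K) :
    reeWordU θ t u v = uWord (t ^ θ) t (t ^ (θ + 1) + u ^ θ) (t ^ (2 * θ + 1) + v ^ θ) u v := rfl

theorem reeWordV_eq (θ : ℕ) (t u v : K) :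
    reeWordV θ t u v = vWord (-(t ^ θ)) (-t) (-(t ^ (θ + 1) + u ^ θ)) (-(t ^ (2 * θ + 1) + v ^ θ)) (-u) (-v) := rfl

theorem wordGL_uWord (a b c d e f : K) : wordGL chevG2 hG2 K (uWord a b c d e f) =
    xGL chevG2 hG2 K 7 a * xGL chevG2 hG2 K 6 b * (xGL chevG2 hG2 K 8 c * xGL chevG2 hG2 K 9 d *
      xGL chevG2 hG2 K 10 e * xGL chevG2 hG2 K 11 f) := by
  simp only [uWord, wordGL_cons, wordGL_nil', mul_one, mul_assoc]

theorem wordGL_vWord (a b c d e f : K) : wordGL chevG2 hG2 K (vWord a b c d e f) =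
    xGL chevG2 hG2 K 4 a * xGL chevG2 hG2 K 5 b * (xGL chevG2 hG2 K 3 c * xGL chevG2 hG2 K 2 d *
      xGL chevG2 hG2 K 1 e * xGL chevG2 hG2 K 0 f) := by
  simp only [vWord, wordGL_cons, wordGL_nil', mul_one, mul_assoc]

variable [CharP K 3] {θ : ℕ} {σ : ↥(chevG2.group K) →* ↥(chevG2.group K)} (hσ : IsReeSig K θ σ)

include hσ in
theorem sgl_uWord (a b c d e f : K) :
    sgl σ (wordGL chevG2 hG2 K (uWord a b c d e f)) =
      wordGL chevG2 hG2 K (uWord (b ^ θ) (a ^ (θ * 3)) (b ^ θ * a ^ (θ * 3) + e ^ θ)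
        ((b ^ θ) ^ 2 * a ^ (θ * 3) + f ^ θ) (-((b ^ θ) ^ 3 * a ^ (θ * 3)) + c ^ (θ * 3))
        (-((b ^ θ) ^ 3 * (a ^ (θ * 3)) ^ 2) + d ^ (θ * 3))) := by
  rw [sgl_wordGL hσ _ (by simp [uWord])]
  have e1 : (uWord a b c d e f).map (reeLet θ) =
      (6, a ^ (θ * 3)) :: (7, b ^ θ) :: [(10, c ^ (θ * 3)), (11, d ^ (θ * 3)), (8, e ^ θ), (9, f ^ θ)] := by
    simp [uWord, reeLet, rhoG2, lamG2]
  rw [e1, wordGL_cons, wordGL_cons, ← mul_assoc, comm_76, mul_assoc, ← wordGL_append',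
    abel4 8 9 10 11 (by decide) (by decide) (by decide) (by decide) (by decide) (by decide) comm_hi _
      (by simp), wordGL_uWord]
  simp [coefAt]

include hσ in
theorem sgl_vWord (a b c d e f : K) :
    sgl σ (wordGL chevG2 hG2 K (vWord a b c d e f)) =
      wordGL chevG2 hG2 K (vWord (b ^ θ) (a ^ (θ * 3)) (-(b ^ θ * a ^ (θ * 3)) + e ^ θ)
        ((b ^ θ) ^ 2 * a ^ (θ * 3) + f ^ θ) ((b ^ θ) ^ 3 * a ^ (θ * 3) + c ^ (θ * 3))
        (-((b ^ θ) ^ 3 * (a ^ (θ * 3)) ^ 2) + d ^ (θ * 3))) := by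
  rw [sgl_wordGL hσ _ (by simp [vWord])]
  have e1 : (vWord a b c d e f).map (reeLet θ) =
      (5, a ^ (θ * 3)) :: (4, b ^ θ) :: [(1, c ^ (θ * 3)), (0, d ^ (θ * 3)), (3, e ^ θ), (2, f ^ θ)] := by
    simp [vWord, reeLet, rhoG2, lamG2]
  rw [e1, wordGL_cons, wordGL_cons, ← mul_assoc, comm_45, mul_assoc, ← wordGL_append',
    abel4 3 2 1 0 (by decide) (by decide) (by decide) (by decide) (by decide) (by decide) comm_lo _
      (by simp), wordGL_vWord]
  simp [coefAt]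

end words

end Cfsg.Agent.Lib.Helper36
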