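import Cfsg.Agent.Lib.Helper36.ReeComm

/-! # The Ree groups `²G₂`: the generators are fixed, and the fixed points of `U` (helper36) -/

set_option autoImplicit false

namespace Cfsg.Agent.Lib.Helper36

open Cfsg Cfsg.Lie Cfsg.Agent.Lib.Helper18

section
variable {K : Type*} [Field K] [Fintype K] {m : ℕ} {σ : ↥(chevG2.group K) →* ↥(chevG2.group K)}

theorem ree_F1 (hK : Fintype.card K = 3 ^ (2 * m + 1)) (x : K) : (x ^ 3 ^ m) ^ (3 ^ m * 3) = x := by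
  rw [mul_comm]; exact ree_pow_three_theta_sq hK x

theorem ree_A (hK : Fintype.card K = 3 ^ (2 * m + 1)) (x y : K) :
    (x + y) ^ (3 ^ m * 3) = x ^ (3 ^ m * 3) + y ^ (3 ^ m * 3) := by
  have : 3 ^ m * 3 = 3 ^ (m + 1) := by ring
  rw [this]; exact ree_add_pow hK (m + 1) x y

theorem ree_odd (m : ℕ) : Odd (3 ^ m) := Odd.pow (by decide)

theorem ree_odd3 (m : ℕ) : Odd (3 ^ m * 3) := (ree_odd m).mul (by decide)

theorem ree_P1 (hK : Fintype.card K = 3 ^ (2 * m + 1)) (t : K) :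
    (t ^ (3 ^ m + 1)) ^ (3 ^ m * 3) = t * t ^ (3 ^ m * 3) := by
  rw [pow_succ t (3 ^ m), mul_pow, ree_F1 hK]

theorem ree_P2 (hK : Fintype.card K = 3 ^ (2 * m + 1)) (t : K) :
    (t ^ (2 * 3 ^ m + 1)) ^ (3 ^ m * 3) = t ^ 2 * t ^ (3 ^ m * 3) := by
  rw [pow_succ t (2 * 3 ^ m), mul_pow, pow_mul' t 2 (3 ^ m), ← pow_mul (t ^ 3 ^ m) 2, mul_comm 2, pow_mul, ree_F1 hK]

theorem reeU_fixed (hK : Fintype.card K = 3 ^ (2 * m + 1)) (hσ : IsReeSig K (3 ^ m) σ) (t u v : K) :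
    sgl σ (wordGL chevG2 hG2 K (reeWordU (3 ^ m) t u v)) = wordGL chevG2 hG2 K (reeWordU (3 ^ m) t u v) := by
  have := ree_charP hK
  have F1 := ree_F1 hK
  have A := ree_A hK
  have P3 : (t ^ 3 ^ m) ^ 3 = t ^ (3 ^ m * 3) := (pow_mul t _ 3).symm
  rw [reeWordU_eq, sgl_uWord hσ]
  have h5 : -((t ^ 3 ^ m) ^ 3 * (t ^ 3 ^ m) ^ (3 ^ m * 3)) + (t ^ (3 ^ m + 1) + u ^ 3 ^ m) ^ (3 ^ m * 3) = u := by
    rw [A, F1, F1, ree_P1 hK, P3]; ring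
  have h6 : -((t ^ 3 ^ m) ^ 3 * ((t ^ 3 ^ m) ^ (3 ^ m * 3)) ^ 2) + (t ^ (2 * 3 ^ m + 1) + v ^ 3 ^ m) ^ (3 ^ m * 3) = v := by
    rw [A, F1, F1, ree_P2 hK, P3]; ring
  rw [h5, h6, F1]
  have h3 : t ^ 3 ^ m * t = t ^ (3 ^ m + 1) := (pow_succ t _).symm
  have h4 : (t ^ 3 ^ m) ^ 2 * t = t ^ (2 * 3 ^ m + 1) := by rw [pow_succ t (2 * 3 ^ m), pow_mul' t 2 (3 ^ m)]
  rw [h3, h4]

theorem reeV_fixed (hK : Fintype.card K = 3 ^ (2 * m + 1)) (hσ : IsReeSig K (3 ^ m) σ) (t u v : K) :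
    sgl σ (wordGL chevG2 hG2 K (reeWordV (3 ^ m) t u v)) = wordGL chevG2 hG2 K (reeWordV (3 ^ m) t u v) := by
  have := ree_charP hK
  have F1 := ree_F1 hK
  have A := ree_A hK
  have N1 : ∀ x : K, (-x) ^ 3 ^ m = -(x ^ 3 ^ m) := fun x => Odd.neg_pow (ree_odd m) x
  have N3 : ∀ x : K, (-x) ^ (3 ^ m * 3) = -(x ^ (3 ^ m * 3)) := fun x => Odd.neg_pow (ree_odd3 m) x
  have P3 : (t ^ 3 ^ m) ^ 3 = t ^ (3 ^ m * 3) := (pow_mul t _ 3).symm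
  rw [reeWordV_eq, sgl_vWord hσ]
  have h5 : ((-t) ^ 3 ^ m) ^ 3 * (-(t ^ 3 ^ m)) ^ (3 ^ m * 3) + (-(t ^ (3 ^ m + 1) + u ^ 3 ^ m)) ^ (3 ^ m * 3) = -u := by
    rw [N3, N3, N1, A, F1, F1, ree_P1 hK, Odd.neg_pow (by decide : Odd 3), P3]; ring
  have h6 : -(((-t) ^ 3 ^ m) ^ 3 * ((-(t ^ 3 ^ m)) ^ (3 ^ m * 3)) ^ 2) +
      (-(t ^ (2 * 3 ^ m + 1) + v ^ 3 ^ m)) ^ (3 ^ m * 3) = -v := by
    rw [N3, N3, N1, A, F1, F1, ree_P2 hK, Odd.neg_pow (by decide : Odd 3), P3]; ring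
  rw [h5, h6, N3, F1, N1]
  have h3 : -(-(t ^ 3 ^ m) * -t) + (-u) ^ 3 ^ m = -(t ^ (3 ^ m + 1) + u ^ 3 ^ m) := by
    rw [N1, pow_succ t (3 ^ m)]; ring
  have h4 : (-(t ^ 3 ^ m)) ^ 2 * -t + (-v) ^ 3 ^ m = -(t ^ (2 * 3 ^ m + 1) + v ^ 3 ^ m) := by
    rw [N1, pow_succ t (2 * 3 ^ m), pow_mul' t 2 (3 ^ m)]; ring
  rw [h3, h4]

/-- the order of the positive roots used for canonical words -/
def ordU : List ℕ := [7, 6, 8, 9, 10, 11]

theorem chkKeyOrd_ordU : chkKeyOrd chevG2 ordU = true := by decide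

def uFun (a b c d e f : K) : ℕ → K := fun r =>
  if r = 7 then a else if r = 6 then b else if r = 8 then c else if r = 9 then d else if r = 10 then e else f

omit [Fintype K] in
theorem uWord_eq_map (a b c d e f : K) : uWord a b c d e f = ordU.map fun r => (r, uFun a b c d e f r) := by
  simp [uWord, ordU, uFun]

theorem uWord_inj (a b c d e f a' b' c' d' e' f' : K)
    (h : wordGL chevG2 hG2 K (uWord a b c d e f) = wordGL chevG2 hG2 K (uWord a' b' c' d' e' f')) :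
    a = a' ∧ b = b' ∧ c = c' ∧ d = d' ∧ e = e' ∧ f = f' := by
  rw [uWord_eq_map, uWord_eq_map] at h
  have key := key_unique chevG2 hG2 K ordU chkKeyOrd_ordU _ _ h
  refine ⟨?_, ?_, ?_, ?_, ?_, ?_⟩
  · simpa [uFun] using key 7 (by decide)
  · simpa [uFun] using key 6 (by decide)
  · simpa [uFun] using key 8 (by decide)
  · simpa [uFun] using key 9 (by decide)
  · simpa [uFun] using key 10 (by decide)
  · simpa [uFun] using key 11 (by decide)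

omit [Fintype K] in
theorem exists_uWord (g : GL chevG2.Idx K) (hg : g ∈ chevG2.posUnipotent K) :
    ∃ a b c d e f : K, g = wordGL chevG2 hG2 K (uWord a b c d e f) := by
  obtain ⟨t, ht⟩ := key_exists chevG2 hG2 K ordU chkKeyOrd_ordU g hg
  refine ⟨t 7, t 6, t 8, t 9, t 10, t 11, ?_⟩
  rw [ht]
  rfl

omit [Fintype K] in
theorem uWord_mem_pos (a b c d e f : K) : wordGL chevG2 hG2 K (uWord a b c d e f) ∈ chevG2.posUnipotent K := by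
  rw [uWord_eq_map]
  exact key_word_mem chevG2 hG2 K ordU chkKeyOrd_ordU _

/-- the fixed points of the twisting endomorphism on `U` -/
theorem fix_pos (hK : Fintype.card K = 3 ^ (2 * m + 1)) (hσ : IsReeSig K (3 ^ m) σ)
    (g : GL chevG2.Idx K) (hg : g ∈ chevG2.posUnipotent K) (hfix : sgl σ g = g) :
    ∃ t u v : K, g = wordGL chevG2 hG2 K (reeWordU (3 ^ m) t u v) := by
  have := ree_charP hK
  obtain ⟨a, b, c, d, e, f, rfl⟩ := exists_uWord g hg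
  rw [sgl_uWord hσ] at hfix
  obtain ⟨h1, h2, h3, h4, -, -⟩ := uWord_inj _ _ _ _ _ _ _ _ _ _ _ _ hfix
  refine ⟨b, e, f, ?_⟩
  rw [reeWordU_eq]
  rw [h2] at h3 h4
  rw [pow_succ b (3 ^ m), pow_succ b (2 * 3 ^ m), pow_mul' b 2 (3 ^ m)]
  rw [← h1, ← h3, ← h4]

theorem reeU_inj (t u v t' u' v' : K) (θ : ℕ)
    (h : wordGL chevG2 hG2 K (reeWordU θ t u v) = wordGL chevG2 hG2 K (reeWordU θ t' u' v')) :
    t = t' ∧ u = u' ∧ v = v' := by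
  rw [reeWordU_eq, reeWordU_eq] at h
  obtain ⟨-, h2, -, -, h5, h6⟩ := uWord_inj _ _ _ _ _ _ _ _ _ _ _ _ h
  exact ⟨h2, h5, h6⟩


end

end Cfsg.Agent.Lib.Helper36
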