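import Cfsg.Prelude.Def_ChevG2
import Cfsg.Prelude.Def_ChevWords
import Mathlib.Data.ZMod.Basic

/-! # The Ree groups `²G₂`: a word identity in `G₂(𝔽₃)` checked by matrix computation (helper36) -/

set_option autoImplicit false

namespace Cfsg.Agent.Lib.Helper36

open Cfsg Cfsg.Lie

/-- numbering of the index set of `G₂` -/
def reeIdxNum : chevG2.Idx → ℕ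
  | Sum.inl i => i.val
  | Sum.inr s => 2 + s.val

/-- the matrix over `𝔽₃` with entries from a table -/
def reeLit (T : List (List (ZMod 3))) : Matrix chevG2.Idx chevG2.Idx (ZMod 3) :=
  Matrix.of fun i j => (T.getD (reeIdxNum i) []).getD (reeIdxNum j) 0

theorem reeLit_one : (1 : Matrix chevG2.Idx chevG2.Idx (ZMod 3)) = reeLit [[1,0,0,0,0,0,0,0,0,0,0,0,0,0],[0,1,0,0,0,0,0,0,0,0,0,0,0,0],[0,0,1,0,0,0,0,0,0,0,0,0,0,0],[0,0,0,1,0,0,0,0,0,0,0,0,0,0],[0,0,0,0,1,0,0,0,0,0,0,0,0,0],[0,0,0,0,0,1,0,0,0,0,0,0,0,0],[0,0,0,0,0,0,1,0,0,0,0,0,0,0],[0,0,0,0,0,0,0,1,0,0,0,0,0,0],[0,0,0,0,0,0,0,0,1,0,0,0,0,0],[0,0,0,0,0,0,0,0,0,1,0,0,0,0],[0,0,0,0,0,0,0,0,0,0,1,0,0,0],[0,0,0,0,0,0,0,0,0,0,0,1,0,0],[0,0,0,0,0,0,0,0,0,0,0,0,1,0],[0,0,0,0,0,0,0,0,0,0,0,0,0,1]]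 := by decide +kernel


theorem reeStepA18 : chevG2.x (ZMod 3) 11 (-1) * reeLit [[1,0,0,0,0,0,0,0,0,0,0,0,0,0],[0,1,0,0,0,0,0,0,0,0,0,0,0,0],[0,0,1,0,0,0,0,0,0,0,0,0,0,0],[0,0,0,1,0,0,0,0,0,0,0,0,0,0],[0,0,0,0,1,0,0,0,0,0,0,0,0,0],[0,0,0,0,0,1,0,0,0,0,0,0,0,0],[0,0,0,0,0,0,1,0,0,0,0,0,0,0],[0,0,0,0,0,0,0,1,0,0,0,0,0,0],[0,0,0,0,0,0,0,0,1,0,0,0,0,0],[0,0,0,0,0,0,0,0,0,1,0,0,0,0],[0,0,0,0,0,0,0,0,0,0,1,0,0,0],[0,0,0,0,0,0,0,0,0,0,0,1,0,0],[0,0,0,0,0,0,0,0,0,0,0,0,1,0],[0,0,0,0,0,0,0,0,0,0,0,0,0,1]] = reeLit [[1,0,2,0,0,0,0,0,0,0,0,0,0,0],[0,1,1,0,0,0,0,0,0,0,0,0,0,0],[0,0,1,0,0,0,0,0,0,0,0,0,0,0],[0,0,0,1,0,0,0,0,0,0,0,0,0,0],[0,0,0,0,1,0,0,0,0,0,0,0,0,0],[0,0,0,0,0,1,0,0,0,0,0,0,0,0],[0,0,0,0,0,0,1,0,0,0,0,0,0,0],[0,0,0,0,0,0,0,1,0,0,0,0,0,0],[0,0,0,2,0,0,0,0,1,0,0,0,0,0],[0,0,0,0,0,0,0,0,0,1,0,0,0,0],[0,0,0,0,2,0,0,0,0,0,1,0,0,0],[0,0,0,0,0,1,0,0,0,0,0,1,0,0],[0,0,0,0,0,0,0,1,0,0,0,0,1,0],[0,1,2,0,0,0,0,0,0,0,0,0,0,1]]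 := by decide +kernel

theorem reeStepA17 : chevG2.x (ZMod 3) 10 (0) * reeLit [[1,0,2,0,0,0,0,0,0,0,0,0,0,0],[0,1,1,0,0,0,0,0,0,0,0,0,0,0],[0,0,1,0,0,0,0,0,0,0,0,0,0,0],[0,0,0,1,0,0,0,0,0,0,0,0,0,0],[0,0,0,0,1,0,0,0,0,0,0,0,0,0],[0,0,0,0,0,1,0,0,0,0,0,0,0,0],[0,0,0,0,0,0,1,0,0,0,0,0,0,0],[0,0,0,0,0,0,0,1,0,0,0,0,0,0],[0,0,0,2,0,0,0,0,1,0,0,0,0,0],[0,0,0,0,0,0,0,0,0,1,0,0,0,0],[0,0,0,0,2,0,0,0,0,0,1,0,0,0],[0,0,0,0,0,1,0,0,0,0,0,1,0,0],[0,0,0,0,0,0,0,1,0,0,0,0,1,0],[0,1,2,0,0,0,0,0,0,0,0,0,0,1]] = reeLit [[1,0,2,0,0,0,0,0,0,0,0,0,0,0],[0,1,1,0,0,0,0,0,0,0,0,0,0,0],[0,0,1,0,0,0,0,0,0,0,0,0,0,0],[0,0,0,1,0,0,0,0,0,0,0,0,0,0],[0,0,0,0,1,0,0,0,0,0,0,0,0,0],[0,0,0,0,0,1,0,0,0,0,0,0,0,0],[0,0,0,0,0,0,1,0,0,0,0,0,0,0],[0,0,0,0,0,0,0,1,0,0,0,0,0,0],[0,0,0,2,0,0,0,0,1,0,0,0,0,0],[0,0,0,0,0,0,0,0,0,1,0,0,0,0],[0,0,0,0,2,0,0,0,0,0,1,0,0,0],[0,0,0,0,0,1,0,0,0,0,0,1,0,0],[0,0,0,0,0,0,0,1,0,0,0,0,1,0],[0,1,2,0,0,0,0,0,0,0,0,0,0,1]]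 := by decide +kernel

theorem reeStepA16 : chevG2.x (ZMod 3) 9 (1) * reeLit [[1,0,2,0,0,0,0,0,0,0,0,0,0,0],[0,1,1,0,0,0,0,0,0,0,0,0,0,0],[0,0,1,0,0,0,0,0,0,0,0,0,0,0],[0,0,0,1,0,0,0,0,0,0,0,0,0,0],[0,0,0,0,1,0,0,0,0,0,0,0,0,0],[0,0,0,0,0,1,0,0,0,0,0,0,0,0],[0,0,0,0,0,0,1,0,0,0,0,0,0,0],[0,0,0,0,0,0,0,1,0,0,0,0,0,0],[0,0,0,2,0,0,0,0,1,0,0,0,0,0],[0,0,0,0,0,0,0,0,0,1,0,0,0,0],[0,0,0,0,2,0,0,0,0,0,1,0,0,0],[0,0,0,0,0,1,0,0,0,0,0,1,0,0],[0,0,0,0,0,0,0,1,0,0,0,0,1,0],[0,1,2,0,0,0,0,0,0,0,0,0,0,1]] = reeLit [[1,0,2,0,2,0,0,0,0,0,0,0,0,0],[0,1,1,0,0,0,0,0,0,0,0,0,0,0],[0,0,1,0,0,0,0,0,0,0,0,0,0,0],[0,0,0,1,0,0,0,0,0,0,0,0,0,0],[0,0,0,0,1,0,0,0,0,0,0,0,0,0],[0,0,1,0,0,1,0,0,0,0,0,0,0,0],[0,0,0,1,0,0,1,0,0,0,0,0,0,0],[0,0,0,0,0,0,0,1,0,0,0,0,0,0],[0,0,0,2,0,0,0,0,1,0,0,0,0,0],[0,0,2,0,0,1,0,0,0,1,0,0,0,0],[0,0,0,1,2,0,2,0,0,0,1,0,0,0],[2,0,1,0,2,1,0,0,0,0,0,1,0,0],[0,0,1,0,0,0,0,1,0,0,0,0,1,0],[0,1,2,2,0,0,0,0,0,0,0,0,0,1]]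 := by decide +kernel

theorem reeStepA15 : chevG2.x (ZMod 3) 8 (1) * reeLit [[1,0,2,0,2,0,0,0,0,0,0,0,0,0],[0,1,1,0,0,0,0,0,0,0,0,0,0,0],[0,0,1,0,0,0,0,0,0,0,0,0,0,0],[0,0,0,1,0,0,0,0,0,0,0,0,0,0],[0,0,0,0,1,0,0,0,0,0,0,0,0,0],[0,0,1,0,0,1,0,0,0,0,0,0,0,0],[0,0,0,1,0,0,1,0,0,0,0,0,0,0],[0,0,0,0,0,0,0,1,0,0,0,0,0,0],[0,0,0,2,0,0,0,0,1,0,0,0,0,0],[0,0,2,0,0,1,0,0,0,1,0,0,0,0],[0,0,0,1,2,0,2,0,0,0,1,0,0,0],[2,0,1,0,2,1,0,0,0,0,0,1,0,0],[0,0,1,0,0,0,0,1,0,0,0,0,1,0],[0,1,2,2,0,0,0,0,0,0,0,0,0,1]] = reeLit [[1,0,0,0,2,1,0,0,0,0,0,0,0,0],[0,1,1,0,0,0,0,0,0,0,0,0,0,0],[0,0,1,0,0,0,0,0,0,0,0,0,0,0],[0,0,0,1,0,0,0,0,0,0,0,0,0,0],[0,0,2,0,1,0,0,0,0,0,0,0,0,0],[0,0,1,0,0,1,0,0,0,0,0,0,0,0],[0,0,1,1,1,0,1,0,0,0,0,0,0,0],[0,0,0,0,0,0,0,1,0,0,0,0,0,0],[0,0,1,2,0,0,0,0,1,0,0,0,0,0],[0,0,2,0,0,1,0,2,0,1,0,0,0,0],[1,2,0,1,1,2,2,0,0,0,1,0,0,0],[2,0,2,0,2,0,0,2,0,2,0,1,0,0],[0,0,1,0,0,0,0,1,0,0,0,0,1,0],[0,1,2,2,0,0,0,2,0,0,0,0,0,1]]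 := by decide +kernel

theorem reeStepA14 : chevG2.x (ZMod 3) 6 (-1) * reeLit [[1,0,0,0,2,1,0,0,0,0,0,0,0,0],[0,1,1,0,0,0,0,0,0,0,0,0,0,0],[0,0,1,0,0,0,0,0,0,0,0,0,0,0],[0,0,0,1,0,0,0,0,0,0,0,0,0,0],[0,0,2,0,1,0,0,0,0,0,0,0,0,0],[0,0,1,0,0,1,0,0,0,0,0,0,0,0],[0,0,1,1,1,0,1,0,0,0,0,0,0,0],[0,0,0,0,0,0,0,1,0,0,0,0,0,0],[0,0,1,2,0,0,0,0,1,0,0,0,0,0],[0,0,2,0,0,1,0,2,0,1,0,0,0,0],[1,2,0,1,1,2,2,0,0,0,1,0,0,0],[2,0,2,0,2,0,0,2,0,2,0,1,0,0],[0,0,1,0,0,0,0,1,0,0,0,0,1,0],[0,1,2,2,0,0,0,2,0,0,0,0,0,1]] = reeLit [[1,0,0,0,2,1,0,0,0,0,0,0,0,0],[0,1,1,0,0,0,0,2,0,0,0,0,0,0],[0,0,1,0,0,0,0,0,0,0,0,0,0,0],[0,0,1,1,0,0,0,0,0,0,0,0,0,0],[0,0,2,0,1,0,0,0,0,0,0,0,0,0],[0,0,1,0,0,1,0,0,0,0,0,0,0,0],[0,0,2,1,1,1,1,0,0,0,0,0,0,0],[0,0,0,0,0,0,0,1,0,0,0,0,0,0],[0,2,0,2,0,0,0,2,1,0,0,0,0,0],[0,0,2,0,0,1,0,2,0,1,0,0,0,0],[1,2,1,1,1,1,2,1,0,2,1,0,0,0],[2,0,2,0,2,0,0,2,0,2,0,1,0,0],[0,0,1,0,0,0,0,1,0,0,0,0,1,0],[0,1,1,2,0,0,0,1,0,0,0,0,2,1]]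 := by decide +kernel

theorem reeStepA13 : chevG2.x (ZMod 3) 7 (-1) * reeLit [[1,0,0,0,2,1,0,0,0,0,0,0,0,0],[0,1,1,0,0,0,0,2,0,0,0,0,0,0],[0,0,1,0,0,0,0,0,0,0,0,0,0,0],[0,0,1,1,0,0,0,0,0,0,0,0,0,0],[0,0,2,0,1,0,0,0,0,0,0,0,0,0],[0,0,1,0,0,1,0,0,0,0,0,0,0,0],[0,0,2,1,1,1,1,0,0,0,0,0,0,0],[0,0,0,0,0,0,0,1,0,0,0,0,0,0],[0,2,0,2,0,0,0,2,1,0,0,0,0,0],[0,0,2,0,0,1,0,2,0,1,0,0,0,0],[1,2,1,1,1,1,2,1,0,2,1,0,0,0],[2,0,2,0,2,0,0,2,0,2,0,1,0,0],[0,0,1,0,0,0,0,1,0,0,0,0,1,0],[0,1,1,2,0,0,0,1,0,0,0,0,2,1]] = reeLit [[1,0,1,2,1,0,2,0,0,0,0,0,0,0],[0,1,1,0,0,0,0,2,0,0,0,0,0,0],[0,0,1,0,0,0,0,0,0,0,0,0,0,0],[0,0,1,1,0,0,0,0,0,0,0,0,0,0],[0,0,0,1,1,0,0,0,0,0,0,0,0,0],[0,0,2,2,1,1,0,0,0,0,0,0,0,0],[0,0,2,1,1,1,1,0,0,0,0,0,0,0],[0,0,1,1,0,0,0,1,0,0,0,0,0,0],[0,2,0,2,0,0,0,2,1,0,0,0,0,0],[2,2,2,2,0,2,2,0,0,1,0,0,0,0],[1,1,1,0,1,1,2,0,1,2,1,0,0,0],[1,0,1,1,1,2,1,0,1,0,2,1,0,0],[0,1,1,1,0,0,0,2,2,0,0,0,1,0],[0,1,1,2,0,0,0,1,0,0,0,0,2,1]]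 := by decide +kernel

theorem reeStepA12 : chevG2.x (ZMod 3) 0 (-1) * reeLit [[1,0,1,2,1,0,2,0,0,0,0,0,0,0],[0,1,1,0,0,0,0,2,0,0,0,0,0,0],[0,0,1,0,0,0,0,0,0,0,0,0,0,0],[0,0,1,1,0,0,0,0,0,0,0,0,0,0],[0,0,0,1,1,0,0,0,0,0,0,0,0,0],[0,0,2,2,1,1,0,0,0,0,0,0,0,0],[0,0,2,1,1,1,1,0,0,0,0,0,0,0],[0,0,1,1,0,0,0,1,0,0,0,0,0,0],[0,2,0,2,0,0,0,2,1,0,0,0,0,0],[2,2,2,2,0,2,2,0,0,1,0,0,0,0],[1,1,1,0,1,1,2,0,1,2,1,0,0,0],[1,0,1,1,1,2,1,0,1,0,2,1,0,0],[0,1,1,1,0,0,0,2,2,0,0,0,1,0],[0,1,1,2,0,0,0,1,0,0,0,0,2,1]] = reeLit [[1,1,2,1,1,0,2,1,0,0,0,0,2,1],[0,0,0,1,0,0,0,1,0,0,0,0,1,2],[0,1,2,1,0,0,0,0,0,0,0,0,1,2],[0,1,1,2,0,0,0,1,2,0,0,0,0,0],[2,2,2,1,0,2,1,0,2,1,2,0,0,0],[1,0,0,0,2,0,1,0,1,0,2,1,0,0],[0,0,2,1,1,1,1,0,0,0,0,0,0,0],[0,1,2,2,0,0,0,0,2,0,0,0,1,0],[0,2,0,2,0,0,0,2,1,0,0,0,0,0],[2,2,2,2,0,2,2,0,0,1,0,0,0,0],[1,1,1,0,1,1,2,0,1,2,1,0,0,0],[1,0,1,1,1,2,1,0,1,0,2,1,0,0],[0,1,1,1,0,0,0,2,2,0,0,0,1,0],[0,1,1,2,0,0,0,1,0,0,0,0,2,1]]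 := by decide +kernel

theorem reeStepA11 : chevG2.x (ZMod 3) 1 (0) * reeLit [[1,1,2,1,1,0,2,1,0,0,0,0,2,1],[0,0,0,1,0,0,0,1,0,0,0,0,1,2],[0,1,2,1,0,0,0,0,0,0,0,0,1,2],[0,1,1,2,0,0,0,1,2,0,0,0,0,0],[2,2,2,1,0,2,1,0,2,1,2,0,0,0],[1,0,0,0,2,0,1,0,1,0,2,1,0,0],[0,0,2,1,1,1,1,0,0,0,0,0,0,0],[0,1,2,2,0,0,0,0,2,0,0,0,1,0],[0,2,0,2,0,0,0,2,1,0,0,0,0,0],[2,2,2,2,0,2,2,0,0,1,0,0,0,0],[1,1,1,0,1,1,2,0,1,2,1,0,0,0],[1,0,1,1,1,2,1,0,1,0,2,1,0,0],[0,1,1,1,0,0,0,2,2,0,0,0,1,0],[0,1,1,2,0,0,0,1,0,0,0,0,2,1]] = reeLit [[1,1,2,1,1,0,2,1,0,0,0,0,2,1],[0,0,0,1,0,0,0,1,0,0,0,0,1,2],[0,1,2,1,0,0,0,0,0,0,0,0,1,2],[0,1,1,2,0,0,0,1,2,0,0,0,0,0],[2,2,2,1,0,2,1,0,2,1,2,0,0,0],[1,0,0,0,2,0,1,0,1,0,2,1,0,0],[0,0,2,1,1,1,1,0,0,0,0,0,0,0],[0,1,2,2,0,0,0,0,2,0,0,0,1,0],[0,2,0,2,0,0,0,2,1,0,0,0,0,0],[2,2,2,2,0,2,2,0,0,1,0,0,0,0],[1,1,1,0,1,1,2,0,1,2,1,0,0,0],[1,0,1,1,1,2,1,0,1,0,2,1,0,0],[0,1,1,1,0,0,0,2,2,0,0,0,1,0],[0,1,1,2,0,0,0,1,0,0,0,0,2,1]]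 := by decide +kernel

theorem reeStepA10 : chevG2.x (ZMod 3) 2 (1) * reeLit [[1,1,2,1,1,0,2,1,0,0,0,0,2,1],[0,0,0,1,0,0,0,1,0,0,0,0,1,2],[0,1,2,1,0,0,0,0,0,0,0,0,1,2],[0,1,1,2,0,0,0,1,2,0,0,0,0,0],[2,2,2,1,0,2,1,0,2,1,2,0,0,0],[1,0,0,0,2,0,1,0,1,0,2,1,0,0],[0,0,2,1,1,1,1,0,0,0,0,0,0,0],[0,1,2,2,0,0,0,0,2,0,0,0,1,0],[0,2,0,2,0,0,0,2,1,0,0,0,0,0],[2,2,2,2,0,2,2,0,0,1,0,0,0,0],[1,1,1,0,1,1,2,0,1,2,1,0,0,0],[1,0,1,1,1,2,1,0,1,0,2,1,0,0],[0,1,1,1,0,0,0,2,2,0,0,0,1,0],[0,1,1,2,0,0,0,1,0,0,0,0,2,1]] = reeLit [[2,1,0,2,2,2,0,1,1,0,2,1,2,1],[0,0,0,1,0,0,0,1,0,0,0,0,1,2],[0,2,0,2,0,0,0,2,2,0,0,0,2,2],[0,0,0,0,0,0,0,0,2,0,0,0,1,2],[2,0,0,1,0,0,2,1,1,1,0,2,2,1],[0,0,0,0,2,2,0,2,0,1,2,1,1,0],[2,1,0,2,0,0,2,2,2,1,2,0,1,2],[0,1,2,2,0,0,0,0,2,0,0,0,1,0],[0,2,0,2,0,0,0,2,1,0,0,0,0,0],[2,1,1,1,0,2,2,1,1,1,0,0,2,0],[1,0,0,1,1,1,2,2,1,2,1,0,1,2],[1,0,1,1,1,2,1,0,1,0,2,1,0,0],[0,1,1,1,0,0,0,2,2,0,0,0,1,0],[0,1,1,2,0,0,0,1,0,0,0,0,2,1]]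 := by decide +kernel

theorem reeStepA9 : chevG2.x (ZMod 3) 3 (-1) * reeLit [[2,1,0,2,2,2,0,1,1,0,2,1,2,1],[0,0,0,1,0,0,0,1,0,0,0,0,1,2],[0,2,0,2,0,0,0,2,2,0,0,0,2,2],[0,0,0,0,0,0,0,0,2,0,0,0,1,2],[2,0,0,1,0,0,2,1,1,1,0,2,2,1],[0,0,0,0,2,2,0,2,0,1,2,1,1,0],[2,1,0,2,0,0,2,2,2,1,2,0,1,2],[0,1,2,2,0,0,0,0,2,0,0,0,1,0],[0,2,0,2,0,0,0,2,1,0,0,0,0,0],[2,1,1,1,0,2,2,1,1,1,0,0,2,0],[1,0,0,1,1,1,2,2,1,2,1,0,1,2],[1,0,1,1,1,2,1,0,1,0,2,1,0,0],[0,1,1,1,0,0,0,2,2,0,0,0,1,0],[0,1,1,2,0,0,0,1,0,0,0,0,2,1]] = reeLit [[0,1,0,0,0,0,2,0,2,2,0,1,0,0],[0,0,0,1,0,0,0,1,0,0,0,0,1,2],[0,0,0,0,0,0,0,0,1,0,0,0,2,2],[0,0,0,0,0,0,0,0,2,0,0,0,1,2],[0,0,0,0,0,0,0,0,1,0,1,2,1,2],[1,1,0,0,0,0,1,0,0,2,0,2,1,0],[2,2,0,0,0,0,2,0,1,1,2,0,1,2],[0,2,0,1,0,0,0,1,2,0,0,0,0,1],[0,2,0,2,0,0,0,2,1,0,0,0,0,0],[0,2,0,1,1,1,0,2,2,1,2,1,1,1],[1,0,0,1,1,1,2,2,1,2,1,0,1,2],[1,2,0,2,1,2,1,2,1,0,2,1,1,2],[0,1,1,1,0,0,0,2,2,0,0,0,1,0],[0,1,1,2,0,0,0,1,0,0,0,0,2,1]]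 := by decide +kernel

theorem reeStepA8 : chevG2.x (ZMod 3) 5 (-1) * reeLit [[0,1,0,0,0,0,2,0,2,2,0,1,0,0],[0,0,0,1,0,0,0,1,0,0,0,0,1,2],[0,0,0,0,0,0,0,0,1,0,0,0,2,2],[0,0,0,0,0,0,0,0,2,0,0,0,1,2],[0,0,0,0,0,0,0,0,1,0,1,2,1,2],[1,1,0,0,0,0,1,0,0,2,0,2,1,0],[2,2,0,0,0,0,2,0,1,1,2,0,1,2],[0,2,0,1,0,0,0,1,2,0,0,0,0,1],[0,2,0,2,0,0,0,2,1,0,0,0,0,0],[0,2,0,1,1,1,0,2,2,1,2,1,1,1],[1,0,0,1,1,1,2,2,1,2,1,0,1,2],[1,2,0,2,1,2,1,2,1,0,2,1,1,2],[0,1,1,1,0,0,0,2,2,0,0,0,1,0],[0,1,1,2,0,0,0,1,0,0,0,0,2,1]] = reeLit [[0,1,0,0,0,0,2,0,2,2,0,1,0,0],[0,2,0,0,0,0,0,0,1,0,0,0,1,2],[0,0,0,0,0,0,0,0,0,0,0,0,0,1],[0,0,0,0,0,0,0,0,2,0,0,0,1,2],[0,0,0,0,0,0,0,0,1,0,1,2,1,2],[0,0,0,0,0,0,0,0,1,0,2,2,2,2],[2,2,0,0,0,0,2,0,1,1,2,0,1,2],[0,0,0,0,0,0,0,0,1,0,0,0,1,0],[0,2,0,2,0,0,0,2,1,0,0,0,0,0],[2,2,0,0,0,0,1,0,1,2,1,1,0,2],[1,0,0,1,1,1,2,2,1,2,1,0,1,2],[1,2,0,2,1,2,1,2,1,0,2,1,1,2],[0,0,0,2,0,0,0,1,2,0,0,0,2,2],[0,1,1,2,0,0,0,1,0,0,0,0,2,1]]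 := by decide +kernel

theorem reeStepA7 : chevG2.x (ZMod 3) 4 (-1) * reeLit [[0,1,0,0,0,0,2,0,2,2,0,1,0,0],[0,2,0,0,0,0,0,0,1,0,0,0,1,2],[0,0,0,0,0,0,0,0,0,0,0,0,0,1],[0,0,0,0,0,0,0,0,2,0,0,0,1,2],[0,0,0,0,0,0,0,0,1,0,1,2,1,2],[0,0,0,0,0,0,0,0,1,0,2,2,2,2],[2,2,0,0,0,0,2,0,1,1,2,0,1,2],[0,0,0,0,0,0,0,0,1,0,0,0,1,0],[0,2,0,2,0,0,0,2,1,0,0,0,0,0],[2,2,0,0,0,0,1,0,1,2,1,1,0,2],[1,0,0,1,1,1,2,2,1,2,1,0,1,2],[1,2,0,2,1,2,1,2,1,0,2,1,1,2],[0,0,0,2,0,0,0,1,2,0,0,0,2,2],[0,1,1,2,0,0,0,1,0,0,0,0,2,1]] = reeLit [[2,0,0,0,0,0,0,0,0,1,1,2,0,2],[0,2,0,0,0,0,0,0,1,0,0,0,1,2],[0,0,0,0,0,0,0,0,0,0,0,0,0,1],[0,0,0,0,0,0,0,0,0,0,0,0,2,2],[0,0,0,0,0,0,0,0,0,0,0,1,1,1],[0,0,0,0,0,0,0,0,0,0,2,2,1,2],[0,0,0,0,0,0,0,0,0,1,1,0,2,2],[0,0,0,0,0,0,0,0,1,0,0,0,1,0],[0,2,0,0,0,0,0,1,2,0,0,0,1,1],[2,2,0,0,0,0,1,0,1,2,1,1,0,2],[0,1,0,0,0,2,1,2,1,2,2,2,1,1],[1,2,0,0,1,2,1,1,2,0,2,1,2,0],[0,0,0,2,0,0,0,1,2,0,0,0,2,2],[0,1,1,2,0,0,0,1,0,0,0,0,2,1]]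 := by decide +kernel

theorem reeStepA6 : chevG2.x (ZMod 3) 11 (-1) * reeLit [[2,0,0,0,0,0,0,0,0,1,1,2,0,2],[0,2,0,0,0,0,0,0,1,0,0,0,1,2],[0,0,0,0,0,0,0,0,0,0,0,0,0,1],[0,0,0,0,0,0,0,0,0,0,0,0,2,2],[0,0,0,0,0,0,0,0,0,0,0,1,1,1],[0,0,0,0,0,0,0,0,0,0,2,2,1,2],[0,0,0,0,0,0,0,0,0,1,1,0,2,2],[0,0,0,0,0,0,0,0,1,0,0,0,1,0],[0,2,0,0,0,0,0,1,2,0,0,0,1,1],[2,2,0,0,0,0,1,0,1,2,1,1,0,2],[0,1,0,0,0,2,1,2,1,2,2,2,1,1],[1,2,0,0,1,2,1,1,2,0,2,1,2,0],[0,0,0,2,0,0,0,1,2,0,0,0,2,2],[0,1,1,2,0,0,0,1,0,0,0,0,2,1]] = reeLit [[2,0,0,0,0,0,0,0,0,1,1,2,0,1],[0,2,0,0,0,0,0,0,1,0,0,0,1,0],[0,0,0,0,0,0,0,0,0,0,0,0,0,1],[0,0,0,0,0,0,0,0,0,0,0,0,2,2],[0,0,0,0,0,0,0,0,0,0,0,1,1,1],[0,0,0,0,0,0,0,0,0,0,2,2,1,2],[0,0,0,0,0,0,0,0,0,1,1,0,2,2],[0,0,0,0,0,0,0,0,1,0,0,0,1,0],[0,2,0,0,0,0,0,1,2,0,0,0,2,2],[2,2,0,0,0,0,1,0,1,2,1,1,0,2],[0,1,0,0,0,2,1,2,1,2,2,1,0,0],[1,2,0,0,1,2,1,1,2,0,1,0,0,2],[0,0,0,2,0,0,0,1,0,0,0,0,0,2],[0,0,1,2,0,0,0,1,1,0,0,0,0,2]]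 := by decide +kernel

theorem reeStepA5 : chevG2.x (ZMod 3) 10 (0) * reeLit [[2,0,0,0,0,0,0,0,0,1,1,2,0,1],[0,2,0,0,0,0,0,0,1,0,0,0,1,0],[0,0,0,0,0,0,0,0,0,0,0,0,0,1],[0,0,0,0,0,0,0,0,0,0,0,0,2,2],[0,0,0,0,0,0,0,0,0,0,0,1,1,1],[0,0,0,0,0,0,0,0,0,0,2,2,1,2],[0,0,0,0,0,0,0,0,0,1,1,0,2,2],[0,0,0,0,0,0,0,0,1,0,0,0,1,0],[0,2,0,0,0,0,0,1,2,0,0,0,2,2],[2,2,0,0,0,0,1,0,1,2,1,1,0,2],[0,1,0,0,0,2,1,2,1,2,2,1,0,0],[1,2,0,0,1,2,1,1,2,0,1,0,0,2],[0,0,0,2,0,0,0,1,0,0,0,0,0,2],[0,0,1,2,0,0,0,1,1,0,0,0,0,2]] = reeLit [[2,0,0,0,0,0,0,0,0,1,1,2,0,1],[0,2,0,0,0,0,0,0,1,0,0,0,1,0],[0,0,0,0,0,0,0,0,0,0,0,0,0,1],[0,0,0,0,0,0,0,0,0,0,0,0,2,2],[0,0,0,0,0,0,0,0,0,0,0,1,1,1],[0,0,0,0,0,0,0,0,0,0,2,2,1,2],[0,0,0,0,0,0,0,0,0,1,1,0,2,2],[0,0,0,0,0,0,0,0,1,0,0,0,1,0],[0,2,0,0,0,0,0,1,2,0,0,0,2,2],[2,2,0,0,0,0,1,0,1,2,1,1,0,2],[0,1,0,0,0,2,1,2,1,2,2,1,0,0],[1,2,0,0,1,2,1,1,2,0,1,0,0,2],[0,0,0,2,0,0,0,1,0,0,0,0,0,2],[0,0,1,2,0,0,0,1,1,0,0,0,0,2]]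 := by decide +kernel

theorem reeStepA4 : chevG2.x (ZMod 3) 9 (1) * reeLit [[2,0,0,0,0,0,0,0,0,1,1,2,0,1],[0,2,0,0,0,0,0,0,1,0,0,0,1,0],[0,0,0,0,0,0,0,0,0,0,0,0,0,1],[0,0,0,0,0,0,0,0,0,0,0,0,2,2],[0,0,0,0,0,0,0,0,0,0,0,1,1,1],[0,0,0,0,0,0,0,0,0,0,2,2,1,2],[0,0,0,0,0,0,0,0,0,1,1,0,2,2],[0,0,0,0,0,0,0,0,1,0,0,0,1,0],[0,2,0,0,0,0,0,1,2,0,0,0,2,2],[2,2,0,0,0,0,1,0,1,2,1,1,0,2],[0,1,0,0,0,2,1,2,1,2,2,1,0,0],[1,2,0,0,1,2,1,1,2,0,1,0,0,2],[0,0,0,2,0,0,0,1,0,0,0,0,0,2],[0,0,1,2,0,0,0,1,1,0,0,0,0,2]] = reeLit [[2,0,0,0,0,0,0,0,0,1,1,1,2,0],[0,2,0,0,0,0,0,0,1,0,0,0,1,0],[0,0,0,0,0,0,0,0,0,0,0,0,0,1],[0,0,0,0,0,0,0,0,0,0,0,0,2,2],[0,0,0,0,0,0,0,0,0,0,0,1,1,1],[0,0,0,0,0,0,0,0,0,0,2,2,1,0],[0,0,0,0,0,0,0,0,0,1,1,0,1,1],[0,0,0,0,0,0,0,0,1,0,0,0,1,0],[0,2,0,0,0,0,0,1,2,0,0,0,2,2],[2,2,0,0,0,0,1,0,1,2,0,0,1,0],[0,1,0,0,0,2,1,2,1,1,1,1,0,0],[2,2,0,0,1,2,1,1,2,2,0,0,2,0],[0,0,0,2,0,0,0,1,0,0,0,0,0,0],[0,0,1,2,0,0,0,1,1,0,0,0,1,0]]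 := by decide +kernel

theorem reeStepA3 : chevG2.x (ZMod 3) 8 (1) * reeLit [[2,0,0,0,0,0,0,0,0,1,1,1,2,0],[0,2,0,0,0,0,0,0,1,0,0,0,1,0],[0,0,0,0,0,0,0,0,0,0,0,0,0,1],[0,0,0,0,0,0,0,0,0,0,0,0,2,2],[0,0,0,0,0,0,0,0,0,0,0,1,1,1],[0,0,0,0,0,0,0,0,0,0,2,2,1,0],[0,0,0,0,0,0,0,0,0,1,1,0,1,1],[0,0,0,0,0,0,0,0,1,0,0,0,1,0],[0,2,0,0,0,0,0,1,2,0,0,0,2,2],[2,2,0,0,0,0,1,0,1,2,0,0,1,0],[0,1,0,0,0,2,1,2,1,1,1,1,0,0],[2,2,0,0,1,2,1,1,2,2,0,0,2,0],[0,0,0,2,0,0,0,1,0,0,0,0,0,0],[0,0,1,2,0,0,0,1,1,0,0,0,1,0]] = reeLit [[2,0,0,0,0,0,0,0,0,1,0,0,0,0],[0,2,0,0,0,0,0,0,1,0,0,0,1,0],[0,0,0,0,0,0,0,0,0,0,0,0,0,1],[0,0,0,0,0,0,0,0,0,0,0,0,2,2],[0,0,0,0,0,0,0,0,0,0,0,1,1,0],[0,0,0,0,0,0,0,0,0,0,2,2,1,0],[0,0,0,0,0,0,0,0,0,1,1,1,2,0],[0,0,0,0,0,0,0,0,1,0,0,0,1,0],[0,2,0,0,0,0,0,1,2,0,0,0,2,0],[2,2,0,0,0,0,1,0,0,2,0,0,0,0],[2,2,0,0,0,2,1,2,0,2,0,0,0,0],[0,0,0,0,1,2,0,1,0,0,0,0,0,0],[0,0,0,2,0,0,0,1,0,0,0,0,0,0],[0,0,1,2,0,0,0,1,0,0,0,0,0,0]]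 := by decide +kernel

theorem reeStepA2 : chevG2.x (ZMod 3) 6 (-1) * reeLit [[2,0,0,0,0,0,0,0,0,1,0,0,0,0],[0,2,0,0,0,0,0,0,1,0,0,0,1,0],[0,0,0,0,0,0,0,0,0,0,0,0,0,1],[0,0,0,0,0,0,0,0,0,0,0,0,2,2],[0,0,0,0,0,0,0,0,0,0,0,1,1,0],[0,0,0,0,0,0,0,0,0,0,2,2,1,0],[0,0,0,0,0,0,0,0,0,1,1,1,2,0],[0,0,0,0,0,0,0,0,1,0,0,0,1,0],[0,2,0,0,0,0,0,1,2,0,0,0,2,0],[2,2,0,0,0,0,1,0,0,2,0,0,0,0],[2,2,0,0,0,2,1,2,0,2,0,0,0,0],[0,0,0,0,1,2,0,1,0,0,0,0,0,0],[0,0,0,2,0,0,0,1,0,0,0,0,0,0],[0,0,1,2,0,0,0,1,0,0,0,0,0,0]] = reeLit [[2,0,0,0,0,0,0,0,0,1,0,0,0,0],[0,2,0,0,0,0,0,0,0,0,0,0,0,0],[0,0,0,0,0,0,0,0,0,0,0,0,0,1],[0,0,0,0,0,0,0,0,0,0,0,0,2,0],[0,0,0,0,0,0,0,0,0,0,0,1,1,0],[0,0,0,0,0,0,0,0,0,0,2,2,1,0],[0,0,0,0,0,0,0,0,0,1,0,0,0,0],[0,0,0,0,0,0,0,0,1,0,0,0,1,0],[0,0,0,0,0,0,0,1,0,0,0,0,0,0],[2,2,0,0,0,0,1,0,0,2,0,0,0,0],[0,0,0,0,0,2,0,2,0,0,0,0,0,0],[0,0,0,0,1,2,0,1,0,0,0,0,0,0],[0,0,0,2,0,0,0,1,0,0,0,0,0,0],[0,0,1,0,0,0,0,0,0,0,0,0,0,0]]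 := by decide +kernel

theorem reeStepA1 : chevG2.x (ZMod 3) 7 (-1) * reeLit [[2,0,0,0,0,0,0,0,0,1,0,0,0,0],[0,2,0,0,0,0,0,0,0,0,0,0,0,0],[0,0,0,0,0,0,0,0,0,0,0,0,0,1],[0,0,0,0,0,0,0,0,0,0,0,0,2,0],[0,0,0,0,0,0,0,0,0,0,0,1,1,0],[0,0,0,0,0,0,0,0,0,0,2,2,1,0],[0,0,0,0,0,0,0,0,0,1,0,0,0,0],[0,0,0,0,0,0,0,0,1,0,0,0,1,0],[0,0,0,0,0,0,0,1,0,0,0,0,0,0],[2,2,0,0,0,0,1,0,0,2,0,0,0,0],[0,0,0,0,0,2,0,2,0,0,0,0,0,0],[0,0,0,0,1,2,0,1,0,0,0,0,0,0],[0,0,0,2,0,0,0,1,0,0,0,0,0,0],[0,0,1,0,0,0,0,0,0,0,0,0,0,0]] = reeLit [[2,0,0,0,0,0,0,0,0,0,0,0,0,0],[0,2,0,0,0,0,0,0,0,0,0,0,0,0],[0,0,0,0,0,0,0,0,0,0,0,0,0,1],[0,0,0,0,0,0,0,0,0,0,0,0,2,0],[0,0,0,0,0,0,0,0,0,0,0,1,0,0],[0,0,0,0,0,0,0,0,0,0,2,0,0,0],[0,0,0,0,0,0,0,0,0,1,0,0,0,0],[0,0,0,0,0,0,0,0,1,0,0,0,0,0],[0,0,0,0,0,0,0,1,0,0,0,0,0,0],[0,0,0,0,0,0,1,0,0,0,0,0,0,0],[0,0,0,0,0,2,0,0,0,0,0,0,0,0],[0,0,0,0,1,0,0,0,0,0,0,0,0,0],[0,0,0,2,0,0,0,0,0,0,0,0,0,0],[0,0,1,0,0,0,0,0,0,0,0,0,0,0]]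 := by decide +kernel

/-- the word `A` -/
def reeWA : List (ℕ × ZMod 3) := [(7, -1), (6, -1), (8, 1), (9, 1), (10, 0), (11, -1), (4, -1), (5, -1), (3, -1), (2, 1), (1, 0), (0, -1), (7, -1), (6, -1), (8, 1), (9, 1), (10, 0), (11, -1)]

theorem reeWA_lit : chevG2.wordMat (ZMod 3) reeWA = reeLit [[2,0,0,0,0,0,0,0,0,0,0,0,0,0],[0,2,0,0,0,0,0,0,0,0,0,0,0,0],[0,0,0,0,0,0,0,0,0,0,0,0,0,1],[0,0,0,0,0,0,0,0,0,0,0,0,2,0],[0,0,0,0,0,0,0,0,0,0,0,1,0,0],[0,0,0,0,0,0,0,0,0,0,2,0,0,0],[0,0,0,0,0,0,0,0,0,1,0,0,0,0],[0,0,0,0,0,0,0,0,1,0,0,0,0,0],[0,0,0,0,0,0,0,1,0,0,0,0,0,0],[0,0,0,0,0,0,1,0,0,0,0,0,0,0],[0,0,0,0,0,2,0,0,0,0,0,0,0,0],[0,0,0,0,1,0,0,0,0,0,0,0,0,0],[0,0,0,2,0,0,0,0,0,0,0,0,0,0],[0,0,1,0,0,0,0,0,0,0,0,0,0,0]]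 := by
  unfold ChevalleyDatum.wordMat reeWA
  simp only [List.map_cons, List.map_nil, List.prod_cons, List.prod_nil]
  rw [reeLit_one, reeStepA18, reeStepA17, reeStepA16, reeStepA15, reeStepA14, reeStepA13, reeStepA12, reeStepA11, reeStepA10, reeStepA9, reeStepA8, reeStepA7, reeStepA6, reeStepA5, reeStepA4, reeStepA3, reeStepA2, reeStepA1]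

theorem reeStepB18 : chevG2.x (ZMod 3) 10 (1) * reeLit [[1,0,0,0,0,0,0,0,0,0,0,0,0,0],[0,1,0,0,0,0,0,0,0,0,0,0,0,0],[0,0,1,0,0,0,0,0,0,0,0,0,0,0],[0,0,0,1,0,0,0,0,0,0,0,0,0,0],[0,0,0,0,1,0,0,0,0,0,0,0,0,0],[0,0,0,0,0,1,0,0,0,0,0,0,0,0],[0,0,0,0,0,0,1,0,0,0,0,0,0,0],[0,0,0,0,0,0,0,1,0,0,0,0,0,0],[0,0,0,0,0,0,0,0,1,0,0,0,0,0],[0,0,0,0,0,0,0,0,0,1,0,0,0,0],[0,0,0,0,0,0,0,0,0,0,1,0,0,0],[0,0,0,0,0,0,0,0,0,0,0,1,0,0],[0,0,0,0,0,0,0,0,0,0,0,0,1,0],[0,0,0,0,0,0,0,0,0,0,0,0,0,1]] = reeLit [[1,0,0,1,0,0,0,0,0,0,0,0,0,0],[0,1,0,1,0,0,0,0,0,0,0,0,0,0],[0,0,1,0,0,0,0,0,0,0,0,0,0,0],[0,0,0,1,0,0,0,0,0,0,0,0,0,0],[0,0,0,0,1,0,0,0,0,0,0,0,0,0],[0,0,0,0,0,1,0,0,0,0,0,0,0,0],[0,0,0,0,0,0,1,0,0,0,0,0,0,0],[0,0,1,0,0,0,0,1,0,0,0,0,0,0],[0,0,0,0,0,0,0,0,1,0,0,0,0,0],[0,0,0,0,1,0,0,0,0,1,0,0,0,0],[0,0,0,0,0,0,0,0,0,0,1,0,0,0],[0,0,0,0,0,0,2,0,0,0,0,1,0,0],[0,1,0,2,0,0,0,0,0,0,0,0,1,0],[0,0,0,0,0,0,0,0,2,0,0,0,0,1]]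 := by decide +kernel

theorem reeStepB17 : chevG2.x (ZMod 3) 1 (-1) * reeLit [[1,0,0,1,0,0,0,0,0,0,0,0,0,0],[0,1,0,1,0,0,0,0,0,0,0,0,0,0],[0,0,1,0,0,0,0,0,0,0,0,0,0,0],[0,0,0,1,0,0,0,0,0,0,0,0,0,0],[0,0,0,0,1,0,0,0,0,0,0,0,0,0],[0,0,0,0,0,1,0,0,0,0,0,0,0,0],[0,0,0,0,0,0,1,0,0,0,0,0,0,0],[0,0,1,0,0,0,0,1,0,0,0,0,0,0],[0,0,0,0,0,0,0,0,1,0,0,0,0,0],[0,0,0,0,1,0,0,0,0,1,0,0,0,0],[0,0,0,0,0,0,0,0,0,0,1,0,0,0],[0,0,0,0,0,0,2,0,0,0,0,1,0,0],[0,1,0,2,0,0,0,0,0,0,0,0,1,0],[0,0,0,0,0,0,0,0,2,0,0,0,0,1]] = reeLit [[1,1,0,0,0,0,0,0,0,0,0,0,1,0],[0,2,0,0,0,0,0,0,0,0,0,0,1,0],[0,0,0,0,0,0,0,2,0,0,0,0,0,0],[0,0,0,0,0,0,0,0,0,0,0,0,2,0],[0,0,0,0,0,0,0,0,0,2,0,0,0,0],[0,0,0,0,0,1,0,0,0,0,0,0,0,0],[0,0,0,0,0,0,0,0,0,0,0,1,0,0],[0,0,1,0,0,0,0,1,0,0,0,0,0,0],[0,0,0,0,0,0,0,0,0,0,0,0,0,1],[0,0,0,0,1,0,0,0,0,1,0,0,0,0],[0,0,0,0,0,0,0,0,0,0,1,0,0,0],[0,0,0,0,0,0,2,0,0,0,0,1,0,0],[0,1,0,2,0,0,0,0,0,0,0,0,1,0],[0,0,0,0,0,0,0,0,2,0,0,0,0,1]]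 := by decide +kernel

theorem reeStepB16 : chevG2.x (ZMod 3) 10 (1) * reeLit [[1,1,0,0,0,0,0,0,0,0,0,0,1,0],[0,2,0,0,0,0,0,0,0,0,0,0,1,0],[0,0,0,0,0,0,0,2,0,0,0,0,0,0],[0,0,0,0,0,0,0,0,0,0,0,0,2,0],[0,0,0,0,0,0,0,0,0,2,0,0,0,0],[0,0,0,0,0,1,0,0,0,0,0,0,0,0],[0,0,0,0,0,0,0,0,0,0,0,1,0,0],[0,0,1,0,0,0,0,1,0,0,0,0,0,0],[0,0,0,0,0,0,0,0,0,0,0,0,0,1],[0,0,0,0,1,0,0,0,0,1,0,0,0,0],[0,0,0,0,0,0,0,0,0,0,1,0,0,0],[0,0,0,0,0,0,2,0,0,0,0,1,0,0],[0,1,0,2,0,0,0,0,0,0,0,0,1,0],[0,0,0,0,0,0,0,0,2,0,0,0,0,1]] = reeLit [[1,1,0,0,0,0,0,0,0,0,0,0,0,0],[0,2,0,0,0,0,0,0,0,0,0,0,0,0],[0,0,0,0,0,0,0,2,0,0,0,0,0,0],[0,0,0,0,0,0,0,0,0,0,0,0,2,0],[0,0,0,0,0,0,0,0,0,2,0,0,0,0],[0,0,0,0,0,1,0,0,0,0,0,0,0,0],[0,0,0,0,0,0,0,0,0,0,0,1,0,0],[0,0,1,0,0,0,0,0,0,0,0,0,0,0],[0,0,0,0,0,0,0,0,0,0,0,0,0,1],[0,0,0,0,1,0,0,0,0,0,0,0,0,0],[0,0,0,0,0,0,0,0,0,0,1,0,0,0],[0,0,0,0,0,0,2,0,0,0,0,0,0,0],[0,0,0,2,0,0,0,0,0,0,0,0,0,0],[0,0,0,0,0,0,0,0,2,0,0,0,0,0]]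 := by decide +kernel

theorem reeStepB15 : chevG2.x (ZMod 3) 8 (1) * reeLit [[1,1,0,0,0,0,0,0,0,0,0,0,0,0],[0,2,0,0,0,0,0,0,0,0,0,0,0,0],[0,0,0,0,0,0,0,2,0,0,0,0,0,0],[0,0,0,0,0,0,0,0,0,0,0,0,2,0],[0,0,0,0,0,0,0,0,0,2,0,0,0,0],[0,0,0,0,0,1,0,0,0,0,0,0,0,0],[0,0,0,0,0,0,0,0,0,0,0,1,0,0],[0,0,1,0,0,0,0,0,0,0,0,0,0,0],[0,0,0,0,0,0,0,0,0,0,0,0,0,1],[0,0,0,0,1,0,0,0,0,0,0,0,0,0],[0,0,0,0,0,0,0,0,0,0,1,0,0,0],[0,0,0,0,0,0,2,0,0,0,0,0,0,0],[0,0,0,2,0,0,0,0,0,0,0,0,0,0],[0,0,0,0,0,0,0,0,2,0,0,0,0,0]] = reeLit [[1,1,0,0,0,1,0,0,0,0,0,0,0,0],[0,2,0,0,0,0,0,0,0,0,0,0,0,0],[0,0,0,0,0,0,0,2,0,0,0,0,0,0],[0,0,0,0,0,0,0,0,0,0,0,0,2,0],[0,0,0,0,0,0,0,1,0,2,0,0,0,0],[0,0,0,0,0,1,0,0,0,0,0,0,0,0],[0,0,0,0,0,0,0,2,0,2,0,1,0,0],[0,0,1,0,0,0,0,0,0,0,0,0,0,0],[0,0,0,0,0,0,0,2,0,0,0,0,0,1],[0,0,2,0,1,0,0,0,0,0,0,0,0,0],[1,2,0,0,0,2,0,0,0,0,1,0,0,0],[0,0,2,0,2,0,2,0,0,0,0,0,0,0],[0,0,0,2,0,0,0,0,0,0,0,0,0,0],[0,0,2,0,0,0,0,0,2,0,0,0,0,0]]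 := by decide +kernel

theorem reeStepB14 : chevG2.x (ZMod 3) 3 (-1) * reeLit [[1,1,0,0,0,1,0,0,0,0,0,0,0,0],[0,2,0,0,0,0,0,0,0,0,0,0,0,0],[0,0,0,0,0,0,0,2,0,0,0,0,0,0],[0,0,0,0,0,0,0,0,0,0,0,0,2,0],[0,0,0,0,0,0,0,1,0,2,0,0,0,0],[0,0,0,0,0,1,0,0,0,0,0,0,0,0],[0,0,0,0,0,0,0,2,0,2,0,1,0,0],[0,0,1,0,0,0,0,0,0,0,0,0,0,0],[0,0,0,0,0,0,0,2,0,0,0,0,0,1],[0,0,2,0,1,0,0,0,0,0,0,0,0,0],[1,2,0,0,0,2,0,0,0,0,1,0,0,0],[0,0,2,0,2,0,2,0,0,0,0,0,0,0],[0,0,0,2,0,0,0,0,0,0,0,0,0,0],[0,0,2,0,0,0,0,0,2,0,0,0,0,0]] = reeLit [[2,0,0,0,0,0,0,0,0,0,1,0,0,0],[0,2,0,0,0,0,0,0,0,0,0,0,0,0],[0,0,0,0,0,0,0,0,0,0,0,0,0,2],[0,0,0,0,0,0,0,0,0,0,0,0,2,0],[0,0,0,0,0,0,0,0,0,0,0,2,0,2],[0,0,0,0,0,0,0,0,0,0,2,0,0,0],[0,0,0,0,0,0,0,0,0,2,0,1,0,2],[0,0,0,0,0,0,0,0,2,0,0,0,0,0],[0,0,0,0,0,0,0,2,0,0,0,0,0,1],[0,0,0,0,0,0,2,0,2,0,0,0,0,0],[1,2,0,0,0,2,0,0,0,0,1,0,0,0],[0,0,0,0,2,0,2,0,1,0,0,0,0,0],[0,0,0,2,0,0,0,0,0,0,0,0,0,0],[0,0,2,0,0,0,0,0,2,0,0,0,0,0]]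 := by decide +kernel

theorem reeStepB13 : chevG2.x (ZMod 3) 8 (1) * reeLit [[2,0,0,0,0,0,0,0,0,0,1,0,0,0],[0,2,0,0,0,0,0,0,0,0,0,0,0,0],[0,0,0,0,0,0,0,0,0,0,0,0,0,2],[0,0,0,0,0,0,0,0,0,0,0,0,2,0],[0,0,0,0,0,0,0,0,0,0,0,2,0,2],[0,0,0,0,0,0,0,0,0,0,2,0,0,0],[0,0,0,0,0,0,0,0,0,2,0,1,0,2],[0,0,0,0,0,0,0,0,2,0,0,0,0,0],[0,0,0,0,0,0,0,2,0,0,0,0,0,1],[0,0,0,0,0,0,2,0,2,0,0,0,0,0],[1,2,0,0,0,2,0,0,0,0,1,0,0,0],[0,0,0,0,2,0,2,0,1,0,0,0,0,0],[0,0,0,2,0,0,0,0,0,0,0,0,0,0],[0,0,2,0,0,0,0,0,2,0,0,0,0,0]] = reeLit [[2,0,0,0,0,0,0,0,0,0,0,0,0,0],[0,2,0,0,0,0,0,0,0,0,0,0,0,0],[0,0,0,0,0,0,0,0,0,0,0,0,0,2],[0,0,0,0,0,0,0,0,0,0,0,0,2,0],[0,0,0,0,0,0,0,0,0,0,0,2,0,0],[0,0,0,0,0,0,0,0,0,0,2,0,0,0],[0,0,0,0,0,0,0,0,0,2,0,0,0,0],[0,0,0,0,0,0,0,0,2,0,0,0,0,0],[0,0,0,0,0,0,0,2,0,0,0,0,0,0],[0,0,0,0,0,0,2,0,0,0,0,0,0,0],[0,0,0,0,0,2,0,0,0,0,0,0,0,0],[0,0,0,0,2,0,0,0,0,0,0,0,0,0],[0,0,0,2,0,0,0,0,0,0,0,0,0,0],[0,0,2,0,0,0,0,0,0,0,0,0,0,0]]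 := by decide +kernel

theorem reeStepB12 : chevG2.x (ZMod 3) 6 (-1) * reeLit [[2,0,0,0,0,0,0,0,0,0,0,0,0,0],[0,2,0,0,0,0,0,0,0,0,0,0,0,0],[0,0,0,0,0,0,0,0,0,0,0,0,0,2],[0,0,0,0,0,0,0,0,0,0,0,0,2,0],[0,0,0,0,0,0,0,0,0,0,0,2,0,0],[0,0,0,0,0,0,0,0,0,0,2,0,0,0],[0,0,0,0,0,0,0,0,0,2,0,0,0,0],[0,0,0,0,0,0,0,0,2,0,0,0,0,0],[0,0,0,0,0,0,0,2,0,0,0,0,0,0],[0,0,0,0,0,0,2,0,0,0,0,0,0,0],[0,0,0,0,0,2,0,0,0,0,0,0,0,0],[0,0,0,0,2,0,0,0,0,0,0,0,0,0],[0,0,0,2,0,0,0,0,0,0,0,0,0,0],[0,0,2,0,0,0,0,0,0,0,0,0,0,0]] = reeLit [[2,0,0,0,0,0,0,0,0,0,0,0,0,0],[0,2,0,0,0,0,0,0,1,0,0,0,0,0],[0,0,0,0,0,0,0,0,0,0,0,0,0,2],[0,0,0,0,0,0,0,0,0,0,0,0,2,2],[0,0,0,0,0,0,0,0,0,0,0,2,0,0],[0,0,0,0,0,0,0,0,0,0,2,0,0,0],[0,0,0,0,0,0,0,0,0,2,2,0,0,0],[0,0,0,0,0,0,0,0,2,0,0,0,0,0],[0,1,0,0,0,0,0,2,1,0,0,0,0,0],[0,0,0,0,0,0,2,0,0,0,0,0,0,0],[0,0,0,0,0,2,1,0,0,0,0,0,0,0],[0,0,0,0,2,0,0,0,0,0,0,0,0,0],[0,0,0,2,0,0,0,0,0,0,0,0,0,0],[0,0,2,1,0,0,0,0,0,0,0,0,0,0]]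 := by decide +kernel

theorem reeStepB11 : chevG2.x (ZMod 3) 5 (1) * reeLit [[2,0,0,0,0,0,0,0,0,0,0,0,0,0],[0,2,0,0,0,0,0,0,1,0,0,0,0,0],[0,0,0,0,0,0,0,0,0,0,0,0,0,2],[0,0,0,0,0,0,0,0,0,0,0,0,2,2],[0,0,0,0,0,0,0,0,0,0,0,2,0,0],[0,0,0,0,0,0,0,0,0,0,2,0,0,0],[0,0,0,0,0,0,0,0,0,2,2,0,0,0],[0,0,0,0,0,0,0,0,2,0,0,0,0,0],[0,1,0,0,0,0,0,2,1,0,0,0,0,0],[0,0,0,0,0,0,2,0,0,0,0,0,0,0],[0,0,0,0,0,2,1,0,0,0,0,0,0,0],[0,0,0,0,2,0,0,0,0,0,0,0,0,0],[0,0,0,2,0,0,0,0,0,0,0,0,0,0],[0,0,2,1,0,0,0,0,0,0,0,0,0,0]] = reeLit [[2,0,0,0,0,0,0,0,0,0,0,0,0,0],[0,1,0,0,0,0,0,1,0,0,0,0,0,0],[0,0,0,0,0,0,0,0,0,0,0,0,1,0],[0,0,0,0,0,0,0,0,0,0,0,0,2,2],[0,0,0,0,0,0,0,0,0,0,0,2,0,0],[0,0,0,0,0,0,0,0,0,1,0,0,0,0],[0,0,0,0,0,0,0,0,0,2,2,0,0,0],[0,0,0,0,0,0,0,1,0,0,0,0,0,0],[0,1,0,0,0,0,0,2,1,0,0,0,0,0],[0,0,0,0,0,2,0,0,0,0,0,0,0,0],[0,0,0,0,0,2,1,0,0,0,0,0,0,0],[0,0,0,0,2,0,0,0,0,0,0,0,0,0],[0,0,2,0,0,0,0,0,0,0,0,0,0,0],[0,0,2,1,0,0,0,0,0,0,0,0,0,0]]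 := by decide +kernel

theorem reeStepB10 : chevG2.x (ZMod 3) 6 (-1) * reeLit [[2,0,0,0,0,0,0,0,0,0,0,0,0,0],[0,1,0,0,0,0,0,1,0,0,0,0,0,0],[0,0,0,0,0,0,0,0,0,0,0,0,1,0],[0,0,0,0,0,0,0,0,0,0,0,0,2,2],[0,0,0,0,0,0,0,0,0,0,0,2,0,0],[0,0,0,0,0,0,0,0,0,1,0,0,0,0],[0,0,0,0,0,0,0,0,0,2,2,0,0,0],[0,0,0,0,0,0,0,1,0,0,0,0,0,0],[0,1,0,0,0,0,0,2,1,0,0,0,0,0],[0,0,0,0,0,2,0,0,0,0,0,0,0,0],[0,0,0,0,0,2,1,0,0,0,0,0,0,0],[0,0,0,0,2,0,0,0,0,0,0,0,0,0],[0,0,2,0,0,0,0,0,0,0,0,0,0,0],[0,0,2,1,0,0,0,0,0,0,0,0,0,0]] = reeLit [[2,0,0,0,0,0,0,0,0,0,0,0,0,0],[0,1,0,0,0,0,0,0,0,0,0,0,0,0],[0,0,0,0,0,0,0,0,0,0,0,0,1,0],[0,0,0,0,0,0,0,0,0,0,0,0,0,2],[0,0,0,0,0,0,0,0,0,0,0,2,0,0],[0,0,0,0,0,0,0,0,0,1,0,0,0,0],[0,0,0,0,0,0,0,0,0,0,2,0,0,0],[0,0,0,0,0,0,0,1,0,0,0,0,0,0],[0,0,0,0,0,0,0,0,1,0,0,0,0,0],[0,0,0,0,0,2,0,0,0,0,0,0,0,0],[0,0,0,0,0,0,1,0,0,0,0,0,0,0],[0,0,0,0,2,0,0,0,0,0,0,0,0,0],[0,0,2,0,0,0,0,0,0,0,0,0,0,0],[0,0,0,1,0,0,0,0,0,0,0,0,0,0]]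 := by decide +kernel

theorem reeStepB9 : chevG2.x (ZMod 3) 6 (-1) * reeLit [[2,0,0,0,0,0,0,0,0,0,0,0,0,0],[0,1,0,0,0,0,0,0,0,0,0,0,0,0],[0,0,0,0,0,0,0,0,0,0,0,0,1,0],[0,0,0,0,0,0,0,0,0,0,0,0,0,2],[0,0,0,0,0,0,0,0,0,0,0,2,0,0],[0,0,0,0,0,0,0,0,0,1,0,0,0,0],[0,0,0,0,0,0,0,0,0,0,2,0,0,0],[0,0,0,0,0,0,0,1,0,0,0,0,0,0],[0,0,0,0,0,0,0,0,1,0,0,0,0,0],[0,0,0,0,0,2,0,0,0,0,0,0,0,0],[0,0,0,0,0,0,1,0,0,0,0,0,0,0],[0,0,0,0,2,0,0,0,0,0,0,0,0,0],[0,0,2,0,0,0,0,0,0,0,0,0,0,0],[0,0,0,1,0,0,0,0,0,0,0,0,0,0]] = reeLit [[2,0,0,0,0,0,0,0,0,0,0,0,0,0],[0,1,0,0,0,0,0,2,0,0,0,0,0,0],[0,0,0,0,0,0,0,0,0,0,0,0,1,0],[0,0,0,0,0,0,0,0,0,0,0,0,1,2],[0,0,0,0,0,0,0,0,0,0,0,2,0,0],[0,0,0,0,0,0,0,0,0,1,0,0,0,0],[0,0,0,0,0,0,0,0,0,1,2,0,0,0],[0,0,0,0,0,0,0,1,0,0,0,0,0,0],[0,2,0,0,0,0,0,2,1,0,0,0,0,0],[0,0,0,0,0,2,0,0,0,0,0,0,0,0],[0,0,0,0,0,1,1,0,0,0,0,0,0,0],[0,0,0,0,2,0,0,0,0,0,0,0,0,0],[0,0,2,0,0,0,0,0,0,0,0,0,0,0],[0,0,1,1,0,0,0,0,0,0,0,0,0,0]]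 := by decide +kernel

theorem reeStepB8 : chevG2.x (ZMod 3) 5 (1) * reeLit [[2,0,0,0,0,0,0,0,0,0,0,0,0,0],[0,1,0,0,0,0,0,2,0,0,0,0,0,0],[0,0,0,0,0,0,0,0,0,0,0,0,1,0],[0,0,0,0,0,0,0,0,0,0,0,0,1,2],[0,0,0,0,0,0,0,0,0,0,0,2,0,0],[0,0,0,0,0,0,0,0,0,1,0,0,0,0],[0,0,0,0,0,0,0,0,0,1,2,0,0,0],[0,0,0,0,0,0,0,1,0,0,0,0,0,0],[0,2,0,0,0,0,0,2,1,0,0,0,0,0],[0,0,0,0,0,2,0,0,0,0,0,0,0,0],[0,0,0,0,0,1,1,0,0,0,0,0,0,0],[0,0,0,0,2,0,0,0,0,0,0,0,0,0],[0,0,2,0,0,0,0,0,0,0,0,0,0,0],[0,0,1,1,0,0,0,0,0,0,0,0,0,0]] = reeLit [[2,0,0,0,0,0,0,0,0,0,0,0,0,0],[0,2,0,0,0,0,0,0,2,0,0,0,0,0],[0,0,0,0,0,0,0,0,0,0,0,0,0,1],[0,0,0,0,0,0,0,0,0,0,0,0,1,2],[0,0,0,0,0,0,0,0,0,0,0,2,0,0],[0,0,0,0,0,0,0,0,0,0,1,0,0,0],[0,0,0,0,0,0,0,0,0,1,2,0,0,0],[0,0,0,0,0,0,0,0,2,0,0,0,0,0],[0,2,0,0,0,0,0,2,1,0,0,0,0,0],[0,0,0,0,0,0,1,0,0,0,0,0,0,0],[0,0,0,0,0,1,1,0,0,0,0,0,0,0],[0,0,0,0,2,0,0,0,0,0,0,0,0,0],[0,0,0,1,0,0,0,0,0,0,0,0,0,0],[0,0,1,1,0,0,0,0,0,0,0,0,0,0]]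 := by decide +kernel

theorem reeStepB7 : chevG2.x (ZMod 3) 6 (-1) * reeLit [[2,0,0,0,0,0,0,0,0,0,0,0,0,0],[0,2,0,0,0,0,0,0,2,0,0,0,0,0],[0,0,0,0,0,0,0,0,0,0,0,0,0,1],[0,0,0,0,0,0,0,0,0,0,0,0,1,2],[0,0,0,0,0,0,0,0,0,0,0,2,0,0],[0,0,0,0,0,0,0,0,0,0,1,0,0,0],[0,0,0,0,0,0,0,0,0,1,2,0,0,0],[0,0,0,0,0,0,0,0,2,0,0,0,0,0],[0,2,0,0,0,0,0,2,1,0,0,0,0,0],[0,0,0,0,0,0,1,0,0,0,0,0,0,0],[0,0,0,0,0,1,1,0,0,0,0,0,0,0],[0,0,0,0,2,0,0,0,0,0,0,0,0,0],[0,0,0,1,0,0,0,0,0,0,0,0,0,0],[0,0,1,1,0,0,0,0,0,0,0,0,0,0]] = reeLit [[2,0,0,0,0,0,0,0,0,0,0,0,0,0],[0,2,0,0,0,0,0,0,0,0,0,0,0,0],[0,0,0,0,0,0,0,0,0,0,0,0,0,1],[0,0,0,0,0,0,0,0,0,0,0,0,1,0],[0,0,0,0,0,0,0,0,0,0,0,2,0,0],[0,0,0,0,0,0,0,0,0,0,1,0,0,0],[0,0,0,0,0,0,0,0,0,1,0,0,0,0],[0,0,0,0,0,0,0,0,2,0,0,0,0,0],[0,0,0,0,0,0,0,2,0,0,0,0,0,0],[0,0,0,0,0,0,1,0,0,0,0,0,0,0],[0,0,0,0,0,1,0,0,0,0,0,0,0,0],[0,0,0,0,2,0,0,0,0,0,0,0,0,0],[0,0,0,1,0,0,0,0,0,0,0,0,0,0],[0,0,1,0,0,0,0,0,0,0,0,0,0,0]]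 := by decide +kernel

theorem reeStepB6 : chevG2.x (ZMod 3) 7 (-1) * reeLit [[2,0,0,0,0,0,0,0,0,0,0,0,0,0],[0,2,0,0,0,0,0,0,0,0,0,0,0,0],[0,0,0,0,0,0,0,0,0,0,0,0,0,1],[0,0,0,0,0,0,0,0,0,0,0,0,1,0],[0,0,0,0,0,0,0,0,0,0,0,2,0,0],[0,0,0,0,0,0,0,0,0,0,1,0,0,0],[0,0,0,0,0,0,0,0,0,1,0,0,0,0],[0,0,0,0,0,0,0,0,2,0,0,0,0,0],[0,0,0,0,0,0,0,2,0,0,0,0,0,0],[0,0,0,0,0,0,1,0,0,0,0,0,0,0],[0,0,0,0,0,1,0,0,0,0,0,0,0,0],[0,0,0,0,2,0,0,0,0,0,0,0,0,0],[0,0,0,1,0,0,0,0,0,0,0,0,0,0],[0,0,1,0,0,0,0,0,0,0,0,0,0,0]] = reeLit [[2,0,0,0,0,0,0,0,0,2,0,0,0,0],[0,2,0,0,0,0,0,0,0,0,0,0,0,0],[0,0,0,0,0,0,0,0,0,0,0,0,0,1],[0,0,0,0,0,0,0,0,0,0,0,0,1,0],[0,0,0,0,0,0,0,0,0,0,0,2,1,0],[0,0,0,0,0,0,0,0,0,0,1,2,2,0],[0,0,0,0,0,0,0,0,0,1,0,0,0,0],[0,0,0,0,0,0,0,0,2,0,0,0,1,0],[0,0,0,0,0,0,0,2,0,0,0,0,0,0],[1,1,0,0,0,0,1,0,0,2,0,0,0,0],[0,0,0,0,0,1,0,2,0,0,0,0,0,0],[0,0,0,0,2,2,0,2,0,0,0,0,0,0],[0,0,0,1,0,0,0,1,0,0,0,0,0,0],[0,0,1,0,0,0,0,0,0,0,0,0,0,0]]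 := by decide +kernel

theorem reeStepB5 : chevG2.x (ZMod 3) 4 (1) * reeLit [[2,0,0,0,0,0,0,0,0,2,0,0,0,0],[0,2,0,0,0,0,0,0,0,0,0,0,0,0],[0,0,0,0,0,0,0,0,0,0,0,0,0,1],[0,0,0,0,0,0,0,0,0,0,0,0,1,0],[0,0,0,0,0,0,0,0,0,0,0,2,1,0],[0,0,0,0,0,0,0,0,0,0,1,2,2,0],[0,0,0,0,0,0,0,0,0,1,0,0,0,0],[0,0,0,0,0,0,0,0,2,0,0,0,1,0],[0,0,0,0,0,0,0,2,0,0,0,0,0,0],[1,1,0,0,0,0,1,0,0,2,0,0,0,0],[0,0,0,0,0,1,0,2,0,0,0,0,0,0],[0,0,0,0,2,2,0,2,0,0,0,0,0,0],[0,0,0,1,0,0,0,1,0,0,0,0,0,0],[0,0,1,0,0,0,0,0,0,0,0,0,0,0]] = reeLit [[1,2,0,0,0,0,2,0,0,0,0,0,0,0],[0,2,0,0,0,0,0,0,0,0,0,0,0,0],[0,0,0,0,0,0,0,0,0,0,0,0,0,1],[0,0,0,0,0,0,0,0,1,0,0,0,0,0],[0,0,0,0,0,0,0,0,2,0,2,0,0,0],[0,0,0,0,0,0,0,0,2,0,1,2,0,0],[0,0,0,0,0,0,2,0,0,0,0,0,0,0],[0,0,0,0,0,0,0,0,2,0,0,0,1,0],[0,0,0,1,0,0,0,0,0,0,0,0,0,0],[1,1,0,0,0,0,1,0,0,2,0,0,0,0],[0,0,0,2,2,0,0,0,0,0,0,0,0,0],[0,0,0,1,2,2,0,0,0,0,0,0,0,0],[0,0,0,1,0,0,0,1,0,0,0,0,0,0],[0,0,1,0,0,0,0,0,0,0,0,0,0,0]]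 := by decide +kernel

theorem reeStepB4 : chevG2.x (ZMod 3) 7 (-1) * reeLit [[1,2,0,0,0,0,2,0,0,0,0,0,0,0],[0,2,0,0,0,0,0,0,0,0,0,0,0,0],[0,0,0,0,0,0,0,0,0,0,0,0,0,1],[0,0,0,0,0,0,0,0,1,0,0,0,0,0],[0,0,0,0,0,0,0,0,2,0,2,0,0,0],[0,0,0,0,0,0,0,0,2,0,1,2,0,0],[0,0,0,0,0,0,2,0,0,0,0,0,0,0],[0,0,0,0,0,0,0,0,2,0,0,0,1,0],[0,0,0,1,0,0,0,0,0,0,0,0,0,0],[1,1,0,0,0,0,1,0,0,2,0,0,0,0],[0,0,0,2,2,0,0,0,0,0,0,0,0,0],[0,0,0,1,2,2,0,0,0,0,0,0,0,0],[0,0,0,1,0,0,0,1,0,0,0,0,0,0],[0,0,1,0,0,0,0,0,0,0,0,0,0,0]] = reeLit [[1,2,0,0,0,0,0,0,0,0,0,0,0,0],[0,2,0,0,0,0,0,0,0,0,0,0,0,0],[0,0,0,0,0,0,0,0,0,0,0,0,0,1],[0,0,0,0,0,0,0,0,1,0,0,0,0,0],[0,0,0,0,0,0,0,0,0,0,2,0,0,0],[0,0,0,0,0,0,0,0,0,0,0,2,0,0],[0,0,0,0,0,0,2,0,0,0,0,0,0,0],[0,0,0,0,0,0,0,0,0,0,0,0,1,0],[0,0,0,1,0,0,0,0,0,0,0,0,0,0],[0,0,0,0,0,0,0,0,0,2,0,0,0,0],[0,0,0,0,2,0,0,0,0,0,0,0,0,0],[0,0,0,0,0,2,0,0,0,0,0,0,0,0],[0,0,0,0,0,0,0,1,0,0,0,0,0,0],[0,0,1,0,0,0,0,0,0,0,0,0,0,0]]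 := by decide +kernel

theorem reeStepB3 : chevG2.x (ZMod 3) 7 (-1) * reeLit [[1,2,0,0,0,0,0,0,0,0,0,0,0,0],[0,2,0,0,0,0,0,0,0,0,0,0,0,0],[0,0,0,0,0,0,0,0,0,0,0,0,0,1],[0,0,0,0,0,0,0,0,1,0,0,0,0,0],[0,0,0,0,0,0,0,0,0,0,2,0,0,0],[0,0,0,0,0,0,0,0,0,0,0,2,0,0],[0,0,0,0,0,0,2,0,0,0,0,0,0,0],[0,0,0,0,0,0,0,0,0,0,0,0,1,0],[0,0,0,1,0,0,0,0,0,0,0,0,0,0],[0,0,0,0,0,0,0,0,0,2,0,0,0,0],[0,0,0,0,2,0,0,0,0,0,0,0,0,0],[0,0,0,0,0,2,0,0,0,0,0,0,0,0],[0,0,0,0,0,0,0,1,0,0,0,0,0,0],[0,0,1,0,0,0,0,0,0,0,0,0,0,0]] = reeLit [[1,2,0,0,0,0,1,0,0,0,0,0,0,0],[0,2,0,0,0,0,0,0,0,0,0,0,0,0],[0,0,0,0,0,0,0,0,0,0,0,0,0,1],[0,0,0,0,0,0,0,0,1,0,0,0,0,0],[0,0,0,0,0,0,0,0,1,0,2,0,0,0],[0,0,0,0,0,0,0,0,2,0,2,2,0,0],[0,0,0,0,0,0,2,0,0,0,0,0,0,0],[0,0,0,0,0,0,0,0,1,0,0,0,1,0],[0,0,0,1,0,0,0,0,0,0,0,0,0,0],[2,2,0,0,0,0,1,0,0,2,0,0,0,0],[0,0,0,1,2,0,0,0,0,0,0,0,0,0],[0,0,0,1,1,2,0,0,0,0,0,0,0,0],[0,0,0,2,0,0,0,1,0,0,0,0,0,0],[0,0,1,0,0,0,0,0,0,0,0,0,0,0]]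 := by decide +kernel

theorem reeStepB2 : chevG2.x (ZMod 3) 4 (1) * reeLit [[1,2,0,0,0,0,1,0,0,0,0,0,0,0],[0,2,0,0,0,0,0,0,0,0,0,0,0,0],[0,0,0,0,0,0,0,0,0,0,0,0,0,1],[0,0,0,0,0,0,0,0,1,0,0,0,0,0],[0,0,0,0,0,0,0,0,1,0,2,0,0,0],[0,0,0,0,0,0,0,0,2,0,2,2,0,0],[0,0,0,0,0,0,2,0,0,0,0,0,0,0],[0,0,0,0,0,0,0,0,1,0,0,0,1,0],[0,0,0,1,0,0,0,0,0,0,0,0,0,0],[2,2,0,0,0,0,1,0,0,2,0,0,0,0],[0,0,0,1,2,0,0,0,0,0,0,0,0,0],[0,0,0,1,1,2,0,0,0,0,0,0,0,0],[0,0,0,2,0,0,0,1,0,0,0,0,0,0],[0,0,1,0,0,0,0,0,0,0,0,0,0,0]] = reeLit [[2,0,0,0,0,0,0,0,0,1,0,0,0,0],[0,2,0,0,0,0,0,0,0,0,0,0,0,0],[0,0,0,0,0,0,0,0,0,0,0,0,0,1],[0,0,0,0,0,0,0,0,0,0,0,0,2,0],[0,0,0,0,0,0,0,0,0,0,0,1,1,0],[0,0,0,0,0,0,0,0,0,0,2,2,1,0],[0,0,0,0,0,0,0,0,0,1,0,0,0,0],[0,0,0,0,0,0,0,0,1,0,0,0,1,0],[0,0,0,0,0,0,0,1,0,0,0,0,0,0],[2,2,0,0,0,0,1,0,0,2,0,0,0,0],[0,0,0,0,0,2,0,2,0,0,0,0,0,0],[0,0,0,0,1,2,0,1,0,0,0,0,0,0],[0,0,0,2,0,0,0,1,0,0,0,0,0,0],[0,0,1,0,0,0,0,0,0,0,0,0,0,0]]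 := by decide +kernel

theorem reeStepB1 : chevG2.x (ZMod 3) 7 (-1) * reeLit [[2,0,0,0,0,0,0,0,0,1,0,0,0,0],[0,2,0,0,0,0,0,0,0,0,0,0,0,0],[0,0,0,0,0,0,0,0,0,0,0,0,0,1],[0,0,0,0,0,0,0,0,0,0,0,0,2,0],[0,0,0,0,0,0,0,0,0,0,0,1,1,0],[0,0,0,0,0,0,0,0,0,0,2,2,1,0],[0,0,0,0,0,0,0,0,0,1,0,0,0,0],[0,0,0,0,0,0,0,0,1,0,0,0,1,0],[0,0,0,0,0,0,0,1,0,0,0,0,0,0],[2,2,0,0,0,0,1,0,0,2,0,0,0,0],[0,0,0,0,0,2,0,2,0,0,0,0,0,0],[0,0,0,0,1,2,0,1,0,0,0,0,0,0],[0,0,0,2,0,0,0,1,0,0,0,0,0,0],[0,0,1,0,0,0,0,0,0,0,0,0,0,0]] = reeLit [[2,0,0,0,0,0,0,0,0,0,0,0,0,0],[0,2,0,0,0,0,0,0,0,0,0,0,0,0],[0,0,0,0,0,0,0,0,0,0,0,0,0,1],[0,0,0,0,0,0,0,0,0,0,0,0,2,0],[0,0,0,0,0,0,0,0,0,0,0,1,0,0],[0,0,0,0,0,0,0,0,0,0,2,0,0,0],[0,0,0,0,0,0,0,0,0,1,0,0,0,0],[0,0,0,0,0,0,0,0,1,0,0,0,0,0],[0,0,0,0,0,0,0,1,0,0,0,0,0,0],[0,0,0,0,0,0,1,0,0,0,0,0,0,0],[0,0,0,0,0,2,0,0,0,0,0,0,0,0],[0,0,0,0,1,0,0,0,0,0,0,0,0,0],[0,0,0,2,0,0,0,0,0,0,0,0,0,0],[0,0,1,0,0,0,0,0,0,0,0,0,0,0]]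 := by decide +kernel

/-- the word `B` -/
def reeWB : List (ℕ × ZMod 3) := [(7, -1), (4, 1), (7, -1), (7, -1), (4, 1), (7, -1), (6, -1), (5, 1), (6, -1), (6, -1), (5, 1), (6, -1), (8, 1), (3, -1), (8, 1), (10, 1), (1, -1), (10, 1)]

theorem reeWB_lit : chevG2.wordMat (ZMod 3) reeWB = reeLit [[2,0,0,0,0,0,0,0,0,0,0,0,0,0],[0,2,0,0,0,0,0,0,0,0,0,0,0,0],[0,0,0,0,0,0,0,0,0,0,0,0,0,1],[0,0,0,0,0,0,0,0,0,0,0,0,2,0],[0,0,0,0,0,0,0,0,0,0,0,1,0,0],[0,0,0,0,0,0,0,0,0,0,2,0,0,0],[0,0,0,0,0,0,0,0,0,1,0,0,0,0],[0,0,0,0,0,0,0,0,1,0,0,0,0,0],[0,0,0,0,0,0,0,1,0,0,0,0,0,0],[0,0,0,0,0,0,1,0,0,0,0,0,0,0],[0,0,0,0,0,2,0,0,0,0,0,0,0,0],[0,0,0,0,1,0,0,0,0,0,0,0,0,0],[0,0,0,2,0,0,0,0,0,0,0,0,0,0],[0,0,1,0,0,0,0,0,0,0,0,0,0,0]]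 := by
  unfold ChevalleyDatum.wordMat reeWB
  simp only [List.map_cons, List.map_nil, List.prod_cons, List.prod_nil]
  rw [reeLit_one, reeStepB18, reeStepB17, reeStepB16, reeStepB15, reeStepB14, reeStepB13, reeStepB12, reeStepB11, reeStepB10, reeStepB9, reeStepB8, reeStepB7, reeStepB6, reeStepB5, reeStepB4, reeStepB3, reeStepB2, reeStepB1]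

/-- the word identity `u v u = h(-1) n` in `²G₂(3)` -/
theorem reeW_identity : chevG2.wordMat (ZMod 3) reeWA = chevG2.wordMat (ZMod 3) reeWB := by
  rw [reeWA_lit, reeWB_lit]

end Cfsg.Agent.Lib.Helper36
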