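import Cfsg.Agent.Lib.Helper36.ReePerf

/-! # The Ree groups `²G₂`: the multiplication of `U` in characteristic 3 and of `U¹` (helper36) -/

set_option autoImplicit false

namespace Cfsg.Agent.Lib.Helper36

open Cfsg Cfsg.Lie Cfsg.Agent.Lib.Helper18

section
variable {K : Type*} [Field K] [CharP K 3]

/-- the abelian part of `U` in characteristic 3 -/
noncomputable def abel4el (p q r s : K) : GL chevG2.Idx K :=
  xGL chevG2 hG2 K 8 p * xGL chevG2 hG2 K 9 q * xGL chevG2 hG2 K 10 r * xGL chevG2 hG2 K 11 s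

theorem abel4el_eq (p q r s : K) : abel4el p q r s = wordGL chevG2 hG2 K [(8, p), (9, q), (10, r), (11, s)] := by
  simp only [abel4el, wordGL_cons, wordGL_nil', mul_one, mul_assoc]

theorem abel4el_mul (p q r s p' q' r' s' : K) :
    abel4el p q r s * abel4el p' q' r' s' = abel4el (p + p') (q + q') (r + r') (s + s') := by
  rw [abel4el_eq, abel4el_eq, abel4el_eq, ← wordGL_append',
    abel4 8 9 10 11 (by decide) (by decide) (by decide) (by decide) (by decide) (by decide) comm_hi _ (by simp),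
    abel4 8 9 10 11 (by decide) (by decide) (by decide) (by decide) (by decide) (by decide) comm_hi
      [(8, p + p'), (9, q + q'), (10, r + r'), (11, s + s')] (by simp)]
  simp [coefAt]

theorem twGood_7 : ∀ j ∈ [9, 10, 11], twGood chevG2 3 j 7 = true := by decide

theorem twGood_6 : ∀ j ∈ [8, 9, 11], twGood chevG2 3 j 6 = true := by decide

theorem three_eq_zero : (3 : K) = 0 := by
  have := CharP.cast_eq_zero K 3
  exact_mod_cast this

theorem comm_8_7 (a c : K) : xGL chevG2 hG2 K 8 c * xGL chevG2 hG2 K 7 a =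
    xGL chevG2 hG2 K 7 a * xGL chevG2 hG2 K 8 c * xGL chevG2 hG2 K 9 (2 * a * c) := by
  have h3 := three_eq_zero (K := K)
  apply Units.ext
  simp only [Units.val_mul, xGL_coe]
  rw [comm_formula_all chevG2 hG2 7 8 (by decide) (by decide) (by decide) (by decide) a c]
  congr 1
  unfold ChevalleyDatum.commWord
  have : chevG2.commTerms 7 8 = [(9, -2, 1, 1), (10, -3, 2, 1), (11, 3, 1, 2)] := by decide
  rw [this]
  simp only [List.map_cons, List.map_nil, ChevalleyDatum.wordMat, List.prod_cons, List.prod_nil, mul_one]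
  have e1 : (((-3 : ℤ) : K)) * (-a) ^ 2 * c ^ 1 = 0 := by push_cast; linear_combination (-(a ^ 2 * c)) * h3
  have e2 : (((3 : ℤ) : K)) * (-a) ^ 1 * c ^ 2 = 0 := by push_cast; linear_combination (-(a * c ^ 2)) * h3
  have e3 : (((-2 : ℤ) : K)) * (-a) ^ 1 * c ^ 1 = 2 * a * c := by push_cast; ring
  rw [e1, e2, e3, x_zero chevG2 hG2, x_zero chevG2 hG2, mul_one, mul_one]

theorem comm_10_6 (b e : K) : xGL chevG2 hG2 K 10 e * xGL chevG2 hG2 K 6 b =
    xGL chevG2 hG2 K 6 b * xGL chevG2 hG2 K 10 e * xGL chevG2 hG2 K 11 (-(b * e)) := by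
  apply Units.ext
  simp only [Units.val_mul, xGL_coe]
  rw [comm_formula_all chevG2 hG2 6 10 (by decide) (by decide) (by decide) (by decide) b e]
  congr 1
  unfold ChevalleyDatum.commWord
  have : chevG2.commTerms 6 10 = [(11, 1, 1, 1)] := by decide
  rw [this]
  simp only [List.map_cons, List.map_nil, ChevalleyDatum.wordMat, List.prod_cons, List.prod_nil, mul_one]
  congr 1
  push_cast; ring

/-- moving `x_a` to the left of the abelian part -/
theorem abel4el_mul_x7 (p q r s a : K) :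
    abel4el p q r s * xGL chevG2 hG2 K 7 a = xGL chevG2 hG2 K 7 a * abel4el p (q + 2 * a * p) r s := by
  have c9 : ∀ t : K, xGL chevG2 hG2 K 9 t * xGL chevG2 hG2 K 7 a = xGL chevG2 hG2 K 7 a * xGL chevG2 hG2 K 9 t :=
    fun t => tw_commute chevG2 hG2 K 3 9 7 (twGood_7 9 (by simp)) t a
  have c10 : ∀ t : K, xGL chevG2 hG2 K 10 t * xGL chevG2 hG2 K 7 a = xGL chevG2 hG2 K 7 a * xGL chevG2 hG2 K 10 t :=
    fun t => tw_commute chevG2 hG2 K 3 10 7 (twGood_7 10 (by simp)) t a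
  have c11 : ∀ t : K, xGL chevG2 hG2 K 11 t * xGL chevG2 hG2 K 7 a = xGL chevG2 hG2 K 7 a * xGL chevG2 hG2 K 11 t :=
    fun t => tw_commute chevG2 hG2 K 3 11 7 (twGood_7 11 (by simp)) t a
  have c98 : ∀ t u : K, xGL chevG2 hG2 K 9 t * xGL chevG2 hG2 K 9 u = xGL chevG2 hG2 K 9 (u + t) := by
    intro t u; rw [← xGL_add, add_comm]
  unfold abel4el
  calc xGL chevG2 hG2 K 8 p * xGL chevG2 hG2 K 9 q * xGL chevG2 hG2 K 10 r * xGL chevG2 hG2 K 11 s * xGL chevG2 hG2 K 7 a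
      = xGL chevG2 hG2 K 8 p * xGL chevG2 hG2 K 9 q * xGL chevG2 hG2 K 10 r * (xGL chevG2 hG2 K 11 s * xGL chevG2 hG2 K 7 a) := by
        group
    _ = xGL chevG2 hG2 K 8 p * xGL chevG2 hG2 K 9 q * (xGL chevG2 hG2 K 10 r * xGL chevG2 hG2 K 7 a) * xGL chevG2 hG2 K 11 s := by
        rw [c11]; group
    _ = xGL chevG2 hG2 K 8 p * (xGL chevG2 hG2 K 9 q * xGL chevG2 hG2 K 7 a) * xGL chevG2 hG2 K 10 r * xGL chevG2 hG2 K 11 s := by
        rw [c10]; group
    _ = (xGL chevG2 hG2 K 8 p * xGL chevG2 hG2 K 7 a) * xGL chevG2 hG2 K 9 q * xGL chevG2 hG2 K 10 r * xGL chevG2 hG2 K 11 s := by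
        rw [c9]; group
    _ = xGL chevG2 hG2 K 7 a * xGL chevG2 hG2 K 8 p * (xGL chevG2 hG2 K 9 (2 * a * p) * xGL chevG2 hG2 K 9 q) *
          xGL chevG2 hG2 K 10 r * xGL chevG2 hG2 K 11 s := by
        rw [comm_8_7]; group
    _ = _ := by rw [c98]; group

/-- moving `x_b` to the left of the abelian part -/
theorem abel4el_mul_x6 (p q r s b : K) :
    abel4el p q r s * xGL chevG2 hG2 K 6 b = xGL chevG2 hG2 K 6 b * abel4el p q r (s - b * r) := by
  have c8 : ∀ t : K, xGL chevG2 hG2 K 8 t * xGL chevG2 hG2 K 6 b = xGL chevG2 hG2 K 6 b * xGL chevG2 hG2 K 8 t :=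
    fun t => tw_commute chevG2 hG2 K 3 8 6 (twGood_6 8 (by simp)) t b
  have c9 : ∀ t : K, xGL chevG2 hG2 K 9 t * xGL chevG2 hG2 K 6 b = xGL chevG2 hG2 K 6 b * xGL chevG2 hG2 K 9 t :=
    fun t => tw_commute chevG2 hG2 K 3 9 6 (twGood_6 9 (by simp)) t b
  have c11 : ∀ t : K, xGL chevG2 hG2 K 11 t * xGL chevG2 hG2 K 6 b = xGL chevG2 hG2 K 6 b * xGL chevG2 hG2 K 11 t :=
    fun t => tw_commute chevG2 hG2 K 3 11 6 (twGood_6 11 (by simp)) t b
  have c1111 : ∀ t u : K, xGL chevG2 hG2 K 11 t * xGL chevG2 hG2 K 11 u = xGL chevG2 hG2 K 11 (u + t) := by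
    intro t u; rw [← xGL_add, add_comm]
  unfold abel4el
  calc xGL chevG2 hG2 K 8 p * xGL chevG2 hG2 K 9 q * xGL chevG2 hG2 K 10 r * xGL chevG2 hG2 K 11 s * xGL chevG2 hG2 K 6 b
      = xGL chevG2 hG2 K 8 p * xGL chevG2 hG2 K 9 q * xGL chevG2 hG2 K 10 r * (xGL chevG2 hG2 K 11 s * xGL chevG2 hG2 K 6 b) := by
        group
    _ = xGL chevG2 hG2 K 8 p * xGL chevG2 hG2 K 9 q * (xGL chevG2 hG2 K 10 r * xGL chevG2 hG2 K 6 b) * xGL chevG2 hG2 K 11 s := by
        rw [c11]; group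
    _ = xGL chevG2 hG2 K 8 p * (xGL chevG2 hG2 K 9 q * xGL chevG2 hG2 K 6 b) * xGL chevG2 hG2 K 10 r *
          (xGL chevG2 hG2 K 11 (-(b * r)) * xGL chevG2 hG2 K 11 s) := by
        rw [comm_10_6]; group
    _ = (xGL chevG2 hG2 K 8 p * xGL chevG2 hG2 K 6 b) * xGL chevG2 hG2 K 9 q * xGL chevG2 hG2 K 10 r *
          xGL chevG2 hG2 K 11 (s - b * r) := by
        rw [c9, c1111, sub_eq_add_neg]; group
    _ = _ := by rw [c8]; group

theorem wordGL_uWord' (a b c d e f : K) : wordGL chevG2 hG2 K (uWord a b c d e f) =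
    xGL chevG2 hG2 K 7 a * xGL chevG2 hG2 K 6 b * abel4el c d e f := wordGL_uWord a b c d e f

/-- the multiplication of `U` in characteristic 3 -/
theorem uWord_mul (a b c d e f a' b' c' d' e' f' : K) :
    wordGL chevG2 hG2 K (uWord a b c d e f) * wordGL chevG2 hG2 K (uWord a' b' c' d' e' f') =
      wordGL chevG2 hG2 K (uWord (a + a') (b + b') (c + c' + a' * b) (d + d' + 2 * a' * c + a' ^ 2 * b)
        (e + e' - a' ^ 3 * b) (f + f' - b' * e - a' ^ 3 * b ^ 2 + a' ^ 3 * b * b')) := by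
  rw [wordGL_uWord', wordGL_uWord', wordGL_uWord']
  have h76 : xGL chevG2 hG2 K 6 b * xGL chevG2 hG2 K 7 a' =
      xGL chevG2 hG2 K 7 a' * xGL chevG2 hG2 K 6 b * abel4el (a' * b) (a' ^ 2 * b) (-(a' ^ 3 * b)) (-(a' ^ 3 * b ^ 2)) := by
    rw [comm_76, abel4el_eq]
  calc xGL chevG2 hG2 K 7 a * xGL chevG2 hG2 K 6 b * abel4el c d e f *
        (xGL chevG2 hG2 K 7 a' * xGL chevG2 hG2 K 6 b' * abel4el c' d' e' f')
      = xGL chevG2 hG2 K 7 a * xGL chevG2 hG2 K 6 b * (abel4el c d e f * xGL chevG2 hG2 K 7 a') *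
          xGL chevG2 hG2 K 6 b' * abel4el c' d' e' f' := by group
    _ = xGL chevG2 hG2 K 7 a * (xGL chevG2 hG2 K 6 b * xGL chevG2 hG2 K 7 a') *
          (abel4el c (d + 2 * a' * c) e f * xGL chevG2 hG2 K 6 b') * abel4el c' d' e' f' := by
        rw [abel4el_mul_x7]; group
    _ = xGL chevG2 hG2 K 7 a * xGL chevG2 hG2 K 7 a' * xGL chevG2 hG2 K 6 b *
          (abel4el (a' * b) (a' ^ 2 * b) (-(a' ^ 3 * b)) (-(a' ^ 3 * b ^ 2)) * xGL chevG2 hG2 K 6 b') *
          abel4el c (d + 2 * a' * c) e (f - b' * e) * abel4el c' d' e' f' := by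
        rw [h76, abel4el_mul_x6]; group
    _ = (xGL chevG2 hG2 K 7 a * xGL chevG2 hG2 K 7 a') * (xGL chevG2 hG2 K 6 b * xGL chevG2 hG2 K 6 b') *
          (abel4el (a' * b) (a' ^ 2 * b) (-(a' ^ 3 * b)) (-(a' ^ 3 * b ^ 2) - b' * -(a' ^ 3 * b)) *
          abel4el c (d + 2 * a' * c) e (f - b' * e) * abel4el c' d' e' f') := by
        rw [abel4el_mul_x6]; group
    _ = _ := by
        rw [← xGL_add, ← xGL_add, abel4el_mul, abel4el_mul]
        congr 2 <;> ring

end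

end Cfsg.Agent.Lib.Helper36
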