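import Cfsg.Agent.Lib.Helper36.ReeMul
import Cfsg.Agent.Lib.Helper36.ReePerf

/-! # The Ree groups `²G₂`: multiplication in `U¹` (helper36) -/

set_option autoImplicit false

namespace Cfsg.Agent.Lib.Helper36

open Cfsg Cfsg.Lie Cfsg.Agent.Lib.Helper18

section
variable {K : Type*} [Field K] [Fintype K] {m : ℕ}

/-- the multiplication of `U¹` -/
theorem reeUel_mul (hK : Fintype.card K = 3 ^ (2 * m + 1)) (t u v t' u' v' : K) :
    reeUel m (t, u, v) * reeUel m (t', u', v') =
      reeUel m (t + t', u + u' - t' ^ (3 ^ m * 3) * t,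
        v + v' - t' * u - t' ^ (3 ^ m * 3) * t ^ 2 + t' ^ (3 ^ m * 3) * t * t') := by
  have := ree_charP hK
  have hmem : reeUel m (t, u, v) * reeUel m (t', u', v') ∈ chevG2.posUnipotent K ⊓ twistedG2 K (3 ^ m) :=
    ⟨mul_mem (reeUel_mem_pos _) (reeUel_mem_pos _), mul_mem (reeUel_mem _) (reeUel_mem _)⟩
  rw [ree_pos_inf hK] at hmem
  obtain ⟨t2, u2, v2, h2⟩ := hmem
  have h3 := h2
  unfold reeUel at h3
  simp only [] at h3
  rw [reeWordU_eq, reeWordU_eq, reeWordU_eq, uWord_mul] at h3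
  obtain ⟨-, hb, -, -, he, hf⟩ := uWord_inj _ _ _ _ _ _ _ _ _ _ _ _ h3
  rw [h2]
  unfold reeUel
  simp only []
  rw [← hb, ← he, ← hf]
  simp only [pow_mul]

/-- the cube in `U¹` -/
theorem reeUel_cube (hK : Fintype.card K = 3 ^ (2 * m + 1)) (t u v : K) :
    reeUel m (t, u, v) ^ 3 = reeUel m (0, 0, -(t ^ (3 ^ m * 3 + 2))) := by
  have := ree_charP hK
  have h3 : (3 : K) = 0 := by
    have := CharP.cast_eq_zero K 3
    exact_mod_cast this
  rw [pow_succ, pow_two, reeUel_mul hK, reeUel_mul hK]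
  congr 1
  refine Prod.ext ?_ (Prod.ext ?_ ?_)
  · show t + t + t = 0
    linear_combination t * h3
  · show u + u - t ^ (3 ^ m * 3) * t + u - t ^ (3 ^ m * 3) * (t + t) = 0
    linear_combination (u - t ^ (3 ^ m * 3) * t) * h3
  · show v + v - t * u - t ^ (3 ^ m * 3) * t ^ 2 + t ^ (3 ^ m * 3) * t * t + v - t * (u + u - t ^ (3 ^ m * 3) * t) -
      t ^ (3 ^ m * 3) * (t + t) ^ 2 + t ^ (3 ^ m * 3) * (t + t) * t = -(t ^ (3 ^ m * 3 + 2))
    rw [pow_add]
    linear_combination (v - t * u) * h3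

theorem reeUel_eq_one_iff (p : K × K × K) : reeUel m p = 1 ↔ p = (0, 0, 0) := by
  constructor
  · intro h
    rw [← ree_one_eq (m := m)] at h
    exact reeUel_inj _ _ h
  · rintro rfl
    exact ree_one_eq

/-- the elements of order 3 of `U¹` -/
theorem reeUel_order_three (hK : Fintype.card K = 3 ^ (2 * m + 1)) (p : K × K × K) :
    orderOf (reeUel m p) = 3 ↔ p.1 = 0 ∧ p ≠ (0, 0, 0) := by
  obtain ⟨t, u, v⟩ := p
  have : Fact (Nat.Prime 3) := ⟨by norm_num⟩
  constructor
  · intro h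
    have h1 : reeUel m (t, u, v) ^ 3 = 1 := by rw [← h]; exact pow_orderOf_eq_one _
    rw [reeUel_cube hK, reeUel_eq_one_iff] at h1
    have h2 : -(t ^ (3 ^ m * 3 + 2)) = 0 := by
      have := congrArg (fun q : K × K × K => q.2.2) h1
      simpa using this
    have ht : t = 0 := by
      rw [neg_eq_zero] at h2
      exact pow_eq_zero_iff (by omega) |>.1 h2
    refine ⟨ht, ?_⟩
    intro h0
    rw [h0, ree_one_eq, orderOf_one] at h
    omega
  · rintro ⟨ht, hne⟩
    simp only at ht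
    subst ht
    apply orderOf_eq_prime
    · rw [reeUel_cube hK, zero_pow (by omega), neg_zero, ree_one_eq]
    · intro h
      rw [reeUel_eq_one_iff] at h
      exact hne h

end

end Cfsg.Agent.Lib.Helper36
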