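import Cfsg.Agent.Lib.Helper36.ReeTorus
import Cfsg.Agent.Lib.Helper36.ReeLit

/-! # The Ree groups `²G₂`: monomial and diagonal elements of the twisted group (helper36) -/

set_option autoImplicit false

namespace Cfsg.Agent.Lib.Helper36

open Cfsg Cfsg.Lie Cfsg.Agent.Lib.Helper18

section
variable {K : Type*} [Field K]

theorem reeU_mem (θ : ℕ) (t u v : K) : wordGL chevG2 hG2 K (reeWordU θ t u v) ∈ twistedG2 K θ :=
  Subgroup.subset_closure ⟨_, ⟨t, u, v, Or.inl rfl⟩, wordGL_coe chevG2 hG2 K _⟩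

theorem reeV_mem (θ : ℕ) (t u v : K) : wordGL chevG2 hG2 K (reeWordV θ t u v) ∈ twistedG2 K θ :=
  Subgroup.subset_closure ⟨_, ⟨t, u, v, Or.inr rfl⟩, wordGL_coe chevG2 hG2 K _⟩

/-- words in commuting letters commute -/
theorem wordGL_comm (w w' : List (ℕ × K))
    (h : ∀ p ∈ w, ∀ q ∈ w', ∀ a b : K,
      xGL chevG2 hG2 K p.1 a * xGL chevG2 hG2 K q.1 b = xGL chevG2 hG2 K q.1 b * xGL chevG2 hG2 K p.1 a) :
    wordGL chevG2 hG2 K w * wordGL chevG2 hG2 K w' = wordGL chevG2 hG2 K w' * wordGL chevG2 hG2 K w := by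
  unfold wordGL
  apply Commute.list_prod_left
  intro x hx
  apply Commute.list_prod_right
  intro y hy
  obtain ⟨p, hp, rfl⟩ := List.mem_map.1 hx
  obtain ⟨q, hq, rfl⟩ := List.mem_map.1 hy
  exact h p hp q hq _ _

variable [CharP K 3]

theorem twGood_orth : ∀ i ∈ [8, 3], ∀ j ∈ [10, 1], twGood chevG2 3 i j = true ∧ twGood chevG2 3 j i = true := by
  decide

theorem comm_orth : ∀ i ∈ [8, 3], ∀ j ∈ [10, 1], ∀ a b : K,
    xGL chevG2 hG2 K i a * xGL chevG2 hG2 K j b = xGL chevG2 hG2 K j b * xGL chevG2 hG2 K i a :=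
  fun i hi j hj a b => tw_commute chevG2 hG2 K 3 i j (twGood_orth i hi j hj).1 a b

/-- the monomial element `n(s)` of the twisted group -/
noncomputable def reeNN (θ : ℕ) (s : K) : GL chevG2.Idx K :=
  wordGL chevG2 hG2 K (reeWordU θ 0 s 0) * wordGL chevG2 hG2 K (reeWordV θ 0 s⁻¹ 0) *
    wordGL chevG2 hG2 K (reeWordU θ 0 s 0)

omit [CharP K 3] in
theorem reeNN_mem (θ : ℕ) (s : K) : reeNN θ s ∈ twistedG2 K θ :=
  mul_mem (mul_mem (reeU_mem θ 0 s 0) (reeV_mem θ 0 s⁻¹ 0)) (reeU_mem θ 0 s 0)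

theorem reeNN_eq (θ : ℕ) (hθ : θ ≠ 0) (s : K) :
    reeNN θ s = nGL chevG2 hG2 K 8 (s ^ θ) * nGL chevG2 hG2 K 10 s := by
  unfold reeNN
  rw [reeWordU_eq, reeWordV_eq, wordGL_uWord, wordGL_vWord, nGL_eq, nGL_eq]
  have z1 : (0 : K) ^ θ = 0 := zero_pow hθ
  have z2 : (0 : K) ^ (θ + 1) = 0 := zero_pow (by omega)
  have z3 : (0 : K) ^ (2 * θ + 1) = 0 := zero_pow (by omega)
  simp only [z1, z2, z3, zero_add, add_zero, neg_zero, xGL_zero, one_mul, mul_one]
  have n8 : chevG2.neg 8 = 3 := rfl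
  have n10 : chevG2.neg 10 = 1 := rfl
  rw [n8, n10, inv_pow]
  have c1 := comm_orth (K := K) 8 (by simp) 10 (by simp)
  have c2 := comm_orth (K := K) 8 (by simp) 1 (by simp)
  have c3 := comm_orth (K := K) 3 (by simp) 10 (by simp)
  have c4 := comm_orth (K := K) 3 (by simp) 1 (by simp)
  set A := xGL chevG2 hG2 K 8 (s ^ θ)
  set B := xGL chevG2 hG2 K 10 s
  set C := xGL chevG2 hG2 K 3 (-(s ^ θ)⁻¹)
  set E := xGL chevG2 hG2 K 1 (-s⁻¹)
  have hAB : A * B = B * A := c1 _ _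
  have hAE : A * E = E * A := c2 _ _
  have hCB : C * B = B * C := c3 _ _
  have hCE : C * E = E * C := c4 _ _
  calc A * B * (C * E) * (A * B) = A * (B * C) * (E * A) * B := by group
    _ = A * (C * B) * (A * E) * B := by rw [hCB, hAE]
    _ = A * C * (B * A) * E * B := by group
    _ = A * C * (A * B) * E * B := by rw [hAB]
    _ = A * C * A * (B * E * B) := by group

theorem hGL10_comm_nGL8 (s t : K) :
    hGL chevG2 hG2 K 10 s * nGL chevG2 hG2 K 8 t = nGL chevG2 hG2 K 8 t * hGL chevG2 hG2 K 10 s := by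
  unfold hGL nGL
  apply wordGL_comm
  intro p hp q hq a b
  have hp' : p.1 ∈ [10, 1] := by
    have n10 : chevG2.neg 10 = 1 := rfl
    simp only [ChevalleyDatum.hWord, ChevalleyDatum.nWord, List.cons_append, List.nil_append, List.mem_cons,
      List.not_mem_nil, or_false, n10] at hp
    rcases hp with rfl | rfl | rfl | rfl | rfl | rfl <;> simp
  have hq' : q.1 ∈ [8, 3] := by
    have n8 : chevG2.neg 8 = 3 := rfl
    simp only [ChevalleyDatum.nWord, List.mem_cons, List.not_mem_nil, or_false, n8] at hq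
    rcases hq with rfl | rfl | rfl <;> simp
  exact (comm_orth (K := K) q.1 hq' p.1 hp' b a).symm

/-- the diagonal elements `n(s) n(1)⁻¹` of the twisted group -/
theorem reeNN_mul_inv (θ : ℕ) (hθ : θ ≠ 0) (s : K) :
    reeNN θ s * (reeNN θ 1)⁻¹ = hGL chevG2 hG2 K 8 (s ^ θ) * hGL chevG2 hG2 K 10 s := by
  rw [reeNN_eq θ hθ, reeNN_eq θ hθ, one_pow, mul_inv_rev, nGL_inv', nGL_inv', hGL_eq chevG2 hG2 K 8]
  calc nGL chevG2 hG2 K 8 (s ^ θ) * nGL chevG2 hG2 K 10 s * (nGL chevG2 hG2 K 10 (-1) * nGL chevG2 hG2 K 8 (-1))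
      = nGL chevG2 hG2 K 8 (s ^ θ) * (hGL chevG2 hG2 K 10 s * nGL chevG2 hG2 K 8 (-1)) := by
        rw [hGL_eq chevG2 hG2 K 10]; group
    _ = _ := by rw [hGL10_comm_nGL8]; group

theorem reeNN_one_mem_mono (θ : ℕ) (hθ : θ ≠ 0) : reeNN θ (1 : K) ∈ chevG2.monomialSubgroup K := by
  rw [reeNN_eq θ hθ, one_pow]
  exact mul_mem (nGL_mem_mono chevG2 hG2 K 8 (by decide)) (nGL_mem_mono chevG2 hG2 K 10 (by decide))


omit [CharP K 3] in
theorem hGL8_torus (c : Kˣ) : hGL chevG2 hG2 K 8 (c : K) = torusHom chevG2 K (torPair c (c ^ 3)) := by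
  rw [hGL_eq_torusHom chevG2 hG2 K 8 (by decide)]
  congr 1
  funext k
  have c0 : cor chevG2 8 0 = 1 := by decide
  have c1 : cor chevG2 8 1 = 3 := by decide
  rcases rI_cases k with rfl | rfl
  · show c ^ cor chevG2 8 0 = c
    rw [c0, zpow_one]
  · show c ^ cor chevG2 8 1 = c ^ 3
    rw [c1]; rfl

omit [CharP K 3] in
theorem hGL10_torus (c : Kˣ) : hGL chevG2 hG2 K 10 (c : K) = torusHom chevG2 K (torPair c c) := by
  rw [hGL_eq_torusHom chevG2 hG2 K 10 (by decide)]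
  congr 1
  funext k
  have c0 : cor chevG2 10 0 = 1 := by decide
  have c1 : cor chevG2 10 1 = 1 := by decide
  rcases rI_cases k with rfl | rfl
  · show c ^ cor chevG2 10 0 = c
    rw [c0, zpow_one]
  · show c ^ cor chevG2 10 1 = c
    rw [c1, zpow_one]


end

section fin
variable {K : Type*} [Field K] [Fintype K] {m : ℕ}

omit [Fintype K] in
theorem torPair_one : torPair (1 : Kˣ) 1 = 1 := by
  funext j
  simp [torPair]

/-- the homomorphism `t ↦ h(t) = h_a(t^θ) h_b(t)` -/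
noncomputable def reeHm (θ : ℕ) : Kˣ →* GL chevG2.Idx K where
  toFun t := torusHom chevG2 K (torPair (t ^ θ) t)
  map_one' := by rw [one_pow, torPair_one, map_one]
  map_mul' a b := by rw [mul_pow, ← torPair_mul, map_mul]

omit [Fintype K] in
theorem reeHm_apply (θ : ℕ) (t : Kˣ) : reeHm θ t = torusHom chevG2 K (torPair (t ^ θ) t) := rfl

omit [Fintype K] in
theorem reeHm_injective (θ : ℕ) : Function.Injective (reeHm (K := K) θ) := by
  intro a b h
  exact (torusHom_torPair_inj _ _ _ _ h).2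

theorem ree_units_pow_card (hK : Fintype.card K = 3 ^ (2 * m + 1)) (t : Kˣ) : t ^ (3 ^ (2 * m + 1)) = t := by
  apply Units.ext
  rw [Units.val_pow_eq_pow_val]
  exact ree_pow_card hK _

theorem reeHm_pow_mem (hK : Fintype.card K = 3 ^ (2 * m + 1)) (s : Kˣ) :
    reeHm (3 ^ m) (s ^ (3 * 3 ^ m + 1)) ∈ twistedG2 K (3 ^ m) := by
  have := ree_charP hK
  have hθ : 3 ^ m ≠ 0 := by positivity
  have h1 : reeHm (3 ^ m) (s ^ (3 * 3 ^ m + 1)) = reeNN (3 ^ m) (s : K) * (reeNN (3 ^ m) (1 : K))⁻¹ := by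
    rw [reeNN_mul_inv _ hθ, ← Units.val_pow_eq_pow_val, hGL8_torus, hGL10_torus, ← map_mul, torPair_mul, reeHm_apply]
    congr 2
    · rw [← pow_mul]
      have e : (3 * 3 ^ m + 1) * 3 ^ m = 3 ^ (2 * m + 1) + 3 ^ m := by ring
      rw [e, pow_add, ree_units_pow_card hK, mul_comm]
    · rw [← pow_mul, pow_succ, mul_comm (3 ^ m) 3]
  rw [h1]
  exact mul_mem (reeNN_mem _ _) (inv_mem (reeNN_mem _ _))

theorem reeHm_neg_one_mem (hK : Fintype.card K = 3 ^ (2 * m + 1)) :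
    reeHm (3 ^ m) (-1 : Kˣ) ∈ twistedG2 K (3 ^ m) := by
  have hc := ree_charP hK
  have hθ : 3 ^ m ≠ 0 := by positivity
  have three : (3 : K) = 0 := by
    have := CharP.cast_eq_zero K 3
    exact_mod_cast this
  have e2 : (-1 : K) + -1 = 1 := by linear_combination -three
  have e2' : -((1 : K) + 1) = 1 := by linear_combination -three
  have o1 : (-1 : K) ^ 3 ^ m = -1 := Odd.neg_one_pow (ree_odd m)
  have o2 : (-1 : K) ^ (3 ^ m + 1) = 1 := by rw [pow_succ, o1]; ring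
  have o3 : (-1 : K) ^ (2 * 3 ^ m + 1) = -1 := by rw [pow_succ, pow_mul, neg_one_sq, one_pow, one_mul]
  have z1 : (0 : K) ^ 3 ^ m = 0 := zero_pow hθ
  set f : ZMod 3 →+* K := ZMod.castHom (dvd_refl 3) K with hf
  have id3 : wordGL chevG2 hG2 (ZMod 3) reeWA = wordGL chevG2 hG2 (ZMod 3) reeWB :=
    Units.ext (by rw [wordGL_coe, wordGL_coe]; exact reeW_identity)
  have idK := congrArg (glMap chevG2 f) id3
  rw [glMap_wordGL, glMap_wordGL] at idK
  have eA : (reeWA.map fun p => (p.1, f p.2)) =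
      reeWordU (3 ^ m) (-1 : K) 0 (-1) ++ reeWordV (3 ^ m) (1 : K) 0 1 ++ reeWordU (3 ^ m) (-1 : K) 0 (-1) := by
    rw [reeWordU_eq, reeWordV_eq]
    simp only [reeWA, uWord, vWord, List.map_cons, List.map_nil, map_neg, map_one, map_zero, o1, o2, o3, z1, one_pow,
      add_zero, e2, e2', neg_zero, List.cons_append, List.nil_append]
  have eB : (reeWB.map fun p => (p.1, f p.2)) =
      chevG2.hWord 7 (-1 : K) ++ chevG2.hWord 6 (-1 : K) ++ chevG2.nWord 8 (1 : K) ++ chevG2.nWord 10 (1 : K) := by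
    have n7 : chevG2.neg 7 = 4 := rfl
    have n6 : chevG2.neg 6 = 5 := rfl
    have n8 : chevG2.neg 8 = 3 := rfl
    have n10 : chevG2.neg 10 = 1 := rfl
    simp only [reeWB, ChevalleyDatum.hWord, ChevalleyDatum.nWord, List.map_cons, List.map_nil, map_neg, map_one,
      n7, n6, n8, n10, inv_neg, inv_one, neg_neg, List.cons_append, List.nil_append]
  rw [eA, eB, wordGL_append', wordGL_append', wordGL_append', wordGL_append', wordGL_append'] at idK
  have hH : reeHm (3 ^ m) (-1 : Kˣ) = hGL chevG2 hG2 K 7 (-1) * hGL chevG2 hG2 K 6 (-1) := by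
    rw [reeHm_apply, Odd.neg_one_pow (ree_odd m), torusHom_torPair, Units.val_neg, Units.val_one]
  have hN : reeNN (3 ^ m) (1 : K) = nGL chevG2 hG2 K 8 1 * nGL chevG2 hG2 K 10 1 := by
    rw [reeNN_eq _ hθ, one_pow]
  have key : reeHm (3 ^ m) (-1 : Kˣ) =
      wordGL chevG2 hG2 K (reeWordU (3 ^ m) (-1 : K) 0 (-1)) * wordGL chevG2 hG2 K (reeWordV (3 ^ m) (1 : K) 0 1) *
        wordGL chevG2 hG2 K (reeWordU (3 ^ m) (-1 : K) 0 (-1)) * (reeNN (3 ^ m) (1 : K))⁻¹ := by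
    rw [idK, hH, hN]
    unfold hGL nGL
    group
  rw [key]
  exact mul_mem (mul_mem (mul_mem (reeU_mem _ _ _ _) (reeV_mem _ _ _ _)) (reeU_mem _ _ _ _)) (inv_mem (reeNN_mem _ _))


theorem ree_card_mod4 (m : ℕ) : ∃ k : ℕ, 3 ^ (2 * m + 1) = 4 * k + 3 := by
  have h : 3 ^ (2 * m + 1) % 4 = 3 := by
    rw [pow_succ, pow_mul, Nat.mul_mod, Nat.pow_mod]
    norm_num
  exact ⟨3 ^ (2 * m + 1) / 4, by omega⟩

/-- every fixed point of the torus lies in the twisted group -/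
theorem reeHm_mem (hK : Fintype.card K = 3 ^ (2 * m + 1)) (t : Kˣ) : reeHm (3 ^ m) t ∈ twistedG2 K (3 ^ m) := by
  obtain ⟨k, hk⟩ := ree_card_mod4 m
  have hq := ree_units_pow_card hK t
  have hθ : 1 ≤ 3 ^ m := Nat.one_le_pow _ _ (by norm_num)
  -- squares
  have hsq : reeHm (3 ^ m) (t ^ 2) ∈ twistedG2 K (3 ^ m) := by
    have h1 : (t ^ (3 * 3 ^ m - 1)) ^ (3 * 3 ^ m + 1) = t ^ 2 := by
      have e : (3 * 3 ^ m - 1) * (3 * 3 ^ m + 1) + 1 = 3 ^ (2 * m + 1) * 3 := by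
        have hb : 3 ^ (2 * m + 1) * 3 = (3 * 3 ^ m) * (3 * 3 ^ m) := by ring
        obtain ⟨a, ha⟩ : ∃ a, 3 * 3 ^ m = a + 1 := ⟨3 * 3 ^ m - 1, by omega⟩
        rw [hb, ha, Nat.add_sub_cancel]
        ring
      have h2 : (t ^ (3 * 3 ^ m - 1)) ^ (3 * 3 ^ m + 1) * t = t ^ 2 * t := by
        rw [← pow_mul, ← pow_succ, e, pow_mul, hq]; exact pow_succ t 2
      exact mul_right_cancel h2
    rw [← h1]
    exact reeHm_pow_mem hK _
  -- the element of order at most two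
  have he : reeHm (3 ^ m) (t ^ (2 * k + 1)) ∈ twistedG2 K (3 ^ m) := by
    have h1 : t ^ (2 * k + 1) * t ^ (2 * k + 1) = 1 := by
      have h2 : t ^ (2 * k + 1) * t ^ (2 * k + 1) * t = t := by
        rw [← pow_add, ← pow_succ]
        have : 2 * k + 1 + (2 * k + 1) + 1 = 3 ^ (2 * m + 1) := by omega
        rw [this, hq]
      exact mul_eq_right.1 h2
    have h3 : ((t ^ (2 * k + 1) : Kˣ) : K) * ((t ^ (2 * k + 1) : Kˣ) : K) = 1 := by
      rw [← Units.val_mul, h1, Units.val_one]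
    rcases mul_self_eq_one_iff.1 h3 with h4 | h4
    · have : t ^ (2 * k + 1) = 1 := Units.ext h4
      rw [this, map_one]; exact one_mem _
    · have : t ^ (2 * k + 1) = -1 := Units.ext (by rw [h4, Units.val_neg, Units.val_one])
      rw [this]; exact reeHm_neg_one_mem hK
  have ht : t = t ^ (2 * k + 1) * ((t ^ 2) ^ k)⁻¹ := by
    rw [← pow_mul, pow_succ]; group
  have ht' : reeHm (3 ^ m) t = reeHm (3 ^ m) (t ^ (2 * k + 1)) * (reeHm (3 ^ m) (t ^ 2) ^ k)⁻¹ := by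
    rw [← map_pow, ← map_inv, ← map_mul, ← ht]
  rw [ht']
  exact mul_mem he (inv_mem (pow_mem hsq k))


end fin

end Cfsg.Agent.Lib.Helper36
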