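import Cfsg.Agent.Lib.Helper36.ReeBase
import Cfsg.Agent.Lib.Helper36.ChevUN

/-! # The Ree groups `²G₂`: the twisting endomorphism on the level of `GL` (helper36) -/

set_option autoImplicit false

namespace Cfsg.Agent.Lib.Helper36

open Cfsg Cfsg.Lie Cfsg.Agent.Lib.Helper18

section sgl
variable {K : Type*} [Field K] (θ : ℕ) (σ : ↥(chevG2.group K) →* ↥(chevG2.group K))

open Classical in
/-- the endomorphism extended (by `1`) to the general linear group -/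
noncomputable def sgl (g : GL chevG2.Idx K) : GL chevG2.Idx K :=
  if hg : g ∈ chevG2.group K then ((σ ⟨g, hg⟩ : ↥(chevG2.group K)) : GL chevG2.Idx K) else 1

theorem sgl_of_mem (g : GL chevG2.Idx K) (hg : g ∈ chevG2.group K) :
    sgl σ g = ((σ ⟨g, hg⟩ : ↥(chevG2.group K)) : GL chevG2.Idx K) := by
  unfold sgl
  rw [dif_pos hg]

theorem sgl_mem_group (g : GL chevG2.Idx K) : sgl σ g ∈ chevG2.group K := by
  unfold sgl
  split_ifs with hg
  · exact (σ ⟨g, hg⟩).2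
  · exact one_mem _

theorem sgl_mul (g g' : GL chevG2.Idx K) (hg : g ∈ chevG2.group K) (hg' : g' ∈ chevG2.group K) :
    sgl σ (g * g') = sgl σ g * sgl σ g' := by
  rw [sgl_of_mem σ _ (mul_mem hg hg'), sgl_of_mem σ _ hg, sgl_of_mem σ _ hg', ← Subgroup.coe_mul, ← map_mul]
  rfl

theorem sgl_one : sgl σ (1 : GL chevG2.Idx K) = 1 := by
  rw [sgl_of_mem σ _ (one_mem _)]
  have : (⟨1, one_mem _⟩ : ↥(chevG2.group K)) = 1 := rfl
  rw [this, map_one]
  rfl

theorem sgl_inv (g : GL chevG2.Idx K) (hg : g ∈ chevG2.group K) : sgl σ g⁻¹ = (sgl σ g)⁻¹ := by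
  rw [eq_inv_iff_mul_eq_one, ← sgl_mul σ _ _ (inv_mem hg) hg, inv_mul_cancel, sgl_one]

/-- the image of a letter -/
def reeLet (p : ℕ × K) : ℕ × K := (rhoG2.getD p.1 0, p.2 ^ (θ * lamG2.getD p.1 0))

variable {θ σ} (hσ : IsReeSig K θ σ)

include hσ in
theorem sgl_xGL (r : ℕ) (hr : r < 12) (t : K) :
    sgl σ (xGL chevG2 hG2 K r t) = xGL chevG2 hG2 K (rhoG2.getD r 0) (t ^ (θ * lamG2.getD r 0)) := by
  rw [sgl_of_mem σ _ (xGL_mem_group chevG2 hG2 K r t)]
  have := hσ r hr t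
  unfold xGr at this
  rw [this]

include hσ in
theorem sgl_wordGL (w : List (ℕ × K)) (hw : ∀ p ∈ w, p.1 < 12) :
    sgl σ (wordGL chevG2 hG2 K w) = wordGL chevG2 hG2 K (w.map (reeLet θ)) := by
  induction w with
  | nil => simp [wordGL, sgl_one]
  | cons p w ih =>
    have h1 : wordGL chevG2 hG2 K (p :: w) = xGL chevG2 hG2 K p.1 p.2 * wordGL chevG2 hG2 K w := by
      simp [wordGL]
    have h2 : wordGL chevG2 hG2 K ((p :: w).map (reeLet θ)) =
        xGL chevG2 hG2 K (reeLet θ p).1 (reeLet θ p).2 * wordGL chevG2 hG2 K (w.map (reeLet θ)) := by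
      simp [wordGL]
    rw [h1, h2, sgl_mul σ _ _ (xGL_mem_group chevG2 hG2 K _ _)
      (wordGL_mem chevG2 hG2 K _ _ (fun q _ => xGL_mem_group chevG2 hG2 K _ _)),
      ih (fun q hq => hw q (List.mem_cons_of_mem _ hq)), sgl_xGL hσ p.1 (hw p List.mem_cons_self)]
    rfl

theorem rho_neg (r : ℕ) (hr : r < 12) :
    rhoG2.getD (chevG2.neg r) 0 = chevG2.neg (rhoG2.getD r 0) ∧ lamG2.getD (chevG2.neg r) 0 = lamG2.getD r 0 ∧
      chevG2.neg r < 12 ∧ rhoG2.getD r 0 < 12 ∧ Odd (lamG2.getD r 0) := by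
  revert r
  decide

include hσ in
theorem sgl_nGL (hθ : Odd θ) (r : ℕ) (hr : r < 12) (t : K) :
    sgl σ (nGL chevG2 hG2 K r t) = nGL chevG2 hG2 K (rhoG2.getD r 0) (t ^ (θ * lamG2.getD r 0)) := by
  obtain ⟨h1, h2, h3, h4, h5⟩ := rho_neg r hr
  unfold nGL
  rw [sgl_wordGL hσ]
  · congr 1
    unfold ChevalleyDatum.nWord
    simp only [List.map_cons, List.map_nil, reeLet]
    rw [h1, h2, Odd.neg_pow (hθ.mul h5), inv_pow]
  · intro p hp
    unfold ChevalleyDatum.nWord at hp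
    simp only [List.mem_cons, List.not_mem_nil, or_false] at hp
    rcases hp with rfl | rfl | rfl
    · exact hr
    · exact h3
    · exact hr

include hσ in
theorem sgl_hGL (hθ : Odd θ) (r : ℕ) (hr : r < 12) (t : K) :
    sgl σ (hGL chevG2 hG2 K r t) = hGL chevG2 hG2 K (rhoG2.getD r 0) (t ^ (θ * lamG2.getD r 0)) := by
  obtain ⟨h1, h2, h3, h4, h5⟩ := rho_neg r hr
  have hn : ∀ c : K, nGL chevG2 hG2 K r c ∈ chevG2.group K := fun c =>
    wordGL_mem chevG2 hG2 K _ _ (fun q _ => xGL_mem_group chevG2 hG2 K _ _)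
  rw [hGL_eq, hGL_eq, sgl_mul σ _ _ (hn _) (hn _), sgl_nGL hσ hθ r hr, sgl_nGL hσ hθ r hr,
    Odd.neg_pow (hθ.mul h5), one_pow]

theorem sgl_closure (S : Set (GL chevG2.Idx K)) (T : Subgroup (GL chevG2.Idx K))
    (hS : ∀ g ∈ S, g ∈ chevG2.group K) (h : ∀ g ∈ S, sgl σ g ∈ T) :
    ∀ g ∈ Subgroup.closure S, sgl σ g ∈ T := by
  intro g hg
  have key : g ∈ chevG2.group K ∧ sgl σ g ∈ T := by
    induction hg using Subgroup.closure_induction with
    | mem x hx => exact ⟨hS x hx, h x hx⟩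
    | one => exact ⟨one_mem _, by rw [sgl_one]; exact one_mem _⟩
    | mul x y _ _ hx hy => exact ⟨mul_mem hx.1 hy.1, by rw [sgl_mul σ _ _ hx.1 hy.1]; exact mul_mem hx.2 hy.2⟩
    | inv x _ hx => exact ⟨inv_mem hx.1, by rw [sgl_inv σ _ hx.1]; exact inv_mem hx.2⟩
  exact key.2

theorem rho_pos (r : ℕ) : chevG2.IsPosRoot r → chevG2.IsPosRoot (rhoG2.getD r 0) := by
  intro h
  have hr : r < 12 := h.1
  revert h
  revert r
  decide

theorem rho_negRoot (r : ℕ) : chevG2.IsNegRoot r → chevG2.IsNegRoot (rhoG2.getD r 0) := by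
  intro h
  have hr : r < 12 := h.1
  revert h
  revert r
  decide

include hσ in
theorem sgl_pos (g : GL chevG2.Idx K) (hg : g ∈ chevG2.posUnipotent K) : sgl σ g ∈ chevG2.posUnipotent K := by
  refine sgl_closure (σ := σ) _ _ ?_ ?_ g hg
  · rintro g ⟨r, t, -, e⟩
    have : g = xGL chevG2 hG2 K r t := Units.ext (by rw [e, xGL_coe])
    rw [this]; exact xGL_mem_group chevG2 hG2 K r t
  · rintro g ⟨r, t, hr, e⟩
    have : g = xGL chevG2 hG2 K r t := Units.ext (by rw [e, xGL_coe])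
    rw [this, sgl_xGL hσ r hr.1]
    exact Subgroup.subset_closure ⟨_, _, rho_pos r hr, xGL_coe chevG2 hG2 K _ _⟩

include hσ in
theorem sgl_neg (g : GL chevG2.Idx K) (hg : g ∈ chevG2.negUnipotent K) : sgl σ g ∈ chevG2.negUnipotent K := by
  refine sgl_closure (σ := σ) _ _ ?_ ?_ g hg
  · rintro g ⟨r, t, -, e⟩
    have : g = xGL chevG2 hG2 K r t := Units.ext (by rw [e, xGL_coe])
    rw [this]; exact xGL_mem_group chevG2 hG2 K r t
  · rintro g ⟨r, t, hr, e⟩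
    have : g = xGL chevG2 hG2 K r t := Units.ext (by rw [e, xGL_coe])
    rw [this, sgl_xGL hσ r hr.1]
    exact Subgroup.subset_closure ⟨_, _, rho_negRoot r hr, xGL_coe chevG2 hG2 K _ _⟩

include hσ in
theorem sgl_diag (hθ : Odd θ) (g : GL chevG2.Idx K) (hg : g ∈ chevG2.diagonalSubgroup K) :
    sgl σ g ∈ chevG2.diagonalSubgroup K := by
  refine sgl_closure (σ := σ) _ _ ?_ ?_ g hg
  · rintro g ⟨r, t, hr, ht, e⟩
    have : g = hGL chevG2 hG2 K r t := Units.ext (by rw [e, hGL_coe])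
    rw [this]
    exact diagonal_le_group chevG2 hG2 K (hGL_mem_diag chevG2 hG2 K r hr t ht)
  · rintro g ⟨r, t, hr, ht, e⟩
    have : g = hGL chevG2 hG2 K r t := Units.ext (by rw [e, hGL_coe])
    rw [this, sgl_hGL hσ hθ r hr]
    exact hGL_mem_diag chevG2 hG2 K _ (rho_neg r hr).2.2.2.1 _ (pow_ne_zero _ ht)

include hσ in
theorem sgl_borel (hθ : Odd θ) (g : GL chevG2.Idx K) (hg : g ∈ chevG2.borelSubgroup K) :
    sgl σ g ∈ chevG2.borelSubgroup K := by
  obtain ⟨u, hu, h, hh, rfl⟩ := (mem_borel_iff chevG2 hG2 K g).1 hg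
  rw [sgl_mul σ _ _ (posUnipotent_le_group chevG2 hG2 K hu) (diagonal_le_group chevG2 hG2 K hh)]
  exact mul_mem (pos_le_borel chevG2 K (sgl_pos hσ u hu)) (diagonal_le_borel chevG2 K (sgl_diag hσ hθ h hh))

/-- the fixed points of the twisting endomorphism -/
def reeFix (σ : ↥(chevG2.group K) →* ↥(chevG2.group K)) : Subgroup (GL chevG2.Idx K) where
  carrier := {g | g ∈ chevG2.group K ∧ sgl σ g = g}
  mul_mem' := by
    rintro a b ⟨ha, ea⟩ ⟨hb, eb⟩
    exact ⟨mul_mem ha hb, by rw [sgl_mul σ _ _ ha hb, ea, eb]⟩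
  one_mem' := ⟨one_mem _, sgl_one σ⟩
  inv_mem' := by
    rintro a ⟨ha, ea⟩
    exact ⟨inv_mem ha, by rw [sgl_inv σ _ ha, ea]⟩

theorem mem_reeFix (g : GL chevG2.Idx K) : g ∈ reeFix σ ↔ g ∈ chevG2.group K ∧ sgl σ g = g := Iff.rfl


end sgl

end Cfsg.Agent.Lib.Helper36
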