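import Cfsg.Agent.Lib.Helper36.ReePerf
import Cfsg.Agent.Lib.Helper36.ChevSolv
import Cfsg.Agent.S0319

/-! # The Ree groups `²G₂`: simplicity (helper36) -/

set_option autoImplicit false

namespace Cfsg.Agent.Lib.Helper36

open Cfsg Cfsg.Lie Cfsg.Agent.Lib.Helper18

section
variable {K : Type*} [Field K] [Fintype K] {m : ℕ}

omit [Fintype K] in
theorem reeB_solvable : Group.IsSolvable ↥(reeB K m) := by
  have := borel_isSolvable chevG2 hG2 K
  let f : ↥(reeB K m) →* ↥(chevG2.borelSubgroup K) :=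
    { toFun := fun x => ⟨(x : ↥(twistedG2 K (3 ^ m))), (mem_reeB _).1 x.2⟩
      map_one' := rfl
      map_mul' := fun _ _ => rfl }
  apply Group.isSolvable_of_isSolvable_injective (f := f)
  intro a b h
  have h1 := congrArg (fun z : ↥(chevG2.borelSubgroup K) => (z : GL chevG2.Idx K)) h
  exact Subtype.ext (Subtype.ext h1)

/-- an explicit pair of non-commuting elements -/
theorem ree_not_comm (hK : Fintype.card K = 3 ^ (2 * m + 1)) :
    reeHm (3 ^ m) (-1 : Kˣ) * reeUel m ((0, 0, 1) : K × K × K) ≠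
      reeUel m ((0, 0, 1) : K × K × K) * reeHm (3 ^ m) (-1 : Kˣ) := by
  have hc := ree_charP hK
  intro h
  have h1 : reeHm (3 ^ m) (-1 : Kˣ) * reeUel m ((0, 0, 1) : K × K × K) * (reeHm (3 ^ m) (-1 : Kˣ))⁻¹ =
      reeUel m ((0, 0, 1) : K × K × K) := by rw [h]; group
  rw [ree_conj hK, torChi_11] at h1
  have h2 := reeUel_inj _ _ h1
  simp only [Prod.mk.injEq, mul_zero, mul_one, true_and, Units.val_neg, Units.val_one] at h2
  have three : (3 : K) = 0 := by
    have := CharP.cast_eq_zero K 3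
    exact_mod_cast this
  have : (1 : K) = 0 := by linear_combination three + h2
  exact one_ne_zero this

/-- `²G₂(q)` is simple for `q > 3` -/
theorem ree_simple (hK : Fintype.card K = 3 ^ (2 * m + 1)) (hm : 1 ≤ m) :
    IsSimpleGroup ↥(twistedG2 K (3 ^ m)) ∧ ¬ IsMulCommutative ↥(twistedG2 K (3 ^ m)) := by
  obtain ⟨P, hB, hN, hS⟩ := ree_bnPair hK
  have hnc : (⟨reeHm (3 ^ m) (-1 : Kˣ), reeHm_mem hK _⟩ : ↥(twistedG2 K (3 ^ m))) *
      ⟨reeUel m ((0, 0, 1) : K × K × K), reeUel_mem _⟩ ≠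
      ⟨reeUel m ((0, 0, 1) : K × K × K), reeUel_mem _⟩ * ⟨reeHm (3 ^ m) (-1 : Kˣ), reeHm_mem hK _⟩ := by
    intro h
    exact ree_not_comm hK (congrArg Subtype.val h)
  have : Nontrivial ↥(twistedG2 K (3 ^ m)) := by
    refine ⟨⟨⟨reeUel m ((0, 0, 1) : K × K × K), reeUel_mem _⟩, 1, ?_⟩⟩
    intro h
    apply hnc
    rw [h, mul_one, one_mul]
  refine ⟨Cfsg.Agent.S0319.result P ?_ ?_ (ree_perfect_group hK hm) ?_, ?_⟩
  · intro J hJ hne hne'
    exfalso
    obtain ⟨s, hs⟩ := hne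
    obtain ⟨s', hs'⟩ := hne'
    rw [hS] at hJ hs'
    have e1 : s = reeNel K m := hJ hs
    have e2 : s' = reeNel K m := hs'.1
    apply hs'.2
    rw [e2, ← e1]; exact hs
  · rw [hB]; exact reeB_solvable
  · rw [hB]; exact ree_core hK
  · intro h
    exact hnc (h.is_comm.comm _ _)

end

end Cfsg.Agent.Lib.Helper36
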