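import Cfsg.Agent.Lib.Helper36.ReeOdd

/-! # The Ree groups `²G₂`: the Sylow 3-subgroups are TI (helper36) -/

set_option autoImplicit false

namespace Cfsg.Agent.Lib.Helper36

open Cfsg Cfsg.Lie Cfsg.Agent.Lib.Helper18

section
variable {K : Type*} [Field K] [Fintype K] {m : ℕ}

omit [Fintype K] in
theorem borel_conj_pos' (b x : GL chevG2.Idx K) (hb : b ∈ chevG2.borelSubgroup K) (hx : x ∈ chevG2.posUnipotent K) :
    b * x * b⁻¹ ∈ chevG2.posUnipotent K := by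
  obtain ⟨u, hu, h, hh, rfl⟩ := (mem_borel_iff chevG2 hG2 K b).1 hb
  have : u * h * x * (u * h)⁻¹ = u * (h * x * h⁻¹) * u⁻¹ := by group
  rw [this]
  exact mul_mem (mul_mem hu (diag_conj_pos h x hh hx)) (inv_mem hu)

/-- an element of `²G₂` outside `B` conjugates no non-trivial element of `U` into `U` -/
theorem ree_ti_aux (hK : Fintype.card K = 3 ^ (2 * m + 1)) (g x : GL chevG2.Idx K)
    (hg : g ∈ twistedG2 K (3 ^ m)) (hgB : g ∉ chevG2.borelSubgroup K)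
    (hx : x ∈ chevG2.posUnipotent K) (hgx : g * x * g⁻¹ ∈ chevG2.posUnipotent K) : x = 1 := by
  have hHB := diagonal_le_borel chevG2 K
  have hUB := pos_le_borel chevG2 K
  rcases ree_cases hK g hg with h | ⟨t, u, v, s, t', u', v', rfl⟩
  · exact absurd h hgB
  · set u₁ := wordGL chevG2 hG2 K (reeWordU (3 ^ m) t u v) with hu₁
    set u₂ := wordGL chevG2 hG2 K (reeWordU (3 ^ m) t' u' v') with hu₂
    set n := reeNN (3 ^ m) (1 : K) with hn
    set h := reeHm (3 ^ m) s with hh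
    have hu₁U : u₁ ∈ chevG2.posUnipotent K := reeU_mem_pos _ _ _ _
    have hu₂U : u₂ ∈ chevG2.posUnipotent K := reeU_mem_pos _ _ _ _
    have hhH : h ∈ chevG2.diagonalSubgroup K := reeHm_mem_diag _ _
    have hb : u₁ * h ∈ chevG2.borelSubgroup K := mul_mem (hUB hu₁U) (hHB hhH)
    have hy : u₂ * x * u₂⁻¹ ∈ chevG2.posUnipotent K := mul_mem (mul_mem hu₂U hx) (inv_mem hu₂U)
    have h1 : n * (u₂ * x * u₂⁻¹) * n⁻¹ ∈ chevG2.negUnipotent K := ree_nn_conj_pos hK _ hy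
    have h2 : n * (u₂ * x * u₂⁻¹) * n⁻¹ ∈ chevG2.borelSubgroup K := by
      have e : n * (u₂ * x * u₂⁻¹) * n⁻¹ = (u₁ * h)⁻¹ * (u₁ * h * n * u₂ * x * (u₁ * h * n * u₂)⁻¹) * (u₁ * h) := by
        group
      rw [e]
      exact mul_mem (mul_mem (inv_mem hb) (hUB hgx)) hb
    have h3 : n * (u₂ * x * u₂⁻¹) * n⁻¹ ∈ chevG2.borelSubgroup K ⊓ chevG2.negUnipotent K := ⟨h2, h1⟩
    rw [borel_inf_neg chevG2 hG2 K, Subgroup.mem_bot] at h3
    have h4 : u₂ * x * u₂⁻¹ = 1 := by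
      have : u₂ * x * u₂⁻¹ = n⁻¹ * (n * (u₂ * x * u₂⁻¹) * n⁻¹) * n := by group
      rw [this, h3]; group
    have : x = u₂⁻¹ * (u₂ * x * u₂⁻¹) * u₂ := by group
    rw [this, h4]; group

/-- `U¹` as a subgroup of `²G₂` -/
def reeU1 (K : Type*) [Field K] (m : ℕ) : Subgroup ↥(twistedG2 K (3 ^ m)) :=
  (chevG2.posUnipotent K).subgroupOf (twistedG2 K (3 ^ m))

omit [Fintype K] in
theorem mem_reeU1 (g : ↥(twistedG2 K (3 ^ m))) : g ∈ reeU1 K m ↔ (g : GL chevG2.Idx K) ∈ chevG2.posUnipotent K :=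
  Iff.rfl

theorem card_reeU1 (hK : Fintype.card K = 3 ^ (2 * m + 1)) : Nat.card ↥(reeU1 K m) = (3 ^ (2 * m + 1)) ^ 3 := by
  rw [← ree_card_pos_inf hK]
  have e := Subgroup.equivMapOfInjective (reeU1 K m) (twistedG2 K (3 ^ m)).subtype Subtype.val_injective
  rw [Nat.card_congr e.toEquiv]
  unfold reeU1
  rw [Subgroup.subgroupOf_map_subtype]

theorem ree_card_factorization (hK : Fintype.card K = 3 ^ (2 * m + 1)) :
    (Nat.card ↥(twistedG2 K (3 ^ m))).factorization 3 = 3 * (2 * m + 1) := by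
  rw [ree_card hK]
  have hq : 0 < 3 ^ (2 * m + 1) := by positivity
  obtain ⟨k, hk⟩ : ∃ k, 3 ^ (2 * m + 1) = 3 * k := ⟨3 ^ (2 * m), by ring⟩
  have h1 : ¬ 3 ∣ 3 ^ (2 * m + 1) - 1 := by omega
  have h2 : ¬ 3 ∣ (3 ^ (2 * m + 1)) ^ 3 + 1 := by
    have : (3 ^ (2 * m + 1)) ^ 3 = 3 * (k * (3 ^ (2 * m + 1)) ^ 2) := by
      rw [pow_succ, hk]; ring
    omega
  have hne1 : 3 ^ (2 * m + 1) - 1 ≠ 0 := by omega
  have hne2 : (3 ^ (2 * m + 1)) ^ 3 + 1 ≠ 0 := by omega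
  have hne3 : (3 ^ (2 * m + 1)) ^ 3 ≠ 0 := by positivity
  rw [Nat.factorization_mul (mul_ne_zero hne3 hne1) hne2, Nat.factorization_mul hne3 hne1]
  simp only [Finsupp.add_apply]
  rw [Nat.factorization_eq_zero_of_not_dvd h1, Nat.factorization_eq_zero_of_not_dvd h2, ← pow_mul,
    Nat.Prime.factorization_pow Nat.prime_three]
  simp
  ring

instance ree_finite : Finite ↥(twistedG2 K (3 ^ m)) := inferInstance

/-- `U¹` is a Sylow 3-subgroup -/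
noncomputable def reeSyl (hK : Fintype.card K = 3 ^ (2 * m + 1)) : Sylow 3 ↥(twistedG2 K (3 ^ m)) :=
  haveI : Fact (Nat.Prime 3) := ⟨Nat.prime_three⟩
  Sylow.ofCard (reeU1 K m) (by rw [card_reeU1 hK, ree_card_factorization hK, ← pow_mul, mul_comm])

theorem reeSyl_coe (hK : Fintype.card K = 3 ^ (2 * m + 1)) :
    ((reeSyl hK : Sylow 3 ↥(twistedG2 K (3 ^ m))) : Subgroup ↥(twistedG2 K (3 ^ m))) = reeU1 K m := rfl

theorem mem_smul_reeSyl (hK : Fintype.card K = 3 ^ (2 * m + 1)) (a x : ↥(twistedG2 K (3 ^ m))) :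
    x ∈ ((a • reeSyl hK : Sylow 3 ↥(twistedG2 K (3 ^ m))) : Subgroup ↥(twistedG2 K (3 ^ m))) ↔
      (a : GL chevG2.Idx K)⁻¹ * x * a ∈ chevG2.posUnipotent K := by
  rw [Sylow.coe_subgroup_smul, Subgroup.mem_pointwise_smul_iff_inv_smul_mem, reeSyl_coe, mem_reeU1]
  simp [MulAut.smul_def]

/-- distinct Sylow 3-subgroups of `²G₂` meet trivially -/
theorem ree_sylow_ti (hK : Fintype.card K = 3 ^ (2 * m + 1)) (P Q : Sylow 3 ↥(twistedG2 K (3 ^ m)))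
    (hPQ : P ≠ Q) : (P : Subgroup ↥(twistedG2 K (3 ^ m))) ⊓ (Q : Subgroup ↥(twistedG2 K (3 ^ m))) = ⊥ := by
  have : Fact (Nat.Prime 3) := ⟨Nat.prime_three⟩
  obtain ⟨a, ha⟩ := MulAction.exists_smul_eq ↥(twistedG2 K (3 ^ m)) (reeSyl hK) P
  obtain ⟨b, hb⟩ := MulAction.exists_smul_eq ↥(twistedG2 K (3 ^ m)) (reeSyl hK) Q
  by_cases hgB : ((a⁻¹ * b : ↥(twistedG2 K (3 ^ m))) : GL chevG2.Idx K) ∈ chevG2.borelSubgroup K
  · exfalso
    apply hPQ
    rw [← ha, ← hb]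
    apply Sylow.ext
    ext x
    rw [mem_smul_reeSyl, mem_smul_reeSyl]
    have hgB' : ((a⁻¹ * b : ↥(twistedG2 K (3 ^ m))) : GL chevG2.Idx K)⁻¹ ∈ chevG2.borelSubgroup K := inv_mem hgB
    simp only [Subgroup.coe_mul, Subgroup.coe_inv] at hgB hgB'
    constructor
    · intro h
      have := borel_conj_pos' _ _ hgB' h
      have e : ((a : GL chevG2.Idx K)⁻¹ * b)⁻¹ * ((a : GL chevG2.Idx K)⁻¹ * x * a) * ((a : GL chevG2.Idx K)⁻¹ * b)⁻¹⁻¹ =
          (b : GL chevG2.Idx K)⁻¹ * x * b := by group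
      rwa [e] at this
    · intro h
      have := borel_conj_pos' _ _ hgB h
      have e : ((a : GL chevG2.Idx K)⁻¹ * b) * ((b : GL chevG2.Idx K)⁻¹ * x * b) * ((a : GL chevG2.Idx K)⁻¹ * b)⁻¹ =
          (a : GL chevG2.Idx K)⁻¹ * x * a := by group
      rwa [e] at this
  · rw [eq_bot_iff]
    intro x hx
    obtain ⟨hxP, hxQ⟩ := Subgroup.mem_inf.1 hx
    rw [← ha, mem_smul_reeSyl] at hxP
    rw [← hb, mem_smul_reeSyl] at hxQ
    have hx1 := ree_ti_aux hK _ _ (a⁻¹ * b).2 hgB hxQ (by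
      simp only [Subgroup.coe_mul, Subgroup.coe_inv]
      have e : ((a : GL chevG2.Idx K)⁻¹ * b) * ((b : GL chevG2.Idx K)⁻¹ * x * b) * ((a : GL chevG2.Idx K)⁻¹ * b)⁻¹ =
          (a : GL chevG2.Idx K)⁻¹ * x * a := by group
      rw [e]; exact hxP)
    rw [Subgroup.mem_bot]
    apply Subtype.ext
    have : (x : GL chevG2.Idx K) = b * ((b : GL chevG2.Idx K)⁻¹ * x * b) * (b : GL chevG2.Idx K)⁻¹ := by group
    rw [this, hx1]
    simp

end

end Cfsg.Agent.Lib.Helper36
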