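import Cfsg.Agent.Lib.Helper36.ReeFixU
import Cfsg.Agent.Lib.Helper36.ChevTwTorus

/-! # The Ree groups `²G₂`: the fixed points of the torus (helper36) -/

set_option autoImplicit false

namespace Cfsg.Agent.Lib.Helper36

open Cfsg Cfsg.Lie Cfsg.Agent.Lib.Helper18

section
variable {K : Type*} [Field K]

/-- the two indices of the fundamental roots -/
def rI0 : Fin chevG2.rank := ⟨0, by decide⟩
def rI1 : Fin chevG2.rank := ⟨1, by decide⟩

theorem rI_cases (j : Fin chevG2.rank) : j = rI0 ∨ j = rI1 := by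
  rcases j with ⟨j, hj⟩
  have : j < 2 := hj
  have : j = 0 ∨ j = 1 := by omega
  rcases this with rfl | rfl
  · left; rfl
  · right; rfl

theorem prod_rI {M : Type*} [CommMonoid M] (f : Fin chevG2.rank → M) : ∏ j, f j = f rI0 * f rI1 := by
  exact Fin.prod_univ_two (M := M) f

/-- the torus element with coordinates `(a, b)` -/
def torPair (a b : Kˣ) : Fin chevG2.rank → Kˣ := fun j => if j.val = 0 then a else b

theorem torPair_mul (a b a' b' : Kˣ) : torPair a b * torPair a' b' = torPair (a * a') (b * b') := by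
  funext j
  simp only [Pi.mul_apply, torPair]
  split_ifs <;> rfl

theorem torPair_eta (c : Fin chevG2.rank → Kˣ) : c = torPair (c rI0) (c rI1) := by
  funext j
  rcases rI_cases j with rfl | rfl
  · rfl
  · rfl

theorem torusHom_torPair (a b : Kˣ) :
    torusHom chevG2 K (torPair a b) = hGL chevG2 hG2 K 7 (a : K) * hGL chevG2 hG2 K 6 (b : K) := by
  have h : torPair a b = Pi.mulSingle rI0 a * Pi.mulSingle rI1 b := by
    funext j
    rcases rI_cases j with rfl | rfl
    · simp [torPair, rI0, rI1]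
    · simp [torPair, rI0, rI1]
  rw [h, map_mul, torusHom_mulSingle chevG2 hG2, torusHom_mulSingle chevG2 hG2]
  rfl

/-- the action of the torus on the root subgroups -/
theorem torPair_conj (a b : Kˣ) (r : ℕ) (hr : r < 12) (u : K) :
    torusHom chevG2 K (torPair a b) * xGL chevG2 hG2 K r u * (torusHom chevG2 K (torPair a b))⁻¹ =
      xGL chevG2 hG2 K r (((a : K) ^ chevG2.cartan 0 r * (b : K) ^ chevG2.cartan 1 r) * u) := by
  rw [torusHom_conj_xGL chevG2 hG2 K _ r hr u, prod_rI]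
  rfl

theorem torusHom_torPair_inj (a b a' b' : Kˣ)
    (h : torusHom chevG2 K (torPair a b) = torusHom chevG2 K (torPair a' b')) : a = a' ∧ b = b' := by
  have h9 := torPair_conj a b 9 (by decide) 1
  have h11 := torPair_conj a b 11 (by decide) 1
  rw [h, torPair_conj a' b' 9 (by decide) 1] at h9
  rw [h, torPair_conj a' b' 11 (by decide) 1] at h11
  have c9 : chevG2.cartan 0 9 = 1 ∧ chevG2.cartan 1 9 = 0 := by decide
  have c11 : chevG2.cartan 0 11 = 0 ∧ chevG2.cartan 1 11 = 1 := by decide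
  rw [c9.1, c9.2] at h9
  rw [c11.1, c11.2] at h11
  simp only [zpow_one, zpow_zero, mul_one, one_mul] at h9 h11
  have x_inj : ∀ (r : ℕ) (hr : r < 12) (s t : K), xGL chevG2 hG2 K r s = xGL chevG2 hG2 K r t → s = t := by
    intro r hr s t e
    have h2 : xGL chevG2 hG2 K r (s - t) = 1 := by
      rw [sub_eq_add_neg, xGL_add, ← xGL_inv, e, mul_inv_cancel]
    have h3 := x_eq_one_iff chevG2 hG2 K r hr _ (by rw [← xGL_coe chevG2 hG2 K, h2, Units.val_one])
    exact sub_eq_zero.1 h3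
  exact ⟨Units.ext (x_inj 9 (by decide) _ _ h9.symm), Units.ext (x_inj 11 (by decide) _ _ h11.symm)⟩

theorem ree_hGL_one (r : ℕ) : hGL chevG2 hG2 K r 1 = 1 := by
  rw [hGL_eq, ← nGL_inv', mul_inv_cancel]

theorem exists_torPair (h : GL chevG2.Idx K) (hh : h ∈ chevG2.diagonalSubgroup K) :
    ∃ a b : Kˣ, h = torusHom chevG2 K (torPair a b) := by
  rw [← torusHom_range chevG2 hG2 K] at hh
  obtain ⟨c, rfl⟩ := hh
  exact ⟨c rI0, c rI1, by rw [← torPair_eta]⟩

theorem torPair_mem_diag (a b : Kˣ) : torusHom chevG2 K (torPair a b) ∈ chevG2.diagonalSubgroup K :=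
  torusHom_mem_diag chevG2 hG2 K _

theorem sgl_torPair {θ : ℕ} {σ : ↥(chevG2.group K) →* ↥(chevG2.group K)} (hσ : IsReeSig K θ σ) (hθ : Odd θ)
    (a b : Kˣ) :
    sgl σ (torusHom chevG2 K (torPair a b)) = torusHom chevG2 K (torPair (b ^ θ) (a ^ (θ * 3))) := by
  have hm : ∀ (r : ℕ) (c : K), hGL chevG2 hG2 K r c ∈ chevG2.group K := fun r c =>
    wordGL_mem chevG2 hG2 K _ _ (fun q _ => xGL_mem_group chevG2 hG2 K _ _)
  rw [torusHom_torPair, sgl_mul σ _ _ (hm _ _) (hm _ _), sgl_hGL hσ hθ 7 (by decide), sgl_hGL hσ hθ 6 (by decide)]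
  have e1 : rhoG2.getD 7 0 = 6 := rfl
  have e2 : rhoG2.getD 6 0 = 7 := rfl
  have e3 : lamG2.getD 7 0 = 3 := rfl
  have e4 : lamG2.getD 6 0 = 1 := rfl
  rw [e1, e2, e3, e4, mul_one]
  have h6 : hGL chevG2 hG2 K 6 ((a : K) ^ (θ * 3)) = torusHom chevG2 K (torPair 1 (a ^ (θ * 3))) := by
    rw [torusHom_torPair, Units.val_one, ree_hGL_one, one_mul, Units.val_pow_eq_pow_val]
  have h7 : hGL chevG2 hG2 K 7 ((b : K) ^ θ) = torusHom chevG2 K (torPair (b ^ θ) 1) := by
    rw [torusHom_torPair, Units.val_one, ree_hGL_one, mul_one, Units.val_pow_eq_pow_val]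
  rw [h6, h7, ← map_mul, torPair_mul, one_mul, mul_one]

end

section fin
variable {K : Type*} [Field K] [Fintype K] {m : ℕ} {σ : ↥(chevG2.group K) →* ↥(chevG2.group K)}

omit [Fintype K] in
/-- the fixed points of the twisting endomorphism on `H` -/
theorem fix_diag (hσ : IsReeSig K (3 ^ m) σ)
    (h : GL chevG2.Idx K) (hh : h ∈ chevG2.diagonalSubgroup K) (hfix : sgl σ h = h) :
    ∃ t : Kˣ, h = torusHom chevG2 K (torPair (t ^ 3 ^ m) t) := by
  obtain ⟨a, b, rfl⟩ := exists_torPair h hh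
  rw [sgl_torPair hσ (ree_odd m)] at hfix
  obtain ⟨h1, -⟩ := torusHom_torPair_inj _ _ _ _ hfix
  exact ⟨b, by rw [h1]⟩

theorem reeH_fixed (hK : Fintype.card K = 3 ^ (2 * m + 1)) (hσ : IsReeSig K (3 ^ m) σ) (t : Kˣ) :
    sgl σ (torusHom chevG2 K (torPair (t ^ 3 ^ m) t)) = torusHom chevG2 K (torPair (t ^ 3 ^ m) t) := by
  rw [sgl_torPair hσ (ree_odd m)]
  congr 2
  apply Units.ext
  rw [Units.val_pow_eq_pow_val, Units.val_pow_eq_pow_val]
  exact ree_F1 hK _

end fin

end Cfsg.Agent.Lib.Helper36
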