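import Cfsg.Agent.Lib.Helper66.S3Defs
import Cfsg.Agent.Lib.Helper66.S3.HH

/-! # S3 hive (S4305, helper66): back half of leaf S3-ZS (`zs_core`), written by helper36

Given `c = h (σ h)⁻¹` with `c ^ r` trivial on the `σ`-fixed-point-free `H`-invariant module `W`, and
`z = [c, σ c]` central, `z ^ r = 1`, `z` fixed-point-free on `W`: then `W = 1`. -/

set_option autoImplicit false

namespace Cfsg.Agent.Lib.Helper66.S3

open scoped commutatorElement

section zscore

variable {H V : Type*} [Group H] [CommGroup V] [MulDistribMulAction H V]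

/-- The `r`-norm of `w` under `x`. -/
def zsNrm (r : ℕ) (x : H) (w : V) : V := ∏ k ∈ Finset.range r, (x ^ k) • w

theorem zscore_nrm_mem (W : Subgroup V) (hWH : ∀ h : H, ∀ w ∈ W, h • w ∈ W) (r : ℕ) (x : H)
    (w : V) (hw : w ∈ W) : zsNrm r x w ∈ W :=
  Subgroup.prod_mem W (fun _ _ => hWH _ _ hw)

theorem zscore_nrm_fixed (r : ℕ) (x : H) (w : V) (hx : (x ^ r) • w = w) :
    x • zsNrm r x w = zsNrm r x w := by
  unfold zsNrm
  have h1 : x • ∏ k ∈ Finset.range r, (x ^ k) • w = ∏ k ∈ Finset.range r, (x ^ (k + 1)) • w := by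
    rw [Finset.smul_prod']
    refine Finset.prod_congr rfl (fun k _ => ?_)
    rw [← mul_smul, ← pow_succ']
  rw [h1]
  have h2 := Finset.prod_range_succ (fun k => (x ^ k) • w) r
  have h3 := Finset.prod_range_succ' (fun k => (x ^ k) • w) r
  simp only [pow_zero, one_smul] at h3
  rw [h2, hx] at h3
  exact (mul_right_cancel h3).symm

theorem zscore_pow_fixed (x : H) (u : V) (hx : x • u = u) (m : ℕ) : (x ^ m) • u = u := by
  induction m with
  | zero => rw [pow_zero, one_smul]
  | succ m ih => rw [pow_succ, mul_smul, hx, ih]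

end zscore

/-- Back half of ZS. -/
theorem zs_core {H V : Type*} [Group H] [CommGroup V] [Finite V] [MulDistribMulAction A3 H]
    [MulDistribMulAction A3 V] [MulDistribMulAction H V]
    (compat : ∀ (a : A3) (h : H) (v : V), a • (h • v) = (a • h) • (a • v))
    (W : Subgroup V) (hWH : ∀ h : H, ∀ w ∈ W, h • w ∈ W) (hWs : ∀ w ∈ W, sig • w ∈ W)
    (hfix : ∀ w ∈ W, sig • w = w → w = 1)
    (p r : ℕ) (hr : r.Prime) (hrp : r.Coprime p) (hexp : ∀ w ∈ W, w ^ p = 1)
    (h z : H) (hz : z = ⁅h * (sig • h)⁻¹, sig • (h * (sig • h)⁻¹)⁆)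
    (hzc : ∀ x : H, z * x = x * z) (hzr : z ^ r = 1)
    (hzfpf : ∀ w ∈ W, z • w = w → w = 1)
    (hcr : ∀ w ∈ W, ((h * (sig • h)⁻¹) ^ r) • w = w) : W = ⊥ := by
  set c : H := h * (sig • h)⁻¹ with hc
  set d : H := sig • c with hd
  rw [Subgroup.eq_bot_iff_forall]
  intro w hw
  by_contra hw1
  -- z ^ j central
  have hzjc : ∀ (j : ℕ) (x : H), z ^ j * x = x * z ^ j := by
    intro j x
    exact ((Commute.pow_left (hzc x) j)).eq
  -- Step A: `z ^ k` is fixed-point-free on `W` for `0 < k < r`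
  have hzk : ∀ k, 0 < k → k < r → ∀ u ∈ W, (z ^ k) • u = u → u = 1 := by
    intro k hk0 hkr u hu hfixu
    have hcop : Nat.Coprime k r := by
      rw [Nat.coprime_comm]
      exact (Nat.Prime.coprime_iff_not_dvd hr).2 (Nat.not_dvd_of_pos_of_lt hk0 hkr)
    obtain ⟨m, -, hm⟩ := Nat.exists_mul_mod_eq_one_of_coprime hcop hr.one_lt
    have hzz : z = (z ^ k) ^ m := by
      rw [← pow_mul, pow_eq_pow_mod (k * m) hzr, hm, pow_one]
    apply hzfpf u hu
    rw [hzz]
    exact zscore_pow_fixed _ _ hfixu m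
  -- Step B: the `z ^ k`-norm vanishes on `W`
  have hNz : ∀ k, 0 < k → k < r → ∀ u ∈ W, zsNrm r (z ^ k) u = 1 := by
    intro k hk0 hkr u hu
    apply hzk k hk0 hkr _ (zscore_nrm_mem W hWH r _ u hu)
    apply zscore_nrm_fixed
    rw [← pow_mul, mul_comm, pow_mul, hzr, one_pow, one_smul]
  -- Step C: the inner products
  have hpow : ∀ j k : ℕ, (c * z ^ j) ^ k = c ^ k * (z ^ k) ^ j := by
    intro j k
    have hcomm : Commute c (z ^ j) := (hzjc j c).symm
    rw [hcomm.mul_pow, ← pow_mul, ← pow_mul, mul_comm j k]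
  have hinner : ∀ k, 0 < k → k < r →
      ∏ j ∈ Finset.range r, ((c * z ^ j) ^ k) • w = 1 := by
    intro k hk0 hkr
    have : ∏ j ∈ Finset.range r, ((c * z ^ j) ^ k) • w
        = (c ^ k) • zsNrm r (z ^ k) w := by
      unfold zsNrm
      rw [Finset.smul_prod']
      refine Finset.prod_congr rfl (fun j _ => ?_)
      rw [hpow, mul_smul]
    rw [this, hNz k hk0 hkr w hw, smul_one]
  -- Step D: the product of the norms is `w ^ r`
  have hprod : ∏ j ∈ Finset.range r, zsNrm r (c * z ^ j) w = w ^ r := by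
    unfold zsNrm
    rw [Finset.prod_comm]
    rw [Finset.prod_eq_single 0]
    · simp only [pow_zero, one_smul, Finset.prod_const, Finset.card_range]
    · intro k hk hk0
      exact hinner k (Nat.pos_of_ne_zero hk0) (Finset.mem_range.mp hk)
    · intro h0
      exact absurd (Finset.mem_range.mpr hr.pos) h0
  -- Step E: some norm is nontrivial
  have hex : ∃ j, zsNrm r (c * z ^ j) w ≠ 1 := by
    by_contra hall
    push Not at hall
    have hwr : w ^ r = 1 := by
      rw [← hprod]
      exact Finset.prod_eq_one (fun j _ => hall j)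
    have h1 : orderOf w ∣ r := orderOf_dvd_of_pow_eq_one hwr
    have h2 : orderOf w ∣ p := orderOf_dvd_of_pow_eq_one (hexp w hw)
    have h3 : orderOf w ∣ 1 := by
      have := Nat.dvd_gcd h1 h2
      rwa [Nat.Coprime.gcd_eq_one hrp] at this
    exact hw1 (orderOf_eq_one_iff.mp (Nat.dvd_one.mp h3))
  obtain ⟨j, hj⟩ := hex
  set v : V := zsNrm r (c * z ^ j) w with hv
  have hvW : v ∈ W := zscore_nrm_mem W hWH r _ w hw
  -- Step F: `v` is fixed by `c z^j`
  have hvfix : (c * z ^ j) • v = v := by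
    apply zscore_nrm_fixed
    rw [hpow, hzr, one_pow, mul_one]
    exact hcr w hw
  -- Step G: conjugation
  have hconj1 : d⁻¹ * c * d = c * z := by
    have e1 : z * d * c = c * d := by
      rw [hz]
      simp only [commutatorElement_def]
      group
    have e2 : c * d = d * c * z := by
      rw [← e1, mul_assoc, hzc (d * c)]
    rw [mul_assoc, e2]
    group
  have hconj : ∀ i : ℕ, (d ^ i)⁻¹ * c * d ^ i = c * z ^ i := by
    intro i
    induction i with
    | zero => simp
    | succ i ih =>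
      have : (d ^ (i + 1))⁻¹ * c * d ^ (i + 1) = d⁻¹ * ((d ^ i)⁻¹ * c * d ^ i) * d := by
        rw [pow_succ]
        group
      rw [this, ih]
      have : d⁻¹ * (c * z ^ i) * d = (d⁻¹ * c * d) * z ^ i := by
        rw [mul_assoc d⁻¹ (c * z ^ i) d, mul_assoc c (z ^ i) d, hzjc i d]
        group
      rw [this, hconj1, mul_assoc, ← pow_succ']
  set v' : V := (d ^ j) • v with hv'
  have hv'W : v' ∈ W := hWH _ _ hvW
  have hv'1 : v' ≠ 1 := by
    intro h1
    apply hj
    have : v = (d ^ j)⁻¹ • v' := by rw [hv', inv_smul_smul]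
    rw [this, h1, smul_one]
  have hcv' : c • v' = v' := by
    have h1 : ((d ^ j)⁻¹ * c * d ^ j) • v = v := by rw [hconj j]; exact hvfix
    rw [mul_smul, mul_smul] at h1
    have h2 := congrArg (fun t => (d ^ j) • t) h1
    simp only [smul_inv_smul] at h2
    exact h2
  -- Step H: HH
  have hdv' : d • v' = v' := lemHH compat W hWH hWs hfix h v' hv'W hcv'
  have hzv' : z • v' = v' := by
    have hci : c⁻¹ • v' = v' := by
      rw [inv_smul_eq_iff, hcv']
    have hdi : d⁻¹ • v' = v' := by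
      rw [inv_smul_eq_iff, hdv']
    rw [hz]
    simp only [commutatorElement_def]
    rw [mul_smul, mul_smul, mul_smul, hdi, hci, hdv', hcv']
  exact hv'1 (hzfpf v' hv'W hzv')

end Cfsg.Agent.Lib.Helper66.S3
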