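import Cfsg.Agent.Lib.Helper66.S3Defs
import Cfsg.Agent.Lib.Helper36.S3ZScore

/-! # S3 hive (S4305, helper66): assembly of leaf S3-ZS (`configZ_sigfix`) from the other leaves
(as explicit hypotheses, exactly in their skeleton shape) and `zs_core`.  Written by helper36. -/

set_option autoImplicit false

namespace Cfsg.Agent.Lib.Helper66.S3

open scoped commutatorElement

universe u

section zsasm

variable {H V : Type u} [Group H] [CommGroup V] [MulDistribMulAction A3 H]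
  [MulDistribMulAction A3 V] [MulDistribMulAction H V] {p r : ℕ} {F : Subgroup H}

/-- The subgroup of vectors fixed by `x`. -/
def zsFix (x : H) : Subgroup V where
  carrier := {v | x • v = v}
  one_mem' := smul_one x
  mul_mem' := by
    intro a b ha hb
    show x • (a * b) = a * b
    rw [smul_mul', ha, hb]
  inv_mem' := by
    intro a ha
    show x • a⁻¹ = a⁻¹
    rw [smul_inv', ha]

/-- The commutator subgroup is invariant under the acting group. -/
theorem zsasm_comm_inv (a : A3) (w : H) (hw : w ∈ commutator H) : a • w ∈ commutator H := by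
  have hchar : (commutator H).Characteristic := inferInstance
  have := (Subgroup.characteristic_iff_map_eq.mp hchar) (MulDistribMulAction.toMulEquiv H a)
  rw [← this]
  exact ⟨w, hw, rfl⟩

/-- `z ∉ C` for a nontrivial commutator `z` (configuration Z). -/
theorem zsasm_not_mem (cfg : Config H V p r F)
    (hD1 : ∀ (C : Subgroup H) (c : H), c ∈ C → ∀ v : V, v ∈ comp F C → c • v = v)
    (hD5 : ⨆ C : Subgroup H, comp (V := V) F C = ⊤)
    (hD7 : ∀ C C' : Subgroup H, comp (V := V) F C ≠ ⊥ → comp (V := V) F C' ≠ ⊥ →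
      ∃ (a : A3) (h : H), C' = mapA a (mapH h C))
    (hZF : ∀ (h : H) (C : Subgroup H), comp (V := V) F C ≠ ⊥ → mapH h C = C)
    (z0 : H) (hz0r : z0 ^ r = 1) (hz0gen : ∀ w ∈ commutator H, ∃ k : ℕ, w = z0 ^ k)
    (C : Subgroup H) (hC0 : comp (V := V) F C ≠ ⊥)
    (z : H) (hz : z ∈ commutator H) (hz1 : z ≠ 1) : z ∉ C := by
  intro hzC
  -- `z0 ∈ C`
  obtain ⟨k, hk⟩ := hz0gen z hz
  have hr := cfg.rprime
  have hkr : ¬ r ∣ k := by
    rintro ⟨m, rfl⟩
    apply hz1
    rw [hk, pow_mul, hz0r, one_pow]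
  have hcop : Nat.Coprime k r := by
    rw [Nat.coprime_comm]
    exact (Nat.Prime.coprime_iff_not_dvd hr).2 hkr
  obtain ⟨m, -, hm⟩ := Nat.exists_mul_mod_eq_one_of_coprime hcop hr.one_lt
  have hz0C : z0 ∈ C := by
    have : z0 = z ^ m := by
      rw [hk, ← pow_mul, pow_eq_pow_mod (k * m) hz0r, hm, pow_one]
    rw [this]
    exact C.pow_mem hzC m
  have hcommC : ∀ w ∈ commutator H, w ∈ C := by
    intro w hw
    obtain ⟨k', rfl⟩ := hz0gen w hw
    exact C.pow_mem hz0C k'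
  -- `z` fixes every component
  have hall : ∀ C' : Subgroup H, comp (V := V) F C' ≤ zsFix z := by
    intro C'
    by_cases hC' : comp (V := V) F C' = ⊥
    · rw [hC']; exact bot_le
    · obtain ⟨a, h, rfl⟩ := hD7 C C' hC0 hC'
      rw [hZF h C hC0] at hC' ⊢
      intro v hv
      have hzmem : z ∈ mapA a C := by
        refine ⟨a⁻¹ • z, hcommC _ (zsasm_comm_inv a⁻¹ z hz), ?_⟩
        show a • (a⁻¹ • z) = z
        rw [smul_inv_smul]
      exact hD1 (mapA a C) z hzmem v hv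
  have htop : (⊤ : Subgroup V) ≤ zsFix z := by
    rw [← hD5]
    exact iSup_le hall
  have hz1' : z = 1 := cfg.faithful z (fun v => htop (Subgroup.mem_top v))
  exact hz1 hz1'

/-- ZS from the other leaves. -/
theorem zs_assembly (cfg : Config H V p r F) (hcent : ∀ h : H, ∀ f ∈ F, h * f = f * h)
    (hrp : r ≠ p)
    (hD1 : ∀ (C : Subgroup H) (c : H), c ∈ C → ∀ v : V, v ∈ comp F C → c • v = v)
    (hD2 : ∀ (C : Subgroup H) (f : H), f ∈ F → f ∉ C → ∀ v : V, v ∈ comp F C → f • v = v → v = 1)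
    (hD3 : ∀ (C : Subgroup H) (h : H) (v : V), v ∈ comp F C → h • v ∈ comp F (mapH h C))
    (hD4 : ∀ (C : Subgroup H) (a : A3) (v : V), v ∈ comp F C → a • v ∈ comp F (mapA a C))
    (hD5 : ⨆ C : Subgroup H, comp (V := V) F C = ⊤)
    (hD7 : ∀ C C' : Subgroup H, comp (V := V) F C ≠ ⊥ → comp (V := V) F C' ≠ ⊥ →
      ∃ (a : A3) (h : H), C' = mapA a (mapH h C))
    (hZF : ∀ (h : H) (C : Subgroup H), comp (V := V) F C ≠ ⊥ → mapH h C = C)
    (hZZ : ∃ z ∈ commutator H, z ≠ 1 ∧ z ^ r = 1 ∧ sig • z = z ∧ tau • z = z⁻¹ ∧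
      ∀ w ∈ commutator H, ∃ k : ℕ, w = z ^ k)
    (hSL : ∀ C : Subgroup H, comp (V := V) F C ≠ ⊥ → mapA sig C = C →
      (∀ v ∈ comp (V := V) F C, sig • v = v → v = 1) → ∀ f ∈ F, f⁻¹ * sig • f ∈ C)
    (hF1 : ∀ x y : H, (∀ g : H, (x * y * x⁻¹ * y⁻¹) * g = g * (x * y * x⁻¹ * y⁻¹)) →
      (x * y * x⁻¹ * y⁻¹) ^ r = 1 → (x * y) ^ r = x ^ r * y ^ r)
    (hF3 : ∃ h : H, (h * (sig • h)⁻¹) * (sig • (h * (sig • h)⁻¹)) * (h * (sig • h)⁻¹)⁻¹ *
      (sig • (h * (sig • h)⁻¹))⁻¹ ≠ 1)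
    (C : Subgroup H) (hC0 : comp (V := V) F C ≠ ⊥) (hC : mapA sig C = C) :
    ∃ v ∈ comp (V := V) F C, v ≠ 1 ∧ sig • v = v := by
  by_contra hno
  push Not at hno
  have hfix : ∀ v ∈ comp (V := V) F C, sig • v = v → v = 1 := by
    intro v hv hsv
    by_contra hv1
    exact hno v hv hv1 hsv
  have hWH : ∀ h : H, ∀ w ∈ comp (V := V) F C, h • w ∈ comp (V := V) F C := by
    intro h w hw
    have := hD3 C h w hw
    rwa [hZF h C hC0] at this
  have hWs : ∀ w ∈ comp (V := V) F C, sig • w ∈ comp (V := V) F C := by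
    intro w hw
    have := hD4 C sig w hw
    rwa [hC] at this
  have hSLf := hSL C hC0 hC hfix
  obtain ⟨h, hne⟩ := hF3
  obtain ⟨z0, hz0mem, hz0ne, hz0r, hz0s, hz0t, hz0gen⟩ := hZZ
  set c : H := h * (sig • h)⁻¹ with hc
  set d : H := sig • c with hd
  set z : H := c * d * c⁻¹ * d⁻¹ with hz
  have hzmem : z ∈ commutator H := by
    rw [commutator_def]
    have := Subgroup.commutator_mem_commutator (Subgroup.mem_top c) (Subgroup.mem_top d)
    rwa [commutatorElement_def] at this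
  have hcommF : ∀ w ∈ commutator H, w ∈ F := fun w hw => cfg.quot_comm hw
  have hcommc : ∀ w ∈ commutator H, ∀ x : H, w * x = x * w :=
    fun w hw x => (hcent x w (hcommF w hw)).symm
  have hcommr : ∀ w ∈ commutator H, w ^ r = 1 := by
    intro w hw
    obtain ⟨k, rfl⟩ := hz0gen w hw
    rw [← pow_mul, mul_comm, pow_mul, hz0r, one_pow]
  have hznC : z ∉ C :=
    zsasm_not_mem cfg hD1 hD5 hD7 hZF z0 hz0r hz0gen C hC0 z hzmem hne
  have hzfpf : ∀ w ∈ comp (V := V) F C, z • w = w → w = 1 :=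
    fun w hw hzw => hD2 C z (hcommF z hzmem) hznC w hw hzw
  -- `c ^ r ∈ C`
  have hcrC : c ^ r ∈ C := by
    have hk : h * (sig • h)⁻¹ * h⁻¹ * ((sig • h)⁻¹)⁻¹ ∈ commutator H := by
      rw [commutator_def]
      have := Subgroup.commutator_mem_commutator (Subgroup.mem_top h)
        (Subgroup.mem_top ((sig • h)⁻¹))
      rwa [commutatorElement_def] at this
    have e1 : c ^ r = h ^ r * ((sig • h)⁻¹) ^ r :=
      hF1 h (sig • h)⁻¹ (hcommc _ hk) (hcommr _ hk)
    have hf : h ^ r ∈ F := cfg.quot_exp h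
    have hsf : sig • (h ^ r) ∈ F := cfg.FA sig _ hf
    have e2 : ((sig • h)⁻¹) ^ r = (sig • (h ^ r))⁻¹ := by
      rw [inv_pow, smul_pow']
    have e3 : c ^ r = ((h ^ r)⁻¹ * sig • (h ^ r))⁻¹ := by
      rw [e1, e2, mul_inv_rev, inv_inv]
      exact cfg.Fcomm _ hf _ (F.inv_mem hsf)
    rw [e3]
    exact C.inv_mem (hSLf _ hf)
  have hcr : ∀ w ∈ comp (V := V) F C, (c ^ r) • w = w :=
    fun w hw => hD1 C _ hcrC w hw
  have hfin : Finite V := cfg.hyp.finV
  have hbot : comp (V := V) F C = ⊥ :=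
    zs_core cfg.hyp.compat (comp (V := V) F C) hWH hWs hfix p r cfg.rprime
      ((Nat.coprime_primes cfg.rprime cfg.pprime).2 hrp) (fun w _ => cfg.Vexp w) h z
      (by rw [commutatorElement_def]) (hcommc z hzmem) (hcommr z hzmem) hzfpf hcr
  exact hC0 hbot

end zsasm

end Cfsg.Agent.Lib.Helper66.S3
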