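import Cfsg.Agent.Lib.Helper66.S3Defs

/-! # S3 hive (S4305, helper66), leaf S3-ZS, sub-lemma F2 (helper36's copy):
in configuration Z, `σ` is fixed-point-free on `H/F`. -/

set_option autoImplicit false

namespace Cfsg.Agent.Lib.Helper66.S3

universe u

section zsfpf

variable {H V : Type u} [Group H] [CommGroup V] [MulDistribMulAction A3 H]
  [MulDistribMulAction A3 V] [MulDistribMulAction H V] {p r : ℕ} {F : Subgroup H}

theorem zs36_A3_cases (a : A3) : a = 1 ∨ a = sig ∨ a = sig * sig ∨ a = tau ∨ a = sig * tau ∨
    a = sig * sig * tau := by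
  revert a; decide

theorem zs36_conj_sig (a : A3) : sig * a = a * sig ∨ sig * a = a * (sig * sig) := by
  revert a; decide

/-- A subgroup invariant under `σ` and `τ` is invariant under `A3`. -/
theorem zs36_inv_of_gen (L : Subgroup H) (hs : ∀ l ∈ L, sig • l ∈ L) (ht : ∀ l ∈ L, tau • l ∈ L)
    (a : A3) (l : H) (hl : l ∈ L) : a • l ∈ L := by
  rcases zs36_A3_cases a with rfl | rfl | rfl | rfl | rfl | rfl
  · rwa [one_smul]
  · exact hs l hl
  · rw [mul_smul]; exact hs _ (hs l hl)
  · exact ht l hl
  · rw [mul_smul]; exact hs _ (ht l hl)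
  · rw [mul_smul, mul_smul]; exact hs _ (hs _ (ht l hl))

/-- F2: `σ` is fixed-point-free on `H/F` in configuration Z. -/
theorem zs36_sig_fpf_quot (cfg : Config H V p r F) (hcent : ∀ h : H, ∀ f ∈ F, h * f = f * h)
    (h : H) (hh : h⁻¹ * sig • h ∈ F) : h ∈ F := by
  have hFn : F.Normal := cfg.Fnormal
  -- the subgroup of `σ`-fixed points modulo `F`
  let M : Subgroup H :=
    { carrier := {g | g⁻¹ * sig • g ∈ F}
      one_mem' := by
        show (1 : H)⁻¹ * sig • (1 : H) ∈ F
        rw [smul_one, inv_one, one_mul]; exact F.one_mem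
      mul_mem' := by
        intro a b ha hb
        show (a * b)⁻¹ * sig • (a * b) ∈ F
        have e : (a * b)⁻¹ * sig • (a * b) = b⁻¹ * (a⁻¹ * sig • a) * b⁻¹⁻¹ * (b⁻¹ * sig • b) := by
          rw [smul_mul']; group
        rw [e]
        exact F.mul_mem (hFn.conj_mem _ ha _) hb
      inv_mem' := by
        intro a ha
        show (a⁻¹)⁻¹ * sig • a⁻¹ ∈ F
        have e : (a⁻¹)⁻¹ * sig • a⁻¹ = a * (a⁻¹ * sig • a)⁻¹ * a⁻¹ := by
          rw [smul_inv']; group
        rw [e]
        exact hFn.conj_mem _ (F.inv_mem ha) _ }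
  have hMmem : ∀ g : H, g ∈ M ↔ g⁻¹ * sig • g ∈ F := fun g => Iff.rfl
  have hFM : F ≤ M := by
    intro f hf
    rw [hMmem]
    exact F.mul_mem (F.inv_mem hf) (cfg.FA sig f hf)
  have hM2 : ∀ m ∈ M, m⁻¹ * (sig * sig) • m ∈ F := by
    intro m hm
    have e : m⁻¹ * (sig * sig) • m = (m⁻¹ * sig • m) * sig • (m⁻¹ * sig • m) := by
      rw [mul_smul, smul_mul', smul_inv']; group
    rw [e]
    exact F.mul_mem hm (cfg.FA sig _ hm)
  have hMA : ∀ a : A3, ∀ m ∈ M, a • m ∈ M := by
    intro a m hm
    rw [hMmem]
    rcases zs36_conj_sig a with hsa | hsa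
    · have e : (a • m)⁻¹ * sig • (a • m) = a • (m⁻¹ * sig • m) := by
        rw [← mul_smul, hsa, mul_smul, smul_mul', smul_inv']
      rw [e]; exact cfg.FA a _ hm
    · have e : (a • m)⁻¹ * sig • (a • m) = a • (m⁻¹ * (sig * sig) • m) := by
        rw [← mul_smul sig a, hsa, mul_smul a, smul_mul', smul_inv']
      rw [e]; exact cfg.FA a _ (hM2 m hm)
  rcases cfg.quot_irr M hFM hMA with hMF | hMtop
  · rw [← hMF]; exact hh
  · exfalso
    -- `σ` is trivial modulo `F`
    have hsF : ∀ g : H, g⁻¹ * sig • g ∈ F := by
      intro g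
      have : g ∈ M := by rw [hMtop]; exact Subgroup.mem_top g
      exact this
    -- an element outside `F`
    have hex : ∃ g : H, g ∉ F := by
      by_contra hall
      push Not at hall
      exact cfg.Fne (Subgroup.eq_top_iff' F |>.mpr hall)
    obtain ⟨g, hg⟩ := hex
    -- a `τ`-eigenvector modulo `F`
    have hcomm : ∀ a b : H, a * b * a⁻¹ * b⁻¹ ∈ F := by
      intro a b
      apply cfg.quot_comm
      rw [commutator_def]
      have := Subgroup.commutator_mem_commutator (Subgroup.mem_top a) (Subgroup.mem_top b)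
      rwa [commutatorElement_def] at this
    have htt : ∀ x : H, tau • tau • x = x := by
      intro x
      rw [← mul_smul]
      have : tau * tau = 1 := by decide
      rw [this, one_smul]
    obtain ⟨u, huF, hu⟩ : ∃ u : H, u ∉ F ∧ (u⁻¹ * tau • u ∈ F ∨ u * tau • u ∈ F) := by
      by_cases hgt : g * tau • g ∈ F
      · exact ⟨g, hg, Or.inr hgt⟩
      · refine ⟨g * tau • g, hgt, Or.inl ?_⟩
        have e : (g * tau • g)⁻¹ * tau • (g * tau • g)
            = (tau • g)⁻¹ * (g⁻¹ * tau • g * g * (tau • g)⁻¹) * (tau • g) := by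
          rw [smul_mul', htt]; group
        rw [e]
        apply hFn.conj_mem' 
        have := hcomm g⁻¹ (tau • g)
        simpa using this
    -- the subgroup generated by `F` and `u`
    set L : Subgroup H := F ⊔ Subgroup.zpowers u with hL
    have hFL : F ≤ L := le_sup_left
    have huL : u ∈ L := (le_sup_right : Subgroup.zpowers u ≤ L) (Subgroup.mem_zpowers u)
    have hclos : ∀ (φ : H →* H), (∀ f ∈ F, φ f ∈ F) → φ u ∈ L → ∀ l ∈ L, φ l ∈ L := by
      intro φ hφF hφu l hl
      have : L ≤ L.comap φ := by
        rw [hL]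
        refine sup_le ?_ ?_
        · intro f hf
          exact hFL (hφF f hf)
        · rw [Subgroup.zpowers_le]
          exact hφu
      exact this hl
    have hLs : ∀ l ∈ L, sig • l ∈ L := by
      intro l hl
      refine hclos (MulDistribMulAction.toMonoidEnd A3 H sig) (fun f hf => cfg.FA sig f hf) ?_ l hl
      show sig • u ∈ L
      have : sig • u = u * (u⁻¹ * sig • u) := by group
      rw [this]
      exact L.mul_mem huL (hFL (hsF u))
    have hLt : ∀ l ∈ L, tau • l ∈ L := by
      intro l hl
      refine hclos (MulDistribMulAction.toMonoidEnd A3 H tau) (fun f hf => cfg.FA tau f hf) ?_ l hl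
      show tau • u ∈ L
      rcases hu with hu | hu
      · have : tau • u = u * (u⁻¹ * tau • u) := by group
        rw [this]
        exact L.mul_mem huL (hFL hu)
      · have : tau • u = u⁻¹ * (u * tau • u) := by group
        rw [this]
        exact L.mul_mem (L.inv_mem huL) (hFL hu)
    have hLA : ∀ a : A3, ∀ l ∈ L, a • l ∈ L := fun a l hl => zs36_inv_of_gen L hLs hLt a l hl
    have hLtop : L = ⊤ := by
      rcases cfg.quot_irr L hFL hLA with hLF | hLtop
      · exact absurd (hLF ▸ huL) huF
      · exact hLtop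
    -- `u` is central
    have hucent : ∀ x : H, x * u = u * x := by
      intro x
      have hx : x ∈ L := by rw [hLtop]; exact Subgroup.mem_top x
      have hle : L ≤ Subgroup.centralizer ({u} : Set H) := by
        rw [hL]
        refine sup_le ?_ ?_
        · intro f hf
          rw [Subgroup.mem_centralizer_iff]
          intro y hy
          rw [Set.mem_singleton_iff] at hy
          rw [hy]
          exact hcent u f hf
        · rw [Subgroup.zpowers_le, Subgroup.mem_centralizer_iff]
          intro y hy
          rw [Set.mem_singleton_iff] at hy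
          rw [hy]
      have := hle hx
      rw [Subgroup.mem_centralizer_iff] at this
      exact (this u rfl).symm
    obtain ⟨x, y, hxy⟩ := cfg.nonab
    apply hxy
    have hx : x ∈ L := by rw [hLtop]; exact Subgroup.mem_top x
    have hle : L ≤ Subgroup.centralizer ({y} : Set H) := by
      rw [hL]
      refine sup_le ?_ ?_
      · intro f hf
        rw [Subgroup.mem_centralizer_iff]
        intro z hz
        rw [Set.mem_singleton_iff] at hz
        rw [hz]
        exact hcent y f hf
      · rw [Subgroup.zpowers_le, Subgroup.mem_centralizer_iff]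
        intro z hz
        rw [Set.mem_singleton_iff] at hz
        rw [hz]
        exact hucent y
    have := hle hx
    rw [Subgroup.mem_centralizer_iff] at this
    exact (this y rfl).symm

end zsfpf

end Cfsg.Agent.Lib.Helper66.S3
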