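import Cfsg.Agent.Lib.Helper66.S3Defs
import Cfsg.Agent.Lib.Helper66.S3.D1
import Cfsg.Agent.Lib.Helper66.S3.D2
import Cfsg.Agent.Lib.Helper66.S3.D3
import Cfsg.Agent.Lib.Helper66.S3.D4
import Cfsg.Agent.Lib.Helper66.S3.D5
import Cfsg.Agent.Lib.Helper66.S3.D7
import Cfsg.Agent.Lib.Helper66.S3.ZF
import Cfsg.Agent.Lib.Helper66.S3.ZZ
import Cfsg.Agent.Lib.Helper66.S3.SL
import Cfsg.Agent.Lib.Helper65.S3ZSpow
import Cfsg.Agent.Lib.Helper36.S3ZSfpf
import Cfsg.Agent.Lib.Helper36.S3ZSasm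

/-! # S3 hive (S4305, helper66): leaf S3-ZS from the landed leaves, modulo F3 (`zs_exists_z`) as a
hypothesis.  Written by helper36. -/

set_option autoImplicit false

namespace Cfsg.Agent.Lib.Helper66.S3

universe u

section zsfinal

variable {H V : Type u} [Group H] [CommGroup V] [MulDistribMulAction A3 H]
  [MulDistribMulAction A3 V] [MulDistribMulAction H V] {p r : ℕ} {F : Subgroup H}

/-- `r` is odd in a configuration. -/
theorem zs36_r_odd (cfg : Config H V p r F) : Odd r := by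
  have hfin : Finite H := cfg.hyp.finH
  have hFn : F.Normal := cfg.Fnormal
  have hex : ∃ g : H, g ∉ F := by
    by_contra hall
    push Not at hall
    exact cfg.Fne (Subgroup.eq_top_iff' F |>.mpr hall)
  obtain ⟨g, hg⟩ := hex
  have h1 : ((g : H ⧸ F)) ^ r = 1 := by
    rw [← QuotientGroup.mk_pow, QuotientGroup.eq_one_iff]
    exact cfg.quot_exp g
  have h2 : ((g : H ⧸ F)) ≠ 1 := by
    rw [Ne, QuotientGroup.eq_one_iff]
    exact hg
  have h3 : orderOf (g : H ⧸ F) = r := by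
    have hd := orderOf_dvd_of_pow_eq_one h1
    rcases (Nat.dvd_prime cfg.rprime).mp hd with h | h
    · exact absurd (orderOf_eq_one_iff.mp h) h2
    · exact h
  have h4 : r ∣ Nat.card H := by
    have ha : orderOf (g : H ⧸ F) ∣ Nat.card (H ⧸ F) := orderOf_dvd_natCard _
    rw [h3] at ha
    exact ha.trans (Subgroup.card_quotient_dvd_card F)
  rcases cfg.rprime.eq_two_or_odd' with h | h
  · exfalso
    rw [h] at h4
    have hcop := cfg.hyp.copH
    have : (2 : ℕ) ∣ Nat.gcd (Nat.card H) 6 := Nat.dvd_gcd h4 (by norm_num)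
    rw [Nat.Coprime.gcd_eq_one hcop] at this
    exact absurd this (by norm_num)
  · exact h

/-- ZS from the landed leaves and F3. -/
theorem zs36_sigfix_of (cfg : Config H V p r F) (hcent : ∀ h : H, ∀ f ∈ F, h * f = f * h)
    (hrp : r ≠ p)
    (hF3 : ∃ h : H, (h * (sig • h)⁻¹) * (sig • (h * (sig • h)⁻¹)) * (h * (sig • h)⁻¹)⁻¹ *
      (sig • (h * (sig • h)⁻¹))⁻¹ ≠ 1)
    (C : Subgroup H) (hC0 : comp (V := V) F C ≠ ⊥) (hC : mapA sig C = C) :
    ∃ v ∈ comp (V := V) F C, v ≠ 1 ∧ sig • v = v :=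
  zs_assembly cfg hcent hrp
    (fun C c hc v hv => comp_triv C c hc v hv)
    (fun C f hf hfC v hv hfv => comp_fpf cfg C f hf hfC v hv hfv)
    (fun C h v hv => comp_smulH cfg C h v hv)
    (fun C a v hv => comp_smulA cfg C a v hv)
    (iSup_comp cfg)
    (fun C C' hC hC' => comp_trans cfg C C' hC hC')
    (configZ_fix cfg hcent)
    (configZ_z0 cfg hcent)
    (fun C hC0 hC hW => lemSL cfg C hC0 hC hW)
    (fun x y hc hk => zs_pow_mul r (zs36_r_odd cfg) x y hc hk)
    hF3 C hC0 hC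

/-- `σ` is trivial on the derived subgroup (from ZZ). -/
theorem zs36_sig_comm (cfg : Config H V p r F) (hcent : ∀ h : H, ∀ f ∈ F, h * f = f * h) :
    ∀ w ∈ commutator H, sig • w = w := by
  obtain ⟨z, -, -, -, hzs, -, hgen⟩ := configZ_z0 cfg hcent
  intro w hw
  obtain ⟨k, rfl⟩ := hgen w hw
  rw [smul_pow', hzs]

end zsfinal

end Cfsg.Agent.Lib.Helper66.S3
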