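import Cfsg.Agent.Lib.Helper66.S3Defs
import Cfsg.Agent.Lib.Helper36.S3ZSfpf

/-! # S3 hive (S4305, helper66), leaf S3-ZS, sub-lemma F3 (helper36's copy `zs36_exists_z`):
in configuration Z some `c = h (σ h)⁻¹` does not commute with `σ c` (polarization). -/

set_option autoImplicit false

namespace Cfsg.Agent.Lib.Helper66.S3

universe u

section zspolgen

variable {H : Type u} [Group H]

/-- The commutator `a b a⁻¹ b⁻¹`. -/
def zsK (a b : H) : H := a * b * a⁻¹ * b⁻¹

theorem zsK_mul_right (hc : ∀ a b g : H, zsK a b * g = g * zsK a b) (a b c : H) :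
    zsK a (b * c) = zsK a b * zsK a c := by
  have h1 : zsK a (b * c) = zsK a b * (b * zsK a c * b⁻¹) := by
    simp only [zsK]; group
  rw [h1, ← hc a c b, mul_inv_cancel_right]

theorem zsK_mul_left (hc : ∀ a b g : H, zsK a b * g = g * zsK a b) (a b c : H) :
    zsK (a * b) c = zsK a c * zsK b c := by
  have h1 : zsK (a * b) c = a * zsK b c * a⁻¹ * zsK a c := by
    simp only [zsK]; group
  rw [h1, ← hc b c a, mul_inv_cancel_right, hc b c (zsK a c)]

theorem zsK_inv_right (hc : ∀ a b g : H, zsK a b * g = g * zsK a b) (a b : H) :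
    zsK a b⁻¹ = (zsK a b)⁻¹ := by
  have h1 := zsK_mul_right hc a b b⁻¹
  have h2 : zsK a (b * b⁻¹) = 1 := by simp [zsK]
  rw [h2] at h1
  exact eq_inv_of_mul_eq_one_right h1.symm

theorem zsK_swap (a b : H) : (zsK a b)⁻¹ = zsK b a := by
  simp only [zsK]; group

theorem zsK_central_left (κ x y : H) (hκ : ∀ g : H, κ * g = g * κ) :
    zsK (κ * x) y = zsK x y := by
  have h1 : zsK (κ * x) y = κ * (x * y * x⁻¹) * κ⁻¹ * y⁻¹ := by
    simp only [zsK]; group
  rw [h1, hκ (x * y * x⁻¹), mul_inv_cancel_right]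
  rfl

theorem zsK_central_right (κ x y : H) (hκ : ∀ g : H, κ * g = g * κ) :
    zsK x (κ * y) = zsK x y := by
  have h1 : zsK x (κ * y) = (x * κ * x⁻¹) * zsK x y * κ⁻¹ := by
    simp only [zsK]; group
  rw [h1, ← hκ x, mul_inv_cancel_right, hκ (zsK x y), mul_inv_cancel_right]

end zspolgen

section zspol

variable {H V : Type u} [Group H] [CommGroup V] [MulDistribMulAction A3 H]
  [MulDistribMulAction A3 V] [MulDistribMulAction H V] {p r : ℕ} {F : Subgroup H}

/-- `c h = h (σ h)⁻¹`. -/
def zsC (h : H) : H := h * (sig • h)⁻¹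

omit [MulDistribMulAction A3 H] in
theorem zsK_mem (a b : H) : zsK a b ∈ commutator H := by
  rw [commutator_def]
  have := Subgroup.commutator_mem_commutator (Subgroup.mem_top a) (Subgroup.mem_top b)
  rwa [commutatorElement_def] at this

theorem zsK_smul (s : A3) (a b : H) : s • zsK a b = zsK (s • a) (s • b) := by
  simp only [zsK, smul_mul', smul_inv']

theorem zsC_sig (k : H) : sig • zsC k = zsC (sig • k) := by
  simp only [zsC, smul_mul', smul_inv']

theorem zs36_sig3 (x : H) : sig • sig • sig • x = x := by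
  rw [← mul_smul, ← mul_smul]
  have : sig * sig * sig = 1 := by decide
  rw [this, one_smul]

/-- F3 (helper36's copy). -/
theorem zs36_exists_z (cfg : Config H V p r F) (hcent : ∀ h : H, ∀ f ∈ F, h * f = f * h)
    (hsfpf : ∀ h : H, h⁻¹ * sig • h ∈ F → h ∈ F) (hsH' : ∀ w ∈ commutator H, sig • w = w) :
    ∃ h : H, (h * (sig • h)⁻¹) * (sig • (h * (sig • h)⁻¹)) * (h * (sig • h)⁻¹)⁻¹ *
      (sig • (h * (sig • h)⁻¹))⁻¹ ≠ 1 := by
  by_contra hall
  push Not at hall
  have hFn : F.Normal := cfg.Fnormal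
  have hall' : ∀ h : H, zsK (zsC h) (sig • zsC h) = 1 := hall
  have hKF : ∀ a b : H, zsK a b ∈ F := fun a b => cfg.quot_comm (zsK_mem a b)
  have hc : ∀ a b g : H, zsK a b * g = g * zsK a b := fun a b g => (hcent g _ (hKF a b)).symm
  have hKs : ∀ a b : H, zsK (sig • a) (sig • b) = zsK a b := by
    intro a b
    rw [← zsK_smul]
    exact hsH' _ (zsK_mem a b)
  -- reduction: it suffices that all `c k` lie in `F`
  have hcF_imp : ∀ k : H, zsC k ∈ F → k ∈ F := by
    intro k hk
    apply hsfpf
    have h1 : k⁻¹ * sig • k = k⁻¹ * (zsC k)⁻¹ * k⁻¹⁻¹ := by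
      simp only [zsC]; group
    rw [h1]
    exact hFn.conj_mem _ (F.inv_mem hk) _
  suffices hcF : ∀ k : H, zsC k ∈ F by
    apply cfg.Fne
    rw [Subgroup.eq_top_iff']
    intro k
    exact hcF_imp k (hcF k)
  -- `c (h k)`
  have hck : ∀ h k : H, zsC (h * k) = zsK h (zsC k) * (zsC k * zsC h) := by
    intro h k
    simp only [zsC, zsK, smul_mul']
    group
  -- polarization
  have hP : ∀ h k : H, zsK (zsC k) (sig • zsC h) * zsK (zsC h) (sig • zsC k) = 1 := by
    intro h k
    have h0 := hall' (h * k)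
    rw [hck h k, smul_mul', smul_mul',
      zsK_central_left _ _ _ (hc h (zsC k)),
      zsK_central_right (sig • zsK h (zsC k)) _ _ (by
        intro g
        rw [zsK_smul]
        exact hc _ _ g),
      zsK_mul_left hc, zsK_mul_right hc, zsK_mul_right hc, hall' k, hall' h, one_mul, mul_one] at h0
    exact h0
  -- `K (c h) (σ² c k) = K (c h) (c k)`
  have hQ : ∀ h k : H, zsK (zsC h) (sig • sig • zsC k) = zsK (zsC h) (zsC k) := by
    intro h k
    have h0 := hP h (sig • k)
    rw [← zsC_sig k, hKs] at h0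
    have h1 : zsK (zsC h) (sig • sig • zsC k) = (zsK (zsC k) (zsC h))⁻¹ :=
      eq_inv_of_mul_eq_one_right h0
    rw [h1, zsK_swap]
  -- `y k = (σ² c k) (c k)⁻¹` commutes with every `c h`
  have hR : ∀ h k : H, zsC h * ((sig • sig • zsC k) * (zsC k)⁻¹)
      = ((sig • sig • zsC k) * (zsC k)⁻¹) * zsC h := by
    intro h k
    have h0 : zsK (zsC h) ((sig • sig • zsC k) * (zsC k)⁻¹) = 1 := by
      rw [zsK_mul_right hc, zsK_inv_right hc, hQ, mul_inv_cancel]
    simp only [zsK] at h0
    have h1 := mul_inv_eq_one.mp h0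
    have h2 := mul_inv_eq_iff_eq_mul.mp h1
    exact h2
  -- the subgroup generated by `F` and the `c h`
  set D : Subgroup H := Subgroup.closure ({g | ∃ h : H, g = zsC h} ∪ (F : Set H)) with hD
  have hFD : F ≤ D := by
    intro f hf
    exact Subgroup.subset_closure (Or.inr hf)
  have hcD : ∀ h : H, zsC h ∈ D := fun h => Subgroup.subset_closure (Or.inl ⟨h, rfl⟩)
  have hclos : ∀ (φ : H →* H), (∀ f ∈ F, φ f ∈ F) → (∀ h : H, φ (zsC h) ∈ D) →
      ∀ l ∈ D, φ l ∈ D := by
    intro φ hφF hφc l hl
    have : D ≤ D.comap φ := by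
      rw [hD, Subgroup.closure_le]
      rintro x (⟨h, rfl⟩ | hx)
      · exact hφc h
      · exact hFD (hφF x hx)
    exact this hl
  have hDs : ∀ l ∈ D, sig • l ∈ D := by
    intro l hl
    refine hclos (MulDistribMulAction.toMonoidEnd A3 H sig) (fun f hf => cfg.FA sig f hf) ?_ l hl
    intro h
    show sig • zsC h ∈ D
    rw [zsC_sig]
    exact hcD _
  have hDt : ∀ l ∈ D, tau • l ∈ D := by
    intro l hl
    refine hclos (MulDistribMulAction.toMonoidEnd A3 H tau) (fun f hf => cfg.FA tau f hf) ?_ l hl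
    intro h
    show tau • zsC h ∈ D
    have hts : ∀ x : H, tau • sig • x = sig • sig • tau • x := by
      intro x
      rw [← mul_smul, ← mul_smul, ← mul_smul]
      have : tau * sig = sig * sig * tau := by decide
      rw [this]
    have e : tau • zsC h = zsC (tau • h) * zsC (sig • tau • h) := by
      simp only [zsC, smul_mul', smul_inv', hts]
      group
    rw [e]
    exact D.mul_mem (hcD _) (hcD _)
  have hDA : ∀ a : A3, ∀ l ∈ D, a • l ∈ D := fun a l hl => zs36_inv_of_gen D hDs hDt a l hl
  rcases cfg.quot_irr D hFD hDA with hDF | hDtop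
  · intro k
    rw [← hDF]
    exact hcD k
  · -- `y k` is central
    have hycent : ∀ (k g : H), g * ((sig • sig • zsC k) * (zsC k)⁻¹)
        = ((sig • sig • zsC k) * (zsC k)⁻¹) * g := by
      intro k g
      have hg : g ∈ D := by rw [hDtop]; exact Subgroup.mem_top g
      have hle : D ≤ Subgroup.centralizer ({(sig • sig • zsC k) * (zsC k)⁻¹} : Set H) := by
        rw [hD, Subgroup.closure_le]
        rintro x (⟨h, rfl⟩ | hx)
        · rw [SetLike.mem_coe, Subgroup.mem_centralizer_iff]
          intro y hy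
          rw [Set.mem_singleton_iff] at hy
          rw [hy]
          exact (hR h k).symm
        · rw [SetLike.mem_coe, Subgroup.mem_centralizer_iff]
          intro y hy
          rw [Set.mem_singleton_iff] at hy
          rw [hy]
          exact hcent _ x hx
      have := hle hg
      rw [Subgroup.mem_centralizer_iff] at this
      exact (this _ rfl).symm
    -- the centre is `F`
    have hZ : ∀ z : H, (∀ g : H, g * z = z * g) → z ∈ F := by
      intro z hz
      have hFZ : F ≤ Subgroup.center H := by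
        intro f hf
        rw [Subgroup.mem_center_iff]
        intro g
        exact hcent g f hf
      have hZA : ∀ a : A3, ∀ m ∈ Subgroup.center H, a • m ∈ Subgroup.center H := by
        intro a m hm
        rw [Subgroup.mem_center_iff] at hm ⊢
        intro g
        have := congrArg (fun t => a • t) (hm (a⁻¹ • g))
        simp only [smul_mul', smul_inv_smul] at this
        exact this
      rcases cfg.quot_irr (Subgroup.center H) hFZ hZA with hZF | hZtop
      · rw [← hZF, Subgroup.mem_center_iff]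
        exact hz
      · exfalso
        obtain ⟨x, y, hxy⟩ := cfg.nonab
        apply hxy
        have hx : x ∈ Subgroup.center H := by rw [hZtop]; exact Subgroup.mem_top x
        rw [Subgroup.mem_center_iff] at hx
        exact (hx y).symm
    intro k
    have hyF : (sig • sig • zsC k) * (zsC k)⁻¹ ∈ F := hZ _ (hycent k)
    -- `w = x⁻¹ σ² x ∈ F`
    have hw : (zsC k)⁻¹ * sig • sig • zsC k ∈ F := by
      have e : (zsC k)⁻¹ * sig • sig • zsC k
          = (zsC k)⁻¹ * ((sig • sig • zsC k) * (zsC k)⁻¹) * (zsC k)⁻¹⁻¹ := by group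
      rw [e]
      exact hFn.conj_mem _ hyF _
    have hw2 : sig • sig • ((zsC k)⁻¹ * sig • sig • zsC k) ∈ F :=
      cfg.FA sig _ (cfg.FA sig _ hw)
    apply hsfpf
    have e : (zsC k)⁻¹ * sig • zsC k
        = ((zsC k)⁻¹ * sig • sig • zsC k) * (sig • sig • ((zsC k)⁻¹ * sig • sig • zsC k)) := by
      simp only [smul_mul', smul_inv']
      rw [zs36_sig3 (sig • zsC k)]
      group
    rw [e]
    exact F.mul_mem hw hw2

end zspol

end Cfsg.Agent.Lib.Helper66.S3
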