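import Mathlib

/-! # S3 hive (S4305, helper66), leaf S3-ZS, sub-lemma F1 (helper36's own copy):
the class-2 power identity `(x y)^r = x^r y^r` for odd `r` when `[x,y]` is central of order dividing `r`. -/

set_option autoImplicit false

namespace Cfsg.Agent.Lib.Helper66.S3

theorem zs36_pow_mul {H : Type*} [Group H] (r : ℕ) (hr : Odd r) (x y : H)
    (hc : ∀ g : H, (x * y * x⁻¹ * y⁻¹) * g = g * (x * y * x⁻¹ * y⁻¹))
    (hk : (x * y * x⁻¹ * y⁻¹) ^ r = 1) : (x * y) ^ r = x ^ r * y ^ r := by
  set k : H := x * y * x⁻¹ * y⁻¹ with hkdef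
  have hyxk : y * x * k = x * y := by
    rw [← hc (y * x), hkdef]; group
  have hkn : ∀ (n : ℕ) (g : H), k ^ n * g = g * k ^ n :=
    fun n g => (Commute.pow_left (hc g) n).eq
  have hA : ∀ n : ℕ, y ^ n * x * k ^ n = x * y ^ n := by
    intro n
    induction n with
    | zero => simp
    | succ n ih =>
      calc y ^ (n + 1) * x * k ^ (n + 1) = y * (y ^ n * x * k ^ n) * k := by
            rw [pow_succ' y, pow_succ k]; simp only [mul_assoc]
        _ = y * (x * y ^ n) * k := by rw [ih]
        _ = y * x * (y ^ n * k) := by simp only [mul_assoc]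
        _ = y * x * (k * y ^ n) := by rw [← hc (y ^ n)]
        _ = (y * x * k) * y ^ n := by simp only [mul_assoc]
        _ = x * y ^ (n + 1) := by rw [hyxk, pow_succ' y, mul_assoc]
  have hB : ∀ n : ℕ, (x * y) ^ n * k ^ (∑ i ∈ Finset.range n, i) = x ^ n * y ^ n := by
    intro n
    induction n with
    | zero => simp
    | succ n ih =>
      rw [Finset.sum_range_succ, pow_add k]
      calc (x * y) ^ (n + 1) * (k ^ (∑ i ∈ Finset.range n, i) * k ^ n)
          = (x * y) ^ n * (x * y) * (k ^ (∑ i ∈ Finset.range n, i) * k ^ n) := by rw [pow_succ]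
        _ = (x * y) ^ n * ((x * y) * k ^ (∑ i ∈ Finset.range n, i)) * k ^ n := by
            simp only [mul_assoc]
        _ = (x * y) ^ n * (k ^ (∑ i ∈ Finset.range n, i) * (x * y)) * k ^ n := by
            rw [← hkn _ (x * y)]
        _ = ((x * y) ^ n * k ^ (∑ i ∈ Finset.range n, i)) * (x * y) * k ^ n := by
            simp only [mul_assoc]
        _ = x ^ n * y ^ n * (x * y) * k ^ n := by rw [ih]
        _ = x ^ n * (y ^ n * x * (y * k ^ n)) := by simp only [mul_assoc]
        _ = x ^ n * (y ^ n * x * (k ^ n * y)) := by rw [← hkn n y]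
        _ = x ^ n * ((y ^ n * x * k ^ n) * y) := by simp only [mul_assoc]
        _ = x ^ n * ((x * y ^ n) * y) := by rw [hA n]
        _ = x ^ (n + 1) * y ^ (n + 1) := by rw [pow_succ x, pow_succ y]; simp only [mul_assoc]
  have hT : k ^ (∑ i ∈ Finset.range r, i) = 1 := by
    obtain ⟨m, hm⟩ := hr
    have h2 : (∑ i ∈ Finset.range r, i) * 2 = r * (r - 1) := Finset.sum_range_id_mul_two r
    have h3 : ∑ i ∈ Finset.range r, i = r * m := by
      have h4 : r - 1 = 2 * m := by omega
      rw [h4] at h2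
      nlinarith
    rw [h3, pow_mul, hk, one_pow]
  have := hB r
  rw [hT, mul_one] at this
  exact this

end Cfsg.Agent.Lib.Helper66.S3
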