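import Mathlib

/-! # Rank one data: the relations of SL₂ in an abstract group (helper36) -/

set_option autoImplicit false
set_option linter.unusedVariables false

namespace Cfsg.Agent.Lib.Helper36

/-- rank one data: two one-parameter subgroups `x`, `y` of a group satisfying the relations of `SL₂` -/
structure SL2Data (F : Type*) [Field F] (G : Type*) [Group G] where
  x : F → G
  y : F → G
  x_add : ∀ s t, x s * x t = x (s + t)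
  y_add : ∀ s t, y s * y t = y (s + t)
  h_mul : ∀ s t, s ≠ 0 → t ≠ 0 →
    (x s * y (-s⁻¹) * x s * (x (-1) * y (- (-1 : F)⁻¹) * x (-1))) * (x t * y (-t⁻¹) * x t * (x (-1) * y (- (-1 : F)⁻¹) * x (-1))) =
      x (s * t) * y (-(s * t)⁻¹) * x (s * t) * (x (-1) * y (- (-1 : F)⁻¹) * x (-1))
  h_x : ∀ t u, t ≠ 0 →
    (x t * y (-t⁻¹) * x t * (x (-1) * y (- (-1 : F)⁻¹) * x (-1))) * x u =
      x (t ^ 2 * u) * (x t * y (-t⁻¹) * x t * (x (-1) * y (- (-1 : F)⁻¹) * x (-1)))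
  h_y : ∀ t u, t ≠ 0 →
    (x t * y (-t⁻¹) * x t * (x (-1) * y (- (-1 : F)⁻¹) * x (-1))) * y u =
      y ((t ^ 2)⁻¹ * u) * (x t * y (-t⁻¹) * x t * (x (-1) * y (- (-1 : F)⁻¹) * x (-1)))
  n_x : ∀ u, (x 1 * y (-(1 : F)⁻¹) * x 1) * x u = y (-u) * (x 1 * y (-(1 : F)⁻¹) * x 1)
  n_y : ∀ u, (x 1 * y (-(1 : F)⁻¹) * x 1) * y u = x (-u) * (x 1 * y (-(1 : F)⁻¹) * x 1)
  n_h : ∀ s, s ≠ 0 →
    (x 1 * y (-(1 : F)⁻¹) * x 1) * (x s * y (-s⁻¹) * x s * (x (-1) * y (- (-1 : F)⁻¹) * x (-1))) =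
      (x s⁻¹ * y (-s⁻¹⁻¹) * x s⁻¹ * (x (-1) * y (- (-1 : F)⁻¹) * x (-1))) * (x 1 * y (-(1 : F)⁻¹) * x 1)

namespace SL2Data

variable {F : Type*} [Field F] {G : Type*} [Group G] (S : SL2Data F G)

def n (t : F) : G := S.x t * S.y (-t⁻¹) * S.x t
def h (t : F) : G := S.n t * S.n (-1)

theorem x_zero : S.x 0 = 1 := by
  have := S.x_add 0 0
  rw [add_zero] at this
  exact mul_eq_left.1 this

theorem y_zero : S.y 0 = 1 := by
  have := S.y_add 0 0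
  rw [add_zero] at this
  exact mul_eq_left.1 this

theorem x_inv (t : F) : (S.x t)⁻¹ = S.x (-t) := by
  rw [inv_eq_iff_mul_eq_one, S.x_add, add_neg_cancel, S.x_zero]

theorem y_inv (t : F) : (S.y t)⁻¹ = S.y (-t) := by
  rw [inv_eq_iff_mul_eq_one, S.y_add, add_neg_cancel, S.y_zero]

theorem n_inv (t : F) : (S.n t)⁻¹ = S.n (-t) := by
  unfold n
  rw [mul_inv_rev, mul_inv_rev, S.x_inv, S.y_inv, inv_neg, neg_neg, mul_assoc]

theorem h_one : S.h 1 = 1 := by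
  unfold h
  rw [← S.n_inv, mul_inv_cancel]

theorem hmul (s t : F) (hs : s ≠ 0) (ht : t ≠ 0) : S.h s * S.h t = S.h (s * t) := S.h_mul s t hs ht

theorem h_inv (t : F) (ht : t ≠ 0) : (S.h t)⁻¹ = S.h t⁻¹ := by
  rw [inv_eq_iff_mul_eq_one, S.hmul t t⁻¹ ht (inv_ne_zero ht), mul_inv_cancel₀ ht, S.h_one]

theorem hx (t u : F) (ht : t ≠ 0) : S.h t * S.x u = S.x (t ^ 2 * u) * S.h t := S.h_x t u ht

theorem hy (t u : F) (ht : t ≠ 0) : S.h t * S.y u = S.y ((t ^ 2)⁻¹ * u) * S.h t := S.h_y t u ht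

theorem xh (t u : F) (ht : t ≠ 0) : S.x u * S.h t = S.h t * S.x ((t ^ 2)⁻¹ * u) := by
  rw [S.hx t _ ht, ← mul_assoc, mul_inv_cancel₀ (pow_ne_zero 2 ht), one_mul]

theorem nx (u : F) : S.n 1 * S.x u = S.y (-u) * S.n 1 := S.n_x u

theorem ny (u : F) : S.n 1 * S.y u = S.x (-u) * S.n 1 := S.n_y u

theorem nh (s : F) (hs : s ≠ 0) : S.n 1 * S.h s = S.h s⁻¹ * S.n 1 := S.n_h s hs

theorem n_eq (t : F) : S.n t = S.h t * S.n 1 := by
  unfold h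
  rw [mul_assoc, ← S.n_inv, inv_mul_cancel, mul_one]

theorem n_mul_h (k s : F) (hk : k ≠ 0) (hs : s ≠ 0) : S.n k * S.h s = S.n (k * s⁻¹) := by
  rw [S.n_eq k, mul_assoc, S.nh s hs, ← mul_assoc, S.hmul k s⁻¹ hk (inv_ne_zero hs), ← S.n_eq]

theorem h_mul_n (s k : F) (hk : k ≠ 0) (hs : s ≠ 0) : S.h s * S.n k = S.n (s * k) := by
  rw [S.n_eq k, ← mul_assoc, S.hmul s k hs hk, ← S.n_eq]

theorem n_one_sq : S.n 1 * S.n 1 = S.h (-1) := by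
  have h1 : S.h (-1) * S.h (-1) = 1 := by
    rw [S.hmul _ _ (by simp) (by simp)]
    simp [S.h_one]
  have h2 : S.h (-1) = (S.n 1 * S.n 1)⁻¹ := by
    unfold h
    rw [mul_inv_rev, S.n_inv]
  have h3 : (S.h (-1))⁻¹ = S.h (-1) := inv_eq_of_mul_eq_one_left h1
  rw [← h3, h2, inv_inv]

/-- `x(γ) n(1) = n(1) x(-γ⁻¹) n(γ⁻¹) x(-γ⁻¹)` -/
theorem x_mul_n_one (c : F) (hc : c ≠ 0) :
    S.x c * S.n 1 = S.n 1 * (S.x (-c⁻¹) * S.n c⁻¹ * S.x (-c⁻¹)) := by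
  have e1 : S.x (-c⁻¹) * S.n c⁻¹ * S.x (-c⁻¹) = S.y (-c) := by
    unfold n
    rw [inv_inv]
    simp only [mul_assoc]
    rw [S.x_add, add_neg_cancel, S.x_zero, mul_one, ← mul_assoc, S.x_add, neg_add_cancel, S.x_zero, one_mul]
  rw [e1]
  have := S.ny (-c)
  rw [neg_neg] at this
  rw [this]

end SL2Data

end Cfsg.Agent.Lib.Helper36
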