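import Cfsg.Agent.Lib.Helper36.SL2Hom

/-! # Injectivity of the homomorphism `SL₂(F) → G` attached to rank one data (helper36) -/

set_option autoImplicit false

namespace Cfsg.Agent.Lib.Helper36

open Matrix

namespace SL2Data

variable {F : Type*} [Field F] {G : Type*} [Group G] (S : SL2Data F G)

theorem x_injective_of (hA : ∀ u v, S.x u = S.y v → u = 0) (u v : F) (h : S.x u = S.x v) : u = v := by
  have h1 : S.x (u - v) = S.y 0 := by
    rw [S.y_zero, sub_eq_add_neg, ← S.x_add, ← S.x_inv, h, mul_inv_cancel]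
  exact sub_eq_zero.1 (hA _ _ h1)

/-- if the upper and lower root groups meet trivially and `h(-1) ≠ 1`, the homomorphism is injective -/
theorem hom_injective (hA : ∀ u v, S.x u = S.y v → u = 0) (hC : S.h (-1) ≠ 1) :
    Function.Injective S.hom := by
  rw [injective_iff_map_eq_one]
  intro g hg
  have hg' : S.phi g = 1 := hg
  by_cases hc : g.1 1 0 = 0
  · obtain ⟨ha, hgeq⟩ := eq_of_eq_zero g hc
    rw [S.phi_of_eq_zero g hc] at hg'
    set a := g.1 0 0 with haa
    set b := g.1 0 1 with hbb
    -- h a = x (-(a b))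
    have hh : S.h a = S.x (-(a * b)) := by
      rw [← S.x_inv]
      exact eq_inv_of_mul_eq_one_right hg'
    -- a ^ 2 = 1
    have hsq : a ^ 2 = 1 := by
      have h1 := S.hx a 1 ha
      rw [hh, S.x_add, S.x_add, mul_one] at h1
      have := S.x_injective_of hA _ _ h1
      linear_combination -this
    have hcases : a = 1 ∨ a = -1 := by
      have : (a - 1) * (a + 1) = 0 := by linear_combination hsq
      rcases mul_eq_zero.1 this with h | h
      · left; linear_combination h
      · right; linear_combination h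
    rcases hcases with h1 | h1
    · -- a = 1
      rw [h1, S.h_one] at hh
      have hb0 : -(1 * b) = 0 := by
        apply S.x_injective_of hA
        rw [← hh, S.x_zero]
      have hb : b = 0 := by linear_combination -hb0
      rw [hgeq]
      apply Matrix.SpecialLinearGroup.ext
      intro i j
      have e00 : (sU (a * b) * sD a ha).1 0 0 = 1 := by
        obtain ⟨e00, -, -, -⟩ := mul_sD (sU (a * b)) a ha
        rw [e00]; simp [sU, h1]
      have e01 : (sU (a * b) * sD a ha).1 0 1 = 0 := by
        obtain ⟨-, e01, -, -⟩ := mul_sD (sU (a * b)) a ha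
        rw [e01]; simp [sU, h1, hb]
      have e10 : (sU (a * b) * sD a ha).1 1 0 = 0 := by
        obtain ⟨-, -, e10, -⟩ := mul_sD (sU (a * b)) a ha
        rw [e10]; simp [sU]
      have e11 : (sU (a * b) * sD a ha).1 1 1 = 1 := by
        obtain ⟨-, -, -, e11⟩ := mul_sD (sU (a * b)) a ha
        rw [e11]; simp [sU, h1]
      fin_cases i <;> fin_cases j
      · simpa using e00
      · simpa using e01
      · simpa using e10
      · simpa using e11
    · -- a = -1
      exfalso
      rw [h1] at hh
      have hm : (-1 : F) ≠ 0 := by simp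
      have h2 := S.nh (-1) hm
      have e : ((-1 : F))⁻¹ = -1 := by simp
      rw [e, hh, S.nx] at h2
      have h3 : S.y (- -(-1 * b)) = S.x (-(-1 * b)) := mul_right_cancel h2
      have h4 := hA _ _ h3.symm
      apply hC
      rw [hh, h4, S.x_zero]
  · exfalso
    rw [S.phi_of_ne_zero g hc] at hg'
    set k : F := -(g.1 1 0)⁻¹ with hk
    have hk0 : k ≠ 0 := neg_ne_zero.2 (inv_ne_zero hc)
    set p := g.1 0 0 / g.1 1 0 with hp
    set q := g.1 1 1 / g.1 1 0 with hq
    -- n k = x (-p) * x (-q)
    have hn : S.n k = S.x (-p + -q) := by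
      rw [← S.x_add, ← S.x_inv, ← S.x_inv]
      have h1 : S.n k * S.x q = (S.x p)⁻¹ := by
        apply eq_inv_of_mul_eq_one_right
        rw [← mul_assoc]; exact hg'
      rw [← h1, mul_assoc, mul_inv_cancel, mul_one]
    -- n k * x 1 = y (..) * n k
    have h2 : S.n k * S.x 1 = S.y ((k ^ 2)⁻¹ * (-1)) * S.n k := by
      rw [S.n_eq k, mul_assoc, S.nx, ← mul_assoc, S.hy k _ hk0, mul_assoc]
    rw [hn, S.x_add] at h2
    have h3 : S.x 1 = S.y ((k ^ 2)⁻¹ * (-1)) := by
      have : S.x (-p + -q + 1) * (S.x (-p + -q))⁻¹ = S.y ((k ^ 2)⁻¹ * (-1)) := by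
        rw [h2, mul_assoc, mul_inv_cancel, mul_one]
      rw [S.x_inv, S.x_add] at this
      rw [← this]
      congr 1
      ring
    exact one_ne_zero (hA _ _ h3)

end SL2Data

end Cfsg.Agent.Lib.Helper36
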