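import Mathlib

set_option autoImplicit false

namespace Cfsg.Agent.Lib.Helper36

open Module LinearMap

variable {F : Type*} [Field F]

/-- An endomorphism `N` with `N ∘ N = 0` of rank `r` on a space of dimension `n` has a basis
`c_i, N c_i, w_j` with `N w_j = 0`. -/
theorem exists_adapted_basis {V : Type*} [AddCommGroup V] [Module F V] [FiniteDimensional F V]
    (N : V →ₗ[F] V) (hN : ∀ x, N (N x) = 0) (r n : ℕ) (hr : finrank F (LinearMap.range N) = r)
    (hn : finrank F V = n) :
    2 * r ≤ n ∧ ∃ Φ : Basis (Fin r ⊕ (Fin r ⊕ Fin (n - 2 * r))) F V,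
      (∀ i, N (Φ (Sum.inl i)) = Φ (Sum.inr (Sum.inl i))) ∧ (∀ j, N (Φ (Sum.inr j)) = 0) := by
  obtain ⟨I, hI⟩ : ∃ I : Submodule F V, I = LinearMap.range N := ⟨_, rfl⟩
  obtain ⟨K, hK⟩ : ∃ K : Submodule F V, K = LinearMap.ker N := ⟨_, rfl⟩
  have hIK : I ≤ K := by
    rw [hI, hK]; rintro _ ⟨x, rfl⟩; exact hN x
  obtain ⟨W₀, hW₀⟩ := Submodule.exists_isCompl I
  obtain ⟨W, hW⟩ : ∃ W : Submodule F V, W = W₀ ⊓ K := ⟨_, rfl⟩
  have hWK : W ≤ K := by rw [hW]; exact inf_le_right
  have hIW : I ⊓ W = ⊥ := by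
    rw [hW, ← inf_assoc, hW₀.inf_eq_bot, bot_inf_eq]
  have hIWK : I ⊔ W = K := by
    rw [hW, ← sup_inf_assoc_of_le W₀ hIK, hW₀.sup_eq_top, top_inf_eq]
  have hIdim : finrank F I = r := by rw [hI]; exact hr
  have hKdim : finrank F K + r = n := by
    have := LinearMap.finrank_range_add_finrank_ker N
    rw [hK]; omega
  have hWdim' : finrank F K = r + finrank F W := by
    have := Submodule.finrank_sup_add_finrank_inf_eq I W
    rw [hIWK, hIW, finrank_bot, hIdim] at this
    omega
  have h2r : 2 * r ≤ n := by omega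
  have hWdim : finrank F W = n - 2 * r := by omega
  refine ⟨h2r, ?_⟩
  let bI : Basis (Fin r) F I := Module.finBasisOfFinrankEq F I hIdim
  let bW : Basis (Fin (n - 2 * r)) F W := Module.finBasisOfFinrankEq F W hWdim
  have hpre : ∀ i, ∃ c : V, N c = (bI i : V) := by
    intro i
    exact hI.le (bI i).2
  choose c hc using hpre
  let X : Fin r → V := fun i => (bI i : V)
  let Y : Fin (n - 2 * r) → V := fun j => (bW j : V)
  have hX : LinearIndependent F X := by
    have := bI.linearIndependent.map' I.subtype (Submodule.ker_subtype I)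
    exact this
  have hY : LinearIndependent F Y := by
    have := bW.linearIndependent.map' W.subtype (Submodule.ker_subtype W)
    exact this
  have hspanX : Submodule.span F (Set.range X) = I := by
    have : Set.range X = I.subtype '' Set.range bI := by
      rw [← Set.range_comp]; rfl
    rw [this, ← Submodule.map_span, bI.span_eq, Submodule.map_subtype_top]
  have hspanY : Submodule.span F (Set.range Y) = W := by
    have : Set.range Y = W.subtype '' Set.range bW := by
      rw [← Set.range_comp]; rfl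
    rw [this, ← Submodule.map_span, bW.span_eq, Submodule.map_subtype_top]
  have hXY : LinearIndependent F (Sum.elim X Y) :=
    LinearIndependent.sum_type hX hY (by rw [hspanX, hspanY]; exact disjoint_iff.mpr hIW)
  have hspanXY : Submodule.span F (Set.range (Sum.elim X Y)) = K := by
    rw [Set.Sum.elim_range, Submodule.span_union, hspanX, hspanY, hIWK]
  have hZ : LinearIndependent F c := by
    apply LinearIndependent.of_comp N
    have : N ∘ c = X := funext hc
    rw [this]; exact hX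
  have hZK : Disjoint (Submodule.span F (Set.range c)) K := by
    rw [Submodule.disjoint_def]
    intro z hz hzK
    rw [Submodule.mem_span_range_iff_exists_fun] at hz
    obtain ⟨a, rfl⟩ := hz
    have hNz : N (∑ i, a i • c i) = 0 := by rw [hK] at hzK; exact hzK
    rw [map_sum] at hNz
    simp only [map_smul, hc] at hNz
    have ha := Fintype.linearIndependent_iff.mp hX a hNz
    simp [ha]
  have hli : LinearIndependent F (Sum.elim c (Sum.elim X Y)) :=
    LinearIndependent.sum_type hZ hXY (by rw [hspanXY]; exact hZK)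
  have hcard : Fintype.card (Fin r ⊕ (Fin r ⊕ Fin (n - 2 * r))) = finrank F V := by
    simp only [Fintype.card_sum, Fintype.card_fin]; omega
  let Φ : Basis (Fin r ⊕ (Fin r ⊕ Fin (n - 2 * r))) F V :=
    basisOfLinearIndependentOfCardEqFinrank' _ hli hcard
  have hΦ : ⇑Φ = Sum.elim c (Sum.elim X Y) := coe_basisOfLinearIndependentOfCardEqFinrank' _ hli hcard
  refine ⟨Φ, ?_, ?_⟩
  · intro i
    rw [hΦ]
    simp only [Sum.elim_inl, Sum.elim_inr]
    exact hc i
  · intro j
    rw [hΦ]
    rcases j with i | j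
    · simp only [Sum.elim_inl, Sum.elim_inr]
      have : X i ∈ K := hIK (bI i).2
      rw [hK] at this; exact this
    · simp only [Sum.elim_inr]
      have : Y j ∈ K := hWK (bW j).2
      rw [hK] at this; exact this

/-- Two square-zero endomorphisms of the same rank are conjugate by a linear equivalence, whose
determinant can be prescribed up to squares; here we produce one of determinant `1` provided every
element is a square and the rank is positive. -/
theorem exists_equiv_of_sq_zero {V : Type*} [AddCommGroup V] [Module F V] [FiniteDimensional F V]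
    (hsq : ∀ x : F, IsSquare x)
    (N N' : V →ₗ[F] V) (hN : ∀ x, N (N x) = 0) (hN' : ∀ x, N' (N' x) = 0)
    (hr : finrank F (LinearMap.range N) = finrank F (LinearMap.range N'))
    (hpos : 0 < finrank F (LinearMap.range N)) :
    ∃ T : V ≃ₗ[F] V, (∀ x, T (N x) = N' (T x)) ∧ LinearMap.det (T : V →ₗ[F] V) = 1 := by
  classical
  obtain ⟨r, hr1⟩ : ∃ r, finrank F (LinearMap.range N) = r := ⟨_, rfl⟩
  obtain ⟨n, hn⟩ : ∃ n, finrank F V = n := ⟨_, rfl⟩
  have hr2 : finrank F (LinearMap.range N') = r := by rw [← hr, hr1]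
  obtain ⟨_, Φ, hΦ1, hΦ2⟩ := exists_adapted_basis N hN r n hr1 hn
  obtain ⟨_, Φ', hΦ'1, hΦ'2⟩ := exists_adapted_basis N' hN' r n hr2 hn
  have hrpos : 0 < r := by rw [← hr1]; exact hpos
  let i₀ : Fin r := ⟨0, hrpos⟩
  -- the basic equivalence
  let T₀ : V ≃ₗ[F] V := Φ.equiv Φ' (Equiv.refl _)
  have hT₀ : ∀ x, T₀ (N x) = N' (T₀ x) := by
    have : (T₀ : V →ₗ[F] V) ∘ₗ N = N' ∘ₗ (T₀ : V →ₗ[F] V) := by
      apply Φ.ext
      intro j
      simp only [LinearMap.comp_apply, LinearEquiv.coe_coe]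
      rcases j with i | j
      · rw [hΦ1, Basis.equiv_apply, Basis.equiv_apply]
        simp only [Equiv.refl_apply]
        rw [hΦ'1]
      · rw [hΦ2, Basis.equiv_apply, map_zero]
        simp only [Equiv.refl_apply]
        rw [hΦ'2]
    intro x
    exact LinearMap.congr_fun this x
  -- the determinant of `T₀` is a unit
  have hdet0 : LinearMap.det (T₀ : V →ₗ[F] V) ≠ 0 := by
    have := LinearEquiv.isUnit_det' T₀
    exact this.ne_zero
  obtain ⟨d, hd⟩ := hsq (LinearMap.det (T₀ : V →ₗ[F] V))⁻¹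
  have hd0 : d ≠ 0 := by
    intro h
    rw [h, mul_zero] at hd
    exact (inv_ne_zero hdet0) hd
  -- the diagonal correction
  let w : Fin r ⊕ (Fin r ⊕ Fin (n - 2 * r)) → Fˣ := fun j =>
    if j = Sum.inl i₀ ∨ j = Sum.inr (Sum.inl i₀) then Units.mk0 d hd0 else 1
  let S : V ≃ₗ[F] V := Φ'.equiv (Φ'.unitsSMul w) (Equiv.refl _)
  have hSΦ : ∀ j, S (Φ' j) = (w j : F) • Φ' j := by
    intro j
    rw [Basis.equiv_apply]
    simp only [Equiv.refl_apply]
    rw [Basis.unitsSMul_apply]
    rfl
  have hS : ∀ x, S (N' x) = N' (S x) := by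
    have : (S : V →ₗ[F] V) ∘ₗ N' = N' ∘ₗ (S : V →ₗ[F] V) := by
      apply Φ'.ext
      intro j
      simp only [LinearMap.comp_apply, LinearEquiv.coe_coe]
      rcases j with i | j
      · rw [hΦ'1, hSΦ, hSΦ, map_smul, hΦ'1]
        congr 2
        simp only [w]
        by_cases hi : i = i₀
        · subst hi; simp
        · have h1 : ¬ ((Sum.inr (Sum.inl i) : Fin r ⊕ (Fin r ⊕ Fin (n - 2 * r))) = Sum.inl i₀ ∨
              (Sum.inr (Sum.inl i) : Fin r ⊕ (Fin r ⊕ Fin (n - 2 * r))) = Sum.inr (Sum.inl i₀)) := by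
            simp [hi]
          have h2 : ¬ ((Sum.inl i : Fin r ⊕ (Fin r ⊕ Fin (n - 2 * r))) = Sum.inl i₀ ∨
              (Sum.inl i : Fin r ⊕ (Fin r ⊕ Fin (n - 2 * r))) = Sum.inr (Sum.inl i₀)) := by
            simp [hi]
          rw [if_neg h1, if_neg h2]
      · rw [hΦ'2, map_zero, hSΦ, map_smul, hΦ'2, smul_zero]
    intro x
    exact LinearMap.congr_fun this x
  have hdetS : LinearMap.det (S : V →ₗ[F] V) = d * d := by
    have h1 : LinearMap.det (S : V →ₗ[F] V) = Φ'.det ((S : V →ₗ[F] V) ∘ Φ') := by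
      rw [Basis.det_comp, Basis.det_self, mul_one]
    rw [h1]
    have h2 : ((S : V →ₗ[F] V) ∘ Φ') = ⇑(Φ'.unitsSMul w) := by
      funext j
      simp only [Function.comp_apply, LinearEquiv.coe_coe]
      rw [Basis.equiv_apply]; rfl
    rw [h2, Basis.det_unitsSMul_self]
    rw [Fintype.prod_sum_type, Fintype.prod_sum_type]
    have e1 : ∏ a₁ : Fin r, ((w (Sum.inl a₁) : Fˣ) : F) = d := by
      rw [Finset.prod_eq_single i₀]
      · simp [w]
      · intro b _ hb
        have : ¬ ((Sum.inl b : Fin r ⊕ (Fin r ⊕ Fin (n - 2 * r))) = Sum.inl i₀ ∨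
              (Sum.inl b : Fin r ⊕ (Fin r ⊕ Fin (n - 2 * r))) = Sum.inr (Sum.inl i₀)) := by
          simp [hb]
        simp only [w, if_neg this, Units.val_one]
      · intro h; exact absurd (Finset.mem_univ _) h
    have e2 : ∏ a₁ : Fin r, ((w (Sum.inr (Sum.inl a₁)) : Fˣ) : F) = d := by
      rw [Finset.prod_eq_single i₀]
      · simp [w]
      · intro b _ hb
        have : ¬ ((Sum.inr (Sum.inl b) : Fin r ⊕ (Fin r ⊕ Fin (n - 2 * r))) = Sum.inl i₀ ∨
              (Sum.inr (Sum.inl b) : Fin r ⊕ (Fin r ⊕ Fin (n - 2 * r))) = Sum.inr (Sum.inl i₀)) := by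
          simp [hb]
        simp only [w, if_neg this, Units.val_one]
      · intro h; exact absurd (Finset.mem_univ _) h
    have e3 : ∏ a₂ : Fin (n - 2 * r), ((w (Sum.inr (Sum.inr a₂)) : Fˣ) : F) = 1 := by
      apply Finset.prod_eq_one
      intro b _
      have : ¬ ((Sum.inr (Sum.inr b) : Fin r ⊕ (Fin r ⊕ Fin (n - 2 * r))) = Sum.inl i₀ ∨
              (Sum.inr (Sum.inr b) : Fin r ⊕ (Fin r ⊕ Fin (n - 2 * r))) = Sum.inr (Sum.inl i₀)) := by
        simp
      simp only [w, if_neg this, Units.val_one]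
    rw [e1, e2, e3, mul_one]
  refine ⟨T₀.trans S, ?_, ?_⟩
  · intro x
    simp only [LinearEquiv.trans_apply]
    rw [hT₀, hS]
  · have : ((T₀.trans S : V ≃ₗ[F] V) : V →ₗ[F] V) = (S : V →ₗ[F] V) ∘ₗ (T₀ : V →ₗ[F] V) := rfl
    rw [this, LinearMap.det_comp, hdetS, ← hd, inv_mul_cancel₀ hdet0]

end Cfsg.Agent.Lib.Helper36
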